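import Groth.Prelude.Def_CohDer
import Mathlib.CategoryTheory.Limits.Preserves.Shapes.Products
import Mathlib.CategoryTheory.Adjunction.Limits
import Mathlib.CategoryTheory.Limits.Preserves.Shapes.Zero

set_option autoImplicit false
set_option linter.unusedSectionVars false
universe v u u'

namespace Groth.Agent.H82

open CategoryTheory CategoryTheory.Limits

section

variable {D : Type u} [Category.{v} D] [Preadditive D]

/-- `K` "finitely factors": every map from `K` to a coproduct is killed by every map killing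
finitely many summands. (An intrinsic reformulation of compactness.) -/
def FinFactor (K : D) : Prop :=
  ∀ (ι : Type v) (X : ι → D) (c : Cofan X) (_ : IsColimit c) (φ : K ⟶ c.pt),
    ∃ F : Finset ι, ∀ (Y : D) (g : c.pt ⟶ Y), (∀ i ∈ F, c.inj i ≫ g = 0) → φ ≫ g = 0

open Classical in
theorem homSum_of (K : D) {ι : Type v} (X : ι → D) [HasCoproduct X] (i : ι) (y : K ⟶ X i) :
    CohDer.homSumToHomCoprod K X (DirectSum.of _ i y) = y ≫ Sigma.ι X i := by
  classical
  unfold CohDer.homSumToHomCoprod
  rw [DirectSum.toAddMonoid_of]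
  rfl

theorem finFactor_of_isCompact [HasCoproducts.{v} D] {K : D} (hK : CohDer.IsCompactObject K) :
    FinFactor K := by
  classical
  intro ι X c hc φ
  let u : c.pt ⟶ ∐ X := Cofan.IsColimit.desc hc (Sigma.ι X)
  let w : ∐ X ⟶ c.pt := Sigma.desc c.inj
  have huw : u ≫ w = 𝟙 _ := by
    apply Cofan.IsColimit.hom_ext hc
    intro i
    simp [u, w]
  obtain ⟨x, hx⟩ := (hK ι X).2 (φ ≫ u)
  have key : ∀ x : DirectSum ι (fun i => K ⟶ X i), ∃ F : Finset ι, ∀ (Y : D) (g : c.pt ⟶ Y),
      (∀ i ∈ F, c.inj i ≫ g = 0) → CohDer.homSumToHomCoprod K X x ≫ w ≫ g = 0 := by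
    intro x
    induction x using DirectSum.induction_on with
    | zero => exact ⟨∅, fun Y g _ => by rw [map_zero, zero_comp]⟩
    | of i y =>
      refine ⟨{i}, fun Y g hg => ?_⟩
      rw [homSum_of, Category.assoc]
      simp only [w, colimit.ι_desc_assoc, Cofan.mk_pt, Cofan.mk_ι_app]
      rw [hg i (Finset.mem_singleton_self i), comp_zero]
    | add x y hx hy =>
      obtain ⟨F, hF⟩ := hx
      obtain ⟨G, hG⟩ := hy
      refine ⟨F ∪ G, fun Y g hg => ?_⟩
      rw [map_add, Preadditive.add_comp,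
        hF Y g (fun i hi => hg i (Finset.mem_union_left _ hi)),
        hG Y g (fun i hi => hg i (Finset.mem_union_right _ hi)), add_zero]
  obtain ⟨F, hF⟩ := key x
  refine ⟨F, fun Y g hg => ?_⟩
  have := hF Y g hg
  rw [hx, Category.assoc, ← Category.assoc u, huw, Category.id_comp] at this
  exact this

open Classical in
/-- the projection of a coproduct to a summand (in a category with zero morphisms) -/
noncomputable def sigmaπ {ι : Type v} (X : ι → D) [HasCoproduct X] (j : ι) : ∐ X ⟶ X j :=
  Sigma.desc (fun k => if h : k = j then eqToHom (congrArg X h) else 0)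

theorem ι_sigmaπ_self {ι : Type v} (X : ι → D) [HasCoproduct X] (j : ι) :
    Sigma.ι X j ≫ sigmaπ X j = 𝟙 _ := by
  simp [sigmaπ]

theorem ι_sigmaπ_ne {ι : Type v} (X : ι → D) [HasCoproduct X] {i j : ι} (h : i ≠ j) :
    Sigma.ι X i ≫ sigmaπ X j = 0 := by
  simp [sigmaπ, h]

open Classical in
theorem homSum_comp_sigmaπ (K : D) {ι : Type v} (X : ι → D) [HasCoproduct X] (j : ι)
    (x : DirectSum ι (fun i => K ⟶ X i)) :
    CohDer.homSumToHomCoprod K X x ≫ sigmaπ X j = x j := by
  induction x using DirectSum.induction_on with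
  | zero => rw [map_zero, zero_comp]; rfl
  | of i y =>
    rw [homSum_of, Category.assoc]
    by_cases h : i = j
    · subst h
      rw [ι_sigmaπ_self, Category.comp_id, DirectSum.of_eq_same]
    · rw [ι_sigmaπ_ne X h, comp_zero, DirectSum.of_eq_of_ne _ _ _ (Ne.symm h)]
  | add x y hx hy =>
    rw [map_add, Preadditive.add_comp, hx, hy]
    rfl

open Classical in
theorem isCompact_of_finFactor [HasCoproducts.{v} D] {K : D} (hK : FinFactor K) :
    CohDer.IsCompactObject K := by
  intro ι X
  constructor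
  · rw [injective_iff_map_eq_zero]
    intro x hx
    ext j
    rw [← homSum_comp_sigmaπ, hx, zero_comp]
    rfl
  · intro φ
    obtain ⟨F, hF⟩ := hK ι X (Cofan.mk (∐ X) (Sigma.ι X)) (coproductIsCoproduct X) φ
    have h0 := hF (∐ X) (𝟙 _ - ∑ i ∈ F, sigmaπ X i ≫ Sigma.ι X i) (by
      intro i hi
      change Sigma.ι X i ≫ _ = 0
      rw [Preadditive.comp_sub, Category.comp_id, Preadditive.comp_sum, sub_eq_zero,
        Finset.sum_eq_single i]
      · rw [← Category.assoc, ι_sigmaπ_self, Category.id_comp]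
      · intro k _ hk
        rw [← Category.assoc, ι_sigmaπ_ne X (Ne.symm hk), zero_comp]
      · intro h; exact absurd hi h)
    change φ ≫ _ = 0 at h0
    rw [Preadditive.comp_sub, Category.comp_id, sub_eq_zero, Preadditive.comp_sum] at h0
    refine ⟨∑ i ∈ F, DirectSum.of _ i (φ ≫ sigmaπ X i), ?_⟩
    rw [map_sum]
    conv_rhs => rw [h0]
    refine Finset.sum_congr rfl (fun i _ => ?_)
    rw [homSum_of, Category.assoc]

theorem FinFactor.of_iso {K K' : D} (e : K ≅ K') (hK : FinFactor K) : FinFactor K' := by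
  intro ι X c hc φ
  obtain ⟨F, hF⟩ := hK ι X c hc (e.hom ≫ φ)
  refine ⟨F, fun Y g hg => ?_⟩
  have := hF Y g hg
  rw [Category.assoc] at this
  rw [← cancel_epi e.hom, this, comp_zero]

end

section Adj

variable {C : Type u} {D : Type u'} [Category.{v} C] [Category.{v} D] [Preadditive C]
  [Preadditive D]

/-- maps from a `FinFactor` object to the image of a coproduct under a coproduct-preserving
functor are killed by the images of maps killing finitely many summands -/
theorem FinFactor.comp_map (Φ : C ⥤ D) [Φ.PreservesZeroMorphisms]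
    [∀ ι : Type v, PreservesColimitsOfShape (Discrete ι) Φ]
    {K' : D} (hK : FinFactor K') {ι : Type v} (X : ι → C) (c : Cofan X) (hc : IsColimit c)
    (ψ : K' ⟶ Φ.obj c.pt) :
    ∃ F : Finset ι, ∀ (Y : C) (g : c.pt ⟶ Y), (∀ i ∈ F, c.inj i ≫ g = 0) → ψ ≫ Φ.map g = 0 := by
  have hc' : IsColimit (Cofan.mk (Φ.obj c.pt) (fun i => Φ.map (c.inj i))) :=
    (Cofan.isColimitMapCoconeEquiv Φ X c) (isColimitOfPreserves Φ hc)
  obtain ⟨F, hF⟩ := hK ι (fun i => Φ.obj (X i)) _ hc' ψ
  refine ⟨F, fun Y g hg => hF _ (Φ.map g) (fun i hi => ?_)⟩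
  change Φ.map (c.inj i) ≫ Φ.map g = 0
  rw [← Φ.map_comp, hg i hi, Φ.map_zero]

variable {L : C ⥤ D} {G : D ⥤ C} (adj : L ⊣ G)

include adj in
/-- left adjoints of coproduct-preserving functors preserve `FinFactor` objects -/
theorem FinFactor.map_leftAdjoint [G.PreservesZeroMorphisms]
    [∀ ι : Type v, PreservesColimitsOfShape (Discrete ι) G] {K : C} (hK : FinFactor K) :
    FinFactor (L.obj K) := by
  intro ι X c hc φ
  obtain ⟨F, hF⟩ := FinFactor.comp_map G hK X c hc (adj.homEquiv _ _ φ)
  refine ⟨F, fun Y g hg => ?_⟩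
  have h := hF Y g hg
  rw [← Adjunction.homEquiv_naturality_right] at h
  apply (adj.homEquiv _ _).injective
  rw [h, Adjunction.homEquiv_unit, G.map_zero, comp_zero]

include adj in
theorem FinFactor.adj_unit [L.PreservesZeroMorphisms] [G.PreservesZeroMorphisms] {K : C}
    (hK : FinFactor (L.obj K)) {ι : Type v} (X : ι → C) (c : Cofan X) (hc : IsColimit c)
    (ψ : K ⟶ G.obj (L.obj c.pt)) :
    ∃ F : Finset ι, ∀ (Y : C) (g : c.pt ⟶ Y), (∀ i ∈ F, c.inj i ≫ g = 0) →
      ψ ≫ G.map (L.map g) = 0 := by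
  have := adj.leftAdjoint_preservesColimits
  obtain ⟨F, hF⟩ := FinFactor.comp_map L hK X c hc ((adj.homEquiv _ _).symm ψ)
  refine ⟨F, fun Y g hg => ?_⟩
  have h := hF Y g hg
  rw [← Adjunction.homEquiv_naturality_right_symm] at h
  apply (adj.homEquiv _ _).symm.injective
  rw [h, Adjunction.homEquiv_counit, L.map_zero, zero_comp]

end Adj

section Shift

variable {D : Type u} [Category.{v} D] [Preadditive D] [HasShift D ℤ]
  [∀ n : ℤ, (shiftFunctor D n).Additive]

theorem FinFactor.shift {K : D} (hK : FinFactor K) (n : ℤ) : FinFactor (K⟦n⟧) := by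
  have : ∀ ι : Type v, PreservesColimitsOfShape (Discrete ι) (shiftFunctor D (-n)) :=
    fun ι => inferInstance
  exact FinFactor.map_leftAdjoint (shiftEquiv D n).toAdjunction hK

end Shift

end Groth.Agent.H82
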