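import Groth.Prelude.Def_ComodTens
import Mathlib.RingTheory.HopfAlgebra.Basic
import Mathlib.LinearAlgebra.Dual.Lemmas
import Mathlib.LinearAlgebra.TensorProduct.RightExactness
import Mathlib.Tactic

set_option autoImplicit false
universe u v v'

namespace Groth.Agent.H82.StabTens

open TensorProduct

section mu

variable (k : Type*) [CommRing k] (R : Type*) [CommRing R] [Algebra k R]
  (M N : Type*) [AddCommGroup M] [Module k M] [AddCommGroup N] [Module k N]

/-- `(m ⊗ r) ⊗ (n ⊗ s) ↦ (m ⊗ n) ⊗ rs`. -/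
noncomputable def mu : (M ⊗[k] R) ⊗[k] (N ⊗[k] R) →ₗ[k] (M ⊗[k] N) ⊗[k] R :=
  TensorProduct.map LinearMap.id (LinearMap.mul' k R) ∘ₗ
    (AlgebraTensorModule.tensorTensorTensorComm k k k k M R N R).toLinearMap

variable {k R M N}

@[simp] lemma mu_tmul (m : M) (r : R) (n : N) (s : R) :
    mu k R M N ((m ⊗ₜ r) ⊗ₜ (n ⊗ₜ s)) = (m ⊗ₜ n) ⊗ₜ (r * s) := by
  simp [mu]

variable {M' N' : Type*} [AddCommGroup M'] [Module k M'] [AddCommGroup N'] [Module k N']

lemma mu_natural (a : M →ₗ[k] M') (a' : N →ₗ[k] N') :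
    TensorProduct.map (TensorProduct.map a a') (LinearMap.id : R →ₗ[k] R) ∘ₗ mu k R M N =
      mu k R M' N' ∘ₗ TensorProduct.map (a.rTensor R) (a'.rTensor R) := by
  ext m r n s
  simp

lemma mu_natural_apply (a : M →ₗ[k] M') (a' : N →ₗ[k] N') (x : M ⊗[k] R) (y : N ⊗[k] R) :
    TensorProduct.map (TensorProduct.map a a') (LinearMap.id : R →ₗ[k] R) (mu k R M N (x ⊗ₜ y)) =
      mu k R M' N' (a.rTensor R x ⊗ₜ a'.rTensor R y) := by
  have := LinearMap.congr_fun (mu_natural (R := R) a a') (x ⊗ₜ y)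
  simpa using this

variable {A : Type*} [CommRing A] [Algebra k A]

lemma mu_alg (g : A →ₐ[k] R) :
    (g.toLinearMap.lTensor (M ⊗[k] N)) ∘ₗ mu k A M N =
      mu k R M N ∘ₗ TensorProduct.map (g.toLinearMap.lTensor M) (g.toLinearMap.lTensor N) := by
  ext m r n s
  simp

lemma mu_alg_apply (g : A →ₐ[k] R) (x : M ⊗[k] A) (y : N ⊗[k] A) :
    (g.toLinearMap.lTensor (M ⊗[k] N)) (mu k A M N (x ⊗ₜ y)) =
      mu k R M N (g.toLinearMap.lTensor M x ⊗ₜ g.toLinearMap.lTensor N y) := by
  have := LinearMap.congr_fun (mu_alg (M := M) (N := N) g) (x ⊗ₜ y)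
  simpa using this

/-- contraction of the second factor with `θ : N → R`. -/
noncomputable def contrR (θ : N →ₗ[k] R) : (M ⊗[k] N) ⊗[k] R →ₗ[k] M ⊗[k] R :=
  (LinearMap.mul' k R).lTensor M ∘ₗ (TensorProduct.assoc k M R R).toLinearMap ∘ₗ
    (TensorProduct.map (LinearMap.id : M →ₗ[k] M) θ).rTensor R

@[simp] lemma contrR_tmul (θ : N →ₗ[k] R) (m : M) (n : N) (r : R) :
    contrR (M := M) θ ((m ⊗ₜ n) ⊗ₜ r) = m ⊗ₜ (θ n * r) := by
  simp [contrR]

/-- contraction of the first factor with `θ : N → R`. -/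
noncomputable def contrL (θ : N →ₗ[k] R) : (N ⊗[k] M) ⊗[k] R →ₗ[k] M ⊗[k] R :=
  contrR θ ∘ₗ (TensorProduct.comm k N M).toLinearMap.rTensor R

@[simp] lemma contrL_tmul (θ : N →ₗ[k] R) (m : M) (n : N) (r : R) :
    contrL (M := M) θ ((n ⊗ₜ m) ⊗ₜ r) = m ⊗ₜ (θ n * r) := by
  simp [contrL]

/-- `n ⊗ s ↦ θ n * s`. -/
noncomputable def U (θ : N →ₗ[k] R) : N ⊗[k] R →ₗ[k] R :=
  LinearMap.mul' k R ∘ₗ TensorProduct.map θ LinearMap.id

@[simp] lemma U_tmul (θ : N →ₗ[k] R) (n : N) (s : R) : U θ (n ⊗ₜ s) = θ n * s := by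
  simp [U]

lemma contrR_mu (θ : N →ₗ[k] R) :
    contrR (M := M) θ ∘ₗ mu k R M N =
      (LinearMap.mul' k R).lTensor M ∘ₗ (TensorProduct.assoc k M R R).toLinearMap ∘ₗ
        TensorProduct.map LinearMap.id (U θ) := by
  ext m r n s
  simp
  ring_nf

lemma contrL_mu (θ : N →ₗ[k] R) :
    contrL (M := M) θ ∘ₗ mu k R N M =
      (LinearMap.mul' k R).lTensor M ∘ₗ (TensorProduct.assoc k M R R).toLinearMap ∘ₗ
        TensorProduct.map LinearMap.id (U θ) ∘ₗ (TensorProduct.comm k (N ⊗[k] R) (M ⊗[k] R)).toLinearMap := by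
  ext n s m r
  simp
  ring_nf

lemma mul_assoc_one (η : M ⊗[k] R) :
    (LinearMap.mul' k R).lTensor M (TensorProduct.assoc k M R R (η ⊗ₜ (1 : R))) = η := by
  induction η using TensorProduct.induction_on with
  | zero => simp
  | tmul m r => simp
  | add x y hx hy => rw [TensorProduct.add_tmul, map_add, map_add, hx, hy]

lemma contrR_mu_apply (θ : N →ₗ[k] R) (η : M ⊗[k] R) (y : N ⊗[k] R) (hy : U θ y = 1) :
    contrR (M := M) θ (mu k R M N (η ⊗ₜ y)) = η := by
  have := LinearMap.congr_fun (contrR_mu (M := M) θ) (η ⊗ₜ y)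
  simp only [LinearMap.comp_apply, TensorProduct.map_tmul, LinearMap.id_apply, hy,
    LinearEquiv.coe_coe] at this
  rw [this, mul_assoc_one]

lemma contrL_mu_apply (θ : N →ₗ[k] R) (η : M ⊗[k] R) (y : N ⊗[k] R) (hy : U θ y = 1) :
    contrL (M := M) θ (mu k R N M (y ⊗ₜ η)) = η := by
  have := LinearMap.congr_fun (contrL_mu (M := M) θ) (y ⊗ₜ η)
  simp only [LinearMap.comp_apply, TensorProduct.map_tmul, LinearMap.id_apply, hy,
    LinearEquiv.coe_coe, TensorProduct.comm_tmul] at this
  rw [this, mul_assoc_one]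

end mu

section hopf

variable {k : Type*} [CommRing k] {A : Type*} [CommRing A] [HopfAlgebra k A]
  {R : Type*} [CommRing R] [Algebra k R]
  {N : Type*} [AddCommGroup N] [Module k N] (c : HopfRep.Comod k A N)
  (φ : N →ₗ[k] k) (g : A →ₐ[k] R)

/-- `n ⊗ a ↦ φ n • g (S a)`. -/
noncomputable def T : N ⊗[k] A →ₗ[k] R :=
  LinearMap.mul' k R ∘ₗ TensorProduct.map (Algebra.linearMap k R ∘ₗ φ)
    (g.toLinearMap ∘ₗ HopfAlgebraStruct.antipode k)

@[simp] lemma T_tmul (n : N) (a : A) :
    T φ g (n ⊗ₜ a) = algebraMap k R (φ n) * g (HopfAlgebraStruct.antipode k a) := by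
  simp [T]

/-- the functional `φ ∘ ρ(g)⁻¹` restricted to `N`. -/
noncomputable def theta : N →ₗ[k] R := T φ g ∘ₗ c.coact

lemma key_aux :
    (LinearMap.mul' k R ∘ₗ TensorProduct.map (T (N := N) φ g) g.toLinearMap) ∘ₗ
      (TensorProduct.assoc k N A A).symm.toLinearMap ∘ₗ
        (CoalgebraStruct.comul (R := k) (A := A)).lTensor N =
      Algebra.linearMap k R ∘ₗ φ ∘ₗ (TensorProduct.rid k N).toLinearMap ∘ₗ
        (CoalgebraStruct.counit (R := k) (A := A)).lTensor N := by
  ext n a
  let ℛ := Coalgebra.Repr.arbitrary k a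
  have h := HopfAlgebra.sum_antipode_mul_eq_algebraMap_counit (R := k) ℛ
  simp only [TensorProduct.AlgebraTensorModule.curry_apply, TensorProduct.curry_apply,
    LinearMap.coe_restrictScalars, LinearMap.comp_apply, LinearMap.lTensor_tmul,
    LinearEquiv.coe_coe, TensorProduct.rid_tmul, map_smul, Algebra.linearMap_apply]
  rw [← ℛ.eq]
  simp only [TensorProduct.tmul_sum, map_sum, TensorProduct.assoc_symm_tmul,
    TensorProduct.map_tmul, LinearMap.mul'_apply, T_tmul, AlgHom.toLinearMap_apply]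
  simp only [mul_assoc, ← Finset.mul_sum, ← map_mul, ← map_sum, h]
  rw [AlgHom.commutes, Algebra.smul_def, mul_comm]

lemma U_theta (n : N) :
    U (theta c φ g) (g.toLinearMap.lTensor N (c.coact n)) = algebraMap k R (φ n) := by
  have h1 : U (theta c φ g) ∘ₗ g.toLinearMap.lTensor N =
      (LinearMap.mul' k R ∘ₗ TensorProduct.map (T (N := N) φ g) g.toLinearMap) ∘ₗ
        c.coact.rTensor A := by
    ext n a
    simp [theta]
  have h2 := LinearMap.congr_fun c.coassoc n
  simp only [LinearMap.comp_apply, LinearEquiv.coe_coe] at h2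
  have h3 : c.coact.rTensor A (c.coact n) =
      (TensorProduct.assoc k N A A).symm
        ((CoalgebraStruct.comul (R := k) (A := A)).lTensor N (c.coact n)) := by
    rw [← h2, LinearEquiv.symm_apply_apply]
  have h4 := LinearMap.congr_fun h1 (c.coact n)
  rw [LinearMap.comp_apply] at h4
  rw [h4, LinearMap.comp_apply, h3]
  have h5 := LinearMap.congr_fun (key_aux (N := N) φ g) (c.coact n)
  simp only [LinearMap.comp_apply, LinearEquiv.coe_coe] at h5
  rw [LinearMap.comp_apply, h5]
  have h6 := LinearMap.congr_fun c.counit_comp n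
  simp only [LinearMap.comp_apply, LinearMap.flip_apply, TensorProduct.mk_apply] at h6
  rw [h6]
  simp

end hopf

section main

variable {k A : Type u} [Field k] [CommRing A] [HopfAlgebra k A]
  {V : Type v} [AddCommGroup V] [Module k V] (c : HopfRep.Comod k A V)
  {V' : Type v'} [AddCommGroup V'] [Module k V'] (c' : HopfRep.Comod k A V')
  (W : Submodule k V) (W' : Submodule k V') {R : Type u} [CommRing R] [Algebra k R]
  (g : A →ₐ[k] R)

lemma tensor_act (v : V) (v' : V') :
    g.toLinearMap.lTensor (V ⊗[k] V') ((ComodTens.Comod.tensor c c').coact (v ⊗ₜ[k] v')) =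
      mu k R V V' (g.toLinearMap.lTensor V (c.coact v) ⊗ₜ g.toLinearMap.lTensor V' (c'.coact v')) := by
  rw [ComodTens.tensor_coact_tmul]
  exact mu_alg_apply g _ _

omit [Field k] in
lemma mem_range_rTensor_iff {k : Type*} [CommRing k] {V : Type*} [AddCommGroup V] [Module k V]
    (W : Submodule k V) (R : Type*) [AddCommGroup R] [Module k R] (x : V ⊗[k] R) :
    x ∈ LinearMap.range (W.subtype.rTensor R) ↔ W.mkQ.rTensor R x = 0 := by
  have h := rTensor_exact R (LinearMap.exact_subtype_mkQ W) (Submodule.mkQ_surjective W)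
  exact (h x).symm.trans Iff.rfl

lemma kill_left {N' : Type*} [AddCommGroup N'] [Module k N'] (a' : V' →ₗ[k] N')
    (ζ : (LinearMap.range (TensorProduct.mapIncl W W')) ⊗[k] R) :
    TensorProduct.map (TensorProduct.map W.mkQ a') (LinearMap.id : R →ₗ[k] R)
      ((LinearMap.range (TensorProduct.mapIncl W W')).subtype.rTensor R ζ) = 0 := by
  have h0 : ∀ x ∈ LinearMap.range (TensorProduct.mapIncl W W'),
      TensorProduct.map W.mkQ a' x = 0 := by
    rintro x ⟨t, rfl⟩
    induction t using TensorProduct.induction_on with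
    | zero => simp
    | tmul w w' =>
      have : (Submodule.Quotient.mk (w : V) : V ⧸ W) = 0 :=
        (Submodule.Quotient.mk_eq_zero W).2 w.2
      simp [TensorProduct.mapIncl, this]
    | add x y hx hy => rw [map_add, map_add, hx, hy, add_zero]
  induction ζ using TensorProduct.induction_on with
  | zero => simp
  | tmul x r =>
    rw [LinearMap.rTensor_tmul, TensorProduct.map_tmul, Submodule.subtype_apply, h0 _ x.2,
      TensorProduct.zero_tmul]
  | add x y hx hy => rw [map_add, map_add, hx, hy, add_zero]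

lemma kill_right {N : Type*} [AddCommGroup N] [Module k N] (a : V →ₗ[k] N)
    (ζ : (LinearMap.range (TensorProduct.mapIncl W W')) ⊗[k] R) :
    TensorProduct.map (TensorProduct.map a W'.mkQ) (LinearMap.id : R →ₗ[k] R)
      ((LinearMap.range (TensorProduct.mapIncl W W')).subtype.rTensor R ζ) = 0 := by
  have h0 : ∀ x ∈ LinearMap.range (TensorProduct.mapIncl W W'),
      TensorProduct.map a W'.mkQ x = 0 := by
    rintro x ⟨t, rfl⟩
    induction t using TensorProduct.induction_on with
    | zero => simp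
    | tmul w w' =>
      have : (Submodule.Quotient.mk (w' : V') : V' ⧸ W') = 0 :=
        (Submodule.Quotient.mk_eq_zero W').2 w'.2
      simp [TensorProduct.mapIncl, this]
    | add x y hx hy => rw [map_add, map_add, hx, hy, add_zero]
  induction ζ using TensorProduct.induction_on with
  | zero => simp
  | tmul x r =>
    rw [LinearMap.rTensor_tmul, TensorProduct.map_tmul, Submodule.subtype_apply, h0 _ x.2,
      TensorProduct.zero_tmul]
  | add x y hx hy => rw [map_add, map_add, hx, hy, add_zero]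

theorem main (hW : W ≠ ⊥) (hW' : W' ≠ ⊥) :
    (∀ x ∈ LinearMap.range (TensorProduct.mapIncl W W'),
        LinearMap.lTensor (V ⊗[k] V') g.toLinearMap ((ComodTens.Comod.tensor c c').coact x) ∈
          LinearMap.range ((LinearMap.range (TensorProduct.mapIncl W W')).subtype.rTensor R)) ↔
      (∀ x ∈ W, LinearMap.lTensor V g.toLinearMap ((c).coact x) ∈
          LinearMap.range ((W).subtype.rTensor R)) ∧
      (∀ x ∈ W', LinearMap.lTensor V' g.toLinearMap ((c').coact x) ∈
          LinearMap.range ((W').subtype.rTensor R)) := by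
  constructor
  · intro h
    constructor
    · intro w hw
      obtain ⟨w', hw', hw'0⟩ := Submodule.exists_mem_ne_zero_of_ne_bot hW'
      obtain ⟨φ, hφ⟩ := Module.Projective.exists_dual_eq_one k hw'0
      have hx : w ⊗ₜ[k] w' ∈ LinearMap.range (TensorProduct.mapIncl W W') :=
        ⟨(⟨w, hw⟩ : W) ⊗ₜ (⟨w', hw'⟩ : W'), by simp [TensorProduct.mapIncl]⟩
      obtain ⟨ζ, hζ⟩ := h _ hx
      rw [tensor_act] at hζ
      have h1 := congrArg (TensorProduct.map (TensorProduct.map W.mkQ (LinearMap.id : V' →ₗ[k] V'))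
        (LinearMap.id : R →ₗ[k] R)) hζ
      rw [kill_left, mu_natural_apply] at h1
      rw [mem_range_rTensor_iff]
      have h2 := contrR_mu_apply (M := V ⧸ W) (theta c' φ g)
        (W.mkQ.rTensor R (g.toLinearMap.lTensor V (c.coact w)))
        (g.toLinearMap.lTensor V' (c'.coact w')) (by rw [U_theta, hφ, map_one])
      rw [← h2]
      have h3 : (LinearMap.id : V' →ₗ[k] V').rTensor R = LinearMap.id := LinearMap.rTensor_id _ _
      rw [h3, LinearMap.id_apply] at h1
      rw [← h1, map_zero]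
    · intro w' hw'
      obtain ⟨w, hw, hw0⟩ := Submodule.exists_mem_ne_zero_of_ne_bot hW
      obtain ⟨φ, hφ⟩ := Module.Projective.exists_dual_eq_one k hw0
      have hx : w ⊗ₜ[k] w' ∈ LinearMap.range (TensorProduct.mapIncl W W') :=
        ⟨(⟨w, hw⟩ : W) ⊗ₜ (⟨w', hw'⟩ : W'), by simp [TensorProduct.mapIncl]⟩
      obtain ⟨ζ, hζ⟩ := h _ hx
      rw [tensor_act] at hζ
      have h1 := congrArg (TensorProduct.map (TensorProduct.map (LinearMap.id : V →ₗ[k] V) W'.mkQ)
        (LinearMap.id : R →ₗ[k] R)) hζ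
      rw [kill_right, mu_natural_apply] at h1
      rw [mem_range_rTensor_iff]
      have h2 := contrL_mu_apply (M := V' ⧸ W') (theta c φ g)
        (W'.mkQ.rTensor R (g.toLinearMap.lTensor V' (c'.coact w')))
        (g.toLinearMap.lTensor V (c.coact w)) (by rw [U_theta, hφ, map_one])
      rw [← h2]
      have h3 : (LinearMap.id : V →ₗ[k] V).rTensor R = LinearMap.id := LinearMap.rTensor_id _ _
      rw [h3, LinearMap.id_apply] at h1
      rw [← h1, map_zero]
  · rintro ⟨h1, h2⟩ x ⟨t, rfl⟩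
    induction t using TensorProduct.induction_on with
    | zero => simp
    | add x y hx hy =>
      rw [map_add, map_add, map_add]
      exact Submodule.add_mem _ hx hy
    | tmul w w' =>
      have e : TensorProduct.mapIncl W W' (w ⊗ₜ w') = (w : V) ⊗ₜ[k] (w' : V') := by
        simp [TensorProduct.mapIncl]
      rw [e, tensor_act]
      obtain ⟨ξ, hξ⟩ := h1 w w.2
      obtain ⟨ξ', hξ'⟩ := h2 w' w'.2
      rw [← hξ, ← hξ', ← mu_natural_apply]
      have e2 : TensorProduct.map (TensorProduct.map W.subtype W'.subtype) (LinearMap.id : R →ₗ[k] R) =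
          (LinearMap.range (TensorProduct.mapIncl W W')).subtype.rTensor R ∘ₗ
            (TensorProduct.mapIncl W W').rangeRestrict.rTensor R := by
        rw [← LinearMap.rTensor_comp]
        rfl
      rw [e2, LinearMap.comp_apply]
      exact ⟨_, rfl⟩

end main

end Groth.Agent.H82.StabTens
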