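import Groth.Agent.H82.ExtComod
import Groth.Agent.H82.StabTens
import Mathlib.LinearAlgebra.TensorProduct.Basis

set_option autoImplicit false
universe u

namespace Groth.Agent.H82.ExtLine

open TensorProduct ExteriorAlgebra Set.powersetCard Groth.Agent.H82.ExtComod

section basis

variable {k : Type u} [Field k] {V : Type u} [AddCommGroup V] [Module k V] {n : ℕ}
  (b : Module.Basis (Fin n) k V)

lemma β_empty : b.ExteriorAlgebra ∅ = 1 := by
  rw [ExteriorAlgebra.basis_apply_ofCard b (Finset.card_empty)]
  simp [ιMulti_family]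

lemma ι_b (i : Fin n) : ExteriorAlgebra.ι k (b i) = b.ExteriorAlgebra {i} := by
  rw [ExteriorAlgebra.basis_apply_ofCard b (Finset.card_singleton i)]
  unfold ιMulti_family
  rw [ιMulti_succ_apply, ιMulti_zero_apply, mul_one, Function.comp_apply]
  congr 2
  have h := (mem_range_ofFinEmbEquiv_symm_iff_mem
    (ofCard (Finset.card_singleton i) : Set.powersetCard (Fin n) 1)
    ((ofFinEmbEquiv.symm (ofCard (Finset.card_singleton i) : Set.powersetCard (Fin n) 1)) 0)).1
    ⟨0, rfl⟩
  have h2 : (ofFinEmbEquiv.symm (ofCard (Finset.card_singleton i) :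
      Set.powersetCard (Fin n) 1)) 0 ∈ ({i} : Finset (Fin n)) := h
  exact (Finset.mem_singleton.1 h2).symm

lemma ι_mul_β_of_mem (i : Fin n) (t : Finset (Fin n)) (hi : i ∈ t) :
    ExteriorAlgebra.ι k (b i) * b.ExteriorAlgebra t = 0 := by
  rw [ι_b]
  have h := ExteriorAlgebra.basis_mul_of_not_disjoint b
    (ofCard (Finset.card_singleton i) : Set.powersetCard (Fin n) 1)
    (ofCard (rfl : t.card = t.card)) (by
      rw [Finset.not_disjoint_iff]
      exact ⟨i, Finset.mem_singleton_self i, hi⟩)
  exact h

lemma ι_mul_β_of_not_mem (i : Fin n) (t : Finset (Fin n)) (hi : i ∉ t) :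
    ∃ ε : ℤˣ, ExteriorAlgebra.ι k (b i) * b.ExteriorAlgebra t =
      ε • b.ExteriorAlgebra (insert i t) := by
  rw [ι_b]
  have hd : Disjoint (ofCard (Finset.card_singleton i) : Set.powersetCard (Fin n) 1).val
      (ofCard (rfl : t.card = t.card) : Set.powersetCard (Fin n) t.card).val := by
    rw [Finset.disjoint_left]
    intro x hx hx'
    have : x = i := Finset.mem_singleton.1 hx
    exact hi (this ▸ hx')
  have h := ExteriorAlgebra.basis_mul_of_disjoint b
    (ofCard (Finset.card_singleton i) : Set.powersetCard (Fin n) 1)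
    (ofCard (rfl : t.card = t.card)) hd
  refine ⟨(permOfDisjoint hd).sign, ?_⟩
  have h3 : ((disjUnion hd : Set.powersetCard (Fin n) (1 + t.card)) : Finset (Fin n)) =
      insert i t := by
    rw [coe_disjUnion]
    ext x
    simp [Finset.mem_disjUnion, Finset.mem_insert]
  rw [← h3]
  exact h

end basis


section filt

variable {k : Type u} [Field k] {V : Type u} [AddCommGroup V] [Module k V] {n : ℕ}
  (b : Module.Basis (Fin n) k V) (s : Finset (Fin n))

/-- the span of the basis vectors indexed by `s`. -/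
def Ws : Submodule k V := Submodule.span k (b '' (s : Set (Fin n)))

/-- span of the basis monomials of degree `m` supported in `s`. -/
def F (m : ℕ) : Submodule k (ExteriorAlgebra k V) :=
  Submodule.span k (b.ExteriorAlgebra '' {t : Finset (Fin n) | t ⊆ s ∧ t.card = m})

lemma ι_mul_mem_F {m : ℕ} {w : V} (hw : w ∈ Ws b s) {y : ExteriorAlgebra k V}
    (hy : y ∈ F b s m) : ExteriorAlgebra.ι k w * y ∈ F b s (m + 1) := by
  unfold Ws at hw
  induction hw using Submodule.span_induction with
  | zero => simp
  | add x x' _ _ hx hx' => rw [map_add, add_mul]; exact Submodule.add_mem _ hx hx'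
  | smul a x _ hx => rw [map_smul, smul_mul_assoc]; exact Submodule.smul_mem _ a hx
  | mem x hx =>
    obtain ⟨i, hi, rfl⟩ := hx
    unfold F at hy
    induction hy using Submodule.span_induction with
    | zero => simp
    | add y y' _ _ hy hy' => rw [mul_add]; exact Submodule.add_mem _ hy hy'
    | smul a y _ hy => rw [mul_smul_comm]; exact Submodule.smul_mem _ a hy
    | mem y hy =>
      obtain ⟨t, ⟨hts, htc⟩, rfl⟩ := hy
      by_cases hit : i ∈ t
      · rw [ι_mul_β_of_mem b i t hit]; exact Submodule.zero_mem _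
      · obtain ⟨ε, hε⟩ := ι_mul_β_of_not_mem b i t hit
        rw [hε, Units.smul_def]
        apply zsmul_mem
        apply Submodule.subset_span
        refine ⟨insert i t, ⟨?_, ?_⟩, rfl⟩
        · intro x hx
          rcases Finset.mem_insert.1 hx with rfl | hx
          · exact hi
          · exact hts hx
        · rw [Finset.card_insert_of_notMem hit, htc]

lemma F_card : F b s s.card = Submodule.span k {b.ExteriorAlgebra s} := by
  unfold F
  congr 1
  ext y
  constructor
  · rintro ⟨t, ⟨hts, htc⟩, rfl⟩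
    have : t = s := Finset.eq_of_subset_of_card_le hts htc.ge
    rw [this]; rfl
  · rintro rfl
    exact ⟨s, ⟨subset_rfl, rfl⟩, rfl⟩

lemma ι_mul_ω_of_mem {w : V} (hw : w ∈ Ws b s) :
    ExteriorAlgebra.ι k w * b.ExteriorAlgebra s = 0 := by
  unfold Ws at hw
  induction hw using Submodule.span_induction with
  | zero => simp
  | add x x' _ _ hx hx' => rw [map_add, add_mul, hx, hx', add_zero]
  | smul a x _ hx => rw [map_smul, smul_mul_assoc, hx, smul_zero]
  | mem x hx =>
    obtain ⟨i, hi, rfl⟩ := hx
    exact ι_mul_β_of_mem b i s hi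

/-- `x ↦ ι x * ω`. -/
noncomputable def mω : V →ₗ[k] ExteriorAlgebra k V :=
  (LinearMap.mulRight k (b.ExteriorAlgebra s)) ∘ₗ (ExteriorAlgebra.ι k)

lemma coord_mω (j : Fin n) (hj : j ∉ s) :
    ∃ ε : ℤˣ, (b.ExteriorAlgebra.coord (insert j s)) ∘ₗ (mω b s) = ε • b.coord j := by
  obtain ⟨ε, hε⟩ := ι_mul_β_of_not_mem b j s hj
  refine ⟨ε, ?_⟩
  apply b.ext
  intro i
  simp only [LinearMap.comp_apply, mω, LinearMap.mulRight_apply, LinearMap.smul_apply,
    Module.Basis.coord_apply, Module.Basis.repr_self]
  by_cases hi : i ∈ s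
  · rw [ι_mul_β_of_mem b i s hi, map_zero, Finsupp.zero_apply]
    have hij : i ≠ j := fun h => hj (h ▸ hi)
    rw [Finsupp.single_eq_of_ne hij.symm, smul_zero]
  · by_cases hij : i = j
    · subst hij
      rw [hε, Units.smul_def, map_zsmul, Finsupp.smul_apply, Module.Basis.repr_self,
        Finsupp.single_eq_same, Finsupp.single_eq_same, Units.smul_def]
    · obtain ⟨ε', hε'⟩ := ι_mul_β_of_not_mem b i s hi
      rw [hε', Units.smul_def, map_zsmul, Finsupp.smul_apply, Module.Basis.repr_self]
      have hne : insert i s ≠ insert j s := by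
        intro h
        have : i ∈ insert j s := h ▸ Finset.mem_insert_self i s
        rcases Finset.mem_insert.1 this with h1 | h1
        · exact hij h1
        · exact hi h1
      rw [Finsupp.single_eq_of_ne hne.symm, smul_zero, Finsupp.single_eq_of_ne (Ne.symm hij),
        smul_zero]

end filt


section main

variable {k A : Type u} [Field k] [CommRing A] [HopfAlgebra k A]
  {V : Type u} [AddCommGroup V] [Module k V] [HopfRep.Comod k A V] {n : ℕ}
  (b : Module.Basis (Fin n) k V) (s : Finset (Fin n))
  {R : Type u} [CommRing R] [Algebra k R] (g : A →ₐ[k] R)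

omit [HopfRep.Comod k A V] in
lemma prod_mem {m : ℕ} (z₁ : (Ws b s) ⊗[k] R) (z₂ : (F b s m) ⊗[k] R) :
    ιT R ((Ws b s).subtype.rTensor R z₁) * ((F b s m).subtype.rTensor R z₂) ∈
      LinearMap.range ((F b s (m + 1)).subtype.rTensor R) := by
  induction z₁ using TensorProduct.induction_on with
  | zero => simp
  | add x y hx hy => rw [map_add, map_add, add_mul]; exact Submodule.add_mem _ hx hy
  | tmul w r =>
    induction z₂ using TensorProduct.induction_on with
    | zero => simp
    | add x y hx hy => rw [map_add, mul_add]; exact Submodule.add_mem _ hx hy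
    | tmul y r' =>
      simp only [LinearMap.rTensor_tmul, Submodule.subtype_apply,
        Algebra.TensorProduct.tmul_mul_tmul]
      exact ⟨⟨ExteriorAlgebra.ι k (w : V) * (y : ExteriorAlgebra k V),
        ι_mul_mem_F b s w.2 y.2⟩ ⊗ₜ (r * r'), by simp⟩

theorem act_β_mem
    (hstab : ∀ w ∈ Ws b s, g.toLinearMap.lTensor V (HopfRep.Comod.coact (k := k) (A := A) w) ∈
      LinearMap.range ((Ws b s).subtype.rTensor R)) :
    ∀ (m : ℕ) (t : Finset (Fin n)), t ⊆ s → t.card = m →
      act (V := V) g (b.ExteriorAlgebra t) ∈ LinearMap.range ((F b s m).subtype.rTensor R) := by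
  intro m
  induction m with
  | zero =>
    intro t _ htc
    rw [Finset.card_eq_zero] at htc
    subst htc
    rw [β_empty, map_one, Algebra.TensorProduct.one_def]
    refine ⟨⟨1, ?_⟩ ⊗ₜ 1, by simp⟩
    apply Submodule.subset_span
    exact ⟨∅, ⟨Finset.empty_subset _, rfl⟩, β_empty b⟩
  | succ m ih =>
    intro t hts htc
    have hne : t.Nonempty := by
      rw [← Finset.card_pos, htc]; omega
    obtain ⟨i, hi⟩ := hne
    have hi' : i ∉ t.erase i := Finset.notMem_erase i t
    obtain ⟨ε, hε⟩ := ι_mul_β_of_not_mem b i (t.erase i) hi'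
    rw [Finset.insert_erase hi] at hε
    have hβ : b.ExteriorAlgebra t =
        ε • (ExteriorAlgebra.ι k (b i) * b.ExteriorAlgebra (t.erase i)) := by
      rw [hε, smul_smul, Int.units_mul_self, one_smul]
    rw [hβ, Units.smul_def, map_zsmul, map_mul]
    apply zsmul_mem
    have hbi : b i ∈ Ws b s := Submodule.subset_span ⟨i, hts hi, rfl⟩
    obtain ⟨z₁, hz₁⟩ := hstab (b i) hbi
    have hcard : (t.erase i).card = m := by
      rw [Finset.card_erase_of_mem hi, htc]; rfl
    obtain ⟨z₂, hz₂⟩ := ih (t.erase i) ((Finset.erase_subset i t).trans hts) hcard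
    rw [act_ι, ← hz₁, ← hz₂]
    exact prod_mem b s z₁ z₂

omit [HopfRep.Comod k A V] [HopfAlgebra k A] in
lemma exists_tmul_of_span_singleton (x : ExteriorAlgebra k V)
    (z : (Submodule.span k {x} : Submodule k (ExteriorAlgebra k V)) ⊗[k] R) :
    ∃ c : R, (Submodule.span k {x}).subtype.rTensor R z = x ⊗ₜ[k] c := by
  induction z using TensorProduct.induction_on with
  | zero => exact ⟨0, by simp⟩
  | add z z' hz hz' =>
    obtain ⟨c, hc⟩ := hz
    obtain ⟨c', hc'⟩ := hz'
    exact ⟨c + c', by rw [map_add, hc, hc', TensorProduct.tmul_add]⟩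
  | tmul y r =>
    obtain ⟨a, ha⟩ := Submodule.mem_span_singleton.1 y.2
    refine ⟨a • r, ?_⟩
    rw [LinearMap.rTensor_tmul, Submodule.subtype_apply, ← ha, TensorProduct.smul_tmul]

/-- If `g` stabilizes `W`, it stabilizes the line through `ω`. -/
theorem line_of_stab
    (hstab : ∀ w ∈ Ws b s, g.toLinearMap.lTensor V (HopfRep.Comod.coact (k := k) (A := A) w) ∈
      LinearMap.range ((Ws b s).subtype.rTensor R)) :
    ∃ c : R, act (V := V) g (b.ExteriorAlgebra s) = (b.ExteriorAlgebra s) ⊗ₜ[k] c := by
  obtain ⟨z, hz⟩ := act_β_mem b s g hstab s.card s subset_rfl rfl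
  rw [← hz]
  have h := F_card b s
  -- transport along the equality of submodules
  have key : ∀ (P : Submodule k (ExteriorAlgebra k V)) (hP : P = Submodule.span k {b.ExteriorAlgebra s})
      (z : P ⊗[k] R), ∃ c : R, P.subtype.rTensor R z = (b.ExteriorAlgebra s) ⊗ₜ[k] c := by
    intro P hP
    subst hP
    exact exists_tmul_of_span_singleton _
  exact key _ h z

omit [HopfRep.Comod k A V] [HopfAlgebra k A] in
lemma ιT_mul_ω (t : V ⊗[k] R) :
    ιT R t * ((b.ExteriorAlgebra s) ⊗ₜ[k] (1 : R)) = (mω b s).rTensor R t := by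
  induction t using TensorProduct.induction_on with
  | zero => simp
  | add x y hx hy => rw [map_add, map_add, add_mul, hx, hy]
  | tmul x r =>
    simp only [LinearMap.rTensor_tmul, Algebra.TensorProduct.tmul_mul_tmul, mul_one, mω,
      LinearMap.comp_apply, LinearMap.mulRight_apply]

omit [HopfRep.Comod k A V] [HopfAlgebra k A] in
lemma mem_range_of_mω_eq_zero (t : V ⊗[k] R) (ht : (mω b s).rTensor R t = 0) :
    t ∈ LinearMap.range ((Ws b s).subtype.rTensor R) := by
  classical
  let cf := TensorProduct.equivFinsuppOfBasisLeft (N := R) b t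
  have hcf : t = cf.sum fun i r => b i ⊗ₜ[k] r := by
    have h1 := (TensorProduct.equivFinsuppOfBasisLeft (N := R) b).symm_apply_apply t
    rw [TensorProduct.equivFinsuppOfBasisLeft_symm_apply] at h1
    exact h1.symm
  have hzero : ∀ j, j ∉ s → cf j = 0 := by
    intro j hj
    obtain ⟨ε, hε⟩ := coord_mω b s j hj
    have h1 : cf j = TensorProduct.lid k R ((b.coord j).rTensor R t) :=
      TensorProduct.equivFinsuppOfBasisLeft_apply b t j
    let e : k := ((ε : ℤ) : k)
    have he : e * e = 1 := by
      have : ((ε : ℤ) * (ε : ℤ) : ℤ) = 1 := by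
        rw [← Units.val_mul, Int.units_mul_self, Units.val_one]
      simp only [e]
      rw [← Int.cast_mul, this, Int.cast_one]
    have hε' : (b.ExteriorAlgebra.coord (insert j s)) ∘ₗ (mω b s) = e • b.coord j := by
      rw [hε, Units.smul_def, ← Int.cast_smul_eq_zsmul k]
    have h2 : (e • b.coord j).rTensor R t = 0 := by
      rw [← hε', LinearMap.rTensor_comp, LinearMap.comp_apply, ht, map_zero]
    rw [LinearMap.rTensor_smul, LinearMap.smul_apply] at h2
    have h4 : (b.coord j).rTensor R t = 0 := by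
      have := congrArg (fun x => e • x) h2
      simpa [smul_smul, he] using this
    rw [h1, h4, map_zero]
  rw [hcf]
  apply Submodule.sum_mem
  intro i hi
  have his : i ∈ s := by
    by_contra h
    exact (Finsupp.mem_support_iff.1 hi) (hzero i h)
  exact ⟨⟨b i, Submodule.subset_span ⟨i, his, rfl⟩⟩ ⊗ₜ (cf i), by simp⟩

/-- If `g` stabilizes the line through `ω`, it stabilizes `W`. -/
theorem stab_of_line (c : R)
    (hline : act (V := V) g (b.ExteriorAlgebra s) = (b.ExteriorAlgebra s) ⊗ₜ[k] c) :
    ∀ w ∈ Ws b s, g.toLinearMap.lTensor V (HopfRep.Comod.coact (k := k) (A := A) w) ∈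
      LinearMap.range ((Ws b s).subtype.rTensor R) := by
  -- `c` is a unit
  have hunit : ∃ c' : R, c * c' = 1 := by
    let φ : ExteriorAlgebra k V →ₗ[k] k := b.ExteriorAlgebra.coord s
    have h1 := Groth.Agent.H82.StabTens.U_theta (extComod (k := k) (A := A) (V := V)) φ g
      (b.ExteriorAlgebra s)
    rw [← act_apply, hline, Groth.Agent.H82.StabTens.U_tmul] at h1
    have h2 : φ (b.ExteriorAlgebra s) = 1 := by
      simp [φ, Module.Basis.coord_apply, Module.Basis.repr_self]
    rw [h2, map_one] at h1
    exact ⟨_, by rw [mul_comm]; exact h1⟩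
  obtain ⟨c', hc'⟩ := hunit
  intro w hw
  apply mem_range_of_mω_eq_zero b s
  rw [← ιT_mul_ω, ← act_ι]
  have h1 : act (V := V) g (ExteriorAlgebra.ι k w) * ((b.ExteriorAlgebra s) ⊗ₜ[k] c) = 0 := by
    rw [← hline, ← map_mul, ι_mul_ω_of_mem b s hw, map_zero]
  have h2 : ((b.ExteriorAlgebra s) ⊗ₜ[k] c) * ((1 : ExteriorAlgebra k V) ⊗ₜ[k] c') =
      (b.ExteriorAlgebra s) ⊗ₜ[k] (1 : R) := by
    rw [Algebra.TensorProduct.tmul_mul_tmul, mul_one, hc']
  rw [← h2, ← mul_assoc, h1, zero_mul]

end main


section final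

variable {k : Type u} [Field k] {V : Type u} [AddCommGroup V] [Module k V]

lemma exists_basis_finset [Module.Finite k V] (W : Submodule k V) :
    ∃ (n : ℕ) (b : Module.Basis (Fin n) k V) (s : Finset (Fin n)), W = Ws b s := by
  classical
  let bW := Module.finBasis k W
  let S₀ : Set V := Set.range (fun i => (bW i : V))
  have h1 : LinearIndependent k (fun i => (bW i : V)) :=
    bW.linearIndependent.map' W.subtype (Submodule.ker_subtype W)
  have hli : LinearIndepOn k id S₀ := LinearIndependent.linearIndepOn_id h1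
  let bB : Module.Basis (hli.extend (Set.subset_univ S₀)) k V := Module.Basis.extend hli
  have hsub : S₀ ⊆ hli.extend (Set.subset_univ S₀) := Module.Basis.subset_extend hli
  have hfin : Finite (hli.extend (Set.subset_univ S₀)) := Module.Finite.finite_basis bB
  let e : (hli.extend (Set.subset_univ S₀)) ≃ Fin (Nat.card (hli.extend (Set.subset_univ S₀))) :=
    Finite.equivFin _
  let b := bB.reindex e
  have hb : ∀ i, b i = ((e.symm i : hli.extend (Set.subset_univ S₀)) : V) := by
    intro i
    simp only [b, Module.Basis.reindex_apply, bB, Module.Basis.extend_apply_self]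
  let s : Finset (Fin (Nat.card (hli.extend (Set.subset_univ S₀)))) :=
    Finset.univ.filter (fun i => (b i) ∈ S₀)
  refine ⟨_, b, s, ?_⟩
  have hS : b '' (s : Set (Fin _)) = S₀ := by
    ext x
    constructor
    · rintro ⟨i, hi, rfl⟩
      exact (Finset.mem_filter.1 hi).2
    · intro hx
      refine ⟨e ⟨x, hsub hx⟩, ?_, ?_⟩
      · refine Finset.mem_coe.2 (Finset.mem_filter.2 ⟨Finset.mem_univ _, ?_⟩)
        rw [hb, Equiv.symm_apply_apply]
        exact hx
      · rw [hb, Equiv.symm_apply_apply]
  unfold Ws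
  rw [hS]
  have h2 : S₀ = W.subtype '' (Set.range bW) := by
    ext x
    simp [S₀]
  rw [h2, ← Submodule.map_span, bW.span_eq, Submodule.map_subtype_top]

instance finite_ext [Module.Finite k V] : Module.Finite k (ExteriorAlgebra k V) := by
  let b := Module.finBasis k V
  exact Module.Finite.of_basis b.ExteriorAlgebra

variable {A : Type u} [CommRing A] [HopfAlgebra k A] [HopfRep.Comod k A V]

/-- **Line from a subspace**: for a subspace `W` of a finite-dimensional comodule `V` there is a
nonzero vector `ω` of the comodule `⋀ V` whose line has the same stabilizer as `W`. -/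
theorem ext_line [Module.Finite k V] (W : Submodule k V) :
    ∃ ω : ExteriorAlgebra k V, ω ≠ 0 ∧
      ∀ (R : Type u) [CommRing R] [Algebra k R] (g : A →ₐ[k] R),
        (∃ c : R, g.toLinearMap.lTensor (ExteriorAlgebra k V)
          ((extComod (k := k) (A := A) (V := V)).coact ω) = ω ⊗ₜ[k] c) ↔
        (∀ w ∈ W, g.toLinearMap.lTensor V (HopfRep.Comod.coact (k := k) (A := A) w) ∈
          LinearMap.range (W.subtype.rTensor R)) := by
  obtain ⟨n, b, s, rfl⟩ := exists_basis_finset W
  refine ⟨b.ExteriorAlgebra s, b.ExteriorAlgebra.ne_zero s, ?_⟩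
  intro R _ _ g
  constructor
  · rintro ⟨c, hc⟩
    rw [← act_apply] at hc
    exact stab_of_line b s g c hc
  · intro h
    obtain ⟨c, hc⟩ := line_of_stab b s g h
    exact ⟨c, by rw [← act_apply]; exact hc⟩

end final

end Groth.Agent.H82.ExtLine
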