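import Groth.Prelude.Def_ComodSub
import Groth.Prelude.Def_Dyn
import Groth.Prelude.Def_SGA3
import Groth.Agent.H82.ExtLine
import Mathlib.LinearAlgebra.TensorProduct.Basis
import Mathlib.LinearAlgebra.TensorProduct.RightExactness
import Mathlib.LinearAlgebra.FreeModule.Basic
import Mathlib.RingTheory.Flat.Basic
import Mathlib.LinearAlgebra.Dual.Lemmas
import Mathlib.RingTheory.Finiteness.Lattice
import Mathlib.RingTheory.FiniteType
import Mathlib.RingTheory.Coalgebra.Quotient

set_option autoImplicit false
universe u v w w'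

open TensorProduct HopfRep

namespace Groth.Agent.H82.Chev

/-! ### Slice maps -/
section Slice

variable {k : Type u} [CommRing k]
variable {M : Type v} [AddCommGroup M] [Module k M]
variable {N : Type w'} [AddCommGroup N] [Module k N]
variable {C : Type w} [AddCommGroup C] [Module k C]

/-- The slice map `id ⊗ ψ : M ⊗ C → M` for a functional `ψ` on `C`. -/
noncomputable def slice (M : Type v) [AddCommGroup M] [Module k M] (ψ : C →ₗ[k] k) :
    M ⊗[k] C →ₗ[k] M :=
  (TensorProduct.rid k M).toLinearMap ∘ₗ ψ.lTensor M

@[simp] theorem slice_tmul (ψ : C →ₗ[k] k) (m : M) (c : C) :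
    slice M ψ (m ⊗ₜ[k] c) = ψ c • m := by
  simp [slice]

theorem slice_rTensor (f : M →ₗ[k] N) (ψ : C →ₗ[k] k) (x : M ⊗[k] C) :
    slice N ψ (f.rTensor C x) = f (slice M ψ x) := by
  induction x using TensorProduct.induction_on with
  | zero => simp
  | tmul m c => simp
  | add x y hx hy => simp [hx, hy]

theorem slice_lTensor {C' : Type*} [AddCommGroup C'] [Module k C'] (f : C →ₗ[k] C')
    (ψ : C' →ₗ[k] k) (x : M ⊗[k] C) :
    slice M ψ (f.lTensor M x) = slice M (ψ ∘ₗ f) x := by
  induction x using TensorProduct.induction_on with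
  | zero => simp
  | tmul m c => simp
  | add x y hx hy => simp [hx, hy]

theorem eq_zero_of_slice_eq_zero [Module.Free k C] (y : M ⊗[k] C)
    (h : ∀ ψ : C →ₗ[k] k, slice M ψ y = 0) : y = 0 := by
  classical
  let b := Module.Free.chooseBasis k C
  apply (TensorProduct.equivFinsuppOfBasisRight (M := M) b).injective
  rw [map_zero]
  ext i
  have key : ∀ z : M ⊗[k] C,
      (TensorProduct.equivFinsuppOfBasisRight (M := M) b z) i = slice M (b.coord i) z := by
    intro z
    induction z using TensorProduct.induction_on with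
    | zero => simp
    | tmul m c =>
      rw [TensorProduct.equivFinsuppOfBasisRight_apply_tmul_apply]
      simp
    | add x y hx hy => simp [hx, hy]
  rw [key, h]
  rfl

theorem mem_range_rTensor_subtype_iff [Module.Free k C] (W : Submodule k M) (x : M ⊗[k] C) :
    x ∈ LinearMap.range (W.subtype.rTensor C) ↔ ∀ ψ : C →ₗ[k] k, slice M ψ x ∈ W := by
  constructor
  · rintro ⟨y, rfl⟩ ψ
    rw [slice_rTensor]
    exact (slice W ψ y).2
  · intro h
    rw [← rTensor_mkQ, LinearMap.mem_ker]
    apply eq_zero_of_slice_eq_zero
    intro ψ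
    rw [slice_rTensor]
    simpa using h ψ

end Slice

/-! ### Cyclic subcomodules -/
section Basic

variable {k : Type u} [CommRing k] {C : Type v} [AddCommGroup C] [Module k C] [Coalgebra k C]
variable {V : Type w} [AddCommGroup V] [Module k V] [Comod k C V]

variable (k C) in
/-- abbreviation for the coaction -/
noncomputable abbrev rho (V : Type w) [AddCommGroup V] [Module k V] [Comod k C V] :
    V →ₗ[k] V ⊗[k] C := Comod.coact (k := k) (A := C) (V := V)

theorem coassoc_apply (v : V) :
    (TensorProduct.assoc k V C C) ((rho k C V).rTensor C (rho k C V v)) =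
      (Coalgebra.comul (R := k) (A := C)).lTensor V (rho k C V v) := by
  have h := LinearMap.congr_fun (Comod.coassoc (k := k) (A := C) (V := V)) v
  simpa using h

theorem counit_apply (v : V) :
    (Coalgebra.counit (R := k) (A := C)).lTensor V (rho k C V v) = v ⊗ₜ[k] (1 : k) := by
  have h := LinearMap.congr_fun (Comod.counit_comp (k := k) (A := C) (V := V)) v
  simpa using h

theorem slice_counit_rho (v : V) :
    slice V (Coalgebra.counit (R := k) (A := C)) (rho k C V v) = v := by
  simp [slice, counit_apply]

variable (k C) in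
/-- convolution of two functionals -/
noncomputable def conv (φ ψ : C →ₗ[k] k) : C →ₗ[k] k :=
  LinearMap.mul' k k ∘ₗ TensorProduct.map φ ψ ∘ₗ Coalgebra.comul (R := k) (A := C)

omit [Coalgebra k C] [Comod k C V] in
theorem slice_slice_assoc_symm (φ ψ : C →ₗ[k] k) (v : V) (z : C ⊗[k] C) :
    slice V φ (slice (V ⊗[k] C) ψ ((TensorProduct.assoc k V C C).symm (v ⊗ₜ[k] z))) =
      (LinearMap.mul' k k (TensorProduct.map φ ψ z)) • v := by
  induction z using TensorProduct.induction_on with
  | zero => simp
  | tmul a b => simp [smul_smul, mul_comm]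
  | add x y hx hy => simp [TensorProduct.tmul_add, hx, hy, add_smul]

theorem slice_slice_comul (φ ψ : C →ₗ[k] k) (y : V ⊗[k] C) :
    slice V φ (slice (V ⊗[k] C) ψ ((TensorProduct.assoc k V C C).symm
      ((Coalgebra.comul (R := k) (A := C)).lTensor V y))) = slice V (conv k C φ ψ) y := by
  induction y using TensorProduct.induction_on with
  | zero => simp
  | tmul v c =>
    rw [LinearMap.lTensor_tmul, slice_slice_assoc_symm]
    simp [conv]
  | add x y hx hy => simp only [map_add, hx, hy]

theorem slice_rho_slice_rho (φ ψ : C →ₗ[k] k) (v : V) :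
    slice V φ (rho k C V (slice V ψ (rho k C V v))) = slice V (conv k C φ ψ) (rho k C V v) := by
  rw [← slice_rTensor (rho k C V) ψ (rho k C V v), ← slice_slice_comul, ← coassoc_apply,
    LinearEquiv.symm_apply_apply]

theorem isSubcomod_iff_slice [Module.Free k C] (W : Submodule k V) :
    IsSubcomod (k := k) (A := C) W ↔
      ∀ w ∈ W, ∀ ψ : C →ₗ[k] k, slice V ψ (rho k C V w) ∈ W := by
  unfold IsSubcomod
  constructor
  · intro h w hw
    exact (mem_range_rTensor_subtype_iff W _).1 (h w hw)
  · intro h w hw
    exact (mem_range_rTensor_subtype_iff W _).2 (h w hw)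

variable (k C) in
/-- The subcomodule generated by a vector: the span of all slices of its coaction. -/
noncomputable def cyc (v : V) : Submodule k V :=
  Submodule.span k (Set.range fun ψ : C →ₗ[k] k => slice V ψ (rho k C V v))

theorem mem_cyc_self (v : V) : v ∈ cyc k C v := by
  apply Submodule.subset_span
  exact ⟨Coalgebra.counit (R := k) (A := C), slice_counit_rho v⟩

theorem isSubcomod_cyc [Module.Free k C] (v : V) : IsSubcomod (k := k) (A := C) (cyc k C v) := by
  rw [isSubcomod_iff_slice]
  intro w hw φ
  induction hw using Submodule.span_induction with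
  | mem x hx =>
    obtain ⟨ψ, rfl⟩ := hx
    rw [slice_rho_slice_rho]
    exact Submodule.subset_span ⟨_, rfl⟩
  | zero => simp
  | add x y _ _ hx hy => simpa using add_mem hx hy
  | smul a x _ hx => simpa using Submodule.smul_mem _ a hx

theorem cyc_le_span_image (v : V) (S : Finset (V × C))
    (hS : rho k C V v = S.sum fun i => i.1 ⊗ₜ[k] i.2) :
    cyc k C v ≤ Submodule.span k ((fun i : V × C => i.1) '' (S : Set (V × C))) := by
  unfold cyc
  rw [Submodule.span_le]
  rintro _ ⟨ψ, rfl⟩
  simp only [hS, map_sum, slice_tmul]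
  apply Submodule.sum_mem
  intro i hi
  apply Submodule.smul_mem
  exact Submodule.subset_span ⟨i, hi, rfl⟩

theorem finite_cyc {k : Type u} [Field k] {C : Type v} [AddCommGroup C] [Module k C] [Coalgebra k C]
    {V : Type w} [AddCommGroup V] [Module k V] [Comod k C V] (v : V) :
    Module.Finite k (cyc k C v) := by
  obtain ⟨S, hS⟩ := TensorProduct.exists_finset (rho k C V v)
  have hle := cyc_le_span_image v S hS
  have : FiniteDimensional k
      (Submodule.span k ((fun i : V × C => i.1) '' (S : Set (V × C)))) :=
    FiniteDimensional.span_of_finite k ((S.finite_toSet).image _)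
  exact Submodule.finiteDimensional_of_le hle

/-- A finite family of vectors of a comodule over a field lies in a finite-dimensional
subcomodule. -/
theorem exists_finite_subcomod {k : Type u} [Field k] {C : Type v} [AddCommGroup C] [Module k C]
    [Coalgebra k C] {V : Type w} [AddCommGroup V] [Module k V] [Comod k C V]
    {ι : Type*} [Finite ι] (f : ι → V) :
    ∃ V₀ : Submodule k V, IsSubcomod (k := k) (A := C) V₀ ∧ Module.Finite k V₀ ∧
      ∀ j, f j ∈ V₀ := by
  refine ⟨⨆ j, cyc k C (f j), ?_, ?_, ?_⟩
  · rw [isSubcomod_iff_slice]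
    intro w hw ψ
    induction hw using Submodule.iSup_induction' with
    | mem j x hx =>
      have h := (isSubcomod_iff_slice (cyc k C (f j))).1 (isSubcomod_cyc (f j)) x hx ψ
      exact (le_iSup (fun j => cyc k C (f j)) j) h
    | zero => simp
    | add x y _ _ hx hy => simpa using add_mem hx hy
  · have : ∀ j, Module.Finite k (cyc k C (f j)) := fun j => finite_cyc (f j)
    exact Submodule.finite_iSup _
  · intro j
    exact (le_iSup (fun j => cyc k C (f j)) j) (mem_cyc_self (f j))

end Basic

/-! ### Chevalley: a closed subgroup is the stabilizer of a subspace of a finite-dimensional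
subrepresentation of the regular representation -/
section Chevalley

variable {k A : Type u} [Field k] [CommRing A] [Bialgebra k A] (I : Ideal A)

omit [Bialgebra k A] in
lemma slice_mem_of_mem_sup [Algebra k A] (φ : A →ₗ[k] k) (hφ : ∀ a ∈ I, φ a = 0) (x : A ⊗[k] A)
    (hx : x ∈ LinearMap.range (LinearMap.lTensor A (I.restrictScalars k).subtype) ⊔
      LinearMap.range (LinearMap.rTensor A (I.restrictScalars k).subtype)) :
    slice A φ x ∈ I := by
  obtain ⟨y, ⟨y', rfl⟩, z, ⟨z', rfl⟩, rfl⟩ := Submodule.mem_sup.1 hx
  rw [map_add, slice_lTensor, slice_rTensor]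
  have h0 : φ ∘ₗ (I.restrictScalars k).subtype = 0 := by
    ext a; exact hφ a a.2
  rw [h0]
  have : slice A (0 : ↥(I.restrictScalars k) →ₗ[k] k) y' = 0 := by
    simp [slice]
  rw [this, zero_add]
  exact (slice (I.restrictScalars k) φ z').2

lemma lid_counit_act {R : Type u} [CommRing R] [Algebra k R] (g : A →ₐ[k] R) (a : A) :
    TensorProduct.lid k R ((Coalgebra.counit (R := k) (A := A)).rTensor R
      (g.toLinearMap.lTensor A (Coalgebra.comul (R := k) a))) = g a := by
  have h := Coalgebra.rTensor_counit_comul (R := k) a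
  have h1 : (Coalgebra.counit (R := k) (A := A)).rTensor R
      (g.toLinearMap.lTensor A (Coalgebra.comul (R := k) a)) =
      g.toLinearMap.lTensor k ((Coalgebra.counit (R := k) (A := A)).rTensor A
        (Coalgebra.comul (R := k) a)) := by
    generalize Coalgebra.comul (R := k) a = x
    induction x using TensorProduct.induction_on with
    | zero => simp
    | tmul a b => simp
    | add x y hx hy => simp only [map_add, hx, hy]
  rw [h1, h]
  simp

theorem represents_sub (hε : ∀ x ∈ I, Coalgebra.counit (R := k) x = 0)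
    (hΔ : ∀ x ∈ I, Coalgebra.comul (R := k) x ∈
      LinearMap.range (LinearMap.lTensor A (I.restrictScalars k).subtype) ⊔
      LinearMap.range (LinearMap.rTensor A (I.restrictScalars k).subtype))
    (V₀ : Submodule k A) (hV₀ : IsSubcomod (k := k) (A := A) V₀)
    (S : Set A) (hS : S ⊆ V₀) (hI : I = Ideal.span S)
    (R : Type u) [CommRing R] [Algebra k R] (g : A →ₐ[k] R) :
    (∀ a ∈ I, g a = 0) ↔
      ∀ w ∈ (I.restrictScalars k).comap V₀.subtype,
        g.toLinearMap.lTensor V₀ ((ComodSub.Comod.restr (Comod.regular k A) V₀ hV₀).coact w) ∈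
          LinearMap.range (((I.restrictScalars k).comap V₀.subtype).subtype.rTensor R) := by
  have hkey : ∀ w : V₀, V₀.subtype.rTensor R (g.toLinearMap.lTensor V₀
      ((ComodSub.Comod.restr (Comod.regular k A) V₀ hV₀).coact w)) =
      g.toLinearMap.lTensor A (Coalgebra.comul (R := k) (w : A)) := by
    intro w
    rw [← ComodTens.lTensor_rTensor_comm, ComodSub.restr_coact_coe]
    rfl
  constructor
  · intro hg w hw
    rw [mem_range_rTensor_subtype_iff]
    intro ψ
    rw [Submodule.mem_comap, ← slice_rTensor, hkey, slice_lTensor]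
    apply slice_mem_of_mem_sup I
    · intro a ha
      rw [LinearMap.comp_apply, AlgHom.toLinearMap_apply, hg a ha, map_zero]
    · exact hΔ _ hw
  · intro h
    have hS0 : ∀ a ∈ S, g a = 0 := by
      intro a ha
      have haI : a ∈ I := hI ▸ Ideal.subset_span ha
      have hw : (⟨a, hS ha⟩ : V₀) ∈ (I.restrictScalars k).comap V₀.subtype := haI
      obtain ⟨z, hz⟩ := h _ hw
      have h1 := congrArg (fun t => TensorProduct.lid k R
        ((Coalgebra.counit (R := k) (A := A)).rTensor R (V₀.subtype.rTensor R t))) hz
      beta_reduce at h1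
      rw [hkey, lid_counit_act] at h1
      rw [← h1, ← LinearMap.rTensor_comp_apply, ← LinearMap.rTensor_comp_apply]
      have h0 : (Coalgebra.counit (R := k) (A := A)) ∘ₗ V₀.subtype ∘ₗ
          ((I.restrictScalars k).comap V₀.subtype).subtype = 0 := by
        ext w
        exact hε _ w.2
      rw [LinearMap.comp_assoc, h0, LinearMap.rTensor_zero, LinearMap.zero_apply, map_zero]
    have hle : I ≤ RingHom.ker (g : A →+* R) := by
      rw [hI, Ideal.span_le]
      intro a ha
      exact hS0 a ha
    intro a ha
    exact hle ha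

end Chevalley

section Main

variable {k A : Type u} [Field k] [CommRing A] [HopfAlgebra k A] [Algebra.FiniteType k A]

/-- **Chevalley's theorem** for an ideal satisfying the coideal conditions. -/
theorem chevalley (I : Ideal A) (hε : ∀ x ∈ I, Coalgebra.counit (R := k) x = 0)
    (hΔ : ∀ x ∈ I, Coalgebra.comul (R := k) x ∈
      LinearMap.range (LinearMap.lTensor A (I.restrictScalars k).subtype) ⊔
      LinearMap.range (LinearMap.rTensor A (I.restrictScalars k).subtype)) :
    ∃ (V : Type u) (_ : AddCommGroup V) (_ : Module k V) (_ : HopfRep.Comod k A V)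
      (_ : Module.Finite k V) (v : V),
      v ≠ 0 ∧ Dyn.Represents k A I (fun R _ _ g => SGA3.StabilizesLine k A v R g) := by
  have : IsNoetherianRing A := Algebra.FiniteType.isNoetherianRing k A
  obtain ⟨S, hS⟩ := (IsNoetherian.noetherian I : I.FG)
  obtain ⟨V₀, hV₀, hfin, hmem⟩ := exists_finite_subcomod (k := k) (C := A) (V := A)
    (fun j : (S : Set A) => (j : A))
  letI c₀ : HopfRep.Comod k A V₀ := ComodSub.Comod.restr (Comod.regular k A) V₀ hV₀
  obtain ⟨ω, hω, hstab⟩ := ExtLine.ext_line (k := k) (A := A) (V := V₀)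
    ((I.restrictScalars k).comap V₀.subtype)
  refine ⟨ExteriorAlgebra k V₀, inferInstance, inferInstance, ExtComod.extComod,
    ExtLine.finite_ext, ω, hω, ?_⟩
  intro R _ _ g
  rw [represents_sub I hε hΔ V₀ hV₀ (S : Set A) (fun a ha => hmem ⟨a, ha⟩) hS.symm R g]
  exact (hstab R g).symm

end Main

end Groth.Agent.H82.Chev
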