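import Groth.Agent.H82.TrigDVR
import Groth.Agent.H82.DualComod

/-! A flat affine group of finite type over a Noetherian ring with the equivariant resolution
property is a closed subgroup of some `GL_d`. -/

set_option autoImplicit false
universe u v w w'

open TensorProduct HopfRep

namespace Groth.Agent.H82.GLnRes

open Groth.Agent.H40

section FlatSub

variable {R : Type u} [CommRing R] {C : Type v} [AddCommGroup C] [Module R C] [Coalgebra R C]
  [Module.Flat R C]
variable {V : Type w} [AddCommGroup V] [Module R V] [Comod R C V]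

/-- the candidate coaction on a subcomodule (flat coalgebra over a ring) -/
noncomputable def subCoact (W : Submodule R V) (hW : IsSubcomod (k := R) (A := C) W) :
    W →ₗ[R] W ⊗[R] C :=
  (LinearEquiv.ofInjective (W.subtype.rTensor C)
    (Module.Flat.rTensor_preserves_injective_linearMap W.subtype W.subtype_injective)).symm.toLinearMap ∘ₗ
    LinearMap.codRestrict (LinearMap.range (W.subtype.rTensor C)) (rho R C V ∘ₗ W.subtype)
      (fun w => hW w.1 w.2)

theorem subtype_rTensor_subCoact (W : Submodule R V) (hW : IsSubcomod (k := R) (A := C) W)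
    (w : W) : W.subtype.rTensor C (subCoact W hW w) = rho R C V (w : V) := by
  unfold subCoact
  simp only [LinearMap.comp_apply, LinearEquiv.coe_coe]
  have := LinearEquiv.apply_symm_apply (LinearEquiv.ofInjective (W.subtype.rTensor C)
    (Module.Flat.rTensor_preserves_injective_linearMap W.subtype W.subtype_injective))
    (LinearMap.codRestrict (LinearMap.range (W.subtype.rTensor C)) (rho R C V ∘ₗ W.subtype)
      (fun w => hW w.1 w.2) w)
  have h2 := congrArg Subtype.val this
  exact h2

/-- A comodule structure on the source of an injective linear map intertwining a candidate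
coaction (flat coalgebra over a ring). -/
@[reducible] noncomputable def comodOfInjective {U : Type w'} [AddCommGroup U] [Module R U]
    (ι : U →ₗ[R] V) (hι : Function.Injective ι) (ρU : U →ₗ[R] U ⊗[R] C)
    (h : ∀ u, ι.rTensor C (ρU u) = rho R C V (ι u)) : Comod R C U where
  coact := ρU
  coassoc := by
    ext u
    simp only [LinearMap.comp_apply, LinearEquiv.coe_coe]
    apply Module.Flat.rTensor_preserves_injective_linearMap (M := C ⊗[R] C) ι hι
    rw [← assoc_rTensor_rTensor, ← lTensor_rTensor_comm, h u, ← coassoc_apply]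
    congr 1
    have h1 : ∀ y : U ⊗[R] C, (ι.rTensor C).rTensor C (ρU.rTensor C y) =
        (rho R C V).rTensor C (ι.rTensor C y) := by
      intro y
      induction y using TensorProduct.induction_on with
      | zero => simp
      | tmul v a => simp [h]
      | add x y hx hy => simp only [map_add, hx, hy]
    rw [h1, h u]
  counit_comp := by
    ext u
    simp only [LinearMap.comp_apply, LinearMap.flip_apply, TensorProduct.mk_apply]
    apply Module.Flat.rTensor_preserves_injective_linearMap (M := R) ι hι
    rw [← lTensor_rTensor_comm, h u, counit_apply]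
    simp

/-- A subcomodule as a comodule (flat coalgebra over a ring). -/
@[reducible] noncomputable def subComod (W : Submodule R V)
    (hW : IsSubcomod (k := R) (A := C) W) : Comod R C W :=
  comodOfInjective (C := C) W.subtype W.subtype_injective (subCoact W hW)
    (subtype_rTensor_subCoact W hW)

theorem isComodHom_subtype (W : Submodule R V) (hW : IsSubcomod (k := R) (A := C) W) :
    @Hoch.IsComodHom R _ C _ _ _ W _ _ (subComod W hW) V _ _ _ W.subtype := by
  unfold Hoch.IsComodHom
  ext w
  exact (subtype_rTensor_subCoact W hW w).symm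

end FlatSub

section Retract

variable {R : Type u} [CommRing R] {A : Type v} [CommRing A] [Bialgebra R A]
variable {E : Type w} [AddCommGroup E] [Module R E] [cE : Comod R A E]
variable {V : Type w'} [AddCommGroup V] [Module R V]

/-- the coaction on a module `V` having `E` as a retract: `E` keeps its coaction and the
complement is given the trivial coaction -/
noncomputable def retCoact (f : V →ₗ[R] E) (g : E →ₗ[R] V) : V →ₗ[R] V ⊗[R] A :=
  g.rTensor A ∘ₗ rho R A E ∘ₗ f + (TensorProduct.mk R V A).flip 1 ∘ₗ (LinearMap.id - g ∘ₗ f)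

lemma retCoact_apply (f : V →ₗ[R] E) (g : E →ₗ[R] V) (v : V) :
    retCoact f g v = g.rTensor A (rho R A E (f v)) + (v - g (f v)) ⊗ₜ[R] (1 : A) := by
  simp [retCoact, TensorProduct.sub_tmul]

lemma retCoact_g (f : V →ₗ[R] E) (g : E →ₗ[R] V) (hfg : f ∘ₗ g = LinearMap.id) (e : E) :
    retCoact f g (g e) = g.rTensor A (rho R A E e) := by
  have h1 : f (g e) = e := LinearMap.congr_fun hfg e
  rw [retCoact_apply, h1, sub_self, TensorProduct.zero_tmul, add_zero]

lemma retCoact_compl (f : V →ₗ[R] E) (g : E →ₗ[R] V) (hfg : f ∘ₗ g = LinearMap.id) (v : V) :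
    retCoact f g (v - g (f v)) = (v - g (f v)) ⊗ₜ[R] (1 : A) := by
  have h1 : f (g (f v)) = f v := LinearMap.congr_fun hfg (f v)
  rw [retCoact_apply, map_sub, h1, sub_self, map_zero, map_zero, map_zero, sub_zero, zero_add]

/-- the retract comodule -/
@[reducible] noncomputable def retComod (f : V →ₗ[R] E) (g : E →ₗ[R] V)
    (hfg : f ∘ₗ g = LinearMap.id) : Comod R A V where
  coact := retCoact f g
  coassoc := by
    ext v
    simp only [LinearMap.comp_apply, LinearEquiv.coe_coe]
    rw [retCoact_apply, map_add, map_add, map_add, LinearMap.rTensor_tmul, retCoact_compl f g hfg,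
      TensorProduct.assoc_tmul, LinearMap.lTensor_tmul, Bialgebra.comul_one,
      Algebra.TensorProduct.one_def]
    congr 1
    have h1 : ∀ y : E ⊗[R] A, (retCoact f g).rTensor A (g.rTensor A y) =
        (g.rTensor A).rTensor A ((rho R A E).rTensor A y) := by
      intro y
      induction y using TensorProduct.induction_on with
      | zero => simp
      | tmul e a => simp [retCoact_g f g hfg]
      | add x y hx hy => simp only [map_add, hx, hy]
    rw [h1, assoc_rTensor_rTensor, coassoc_apply, lTensor_rTensor_comm]
  counit_comp := by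
    ext v
    simp only [LinearMap.comp_apply, LinearMap.flip_apply, TensorProduct.mk_apply]
    rw [retCoact_apply, map_add, LinearMap.lTensor_tmul, Bialgebra.counit_one,
      lTensor_rTensor_comm, counit_apply, LinearMap.rTensor_tmul, ← TensorProduct.add_tmul]
    congr 1
    abel

/-- `f` is a comodule map from the retract comodule -/
theorem isComodHom_retract (f : V →ₗ[R] E) (g : E →ₗ[R] V) (hfg : f ∘ₗ g = LinearMap.id) :
    @Hoch.IsComodHom R _ A _ _ _ V _ _ (retComod f g hfg) E _ _ cE f := by
  unfold Hoch.IsComodHom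
  ext v
  simp only [LinearMap.comp_apply]
  change rho R A E (f v) = f.rTensor A (retCoact f g v)
  have h1 : f (g (f v)) = f v := LinearMap.congr_fun hfg (f v)
  rw [retCoact_apply, map_add, LinearMap.rTensor_tmul, map_sub, h1, sub_self,
    TensorProduct.zero_tmul, add_zero, ← LinearMap.rTensor_comp_apply, hfg,
    LinearMap.rTensor_id, LinearMap.id_apply]

end Retract

section Coef

variable {R : Type u} [CommRing R] {A : Type v} [CommRing A] [HopfAlgebra R A]
  {V : Type w} [AddCommGroup V] [Module R V] {n : ℕ} (b : Module.Basis (Fin n) R V)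
  (c : HopfRep.Comod R A V)

open Groth.Agent.H82.DualComod in
/-- a comodule map to the regular comodule is given by the matrix coefficients -/
theorem hom_basis_eq (F : V →ₗ[R] A)
    (hF : @Hoch.IsComodHom R _ A _ _ _ V _ _ c A _ _ (Comod.regular R A) F) (j : Fin n) :
    F (b j) = ∑ i, Coalgebra.counit (R := R) (F (b i)) • mat b c i j := by
  have h1 : Coalgebra.comul (R := R) (F (b j)) = F.rTensor A (c.coact (b j)) :=
    LinearMap.congr_fun hF (b j)
  rw [coact_basis b c j, map_sum] at h1
  simp only [LinearMap.rTensor_tmul] at h1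
  have h2 := congrArg (fun t => TensorProduct.lid R A
    ((Coalgebra.counit (R := R) (A := A)).rTensor A t)) h1
  simp only [Coalgebra.rTensor_counit_comul, TensorProduct.lid_tmul, one_smul, map_sum,
    LinearMap.rTensor_tmul] at h2
  exact h2

end Coef

section Main

open Groth.Agent.H82.DualComod Groth.Agent.H82.TrigDVR in
theorem main (R : Type u) [CommRing R] [IsNoetherianRing R]
    (A : Type u) [CommRing A] [HopfAlgebra R A] [Module.Flat R A] [Algebra.FiniteType R A]
    (hRE : ∀ (F : Type u) [AddCommGroup F] [Module R F] [HopfRep.Comod R A F] [Module.Finite R F],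
      ∃ (E : Type u) (_ : AddCommGroup E) (_ : Module R E) (_ : HopfRep.Comod R A E) (π : E →ₗ[R] F),
        Module.Finite R E ∧ Module.Projective R E ∧ Function.Surjective π ∧
        HopfRep.Comod.coact (k := R) (A := A) ∘ₗ π = π.rTensor A ∘ₗ HopfRep.Comod.coact (k := R) (A := A) (V := E)) :
    ∃ (d : ℕ) (a : Matrix (Fin d) (Fin d) A),
      (∀ i j, CoalgebraStruct.comul (R := R) (a i j) = ∑ l, a i l ⊗ₜ[R] a l j) ∧
      (∀ i j, CoalgebraStruct.counit (R := R) (a i j) = if i = j then 1 else 0) ∧
      ∃ u : A, u * a.det = 1 ∧ Algebra.adjoin R (Set.range (fun p : Fin d × Fin d => a p.1 p.2) ∪ {u}) = ⊤ := by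
  classical
  obtain ⟨s, hs⟩ := (Algebra.FiniteType.out : (⊤ : Subalgebra R A).FG)
  obtain ⟨L, hLfg, hL, hsL⟩ := exists_fg_subcomod (R := R) (H := A) (fun x : s => (x : A))
  let cL : Comod R A L := subComod L hL
  have : Module.Finite R L := Module.Finite.iff_fg.mpr hLfg
  obtain ⟨E, _, _, cE, π, hEfin, hEproj, hπsurj, hπhom⟩ := hRE L
  obtain ⟨n, f, g, hfsurj, hginj, hfg⟩ := Module.Finite.exists_comp_eq_id_of_projective R E
  let cV : Comod R A (Fin n → R) := retComod f g hfg
  let b : Module.Basis (Fin n) R (Fin n → R) := Pi.basisFun R (Fin n)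
  refine ⟨n, mat b cV, comul_mat b cV, counit_mat b cV, (smat b cV).det, ?_, ?_⟩
  · rw [← Matrix.det_mul, smat_mul_mat, Matrix.det_one]
  · -- the comodule map to the regular comodule
    let F : (Fin n → R) →ₗ[R] A := L.subtype ∘ₗ π ∘ₗ f
    have hF : @Hoch.IsComodHom R _ A _ _ _ (Fin n → R) _ _ cV A _ _ (Comod.regular R A) F := by
      have h1 : @Hoch.IsComodHom R _ A _ _ _ (Fin n → R) _ _ cV E _ _ cE f :=
        isComodHom_retract f g hfg
      have h2 : @Hoch.IsComodHom R _ A _ _ _ E _ _ cE L _ _ cL π := hπhom
      have h3 : @Hoch.IsComodHom R _ A _ _ _ L _ _ cL A _ _ (Comod.regular R A) L.subtype :=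
        isComodHom_subtype L hL
      unfold Hoch.IsComodHom at h1 h2 h3 ⊢
      change _ ∘ₗ (L.subtype ∘ₗ π ∘ₗ f) = (L.subtype ∘ₗ π ∘ₗ f).rTensor A ∘ₗ _
      rw [LinearMap.rTensor_comp, LinearMap.rTensor_comp, ← LinearMap.comp_assoc, h3,
        LinearMap.comp_assoc, ← LinearMap.comp_assoc _ π, h2, LinearMap.comp_assoc,
        LinearMap.comp_assoc, h1]
      simp only [LinearMap.comp_assoc]
    set T : Subalgebra R A :=
      Algebra.adjoin R (Set.range (fun p : Fin n × Fin n => mat b cV p.1 p.2) ∪ {(smat b cV).det})
      with hT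
    have hmat : ∀ i j, mat b cV i j ∈ T := by
      intro i j
      apply Algebra.subset_adjoin
      left
      exact ⟨(i, j), rfl⟩
    have hFb : ∀ j, F (b j) ∈ T := by
      intro j
      rw [hom_basis_eq b cV F hF j]
      exact Subalgebra.sum_mem _ (fun i _ => Subalgebra.smul_mem _ (hmat i j) _)
    have hFv : ∀ v : Fin n → R, F v ∈ T := by
      intro v
      have hv : v = ∑ j, v j • b j := by
        have := (b.sum_repr v).symm
        simpa [b] using this
      rw [hv, map_sum]
      refine Subalgebra.sum_mem _ (fun j _ => ?_)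
      rw [map_smul]
      exact Subalgebra.smul_mem _ (hFb j) _
    rw [eq_top_iff, ← hs]
    apply Algebra.adjoin_le
    intro x hx
    obtain ⟨e, he⟩ := hπsurj ⟨x, hsL ⟨x, hx⟩⟩
    have hxF : x = F (g e) := by
      change x = L.subtype (π (f (g e)))
      have h1 : f (g e) = e := LinearMap.congr_fun hfg e
      rw [h1, he]
      rfl
    rw [SetLike.mem_coe, hxF]
    exact hFv (g e)

end Main

end Groth.Agent.H82.GLnRes
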