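import Mathlib
import Groth.Agent.H40.SubComod
import Groth.Prelude.Def_SGA3t2b

set_option autoImplicit false

namespace Groth.Agent.H82.MultUnip

open TensorProduct Groth.Agent.H40 HopfRep

universe u v

section Diag

variable {K : Type u} {C : Type v} [Field K] [CommRing C] [Bialgebra K C]

/-- a primitive element has counit zero -/
lemma counit_primitive {c : C}
    (hc : Coalgebra.comul (R := K) c = c ⊗ₜ[K] (1 : C) + (1 : C) ⊗ₜ[K] c) :
    Coalgebra.counit (R := K) c = 0 := by
  have h := congrArg (TensorProduct.lid K C ∘ (Coalgebra.counit (R := K) (A := C)).rTensor C) hc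
  simp only [Function.comp_apply, Coalgebra.rTensor_counit_comul, map_add,
    LinearMap.rTensor_tmul, TensorProduct.lid_tmul, one_smul, Bialgebra.counit_one] at h
  have h2 : Coalgebra.counit (R := K) c • (1 : C) = 0 := by
    have := sub_eq_zero.mpr h
    simpa using this.symm
  have h3 := congrArg (Coalgebra.counit (R := K)) h2
  simpa [Bialgebra.counit_one] using h3

/-- a bialgebra spanned by its group-like elements has no nonzero primitive elements -/
theorem primitive_eq_zero_of_span_groupLike
    (hC : Submodule.span K {a : C | IsGroupLikeElem K a} = ⊤) {c : C}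
    (hc : Coalgebra.comul (R := K) c = c ⊗ₜ[K] (1 : C) + (1 : C) ⊗ₜ[K] c) : c = 0 := by
  classical
  have hli : LinearIndependent K (fun γ : {a : C | IsGroupLikeElem K a} => (γ : C)) :=
    linearIndepOn_isGroupLikeElem (R := K) (A := C)
  have hsp : ⊤ ≤ Submodule.span K (Set.range fun γ : {a : C | IsGroupLikeElem K a} => (γ : C)) := by
    rw [Subtype.range_coe_subtype]
    exact hC.ge
  let b := Module.Basis.mk hli hsp
  have hb : ∀ γ, b γ = (γ : C) := fun γ => by simp [b]
  have h1 : IsGroupLikeElem K (1 : C) := ⟨Bialgebra.counit_one, Bialgebra.comul_one⟩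
  set one : {a : C | IsGroupLikeElem K a} := ⟨1, h1⟩ with hone
  have key : ∀ γ₀ : {a : C | IsGroupLikeElem K a}, γ₀ ≠ one → b.coord γ₀ c = 0 := by
    intro γ₀ hγ₀
    set θ := b.coord γ₀ with hθ
    let m : C ⊗[K] C →ₗ[K] K := LinearMap.mul' K K ∘ₗ TensorProduct.map θ θ
    have hm : m ∘ₗ Coalgebra.comul (R := K) = θ := by
      apply b.ext
      intro γ
      have hγ : Coalgebra.comul (R := K) (b γ) = b γ ⊗ₜ[K] b γ := by
        rw [hb]; exact γ.2.comul_eq_tmul_self
      simp only [LinearMap.coe_comp, Function.comp_apply, hγ, m, TensorProduct.map_tmul,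
        LinearMap.mul'_apply, hθ, Module.Basis.coord_apply, Module.Basis.repr_self]
      by_cases h : γ = γ₀
      · subst h; simp
      · simp [h]
    have hθ1 : θ 1 = 0 := by
      have : (1 : C) = b one := (hb one).symm
      rw [this, hθ, Module.Basis.coord_apply, Module.Basis.repr_self, Finsupp.single_apply,
        if_neg (Ne.symm hγ₀)]
    have := LinearMap.congr_fun hm c
    rw [LinearMap.comp_apply, hc] at this
    simp only [m, map_add, LinearMap.coe_comp, Function.comp_apply, TensorProduct.map_tmul,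
      LinearMap.mul'_apply, hθ1, mul_zero, zero_mul, add_zero] at this
    exact this.symm
  have hrepr : b.repr c = Finsupp.single one (b.repr c one) := by
    ext γ
    by_cases h : γ = one
    · subst h; simp
    · rw [Finsupp.single_apply, if_neg (Ne.symm h)]
      exact key γ h
  have hc1 : c = (b.repr c one) • (1 : C) := by
    conv_lhs => rw [← b.linearCombination_repr c, hrepr, Finsupp.linearCombination_single, hb]
  have h0 := counit_primitive hc
  rw [hc1, map_smul, Bialgebra.counit_one, smul_eq_mul, mul_one] at h0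
  rw [hc1, h0, zero_smul]

end Diag

section BaseChange

variable (k : Type u) (R : Type u) (C : Type u) [Field k] [CommRing R] [Algebra k R]
  [CommRing C] [Bialgebra k C]

/-- comultiplication of the base change, via `distribBaseChange` -/
lemma comul_baseChange (y : R ⊗[k] C) :
    Coalgebra.comul (R := R) y =
      TensorProduct.AlgebraTensorModule.distribBaseChange k R C C
        ((Coalgebra.comul (R := k) (A := C)).lTensor R y) := by
  induction y using TensorProduct.induction_on with
  | zero => simp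
  | add x y hx hy => simp only [map_add, hx, hy]
  | tmul r c =>
    rw [TensorProduct.comul_tmul, LinearMap.lTensor_tmul, CommSemiring.comul_apply]
    generalize Coalgebra.comul (R := k) c = t
    induction t using TensorProduct.induction_on with
    | zero => simp
    | add x y hx hy => simp only [TensorProduct.tmul_add, map_add, hx, hy]
    | tmul c₁ c₂ =>
      rw [TensorProduct.AlgebraTensorModule.tensorTensorTensorComm_tmul,
        TensorProduct.AlgebraTensorModule.distribBaseChange_tmul]
      have h1 : (r ⊗ₜ[k] c₂ : R ⊗[k] C) = r • ((1 : R) ⊗ₜ[k] c₂) := by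
        rw [TensorProduct.smul_tmul', smul_eq_mul, mul_one]
      have h2 : (r ⊗ₜ[k] c₁ : R ⊗[k] C) = r • ((1 : R) ⊗ₜ[k] c₁) := by
        rw [TensorProduct.smul_tmul', smul_eq_mul, mul_one]
      rw [h1, h2, TensorProduct.tmul_smul, TensorProduct.smul_tmul']

end BaseChange

section Prim

variable (k : Type u) (R : Type u) (C : Type u) [Field k] [CommRing R] [Algebra k R]
  [CommRing C] [Bialgebra k C]

/-- the defect-of-primitivity map -/
noncomputable def dmap : C →ₗ[k] C ⊗[k] C :=
  Coalgebra.comul (R := k) (A := C) - (TensorProduct.mk k C C).flip 1 - TensorProduct.mk k C C 1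

lemma dmap_apply (c : C) :
    dmap k C c = Coalgebra.comul (R := k) c - c ⊗ₜ[k] (1 : C) - (1 : C) ⊗ₜ[k] c := by
  simp [dmap]

lemma distrib_flip_one (y : R ⊗[k] C) :
    TensorProduct.AlgebraTensorModule.distribBaseChange k R C C
      (((TensorProduct.mk k C C).flip 1).lTensor R y) = y ⊗ₜ[R] (1 : R ⊗[k] C) := by
  induction y using TensorProduct.induction_on with
  | zero => simp
  | add x y hx hy => simp only [map_add, hx, hy, TensorProduct.add_tmul]
  | tmul r c =>
    rw [LinearMap.lTensor_tmul, LinearMap.flip_apply, TensorProduct.mk_apply,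
      TensorProduct.AlgebraTensorModule.distribBaseChange_tmul, Algebra.TensorProduct.one_def]

lemma distrib_mk_one (y : R ⊗[k] C) :
    TensorProduct.AlgebraTensorModule.distribBaseChange k R C C
      ((TensorProduct.mk k C C 1).lTensor R y) = (1 : R ⊗[k] C) ⊗ₜ[R] y := by
  induction y using TensorProduct.induction_on with
  | zero => simp
  | add x y hx hy => simp only [map_add, hx, hy, TensorProduct.tmul_add]
  | tmul r c =>
    rw [LinearMap.lTensor_tmul, TensorProduct.mk_apply,
      TensorProduct.AlgebraTensorModule.distribBaseChange_tmul, Algebra.TensorProduct.one_def]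
    have h1 : (r ⊗ₜ[k] c : R ⊗[k] C) = r • ((1 : R) ⊗ₜ[k] c) := by
      rw [TensorProduct.smul_tmul', smul_eq_mul, mul_one]
    have h2 : (r ⊗ₜ[k] (1 : C) : R ⊗[k] C) = r • ((1 : R) ⊗ₜ[k] (1 : C)) := by
      rw [TensorProduct.smul_tmul', smul_eq_mul, mul_one]
    rw [h1, h2, TensorProduct.tmul_smul, ← TensorProduct.smul_tmul']

lemma distrib_lTensor_dmap (y : R ⊗[k] C) :
    TensorProduct.AlgebraTensorModule.distribBaseChange k R C C ((dmap k C).lTensor R y) =
      Coalgebra.comul (R := R) y - y ⊗ₜ[R] (1 : R ⊗[k] C) - (1 : R ⊗[k] C) ⊗ₜ[R] y := by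
  rw [comul_baseChange, ← distrib_flip_one, ← distrib_mk_one]
  unfold dmap
  rw [LinearMap.lTensor_sub, LinearMap.lTensor_sub, LinearMap.sub_apply, LinearMap.sub_apply,
    map_sub, map_sub]

/-- if `C` has no nonzero primitive elements, neither has any base change `R ⊗ C` -/
theorem primitive_baseChange_eq_zero
    (hC : ∀ c : C, Coalgebra.comul (R := k) c = c ⊗ₜ[k] (1 : C) + (1 : C) ⊗ₜ[k] c → c = 0)
    (y : R ⊗[k] C)
    (hy : Coalgebra.comul (R := R) y = y ⊗ₜ[R] (1 : R ⊗[k] C) + (1 : R ⊗[k] C) ⊗ₜ[R] y) :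
    y = 0 := by
  have hinj : Function.Injective (dmap k C) := by
    rw [← LinearMap.ker_eq_bot, LinearMap.ker_eq_bot']
    intro c hc
    apply hC
    rw [dmap_apply] at hc
    have := sub_eq_zero.mp hc
    rw [sub_eq_iff_eq_add] at this
    rw [this]; abel
  have hinj2 : Function.Injective ((dmap k C).lTensor R) :=
    Module.Flat.lTensor_preserves_injective_linearMap _ hinj
  apply hinj2
  apply (TensorProduct.AlgebraTensorModule.distribBaseChange k R C C).injective
  rw [distrib_lTensor_dmap, hy, map_zero, map_zero]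
  abel

/-- descent: if a base change `K ⊗ C` to a field is spanned by group-likes, `C` has no nonzero
primitive elements -/
theorem primitive_eq_zero_of_baseChange (K : Type u) [Field K] [Algebra k K]
    (hK : Submodule.span K {a : K ⊗[k] C | IsGroupLikeElem K a} = ⊤) (c : C)
    (hc : Coalgebra.comul (R := k) c = c ⊗ₜ[k] (1 : C) + (1 : C) ⊗ₜ[k] c) : c = 0 := by
  have h1 : Coalgebra.comul (R := K) ((1 : K) ⊗ₜ[k] c) =
      ((1 : K) ⊗ₜ[k] c) ⊗ₜ[K] (1 : K ⊗[k] C) + (1 : K ⊗[k] C) ⊗ₜ[K] ((1 : K) ⊗ₜ[k] c) := by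
    rw [comul_baseChange, LinearMap.lTensor_tmul, hc, TensorProduct.tmul_add, map_add,
      TensorProduct.AlgebraTensorModule.distribBaseChange_tmul,
      TensorProduct.AlgebraTensorModule.distribBaseChange_tmul, Algebra.TensorProduct.one_def]
  have h2 := primitive_eq_zero_of_span_groupLike hK h1
  have hinj : Function.Injective (Algebra.TensorProduct.includeRight : C →ₐ[k] K ⊗[k] C) :=
    Algebra.TensorProduct.includeRight_injective (algebraMap k K).injective
  apply hinj
  rw [map_zero]
  exact h2

end Prim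

section Main

variable (k : Type u) (AM AU : Type u) [Field k] [CommRing AM] [CommRing AU]
  [Bialgebra k AM] [Bialgebra k AU]

variable (R : Type u) [CommRing R] [Algebra k R]

variable {k AM AU R}

/-- `a ⊗ b ↦ φ(1⊗a) ⊗_R φ(1⊗b)` -/
noncomputable def Psi2 (φ : R ⊗[k] AU →ₐc[R] R ⊗[k] AM) :
    AU ⊗[k] AU →ₗ[k] (R ⊗[k] AM) ⊗[R] (R ⊗[k] AM) :=
  ((TensorProduct.map (φ : R ⊗[k] AU →ₗ[R] R ⊗[k] AM)
      (φ : R ⊗[k] AU →ₗ[R] R ⊗[k] AM)).restrictScalars k) ∘ₗ
    ((TensorProduct.AlgebraTensorModule.distribBaseChange k R AU AU).toLinearMap.restrictScalars k) ∘ₗ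
      (TensorProduct.mk k R (AU ⊗[k] AU) 1)

lemma Psi2_tmul (φ : R ⊗[k] AU →ₐc[R] R ⊗[k] AM) (a b : AU) :
    Psi2 φ (a ⊗ₜ[k] b) = φ ((1 : R) ⊗ₜ[k] a) ⊗ₜ[R] φ ((1 : R) ⊗ₜ[k] b) := by
  simp [Psi2]

lemma comul_psi (φ : R ⊗[k] AU →ₐc[R] R ⊗[k] AM) (a : AU) :
    Coalgebra.comul (R := R) (φ ((1 : R) ⊗ₜ[k] a)) = Psi2 φ (Coalgebra.comul (R := k) a) := by
  have := LinearMap.congr_fun (CoalgHomClass.map_comp_comul φ) ((1 : R) ⊗ₜ[k] a)
  simp only [LinearMap.coe_comp, Function.comp_apply] at this
  erw [← this]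
  rw [comul_baseChange, LinearMap.lTensor_tmul]
  rfl

lemma phi_smul (φ : R ⊗[k] AU →ₐc[R] R ⊗[k] AM) (e : k) (x : R ⊗[k] AU) :
    φ (e • x) = e • φ x := by
  rw [← algebraMap_smul R e x, map_smul, algebraMap_smul]

/-- the main induction: a bialgebra map from a unipotent group to a group without primitive
functions is trivial on `1 ⊗ a` -/
theorem apply_one_tmul (hU : IsUnipotent k AU)
    (hP : ∀ y : R ⊗[k] AM, Coalgebra.comul (R := R) y =
      y ⊗ₜ[R] (1 : R ⊗[k] AM) + (1 : R ⊗[k] AM) ⊗ₜ[R] y → y = 0)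
    (φ : R ⊗[k] AU →ₐc[R] R ⊗[k] AM) (a : AU) :
    φ ((1 : R) ⊗ₜ[k] a) = Coalgebra.counit (R := k) a • (1 : R ⊗[k] AM) := by
  classical
  set W : Submodule k AU := cyc k AU a with hWdef
  have hW : IsSubcomod (k := k) (A := AU) W := isSubcomod_cyc a
  let _ : Comod k AU W := subComod W hW
  have _ : Module.Finite k W := finite_cyc a
  obtain ⟨m, F, hmono, h0, hm, hsub, hgr⟩ := hasFlag_of_isUnipotent hU _ W rfl
  have key : ∀ i : ℕ, ∀ v ∈ F i,
      φ ((1 : R) ⊗ₜ[k] (v : AU)) = Coalgebra.counit (R := k) (v : AU) • (1 : R ⊗[k] AM) := by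
    intro i
    induction i with
    | zero =>
      intro v hv
      rw [h0, Submodule.mem_bot] at hv
      rw [hv]
      simp
    | succ i ih =>
      intro v hv
      obtain ⟨y, hy⟩ := hgr i v hv
      have h1 : Coalgebra.comul (R := k) (v : AU) - (v : AU) ⊗ₜ[k] (1 : AU) =
          (W.subtype ∘ₗ (F i).subtype).rTensor AU y := by
        have hsc : W.subtype.rTensor AU (Comod.coact (k := k) (A := AU) v) =
            Coalgebra.comul (R := k) (v : AU) := subtype_rTensor_subCoact W hW v
        rw [LinearMap.rTensor_comp, LinearMap.comp_apply, hy, map_sub, LinearMap.rTensor_tmul, hsc]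
        rfl
      have hs : ∀ y : ↥(F i) ⊗[k] AU,
          Psi2 φ ((W.subtype ∘ₗ (F i).subtype).rTensor AU y) =
            (1 : R ⊗[k] AM) ⊗ₜ[R] φ ((1 : R) ⊗ₜ[k]
              lslice AU (Coalgebra.counit (R := k) (A := AU))
                ((W.subtype ∘ₗ (F i).subtype).rTensor AU y)) := by
        intro y
        induction y using TensorProduct.induction_on with
        | zero => simp
        | add x y hx hy =>
          simp only [map_add, hx, hy, TensorProduct.tmul_add]
        | tmul u b =>
          rw [LinearMap.rTensor_tmul, Psi2_tmul, lslice_tmul]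
          have := ih u.1 u.2
          simp only [LinearMap.coe_comp, Function.comp_apply, Submodule.subtype_apply] at this ⊢
          rw [this, TensorProduct.tmul_smul, phi_smul, ← TensorProduct.smul_tmul',
            TensorProduct.tmul_smul]
      set c : AU := lslice AU (Coalgebra.counit (R := k) (A := AU))
        (Coalgebra.comul (R := k) (v : AU) - (v : AU) ⊗ₜ[k] (1 : AU)) with hc
      have hc' : c = (v : AU) - Coalgebra.counit (R := k) (v : AU) • (1 : AU) := by
        rw [hc, map_sub, lslice_tmul]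
        congr 1
        unfold lslice
        simp only [LinearMap.coe_comp, LinearEquiv.coe_coe, Function.comp_apply]
        rw [Coalgebra.rTensor_counit_comul]
        simp
      set z : R ⊗[k] AM := φ ((1 : R) ⊗ₜ[k] (v : AU)) with hz
      set e : k := Coalgebra.counit (R := k) (v : AU) with he
      have hφc : φ ((1 : R) ⊗ₜ[k] c) = z - e • (1 : R ⊗[k] AM) := by
        rw [hc', TensorProduct.tmul_sub, map_sub, TensorProduct.tmul_smul, phi_smul,
          ← Algebra.TensorProduct.one_def, map_one]
      have hΔz : Coalgebra.comul (R := R) z =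
          z ⊗ₜ[R] (1 : R ⊗[k] AM) + (1 : R ⊗[k] AM) ⊗ₜ[R] (z - e • (1 : R ⊗[k] AM)) := by
        rw [hz, comul_psi]
        have : Coalgebra.comul (R := k) (v : AU) = (v : AU) ⊗ₜ[k] (1 : AU) +
            (Coalgebra.comul (R := k) (v : AU) - (v : AU) ⊗ₜ[k] (1 : AU)) := by abel
        rw [this, map_add, Psi2_tmul, h1, hs y, ← h1, ← hc, hφc, ← hz,
          ← Algebra.TensorProduct.one_def, map_one]
      have hprim : Coalgebra.comul (R := R) (z - e • (1 : R ⊗[k] AM)) =
          (z - e • (1 : R ⊗[k] AM)) ⊗ₜ[R] (1 : R ⊗[k] AM) +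
            (1 : R ⊗[k] AM) ⊗ₜ[R] (z - e • (1 : R ⊗[k] AM)) := by
        have h11 : (1 : (R ⊗[k] AM) ⊗[R] (R ⊗[k] AM)) =
            (1 : R ⊗[k] AM) ⊗ₜ[R] (1 : R ⊗[k] AM) := Algebra.TensorProduct.one_def
        rw [map_sub, hΔz, LinearMap.map_smul_of_tower, Bialgebra.comul_one, TensorProduct.sub_tmul,
          ← TensorProduct.smul_tmul', h11]
        abel
      have := hP _ hprim
      exact sub_eq_zero.mp this
  have := key m ⟨a, mem_cyc_self a⟩ (by rw [hm]; trivial)
  exact this

end Main

section Final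

/-- S7966: every homomorphism from (a base change of) a group of multiplicative type to (the base
change of) a unipotent group is trivial. -/
theorem main (k AM AU : Type u) [Field k]
    [CommRing AM] [CommRing AU] [HopfAlgebra k AM] [HopfAlgebra k AU]
    (hM : HopfRep.IsDiagonalizable (AlgebraicClosure k) (AlgebraicClosure k ⊗[k] AM))
    (hU : HopfRep.IsUnipotent k AU)
    (R : Type u) [CommRing R] [Algebra k R] (φ : R ⊗[k] AU →ₐc[R] R ⊗[k] AM) :
    SGA3t2b.IsTrivialBialgHom φ := by
  intro x
  have hP0 := primitive_eq_zero_of_baseChange k AM (AlgebraicClosure k) hM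
  have hP := primitive_baseChange_eq_zero k R AM hP0
  induction x using TensorProduct.induction_on with
  | zero => simp
  | add x y hx hy => rw [map_add, hx, hy, map_add, map_add]
  | tmul r a =>
    have h1 : r ⊗ₜ[k] a = r • ((1 : R) ⊗ₜ[k] a) := by
      rw [TensorProduct.smul_tmul', smul_eq_mul, mul_one]
    rw [h1, map_smul, apply_one_tmul hU hP φ a, map_smul, TensorProduct.counit_tmul,
      CommSemiring.counit_apply, Algebra.algebraMap_eq_smul_one, smul_assoc, smul_assoc, one_smul]

end Final

end Groth.Agent.H82.MultUnip
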