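import Groth.Agent.H82.FlagApps
import Groth.Agent.H82.MultUnip

/-! Base change of subcomodules of the regular comodule; trigonalizable/unipotent under field
extension. -/

set_option autoImplicit false
universe u v w

open TensorProduct HopfRep

namespace Groth.Agent.H82.FlagBC

open Groth.Agent.H40 Groth.Agent.H82.FlagSimple Groth.Agent.H82.FlagApps

section BC

variable {k : Type u} [Field k] {K : Type u} [Field K] [Algebra k K]
  {A : Type u} [CommRing A] [Bialgebra k A]

lemma slice_dbc_tmul (ψ : K ⊗[k] A →ₗ[K] K) (c : K) (a b : A) :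
    slice (K ⊗[k] A) ψ
      (TensorProduct.AlgebraTensorModule.distribBaseChange k K A A (c ⊗ₜ[k] (a ⊗ₜ[k] b))) =
      ψ ((1 : K) ⊗ₜ[k] b) • (c ⊗ₜ[k] a) := by
  rw [TensorProduct.AlgebraTensorModule.distribBaseChange_tmul, slice_tmul]

lemma slice_dbc_mem (U : Submodule k A) (t : A ⊗[k] A)
    (ht : t ∈ LinearMap.range (U.subtype.rTensor A)) (ψ : K ⊗[k] A →ₗ[K] K) (c : K) :
    slice (K ⊗[k] A) ψ
      (TensorProduct.AlgebraTensorModule.distribBaseChange k K A A (c ⊗ₜ[k] t)) ∈
      U.baseChange K := by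
  obtain ⟨y, rfl⟩ := ht
  induction y using TensorProduct.induction_on with
  | zero => simp
  | tmul u a =>
    rw [LinearMap.rTensor_tmul, Submodule.subtype_apply, slice_dbc_tmul]
    exact Submodule.smul_mem _ _ (Submodule.tmul_mem_baseChange_of_mem c u.2)
  | add x y hx hy =>
    rw [map_add, TensorProduct.tmul_add, map_add, map_add]
    exact Submodule.add_mem _ hx hy

/-- base change of a subcomodule of the regular comodule -/
theorem isSubcomod_baseChange (U : Submodule k A) (hU : IsSubcomod (k := k) (A := A) U) :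
    IsSubcomod (k := K) (A := K ⊗[k] A) (U.baseChange K) := by
  rw [isSubcomod_iff_slice]
  intro w hw ψ
  obtain ⟨z, rfl⟩ := hw
  induction z using TensorProduct.induction_on with
  | zero => simp
  | tmul c u =>
    rw [LinearMap.baseChange_tmul, Submodule.subtype_apply]
    change slice (K ⊗[k] A) ψ (Coalgebra.comul (R := K) (c ⊗ₜ[k] (u : A))) ∈ _
    rw [Groth.Agent.H82.MultUnip.comul_baseChange, LinearMap.lTensor_tmul]
    exact slice_dbc_mem U _ (hU u u.2) ψ c
  | add x y hx hy =>
    rw [map_add, map_add, map_add]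
    exact Submodule.add_mem _ hx hy

/-- trivial layers stay trivial after base change -/
theorem trivial_layer_baseChange (U U' : Submodule k A)
    (h : ∀ v ∈ U', Coalgebra.comul (R := k) v - v ⊗ₜ[k] (1 : A) ∈
      LinearMap.range (U.subtype.rTensor A)) :
    ∀ w ∈ U'.baseChange K, Coalgebra.comul (R := K) w - w ⊗ₜ[K] (1 : K ⊗[k] A) ∈
      LinearMap.range ((U.baseChange K).subtype.rTensor (K ⊗[k] A)) := by
  intro w hw
  rw [mem_range_rTensor_subtype_iff]
  intro ψ
  obtain ⟨z, rfl⟩ := hw
  induction z using TensorProduct.induction_on with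
  | zero => simp
  | tmul c u =>
    rw [LinearMap.baseChange_tmul, Submodule.subtype_apply]
    have h1 : Coalgebra.comul (R := K) (c ⊗ₜ[k] (u : A)) -
        (c ⊗ₜ[k] (u : A)) ⊗ₜ[K] (1 : K ⊗[k] A) =
        TensorProduct.AlgebraTensorModule.distribBaseChange k K A A
          (c ⊗ₜ[k] (Coalgebra.comul (R := k) (u : A) - (u : A) ⊗ₜ[k] (1 : A))) := by
      rw [Groth.Agent.H82.MultUnip.comul_baseChange, LinearMap.lTensor_tmul,
        TensorProduct.tmul_sub, map_sub,
        TensorProduct.AlgebraTensorModule.distribBaseChange_tmul, Algebra.TensorProduct.one_def]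
    rw [h1]
    exact slice_dbc_mem U _ (h u u.2) ψ c
  | add x y hx hy =>
    rw [map_add, map_add, TensorProduct.add_tmul, add_sub_add_comm, map_add]
    exact Submodule.add_mem _ hx hy

lemma baseChange_sup_span_le (F : Submodule k A) (x : A) :
    (F ⊔ Submodule.span k {x}).baseChange K ≤
      F.baseChange K ⊔ Submodule.span K {(1 : K) ⊗ₜ[k] x} := by
  rw [Submodule.baseChange_eq_span, Submodule.span_le]
  rintro _ ⟨m, hm, rfl⟩
  obtain ⟨f, hf, y, hy, rfl⟩ := Submodule.mem_sup.mp hm
  obtain ⟨a, rfl⟩ := Submodule.mem_span_singleton.mp hy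
  rw [map_add]
  apply Submodule.add_mem
  · exact (le_sup_left : F.baseChange K ≤ _) (Submodule.tmul_mem_baseChange_of_mem 1 hf)
  · apply (le_sup_right : Submodule.span K {(1 : K) ⊗ₜ[k] x} ≤ _)
    change (1 : K) ⊗ₜ[k] (a • x) ∈ _
    rw [TensorProduct.tmul_smul, ← algebraMap_smul K a ((1 : K) ⊗ₜ[k] x)]
    exact Submodule.smul_mem _ _ (Submodule.mem_span_singleton_self _)

/-- a finitely generated `K`-subspace of `K ⊗ A` lies in the base change of a finite-dimensional
subcomodule of `A` -/
theorem exists_le_baseChange (X : Submodule K (K ⊗[k] A)) [Module.Finite K X] :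
    ∃ V₀ : Submodule k A, IsSubcomod (k := k) (A := A) V₀ ∧ Module.Finite k V₀ ∧
      X ≤ V₀.baseChange K := by
  classical
  let b := Module.finBasis K X
  choose S hS using fun i => TensorProduct.exists_finset ((b i : X) : K ⊗[k] A)
  let ι := Σ i : Fin (Module.finrank K X), ↥(S i)
  let f : ι → A := fun p => (p.2 : K × A).2
  obtain ⟨V₀, hV₀, hV₀fin, hfV₀⟩ := Groth.Agent.H82.Chev.exists_finite_subcomod
    (k := k) (C := A) (V := A) f
  refine ⟨V₀, hV₀, hV₀fin, ?_⟩
  intro x hx
  have hx' : (⟨x, hx⟩ : X) ∈ Submodule.span K (Set.range b) := by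
    rw [b.span_eq]; exact Submodule.mem_top
  have : x ∈ Submodule.map X.subtype (Submodule.span K (Set.range b)) := ⟨⟨x, hx⟩, hx', rfl⟩
  rw [Submodule.map_span] at this
  refine Submodule.span_le.mpr ?_ this
  rintro _ ⟨_, ⟨i, rfl⟩, rfl⟩
  change ((b i : X) : K ⊗[k] A) ∈ _
  rw [hS i]
  apply Submodule.sum_mem
  intro p hp
  exact Submodule.tmul_mem_baseChange_of_mem _ (hfV₀ ⟨i, ⟨p, hp⟩⟩)

end BC

section Helpers

variable {k : Type u} [Field k] {A : Type v} [CommRing A] [Bialgebra k A]
variable {V : Type w} [AddCommGroup V] [Module k V] [Comod k A V]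

omit [Comod k A V] in
lemma rTensor_range_map {W : Type*} [AddCommGroup W] [Module k W] (f : V →ₗ[k] W)
    (U : Submodule k V) (z : V ⊗[k] A) (hz : z ∈ LinearMap.range (U.subtype.rTensor A)) :
    f.rTensor A z ∈ LinearMap.range ((U.map f).subtype.rTensor A) := by
  rw [mem_range_rTensor_subtype_iff] at hz ⊢
  intro ψ
  rw [slice_rTensor]
  exact ⟨_, hz ψ, rfl⟩

/-- if a subcomodule embeds in the regular comodule with image consisting of fixed vectors,
its elements are fixed vectors -/
theorem fixed_of_regular_fixed (S : Submodule k V) (hS : IsSubcomod (k := k) (A := A) S)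
    (j : S →ₗ[k] A)
    (hj : @Hoch.IsComodHom k _ A _ _ _ S _ _ (Groth.Agent.H62.subComod S hS) A _ _
      (Comod.regular k A) j)
    (hjinj : Function.Injective j)
    (hfix : ∀ s : S, Coalgebra.comul (R := k) (j s) = j s ⊗ₜ[k] (1 : A)) (s : S) :
    (s : V) ∈ fixedPts k A V := by
  change Comod.coact (k := k) (A := A) (s : V) = (s : V) ⊗ₜ[k] (1 : A)
  rw [← Groth.Agent.H62.subtype_subCoact S hS s]
  have h1 : j.rTensor A (Groth.Agent.H62.subCoact S hS s) = j.rTensor A (s ⊗ₜ[k] (1 : A)) := by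
    rw [LinearMap.rTensor_tmul, ← hfix s]
    exact (LinearMap.congr_fun hj s).symm
  have h2 := Module.Flat.rTensor_preserves_injective_linearMap (M := A) j hjinj h1
  rw [h2, LinearMap.rTensor_tmul, Submodule.subtype_apply]

end Helpers

section Main

variable {k : Type u} [Field k] {K : Type u} [Field K] [Algebra k K]
  {A : Type u} [CommRing A] [Bialgebra k A]

/-- S7959 -/
theorem trig_baseChange (hT : IsTrigonalizable k A) : IsTrigonalizable K (K ⊗[k] A) := by
  intro W' _ _ cW hfin hs
  obtain ⟨j, hj, hjinj⟩ := exists_embedding_regular hs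
  have hX : IsSimpleSub K (K ⊗[k] A) (LinearMap.range j) := isSimpleSub_range hs j hj hjinj
  obtain ⟨V₀, hV₀, hV₀fin, hXle⟩ := exists_le_baseChange (LinearMap.range j)
  letI cV₀ : Comod k A V₀ := subComod V₀ hV₀
  obtain ⟨n, F, hF0, hFn, hFsub, hFstep⟩ := exists_flag_gen hT V₀
  let G : ℕ → Submodule K (K ⊗[k] A) := fun i => ((F i).map V₀.subtype).baseChange K
  have hG0 : G 0 = ⊥ := by
    change ((F 0).map V₀.subtype).baseChange K = ⊥
    rw [hF0, Submodule.map_bot, Submodule.baseChange_bot]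
  have hGsub : ∀ i, IsSubcomod (k := K) (A := K ⊗[k] A) (G i) := fun i =>
    isSubcomod_baseChange _ (isSubcomod_map (isComodHom_subtype V₀ hV₀) (hFsub i))
  have hGn : LinearMap.range j ≤ G n := by
    change _ ≤ ((F n).map V₀.subtype).baseChange K
    rw [hFn, Submodule.map_subtype_top]
    exact hXle
  obtain ⟨i, hi, hle, hdisj⟩ := exists_layer G hG0 hGsub _ hX n hGn
  obtain ⟨x, hx⟩ := hFstep i hi
  have hGstep : G (i + 1) ≤ G i ⊔ Submodule.span K {(1 : K) ⊗ₜ[k] (x : A)} := by
    change ((F (i + 1)).map V₀.subtype).baseChange K ≤ _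
    rw [hx, Submodule.map_sup, Submodule.map_span, Set.image_singleton]
    exact baseChange_sup_span_le _ _
  have h1 : Module.finrank K (LinearMap.range j) ≤ 1 :=
    finrank_le_one_of_layer hdisj _ (hle.trans hGstep)
  have h2 : Module.finrank K (LinearMap.range j) = Module.finrank K W' :=
    LinearMap.finrank_range_of_inj hjinj
  have h3 : 0 < Module.finrank K W' := by
    haveI := hs.1
    exact Module.finrank_pos
  omega

/-- S7951, forward direction -/
theorem unip_baseChange (hU : IsUnipotent k A) : IsUnipotent K (K ⊗[k] A) := by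
  intro V' _ _ cV hfin hnt
  obtain ⟨S, hS, hsimple⟩ := Groth.Agent.H83.exists_simple_subcomod (k := K) (A := K ⊗[k] A) V'
  letI cS : Comod K (K ⊗[k] A) S := Groth.Agent.H62.subComod S hS
  obtain ⟨j, hj, hjinj⟩ := exists_embedding_regular hsimple
  have hX : IsSimpleSub K (K ⊗[k] A) (LinearMap.range j) := isSimpleSub_range hsimple j hj hjinj
  obtain ⟨V₀, hV₀, hV₀fin, hXle⟩ := exists_le_baseChange (LinearMap.range j)
  letI cV₀ : Comod k A V₀ := subComod V₀ hV₀
  obtain ⟨m, F, hmono, hF0, hFm, hFsub, htriv⟩ :=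
    hasFlag_of_isUnipotent hU (Module.finrank k V₀) V₀ rfl
  let G : ℕ → Submodule K (K ⊗[k] A) := fun i => ((F i).map V₀.subtype).baseChange K
  have hG0 : G 0 = ⊥ := by
    change ((F 0).map V₀.subtype).baseChange K = ⊥
    rw [hF0, Submodule.map_bot, Submodule.baseChange_bot]
  have hGsub : ∀ i, IsSubcomod (k := K) (A := K ⊗[k] A) (G i) := fun i =>
    isSubcomod_baseChange _ (isSubcomod_map (isComodHom_subtype V₀ hV₀) (hFsub i))
  have hGm : LinearMap.range j ≤ G m := by
    change _ ≤ ((F m).map V₀.subtype).baseChange K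
    rw [hFm, Submodule.map_subtype_top]
    exact hXle
  obtain ⟨i, hi, hle, hdisj⟩ := exists_layer G hG0 hGsub _ hX m hGm
  have hlayer : ∀ v ∈ (F (i + 1)).map V₀.subtype,
      Coalgebra.comul (R := k) v - v ⊗ₜ[k] (1 : A) ∈
        LinearMap.range (((F i).map V₀.subtype).subtype.rTensor A) := by
    rintro _ ⟨v', hv', rfl⟩
    have h1 := rTensor_range_map (A := A) V₀.subtype (F i) _ (htriv i v' hv')
    rw [map_sub, LinearMap.rTensor_tmul] at h1
    have h2 : V₀.subtype.rTensor A (Comod.coact (k := k) (A := A) v') =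
        Coalgebra.comul (R := k) (V₀.subtype v') := subtype_rTensor_subCoact V₀ hV₀ v'
    rw [h2] at h1
    exact h1
  have hfix : ∀ s : S, Coalgebra.comul (R := K) (j s) = j s ⊗ₜ[K] (1 : K ⊗[k] A) := by
    intro s
    have hmem : j s ∈ LinearMap.range j := ⟨s, rfl⟩
    exact coact_eq_of_layer (V := K ⊗[k] A) hX.1 hdisj 1 (j s) hmem
      (trivial_layer_baseChange _ _ hlayer _ (hle hmem))
  haveI := hsimple.1
  obtain ⟨s, hs⟩ := exists_ne (0 : S)
  intro hbot
  have hmem := fixed_of_regular_fixed S hS j hj hjinj hfix s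
  rw [hbot, Submodule.mem_bot] at hmem
  exact hs (Subtype.ext hmem)

end Main

end Groth.Agent.H82.FlagBC
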