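import Groth.Agent.H82.SymBasis
import Mathlib.RingTheory.IntegralClosure.IsIntegral.Basic
import Mathlib.RingTheory.IntegralClosure.Algebra.Basic
import Mathlib.RingTheory.TensorProduct.Basic

set_option autoImplicit false
universe u

namespace Groth.Agent.H82.SplitExt

open Polynomial TensorProduct Groth.Agent.H82.SymBasis

section

variable {R : Type u} [CommRing R]

/-- the zero staircase vector. -/
def d0 (n : ℕ) : Dn n := fun i => ⟨0, by have := i.2; omega⟩

lemma mon_d0 {S : Type*} [CommRing S] {n : ℕ} (τ : Fin n → S) : mon τ (d0 n) = 1 := by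
  simp [mon, d0]

/-- the splitting algebra of `P`. -/
abbrev Spl (P : R[X]) := MvPolynomial (Fin P.natDegree) R ⧸ J P.natDegree P

/-- the staircase basis. -/
noncomputable def splBasis (P : R[X]) (hP : P.Monic) : Module.Basis (Dn P.natDegree) R (Spl P) :=
  Module.Basis.mk (core P.natDegree R P hP rfl).1 (core P.natDegree R P hP rfl).2.ge

lemma spl_free (P : R[X]) (hP : P.Monic) : Module.Free R (Spl P) :=
  Module.Free.of_basis (splBasis P hP)

lemma spl_finite (P : R[X]) (hP : P.Monic) : Module.Finite R (Spl P) :=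
  Module.Finite.of_basis (splBasis P hP)

lemma spl_injective (P : R[X]) (hP : P.Monic) : Function.Injective (algebraMap R (Spl P)) := by
  rw [injective_iff_map_eq_zero]
  intro c hc
  have hli := (core P.natDegree R P hP rfl).1
  have h1 : c • mon (tt P.natDegree P) (d0 P.natDegree) = 0 := by
    rw [mon_d0, Algebra.smul_def c (1 : Spl P), mul_one]; exact hc
  have h2 := Fintype.linearIndependent_iff.1 hli (Pi.single (d0 P.natDegree) c) (by
    rw [Finset.sum_eq_single (d0 P.natDegree)]
    · rw [Pi.single_eq_same]; exact h1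
    · intro d _ hd
      rw [Pi.single_eq_of_ne hd, zero_smul]
    · intro h; exact absurd (Finset.mem_univ _) h) (d0 P.natDegree)
  rwa [Pi.single_eq_same] at h2

lemma spl_relation (P : R[X]) :
    ∏ i : Fin P.natDegree, (Polynomial.X - Polynomial.C (tt P.natDegree P i)) =
      P.map (algebraMap R (Spl P)) :=
  relation P.natDegree P

end

theorem phi_part (R S B : Type u) [CommRing R] [CommRing S] [CommRing B] [Algebra R S]
    [Algebra R B] (n : ℕ) (s : Fin n → S) (hs : Submodule.span R (Set.range s) = ⊤) (P : R[X])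
    (hPs : ∀ i, Polynomial.aeval (s i) P = 0) (m : ℕ) (t : Fin m → B)
    (hrel : ∏ j : Fin m, (Polynomial.X - Polynomial.C (t j)) = P.map (algebraMap R B)) :
    ∃ φ : MvPolynomial (Fin n) B →ₐ[B] B ⊗[R] S, Function.Surjective φ ∧
      ∀ i, φ (∏ j : Fin m, (MvPolynomial.X i - MvPolynomial.C (t j))) = 0 := by
  refine ⟨MvPolynomial.aeval (fun i => (1 : B) ⊗ₜ[R] s i), ?_, ?_⟩
  · intro y
    change y ∈ (MvPolynomial.aeval (R := B) (fun i => (1 : B) ⊗ₜ[R] s i)).range
    induction y using TensorProduct.induction_on with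
    | zero => exact Subalgebra.zero_mem _
    | add x y hx hy => exact Subalgebra.add_mem _ hx hy
    | tmul r x =>
      have hx : x ∈ Submodule.span R (Set.range s) := by rw [hs]; trivial
      induction hx using Submodule.span_induction with
      | mem x hx =>
        obtain ⟨i, rfl⟩ := hx
        have h1 : r ⊗ₜ[R] s i = r • ((1 : B) ⊗ₜ[R] s i) := by
          rw [TensorProduct.smul_tmul', smul_eq_mul, mul_one]
        rw [h1]
        have hmem : (1 : B) ⊗ₜ[R] s i ∈
            (MvPolynomial.aeval (R := B) (fun i => (1 : B) ⊗ₜ[R] s i)).range :=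
          ⟨MvPolynomial.X i, by simp⟩
        exact Subalgebra.smul_mem _ hmem r
      | zero => rw [TensorProduct.tmul_zero]; exact Subalgebra.zero_mem _
      | add x y _ _ hx hy => rw [TensorProduct.tmul_add]; exact Subalgebra.add_mem _ hx hy
      | smul c x _ hx =>
        rw [TensorProduct.tmul_smul]
        have h2 : c • (r ⊗ₜ[R] x) = (algebraMap R B c) • (r ⊗ₜ[R] x) := by
          rw [algebraMap_smul]
        rw [h2]
        exact Subalgebra.smul_mem _ hx _
  · intro i
    have h1 := congrArg (Polynomial.aeval ((1 : B) ⊗ₜ[R] s i)) hrel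
    rw [map_prod] at h1
    simp only [map_sub, Polynomial.aeval_X, Polynomial.aeval_C] at h1
    rw [map_prod]
    simp only [map_sub, MvPolynomial.aeval_X, MvPolynomial.aeval_C]
    rw [h1, Polynomial.aeval_map_algebraMap]
    have h2 : (1 : B) ⊗ₜ[R] s i =
        (Algebra.TensorProduct.includeRight : S →ₐ[R] B ⊗[R] S) (s i) := rfl
    rw [h2, Polynomial.aeval_algHom_apply, hPs, map_zero]

theorem main (R S : Type u) [CommRing R] [CommRing S] [Algebra R S] [Module.Finite R S] :
    ∃ (R' : Type u) (_ : CommRing R') (_ : Algebra R R'), Module.Finite R R' ∧ Module.Free R R' ∧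
      Function.Injective (algebraMap R R') ∧
      ∃ (n : ℕ) (d : Fin n → ℕ) (α : (i : Fin n) → Fin (d i) → R')
        (φ : MvPolynomial (Fin n) R' →ₐ[R'] R' ⊗[R] S), Function.Surjective φ ∧
          ∀ i, φ (∏ j, (MvPolynomial.X i - MvPolynomial.C (α i j))) = 0 := by
  obtain ⟨n, s, hs⟩ := Module.Finite.exists_fin (R := R) (M := S)
  have hint : ∀ i, ∃ p : R[X], p.Monic ∧ Polynomial.aeval (s i) p = 0 := fun i =>
    (Algebra.IsIntegral.isIntegral (R := R) (s i))
  choose p hpm hp0 using hint
  let P : R[X] := ∏ i, p i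
  have hP : P.Monic := Polynomial.monic_prod_of_monic _ _ fun i _ => hpm i
  have hPs : ∀ i, Polynomial.aeval (s i) P = 0 := by
    intro i
    rw [map_prod]
    exact Finset.prod_eq_zero (Finset.mem_univ i) (hp0 i)
  obtain ⟨φ, h1, h2⟩ := phi_part R S (Spl P) n s hs P hPs P.natDegree (tt P.natDegree P)
    (spl_relation P)
  exact ⟨Spl P, inferInstance, inferInstance, spl_finite P hP, spl_free P hP, spl_injective P hP,
    n, fun _ => P.natDegree, fun _ j => tt P.natDegree P j, φ, h1, h2⟩

end Groth.Agent.H82.SplitExt
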