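import Mathlib

set_option autoImplicit false

namespace Groth.Agent.H82.FittSplit

universe u

open Matrix

/-- **Cramer projectivity lemma.** If the determinants of the square matrices with rows in
`K ⊆ Rⁿ` generate a principal ideal `(f)` with `f` a nonzerodivisor, then `K` is projective. -/
theorem projective_of_span_det {R : Type u} [CommRing R] {n : ℕ} (K : Submodule R (Fin n → R))
    (f : R) (hf : f ∈ nonZeroDivisors R)
    (h : Ideal.span {d | ∃ a : Matrix (Fin n) (Fin n) R, (∀ i, a i ∈ K) ∧ d = a.det} =
      Ideal.span {f}) :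
    Module.Projective R K := by
  classical
  have hcancel : ∀ x y : R, x * f = y * f → x = y := fun x y hxy =>
    (mul_cancel_right_mem_nonZeroDivisors hf).mp hxy
  have hfT : f ∈ Ideal.span {d | ∃ a : Matrix (Fin n) (Fin n) R, (∀ i, a i ∈ K) ∧ d = a.det} := by
    rw [h]; exact Ideal.mem_span_singleton_self f
  obtain ⟨N, c, g, hsum⟩ := Submodule.mem_span_set'.mp hfT
  choose a haK hadet using fun i => (g i).2
  have hmem : ∀ b : Matrix (Fin n) (Fin n) R, (∀ i, b i ∈ K) → ∃ d, d * f = b.det := by
    intro b hb
    have : b.det ∈ Ideal.span {f} := by rw [← h]; exact Ideal.subset_span ⟨b, hb, rfl⟩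
    exact Ideal.mem_span_singleton'.mp this
  choose d hd using fun i => hmem (a i) (haK i)
  have hcd : ∑ i, c i * d i = 1 := by
    apply hcancel
    rw [Finset.sum_mul, one_mul]
    refine Eq.trans (Finset.sum_congr rfl fun i _ => ?_) hsum
    rw [smul_eq_mul, hadet i, mul_assoc, hd i]
  have hw : ∀ (i : Fin N) (v : K) (j : Fin n),
      ∃ w, w * f = ((a i).updateRow j (v : Fin n → R)).det := by
    intro i v j
    apply hmem
    intro l
    by_cases hl : l = j
    · subst hl
      rw [Matrix.updateRow_self]; exact v.2
    · rw [Matrix.updateRow_ne hl]; exact haK i l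
  choose w hw using hw
  -- the coefficient maps
  let W : Fin N → (K →ₗ[R] (Fin n → R)) := fun i =>
    { toFun := fun v j => w i v j
      map_add' := by
        intro u v
        funext j
        apply hcancel
        simp only [Pi.add_apply]
        rw [add_mul, hw, hw, hw, Submodule.coe_add, Matrix.det_updateRow_add]
      map_smul' := by
        intro r v
        funext j
        apply hcancel
        simp only [Pi.smul_apply, RingHom.id_apply, smul_eq_mul]
        rw [mul_assoc, hw, hw, Submodule.coe_smul, Matrix.det_updateRow_smul] }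
  have hcramer : ∀ (i : Fin N) (v : K), ∑ j, w i v j • (a i j) = d i • (v : Fin n → R) := by
    intro i v
    funext k
    apply hcancel
    have h1 := congrFun (Matrix.mulVec_cramer (a i)ᵀ (v : Fin n → R)) k
    simp only [Matrix.mulVec, dotProduct, Matrix.transpose_apply, Matrix.cramer_transpose_apply,
      Matrix.det_transpose, Pi.smul_apply, smul_eq_mul] at h1
    simp only [Finset.sum_apply, Pi.smul_apply, smul_eq_mul]
    rw [Finset.sum_mul, mul_assoc, mul_comm (v.1 k) f, ← mul_assoc, hd i, ← h1]
    refine Finset.sum_congr rfl fun j _ => ?_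
    rw [← hw i v j]; ring
  let ι : K →ₗ[R] (Fin N → Fin n → R) := LinearMap.pi W
  let s : (Fin N → Fin n → R) →ₗ[R] K :=
    ∑ i, ∑ j, c i • (((LinearMap.proj j : (Fin n → R) →ₗ[R] R).comp
      (LinearMap.proj i : (Fin N → Fin n → R) →ₗ[R] (Fin n → R))).smulRight
        (⟨a i j, haK i j⟩ : K))
  refine Module.Projective.of_split ι s ?_
  ext v : 1
  apply Subtype.ext
  simp only [s, ι, LinearMap.comp_apply, LinearMap.sum_apply, LinearMap.smul_apply,
    LinearMap.smulRight_apply, LinearMap.proj_apply, LinearMap.pi_apply, LinearMap.id_apply,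
    Submodule.coe_sum, Submodule.coe_smul]
  have : ∀ i, ∑ j, c i • ((W i) v j • (a i j)) = (c i * d i) • (v : Fin n → R) := by
    intro i
    rw [← Finset.smul_sum]
    have := hcramer i v
    change c i • ∑ j, w i v j • a i j = _
    rw [this, smul_smul]
  rw [Finset.sum_congr rfl fun i _ => this i, ← Finset.sum_smul, hcd, one_smul]

end Groth.Agent.H82.FittSplit
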