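import Mathlib
import Groth.Agent.Lead.Fitting
import Groth.Agent.Lead.FittingLoc
import Groth.Agent.S6894
import Groth.Agent.S6895
import Groth.Agent.S6896
import Groth.Agent.S12084
import Groth.Agent.H82.FittSplit1

set_option autoImplicit false

namespace Groth.Agent.H82.FittSplit

universe u

open CategoryTheory

/-- A finite module whose zeroth Fitting ideal is generated by a nonzerodivisor has projective
dimension at most one. -/
theorem hasProjectiveDimensionLT_two_of_fitt_zero {R : Type u} [CommRing R] (N : Type u)
    [AddCommGroup N] [Module R N] [Module.Finite R N] (f : R) (hf : f ∈ nonZeroDivisors R)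
    (h : Fitt.ideal R N 0 = Ideal.span {f}) :
    HasProjectiveDimensionLT (ModuleCat.of R N) 2 := by
  obtain ⟨n, x, hx⟩ := Module.Finite.exists_fin (R := R) (M := N)
  set π : (Fin n → R) →ₗ[R] N := Fintype.linearCombination R x with hπ
  have hsurj : Function.Surjective π := Groth.Agent.Lead.linearCombination_surjective x hx
  have hK : Groth.Agent.Lead.relations R x = LinearMap.ker π := Groth.Agent.Lead.relations_eq_ker x
  have hspan : Ideal.span {d | ∃ a : Matrix (Fin n) (Fin n) R,
      (∀ i, a i ∈ LinearMap.ker π) ∧ d = a.det} = Ideal.span {f} := by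
    rw [← h]
    apply le_antisymm
    · rw [Ideal.span_le]
      rintro d ⟨a, ha, rfl⟩
      refine Ideal.subset_span ⟨n, x, a, hx, fun i _ => ?_, rfl⟩
      have := ha i
      rw [← hK] at this
      exact (Groth.Agent.Lead.mem_relations x (a i)).mp this
    · rw [Groth.Agent.Lead.fitt_ideal_eq_minorIdeal x hx 0, Nat.sub_zero,
        Groth.Agent.Lead.minorIdeal_le_iff]
      intro z e hz
      have := Groth.Agent.Lead.minor_mem_span_det (le_refl n) (Groth.Agent.Lead.relations R x) z hz e
      refine Ideal.span_mono ?_ this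
      rintro d ⟨a, ha, rfl⟩
      exact ⟨a, fun i => hK ▸ ha i i.isLt, rfl⟩
  have hproj : Module.Projective R (LinearMap.ker π) :=
    projective_of_span_det (LinearMap.ker π) f hf hspan
  have hS := LinearMap.shortExact_shortComplexKer hsurj
  have hX₂ : Projective π.shortComplexKer.X₂ := by
    change Projective (ModuleCat.of R (Fin n → R))
    exact (IsProjective.iff_projective (Fin n → R)).mp inferInstance
  have hX₁ : HasProjectiveDimensionLT π.shortComplexKer.X₁ 1 := by
    have : Projective π.shortComplexKer.X₁ := by
      change Projective (ModuleCat.of R (LinearMap.ker π))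
      exact (IsProjective.iff_projective (LinearMap.ker π)).mp hproj
    infer_instance
  exact (hS.hasProjectiveDimensionLT_X₃_iff 0 hX₂).mpr hX₁

variable {R : Type u} [CommRing R] (M : Type u) [AddCommGroup M] [Module R M]

theorem mk_eq_zero_iff' (S : Submonoid R) (m : M) (s : S) :
    LocalizedModule.mk m s = 0 ↔ ∃ t : R, t ∈ S ∧ t • m = 0 := by
  rw [← LocalizedModule.zero_mk s, LocalizedModule.mk_eq]
  constructor
  · rintro ⟨u, hu⟩
    refine ⟨u * s, mul_mem u.2 s.2, ?_⟩
    simpa [Submonoid.smul_def, mul_smul] using hu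
  · rintro ⟨t, ht, h⟩
    refine ⟨⟨t, ht⟩, ?_⟩
    simp only [Submonoid.smul_def, smul_zero]
    rw [smul_comm, h, smul_zero]

/-- The `f`-torsion submodule. -/
abbrev tors (f : R) : Submodule R M := LinearMap.ker (f • (LinearMap.id : M →ₗ[R] M))

theorem mem_tors (f : R) (m : M) : m ∈ tors M f ↔ f • m = 0 := by
  simp [tors]

theorem fitt_quot_eq_top [Module.Finite R M] (k : ℕ) (f : R)
    (hf : Fitt.ideal R M k = Ideal.span {f}) :
    Fitt.ideal R (M ⧸ tors M f) k = ⊤ := by
  by_contra hne
  obtain ⟨p, hpmax, hle⟩ := Ideal.exists_le_maximal _ hne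
  have := hpmax.isPrime
  refine ((Groth.Agent.S6894.result (M ⧸ tors M f) k p).2.1).mpr ?_ hle
  have h1 : Fitt.ideal (Localization.AtPrime p) (LocalizedModule p.primeCompl M) k =
      Ideal.span {algebraMap R (Localization.AtPrime p) f} := by
    rw [Groth.Agent.Lead.fitt_ideal_localization p.primeCompl (Localization.AtPrime p)
      (LocalizedModule.mkLinearMap p.primeCompl M) k, hf, Ideal.map_span, Set.image_singleton]
  obtain ⟨g, hg⟩ := Groth.Agent.S6896.result (LocalizedModule p.primeCompl M) k
    (algebraMap R (Localization.AtPrime p) f) h1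
  let φ : LocalizedModule p.primeCompl M →ₗ[Localization.AtPrime p]
      LocalizedModule p.primeCompl (M ⧸ tors M f) :=
    LocalizedModule.map p.primeCompl (tors M f).mkQ
  have hφ : Function.Surjective φ :=
    LocalizedModule.map_surjective _ _ (Submodule.mkQ_surjective _)
  have hker : LinearMap.ker ((algebraMap R (Localization.AtPrime p) f) •
      (LinearMap.id : LocalizedModule p.primeCompl M →ₗ[Localization.AtPrime p] _)) ≤
      LinearMap.ker φ := by
    intro y hy
    induction y using LocalizedModule.induction_on with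
    | h m s =>
      rw [LinearMap.mem_ker, LinearMap.smul_apply, LinearMap.id_apply, algebraMap_smul,
        LocalizedModule.smul'_mk, mk_eq_zero_iff'] at hy
      obtain ⟨t, htS, ht⟩ := hy
      rw [LinearMap.mem_ker]
      change LocalizedModule.map p.primeCompl (tors M f).mkQ (LocalizedModule.mk m s) = 0
      rw [LocalizedModule.map_mk, mk_eq_zero_iff']
      refine ⟨t, htS, ?_⟩
      rw [← map_smul, Submodule.mkQ_apply, Submodule.Quotient.mk_eq_zero, mem_tors, smul_comm]
      exact ht
  let ψ := Submodule.liftQ _ φ hker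
  refine ⟨fun i => ψ (g i), ?_⟩
  have : Set.range (fun i => ψ (g i)) = ψ '' Set.range g := by
    rw [← Set.range_comp]; rfl
  rw [this, ← Submodule.map_span, hg, Submodule.map_top, LinearMap.range_eq_top]
  intro y
  obtain ⟨x, rfl⟩ := hφ y
  exact ⟨Submodule.Quotient.mk x, rfl⟩

theorem fitt_quot_eq_bot [Module.Finite R M] (j : ℕ) (f : R) (hf0 : f ∈ nonZeroDivisors R)
    (hj : Fitt.ideal R M j = ⊥) :
    Fitt.ideal R (M ⧸ tors M f) j = ⊥ := by
  let φ : LocalizedModule (Submonoid.powers f) M →ₗ[Localization.Away f]
      LocalizedModule (Submonoid.powers f) (M ⧸ tors M f) :=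
    LocalizedModule.map (Submonoid.powers f) (tors M f).mkQ
  have hsurj : Function.Surjective φ :=
    LocalizedModule.map_surjective _ _ (Submodule.mkQ_surjective _)
  have hinj : Function.Injective φ := by
    rw [injective_iff_map_eq_zero]
    intro y hy
    induction y using LocalizedModule.induction_on with
    | h m s =>
      change LocalizedModule.map (Submonoid.powers f) (tors M f).mkQ (LocalizedModule.mk m s) = 0 at hy
      rw [LocalizedModule.map_mk, mk_eq_zero_iff'] at hy
      obtain ⟨t, ⟨a, rfl⟩, ht⟩ := hy
      rw [← map_smul, Submodule.mkQ_apply, Submodule.Quotient.mk_eq_zero, mem_tors] at ht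
      rw [mk_eq_zero_iff']
      refine ⟨f ^ (a + 1), ⟨a + 1, rfl⟩, ?_⟩
      rw [pow_succ', mul_smul]
      exact ht
  let e := LinearEquiv.ofBijective φ ⟨hinj, hsurj⟩
  have h1 : Fitt.ideal (Localization.Away f) (LocalizedModule (Submonoid.powers f) (M ⧸ tors M f)) j
      = ⊥ := by
    rw [← Groth.Agent.Lead.fitt_ideal_congr e j,
      Groth.Agent.Lead.fitt_ideal_localization (Submonoid.powers f) (Localization.Away f)
        (LocalizedModule.mkLinearMap (Submonoid.powers f) M) j, hj, Ideal.map_bot]
  rw [Groth.Agent.Lead.fitt_ideal_localization (Submonoid.powers f) (Localization.Away f)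
    (LocalizedModule.mkLinearMap (Submonoid.powers f) (M ⧸ tors M f)) j] at h1
  rw [eq_bot_iff]
  intro x hx
  have h2 : algebraMap R (Localization.Away f) x ∈ (⊥ : Ideal (Localization.Away f)) :=
    h1 ▸ Ideal.mem_map_of_mem _ hx
  have hinj' : Function.Injective (algebraMap R (Localization.Away f)) :=
    IsLocalization.injective (Localization.Away f) (M := Submonoid.powers f)
      (Submonoid.powers_le.mpr hf0)
  rw [Submodule.mem_bot]
  apply hinj'
  rw [map_zero]
  exact (Submodule.mem_bot _).mp h2

end Groth.Agent.H82.FittSplit
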