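import Mathlib
import Groth.Agent.H82.FittSplit2

set_option autoImplicit false

namespace Groth.Agent.H82.FittSplit

universe u

open CategoryTheory

variable {R : Type u} [CommRing R] (M : Type u) [AddCommGroup M] [Module R M]

/-- A finite module that is free of finite rank on a basic open neighbourhood of every prime is
projective. -/
theorem projective_of_locallyFree [Module.Finite R M]
    (h : ∀ (p : Ideal R) [p.IsPrime], ∃ g : R, g ∉ p ∧
      Module.Free (Localization.Away g) (LocalizedModule (Submonoid.powers g) M)) :
    Module.Projective R M := by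
  choose g hg hfree using h
  let s : Set R := {r | ∃ (p : Ideal R) (hp : p.IsPrime), r = @g p hp}
  have hs : Ideal.span s = ⊤ := by
    by_contra hne
    obtain ⟨m, hm, hle⟩ := Ideal.exists_le_maximal _ hne
    have hmp := hm.isPrime
    exact @hg m hmp (hle (Ideal.subset_span ⟨m, hmp, rfl⟩))
  have hfree' : ∀ r : s, Module.Free (Localization.Away r.1)
      (LocalizedModule (Submonoid.powers r.1) M) := by
    rintro ⟨r, p, hp, rfl⟩
    exact @hfree p hp
  have hfin' : ∀ r : s, Module.Finite (Localization.Away r.1)
      (LocalizedModule (Submonoid.powers r.1) M) := fun r =>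
    Module.Finite.of_isLocalizedModule (Submonoid.powers r.1)
      (LocalizedModule.mkLinearMap (Submonoid.powers r.1) M)
  have hfp : Module.FinitePresentation R M := by
    apply Module.FinitePresentation.of_localizationSpan s hs
    intro r
    have := hfree' r
    have := hfin' r
    exact Module.finitePresentation_of_projective _ _
  have hflat : Module.Flat R M := by
    apply Module.flat_of_localized_span R M s hs
    intro r
    have := hfree' r
    have : Module.Flat (Localization.Away r.1) (LocalizedModule (Submonoid.powers r.1) M) :=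
      inferInstance
    exact Module.Flat.trans R (Localization.Away r.1) _
  exact Module.Flat.projective_of_finitePresentation

/-- The splitting `M ≃ Q × M'` attached to a section of the quotient map. -/
noncomputable def splitEquiv (M' : Submodule R M) (σ : (M ⧸ M') →ₗ[R] M)
    (hσ : M'.mkQ.comp σ = LinearMap.id) : M ≃ₗ[R] (M ⧸ M') × M' :=
  LinearEquiv.ofLinearMap
    (LinearMap.prod M'.mkQ
      (LinearMap.codRestrict M' (LinearMap.id - σ.comp M'.mkQ) (by
        intro m
        rw [← Submodule.Quotient.mk_eq_zero M', ← Submodule.mkQ_apply, LinearMap.sub_apply, map_sub,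
          LinearMap.id_apply, LinearMap.comp_apply]
        have := LinearMap.congr_fun hσ (M'.mkQ m)
        rw [LinearMap.comp_apply, LinearMap.id_apply] at this
        rw [this, sub_self])))
    (LinearMap.coprod σ M'.subtype)
    (by
      apply LinearMap.ext
      rintro ⟨q, m'⟩
      have h1 := LinearMap.congr_fun hσ q
      rw [LinearMap.comp_apply, LinearMap.id_apply] at h1
      have h2 : M'.mkQ (m' : M) = 0 := by
        rw [Submodule.mkQ_apply, Submodule.Quotient.mk_eq_zero]; exact m'.2
      rw [Submodule.mkQ_apply] at h1 h2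
      apply Prod.ext
      · simp [h1, h2]
      · apply Subtype.ext
        simp [h1, h2])
    (by
      apply LinearMap.ext
      intro m
      simp)

theorem main [Module.FinitePresentation R M] (k : ℕ) (f : R)
    (hf0 : f ∈ nonZeroDivisors R)
    (hf : Fitt.ideal R M k = Ideal.span {f}) (hk : k = 0 ∨ Fitt.ideal R M (k - 1) = ⊥) :
    HasProjectiveDimensionLT (ModuleCat.of R M) 2 ∧
    (∀ x : M, (∃ n : ℕ, f ^ n • x = 0) ↔ f • x = 0) ∧
    HasProjectiveDimensionLT (ModuleCat.of R ↥(LinearMap.ker (f • (LinearMap.id : M →ₗ[R] M)))) 2 ∧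
    (∀ (p : Ideal R) [p.IsPrime], ∃ g : R, g ∉ p ∧
      Module.Free (Localization.Away g)
          (LocalizedModule (Submonoid.powers g) (M ⧸ LinearMap.ker (f • (LinearMap.id : M →ₗ[R] M)))) ∧
        Module.finrank (Localization.Away g)
          (LocalizedModule (Submonoid.powers g) (M ⧸ LinearMap.ker (f • (LinearMap.id : M →ₗ[R] M)))) = k) ∧
    Nonempty (M ≃ₗ[R] (M ⧸ LinearMap.ker (f • (LinearMap.id : M →ₗ[R] M))) ×
      ↥(LinearMap.ker (f • (LinearMap.id : M →ₗ[R] M)))) := by
  have hfin : Module.Finite R M := inferInstance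
  have hQtop : ∀ j, k ≤ j → Fitt.ideal R (M ⧸ tors M f) j = ⊤ := fun j hj =>
    top_le_iff.mp ((fitt_quot_eq_top M k f hf) ▸ Groth.Agent.Lead.fitt_ideal_antitone hj)
  have hQbot : ∀ j, j < k → Fitt.ideal R (M ⧸ tors M f) j = ⊥ := by
    intro j hj
    rcases hk with rfl | hk
    · omega
    · have := fitt_quot_eq_bot M (k - 1) f hf0 hk
      exact le_bot_iff.mp (this ▸ Groth.Agent.Lead.fitt_ideal_antitone (by omega))
  have hloc := (Groth.Agent.S6895.result (M ⧸ tors M f) k).mpr ⟨hQbot, hQtop⟩
  have hproj : Module.Projective R (M ⧸ tors M f) :=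
    projective_of_locallyFree (M ⧸ tors M f) (fun p _ => by
      obtain ⟨g, hg, hfree, -⟩ := hloc p
      exact ⟨g, hg, hfree⟩)
  obtain ⟨σ, hσ⟩ := Module.projective_lifting_property (tors M f).mkQ LinearMap.id
    (Submodule.mkQ_surjective _)
  let e := splitEquiv M (tors M f) σ hσ
  -- finiteness and Fitting ideal of the torsion part
  have hfin' : Module.Finite R (tors M f) :=
    Module.Finite.of_surjective ((LinearMap.snd R _ _).comp e.toLinearMap)
      (Prod.snd_surjective.comp e.surjective)
  have hfin'' : Module.Finite R (M ⧸ tors M f) := inferInstance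
  have hF0 : Fitt.ideal R (tors M f) 0 = Ideal.span {f} := by
    rw [← hf, Groth.Agent.Lead.fitt_ideal_congr e k,
      Groth.Agent.S12084.result R (M ⧸ tors M f) (tors M f) k,
      Finset.sum_eq_single k]
    · rw [hQtop k le_rfl, Nat.sub_self, Ideal.top_mul]
    · intro i hi hik
      have : i < k := lt_of_le_of_ne (Nat.lt_succ_iff.mp (Finset.mem_range.mp hi)) hik
      rw [hQbot i this, Ideal.bot_mul]; rfl
    · intro hk'
      exact absurd (Finset.mem_range.mpr (Nat.lt_succ_self k)) hk'
  have hpd' : HasProjectiveDimensionLT (ModuleCat.of R (tors M f)) 2 :=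
    hasProjectiveDimensionLT_two_of_fitt_zero (tors M f) f hf0 hF0
  have hflat : Module.Flat R (M ⧸ tors M f) := inferInstance
  have hreg : IsSMulRegular (M ⧸ tors M f) f :=
    Module.Flat.isSMulRegular_of_nonZeroDivisors hf0
  refine ⟨?_, ?_, hpd', hloc, ⟨e⟩⟩
  · -- projective dimension of `M`
    let S : ShortComplex (ModuleCat.{u} R) :=
      ModuleCat.shortComplexOfCompEqZero (tors M f).subtype (tors M f).mkQ (by
        apply LinearMap.ext; intro x
        rw [LinearMap.comp_apply, LinearMap.zero_apply, Submodule.mkQ_apply,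
          Submodule.Quotient.mk_eq_zero]
        exact x.2)
    have hS : S.ShortExact := by
      apply ModuleCat.shortComplex_shortExact
      · intro y
        constructor
        · intro hy
          exact ⟨⟨y, (Submodule.Quotient.mk_eq_zero _).mp hy⟩, rfl⟩
        · rintro ⟨x, rfl⟩
          exact (Submodule.Quotient.mk_eq_zero _).mpr x.2
      · exact Subtype.val_injective
      · exact Submodule.mkQ_surjective _
    have h3 : HasProjectiveDimensionLT S.X₃ 2 := by
      have : Projective S.X₃ := by
        change Projective (ModuleCat.of R (M ⧸ tors M f))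
        exact (IsProjective.iff_projective (M ⧸ tors M f)).mp hproj
      exact hasProjectiveDimensionLT_of_ge S.X₃ 1 2 (by omega)
    exact hS.hasProjectiveDimensionLT_X₂ 2 hpd' h3
  · intro x
    constructor
    · rintro ⟨n, hn⟩
      have h1 : f ^ n • (tors M f).mkQ x = 0 := by
        rw [← map_smul, hn, map_zero]
      have h2 : (tors M f).mkQ x = 0 := (hreg.pow n) (by
        change f ^ n • (tors M f).mkQ x = f ^ n • 0
        rw [h1, smul_zero])
      rw [Submodule.mkQ_apply, Submodule.Quotient.mk_eq_zero, mem_tors] at h2
      exact h2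
    · intro h
      exact ⟨1, by rw [pow_one]; exact h⟩

end Groth.Agent.H82.FittSplit
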