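import Mathlib
import Groth.Prelude.Def_BlowUp2
import Groth.Prelude.Def_FlatCA
import Groth.Agent.H82.FittSplit3

set_option autoImplicit false

namespace Groth.Agent.H82.FittBlow

universe u

open TensorProduct

theorem mem_powTorsion {S : Type u} [CommRing S] (x : S) {M : Type u} [AddCommGroup M]
    [Module S M] (m : M) :
    m ∈ FlatCA.powTorsion S x M ↔ ∃ n : ℕ, x ^ n • m = 0 := by
  unfold FlatCA.powTorsion
  rw [Submodule.mem_iSup_of_directed]
  · simp [Submodule.mem_torsionBy_iff]
  · intro i j
    refine ⟨i + j, ?_, ?_⟩ <;> intro m hm <;> simp only [Submodule.mem_torsionBy_iff] at hm ⊢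
    · rw [pow_add, mul_comm, mul_smul, hm, smul_zero]
    · rw [pow_add, mul_smul, hm, smul_zero]

section blowup

variable {R : Type u} [CommRing R] (I : Ideal R) (a : R) (R₁ : Type u) [CommRing R₁] [Algebra R R₁]
  (e : R₁ ≃ₐ[R] ↥(BlowUp.affineAlgebra R I a))

include e in
/-- Elements of `R` that become units in `R_a` are nonzerodivisors of the blow-up algebra. -/
theorem nzd_of_isUnit (c : R) (hc : IsUnit (algebraMap R (Localization.Away a) c)) :
    algebraMap R R₁ c ∈ nonZeroDivisors R₁ := by
  rw [mem_nonZeroDivisors_iff_right]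
  intro y hy
  have h1 : e (y * algebraMap R R₁ c) = 0 := by rw [hy, map_zero]
  rw [map_mul, e.commutes] at h1
  have h2 : ((e y : ↥(BlowUp.affineAlgebra R I a)) : Localization.Away a) *
      algebraMap R (Localization.Away a) c = 0 := by
    have := congrArg Subtype.val h1
    simpa using this
  have h3 : ((e y : ↥(BlowUp.affineAlgebra R I a)) : Localization.Away a) = 0 :=
    (hc.mul_left_eq_zero).mp h2
  have h4 : e y = 0 := Subtype.ext h3
  exact e.injective (h4.trans (map_zero e).symm)

include e in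
theorem nzd_a : algebraMap R R₁ a ∈ nonZeroDivisors R₁ :=
  nzd_of_isUnit I a R₁ e a (IsLocalization.Away.algebraMap_isUnit a)

include e in
/-- In the blow-up algebra `R[I/a]` the ideal `I` becomes principal, generated by `a`. -/
theorem map_eq_span (ha : a ∈ I) :
    I.map (algebraMap R R₁) = Ideal.span {algebraMap R R₁ a} := by
  apply le_antisymm
  · rw [Ideal.map_le_iff_le_comap]
    intro x hx
    rw [Ideal.mem_comap, Ideal.mem_span_singleton']
    let q : ↥(BlowUp.affineAlgebra R I a) :=
      ⟨IsLocalization.mk' (Localization.Away a) x ⟨a, Submonoid.mem_powers a⟩,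
        Algebra.subset_adjoin ⟨x, hx, rfl⟩⟩
    refine ⟨e.symm q, ?_⟩
    apply e.injective
    rw [map_mul, e.apply_symm_apply, e.commutes, e.commutes]
    apply Subtype.ext
    change IsLocalization.mk' (Localization.Away a) x ⟨a, Submonoid.mem_powers a⟩ *
      algebraMap R (Localization.Away a) a = algebraMap R (Localization.Away a) x
    exact IsLocalization.mk'_spec (Localization.Away a) x ⟨a, Submonoid.mem_powers a⟩
  · rw [Ideal.span_le, Set.singleton_subset_iff]
    exact Ideal.mem_map_of_mem _ ha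

end blowup

section strict

variable {R : Type u} [CommRing R] (M : Type u) [AddCommGroup M] [Module R M]

/-- Stacks 15.26.3 -/
theorem strict_fitt_top [Module.Finite R M] (k : ℕ) (a : R) (ha : a ∈ Fitt.ideal R M k)
    (R₁ : Type u) [CommRing R₁] [Algebra R R₁]
    (e : R₁ ≃ₐ[R] ↥(BlowUp.affineAlgebra R (Fitt.ideal R M k) a)) :
    Fitt.ideal R₁ ((R₁ ⊗[R] M) ⧸ FlatCA.powTorsion R₁ (algebraMap R R₁ a) (R₁ ⊗[R] M)) k = ⊤ := by
  have h1 : Fitt.ideal R₁ (R₁ ⊗[R] M) k = Ideal.span {algebraMap R R₁ a} := by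
    rw [Groth.Agent.Lead.fitt_ideal_baseChange, map_eq_span _ a R₁ e ha]
  have h2 := FittSplit.fitt_quot_eq_top (R₁ ⊗[R] M) k (algebraMap R R₁ a) h1
  have hle : FittSplit.tors (R₁ ⊗[R] M) (algebraMap R R₁ a) ≤
      FlatCA.powTorsion R₁ (algebraMap R R₁ a) (R₁ ⊗[R] M) := by
    intro m hm
    rw [mem_powTorsion]
    exact ⟨1, by rw [pow_one]; exact (FittSplit.mem_tors _ _ _).mp hm⟩
  have := Groth.Agent.Lead.fitt_ideal_le_of_surjective' (Submodule.factor hle)
    (Submodule.factor_surjective hle) k
  rw [h2] at this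
  exact top_le_iff.mp this

end strict

end Groth.Agent.H82.FittBlow
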