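import Mathlib
import Groth.Agent.H82.FittBlow

set_option autoImplicit false

namespace Groth.Agent.H82.FittBlow

universe u

open TensorProduct

section powquot

variable {S : Type u} [CommRing S] (N : Type u) [AddCommGroup N] [Module S N]

/-- Killing the `x`-power torsion (for a nonzerodivisor `x`) preserves vanishing of Fitting
ideals. -/
theorem fitt_powquot_eq_bot [Module.Finite S N] (j : ℕ) (x : S) (hx : x ∈ nonZeroDivisors S)
    (hj : Fitt.ideal S N j = ⊥) :
    Fitt.ideal S (N ⧸ FlatCA.powTorsion S x N) j = ⊥ := by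
  let φ : LocalizedModule (Submonoid.powers x) N →ₗ[Localization.Away x]
      LocalizedModule (Submonoid.powers x) (N ⧸ FlatCA.powTorsion S x N) :=
    LocalizedModule.map (Submonoid.powers x) (FlatCA.powTorsion S x N).mkQ
  have hsurj : Function.Surjective φ :=
    LocalizedModule.map_surjective _ _ (Submodule.mkQ_surjective _)
  have hinj : Function.Injective φ := by
    rw [injective_iff_map_eq_zero]
    intro y hy
    induction y using LocalizedModule.induction_on with
    | h m s =>
      change LocalizedModule.map (Submonoid.powers x) (FlatCA.powTorsion S x N).mkQ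
        (LocalizedModule.mk m s) = 0 at hy
      rw [LocalizedModule.map_mk, FittSplit.mk_eq_zero_iff'] at hy
      obtain ⟨t, ⟨a, rfl⟩, ht⟩ := hy
      rw [← map_smul, Submodule.mkQ_apply, Submodule.Quotient.mk_eq_zero, mem_powTorsion] at ht
      obtain ⟨n, hn⟩ := ht
      rw [FittSplit.mk_eq_zero_iff']
      refine ⟨x ^ (n + a), ⟨n + a, rfl⟩, ?_⟩
      rw [pow_add, mul_smul]
      exact hn
  let e := LinearEquiv.ofBijective φ ⟨hinj, hsurj⟩
  have h1 : Fitt.ideal (Localization.Away x)
      (LocalizedModule (Submonoid.powers x) (N ⧸ FlatCA.powTorsion S x N)) j = ⊥ := by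
    rw [← Groth.Agent.Lead.fitt_ideal_congr e j,
      Groth.Agent.Lead.fitt_ideal_localization (Submonoid.powers x) (Localization.Away x)
        (LocalizedModule.mkLinearMap (Submonoid.powers x) N) j, hj, Ideal.map_bot]
  rw [Groth.Agent.Lead.fitt_ideal_localization (Submonoid.powers x) (Localization.Away x)
    (LocalizedModule.mkLinearMap (Submonoid.powers x) (N ⧸ FlatCA.powTorsion S x N)) j] at h1
  rw [eq_bot_iff]
  intro y hy
  have h2 : algebraMap S (Localization.Away x) y ∈ (⊥ : Ideal (Localization.Away x)) :=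
    h1 ▸ Ideal.mem_map_of_mem _ hy
  have hinj' : Function.Injective (algebraMap S (Localization.Away x)) :=
    IsLocalization.injective (Localization.Away x) (M := Submonoid.powers x)
      (Submonoid.powers_le.mpr hx)
  rw [Submodule.mem_bot]
  apply hinj'
  rw [map_zero]
  exact (Submodule.mem_bot _).mp h2

end powquot

section strict

variable {R : Type u} [CommRing R] (M : Type u) [AddCommGroup M] [Module R M]

/-- If `M_p` is free of rank `k` at every prime not containing an ideal `I ∋ a`, the lower Fitting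
ideals are killed by powers of `a`. -/
theorem exists_pow_mul_eq_zero [Module.Finite R M] (k : ℕ) (I : Ideal R)
    (hfree : ∀ (p : Ideal R) [p.IsPrime], ¬ I ≤ p →
      Module.Free (Localization.AtPrime p) (LocalizedModule p.primeCompl M) ∧
        Module.finrank (Localization.AtPrime p) (LocalizedModule p.primeCompl M) = k)
    (a : R) (ha : a ∈ I) (j : ℕ) (hj : j < k) (d : R) (hd : d ∈ Fitt.ideal R M j) :
    ∃ n : ℕ, a ^ n * d = 0 := by
  let J : Ideal R := LinearMap.ker (LinearMap.toSpanSingleton R R d)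
  have hJ : ∀ r, r ∈ J ↔ r * d = 0 := fun r => by
    simp [J, LinearMap.mem_ker, LinearMap.toSpanSingleton_apply]
  have hrad : a ∈ J.radical := by
    rw [Ideal.radical_eq_sInf, Ideal.mem_sInf]
    rintro p ⟨hJp, hp⟩
    by_contra hap
    have hIp : ¬ I ≤ p := fun h => hap (h ha)
    obtain ⟨hfr, hrk⟩ := hfree p hIp
    have hfin : Module.Finite (Localization.AtPrime p) (LocalizedModule p.primeCompl M) :=
      Module.Finite.of_isLocalizedModule p.primeCompl (LocalizedModule.mkLinearMap p.primeCompl M)
    let b := Module.finBasisOfFinrankEq (Localization.AtPrime p)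
      (LocalizedModule p.primeCompl M) hrk
    have h1 := Groth.Agent.Lead.fitt_ideal_eq_bot_of_basis b hj
    rw [Groth.Agent.Lead.fitt_ideal_localization p.primeCompl (Localization.AtPrime p)
      (LocalizedModule.mkLinearMap p.primeCompl M) j] at h1
    have h2 : algebraMap R (Localization.AtPrime p) d ∈
        (Fitt.ideal R M j).map (algebraMap R (Localization.AtPrime p)) :=
      Ideal.mem_map_of_mem _ hd
    rw [h1, Submodule.mem_bot] at h2
    obtain ⟨t, ht⟩ := (IsLocalization.map_eq_zero_iff p.primeCompl (Localization.AtPrime p) d).mp h2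
    exact t.2 (hJp ((hJ _).mpr ht))
  obtain ⟨n, hn⟩ := hrad
  exact ⟨n, (hJ _).mp hn⟩

/-- Stacks 15.26.4 -/
theorem strict_locallyFree [Module.Finite R M] (k : ℕ)
    (hfree : ∀ (p : Ideal R) [p.IsPrime], ¬ Fitt.ideal R M k ≤ p →
      Module.Free (Localization.AtPrime p) (LocalizedModule p.primeCompl M) ∧
        Module.finrank (Localization.AtPrime p) (LocalizedModule p.primeCompl M) = k)
    (a : R) (ha : a ∈ Fitt.ideal R M k) (R₁ : Type u) [CommRing R₁] [Algebra R R₁]
    (e : R₁ ≃ₐ[R] ↥(BlowUp.affineAlgebra R (Fitt.ideal R M k) a)) :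
    ∀ (p' : Ideal R₁) [p'.IsPrime], ∃ g : R₁, g ∉ p' ∧
      Module.Free (Localization.Away g) (LocalizedModule (Submonoid.powers g)
        ((R₁ ⊗[R] M) ⧸ FlatCA.powTorsion R₁ (algebraMap R R₁ a) (R₁ ⊗[R] M))) ∧
      Module.finrank (Localization.Away g) (LocalizedModule (Submonoid.powers g)
        ((R₁ ⊗[R] M) ⧸ FlatCA.powTorsion R₁ (algebraMap R R₁ a) (R₁ ⊗[R] M))) = k := by
  have hnzd := nzd_a (Fitt.ideal R M k) a R₁ e
  have htop := strict_fitt_top M k a ha R₁ e
  have hbot : ∀ j, j < k → Fitt.ideal R₁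
      ((R₁ ⊗[R] M) ⧸ FlatCA.powTorsion R₁ (algebraMap R R₁ a) (R₁ ⊗[R] M)) j = ⊥ := by
    intro j hj
    apply fitt_powquot_eq_bot _ j _ hnzd
    rw [Groth.Agent.Lead.fitt_ideal_baseChange, eq_bot_iff, Ideal.map_le_iff_le_comap]
    intro d hd
    obtain ⟨n, hn⟩ := exists_pow_mul_eq_zero M k _ hfree a ha j hj d hd
    rw [Ideal.mem_comap, Submodule.mem_bot]
    have h1 : algebraMap R R₁ a ^ n * algebraMap R R₁ d = 0 := by
      rw [← map_pow, ← map_mul, hn, map_zero]
    exact (mul_right_mem_nonZeroDivisors_eq_zero_iff (pow_mem hnzd n)).mp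
      ((mul_comm _ _).trans h1)
  refine (Groth.Agent.S6895.result _ k).mpr ⟨hbot, fun j hj => ?_⟩
  exact top_le_iff.mp (htop ▸ Groth.Agent.Lead.fitt_ideal_antitone hj)

end strict

end Groth.Agent.H82.FittBlow
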