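import Groth.Prelude.Def_GrMap
import Mathlib.RingTheory.Etale.Basic
import Mathlib.RingTheory.Ideal.Maps
import Mathlib.Tactic

set_option autoImplicit false
universe u

namespace Groth.Agent.H82.GrEtale

open Polynomial

section generic

variable {A B : Type u} [CommRing A] [CommRing B] {φ : A →+* B} {I : Ideal A} {J : Ideal B}

theorem gr_bijective_of_keys (hIJ : I.map φ ≤ J)
    (key1 : ∀ (m : ℕ) (a : A), φ a ∈ J ^ m → a ∈ I ^ m)
    (key2 : ∀ (n : ℕ) (x : B), x ∈ J ^ n → ∃ a, a ∈ I ^ n ∧ x - φ a ∈ J ^ (n + 1)) :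
    Function.Bijective (AssocGr.map (AssocGr.IsFiltHom.adic hIJ)) := by
  classical
  constructor
  · rw [injective_iff_map_eq_zero]
    intro g hg
    obtain ⟨f, rfl⟩ := AssocGr.mkG_surjective _ g
    rw [AssocGr.map_mkG, AssocGr.mkG_eq_zero_iff, AssocGr.mem_succIdeal_iff] at hg
    rw [AssocGr.mkG_eq_zero_iff, AssocGr.mem_succIdeal_iff]
    intro n
    have := hg n
    rw [AssocGr.coe_reesMap, Polynomial.coeff_map] at this
    exact key1 (n + 1) _ this
  · intro g'
    obtain ⟨f', rfl⟩ := AssocGr.mkG_surjective _ g'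
    have hch : ∀ n : ℕ, ∃ a, a ∈ I ^ n ∧
        (f' : Polynomial B).coeff n - φ a ∈ J ^ (n + 1) := fun n => key2 n _ (f'.2 n)
    choose a ha1 ha2 using hch
    let fpoly : Polynomial A :=
      ∑ n ∈ (f' : Polynomial B).support, Polynomial.monomial n (a n)
    have hcoeff : ∀ n, fpoly.coeff n =
        if n ∈ (f' : Polynomial B).support then a n else 0 := by
      intro n
      simp only [fpoly, Polynomial.finsetSum_coeff, Polynomial.coeff_monomial]
      rw [Finset.sum_ite_eq']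
    have hmem : fpoly ∈ (FiltBl.IdealFiltration.adic I).rees := by
      intro n
      rw [hcoeff]
      split_ifs
      · exact ha1 n
      · exact Ideal.zero_mem _
    refine ⟨AssocGr.mkG _ ⟨fpoly, hmem⟩, ?_⟩
    rw [AssocGr.map_mkG, ← sub_eq_zero, ← map_sub, AssocGr.mkG_eq_zero_iff,
      AssocGr.mem_succIdeal_iff]
    intro n
    rw [Subalgebra.coe_sub, Polynomial.coeff_sub, AssocGr.coe_reesMap, Polynomial.coeff_map]
    change φ (fpoly.coeff n) - _ ∈ J ^ (n + 1)
    rw [hcoeff]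
    split_ifs with hn
    · rw [← neg_sub]
      exact neg_mem (ha2 n)
    · rw [Polynomial.notMem_support_iff.mp hn, map_zero, sub_zero]
      exact Ideal.zero_mem _

end generic

section etale

set_option linter.unusedSectionVars false

variable (R : Type u) [CommRing R] (S : Type u) [CommRing S] [Algebra R S]
  [Algebra.FormallyEtale R S] (J : Ideal S)
  (hJ : Function.Surjective (algebraMap R (S ⧸ J)))

local notation "I" => J.comap (algebraMap R S)

lemma pow_le (m : ℕ) : (I) ^ m ≤ (J ^ m).comap (algebraMap R S) := by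
  rw [← Ideal.map_le_iff_le_comap, Ideal.map_pow]
  exact Ideal.pow_right_mono Ideal.map_comap_le m

/-- `R/I^m → S/J`. -/
noncomputable def gmap (m : ℕ) (hm : 1 ≤ m) : (R ⧸ (I) ^ m) →ₐ[R] S ⧸ J :=
  Ideal.Quotient.liftₐ ((I) ^ m) (Algebra.ofId R (S ⧸ J)) (by
    intro a ha
    have h1 : a ∈ I := Ideal.pow_le_self (by omega) ha
    change algebraMap R (S ⧸ J) a = 0
    rw [IsScalarTower.algebraMap_apply R S (S ⧸ J)]
    exact Ideal.Quotient.eq_zero_iff_mem.2 h1)

lemma gmap_mk (m : ℕ) (hm : 1 ≤ m) (r : R) :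
    gmap R S J m hm (Ideal.Quotient.mk _ r) = algebraMap R (S ⧸ J) r := rfl

include hJ in
lemma gmap_surjective (m : ℕ) (hm : 1 ≤ m) : Function.Surjective (gmap R S J m hm) := by
  intro y
  obtain ⟨r, rfl⟩ := hJ y
  exact ⟨Ideal.Quotient.mk _ r, rfl⟩

lemma ker_gmap_le (m : ℕ) (hm : 1 ≤ m) :
    RingHom.ker (gmap R S J m hm).toRingHom ≤ (I).map (Ideal.Quotient.mk ((I) ^ m)) := by
  intro x hx
  obtain ⟨r, rfl⟩ := Ideal.Quotient.mk_surjective x
  rw [RingHom.mem_ker] at hx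
  change algebraMap R (S ⧸ J) r = 0 at hx
  rw [IsScalarTower.algebraMap_apply R S (S ⧸ J)] at hx
  have hx' : Ideal.Quotient.mk J (algebraMap R S r) = 0 := hx
  exact Ideal.mem_map_of_mem _ (Ideal.mem_comap.2 (Ideal.Quotient.eq_zero_iff_mem.1 hx'))

lemma ker_gmap_nilpotent (m : ℕ) (hm : 1 ≤ m) :
    IsNilpotent (RingHom.ker (gmap R S J m hm).toRingHom) := by
  refine ⟨m, ?_⟩
  rw [Ideal.zero_eq_bot, eq_bot_iff]
  refine (Ideal.pow_right_mono (ker_gmap_le R S J m hm) m).trans ?_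
  rw [← Ideal.map_pow, Ideal.map_quotient_self]

/-- the lift `S → R/I^m`. -/
noncomputable def psi (m : ℕ) (hm : 1 ≤ m) : S →ₐ[R] R ⧸ (I) ^ m :=
  Algebra.FormallySmooth.liftOfSurjective (Ideal.Quotient.mkₐ R J) (gmap R S J m hm)
    (gmap_surjective R S J hJ m hm) (ker_gmap_nilpotent R S J m hm)

lemma gmap_psi (m : ℕ) (hm : 1 ≤ m) (x : S) :
    gmap R S J m hm (psi R S J hJ m hm x) = Ideal.Quotient.mk J x :=
  AlgHom.congr_fun (Algebra.FormallySmooth.comp_liftOfSurjective (Ideal.Quotient.mkₐ R J)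
    (gmap R S J m hm) (gmap_surjective R S J hJ m hm) (ker_gmap_nilpotent R S J m hm)) x

lemma psi_mem (m : ℕ) (hm : 1 ≤ m) {x : S} (hx : x ∈ J) :
    psi R S J hJ m hm x ∈ (I).map (Ideal.Quotient.mk ((I) ^ m)) := by
  apply ker_gmap_le R S J m hm
  rw [RingHom.mem_ker]
  change gmap R S J m hm (psi R S J hJ m hm x) = 0
  rw [gmap_psi]
  exact Ideal.Quotient.eq_zero_iff_mem.2 hx

lemma psi_pow (m : ℕ) (hm : 1 ≤ m) {x : S} (hx : x ∈ J ^ m) : psi R S J hJ m hm x = 0 := by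
  have h1 : J.map (psi R S J hJ m hm).toRingHom ≤ (I).map (Ideal.Quotient.mk ((I) ^ m)) := by
    rw [Ideal.map_le_iff_le_comap]
    intro y hy
    exact psi_mem R S J hJ m hm hy
  have h2 : (J ^ m).map (psi R S J hJ m hm).toRingHom ≤ ⊥ := by
    rw [Ideal.map_pow]
    refine (Ideal.pow_right_mono h1 m).trans ?_
    rw [← Ideal.map_pow, Ideal.map_quotient_self]
  have := h2 (Ideal.mem_map_of_mem _ hx)
  simpa using this

include hJ in
lemma key1 (m : ℕ) (a : R) (ha : algebraMap R S a ∈ J ^ m) : a ∈ (I) ^ m := by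
  rcases Nat.eq_zero_or_pos m with rfl | hm
  · simp
  · have h1 := psi_pow R S J hJ m hm ha
    rw [AlgHom.commutes] at h1
    exact Ideal.Quotient.eq_zero_iff_mem.1 h1

/-- `R/I^m → S/J^m`. -/
noncomputable def theta (m : ℕ) : (R ⧸ (I) ^ m) →ₐ[R] S ⧸ J ^ m :=
  Ideal.Quotient.liftₐ ((I) ^ m) (Algebra.ofId R (S ⧸ J ^ m)) (by
    intro a ha
    change algebraMap R (S ⧸ J ^ m) a = 0
    rw [IsScalarTower.algebraMap_apply R S (S ⧸ J ^ m)]
    exact Ideal.Quotient.eq_zero_iff_mem.2 (pow_le R S J m ha))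

lemma theta_mk (m : ℕ) (r : R) :
    theta R S J m (Ideal.Quotient.mk _ r) = Ideal.Quotient.mk (J ^ m) (algebraMap R S r) := rfl

lemma theta_psi (m : ℕ) (hm : 1 ≤ m) :
    (theta R S J m).comp (psi R S J hJ m hm) = Ideal.Quotient.mkₐ R (J ^ m) := by
  have hle : J ^ m ≤ J := Ideal.pow_le_self (by omega)
  apply Algebra.FormallyUnramified.lift_unique_of_ringHom (Ideal.Quotient.factor hle)
  · refine ⟨m, ?_⟩
    rw [Ideal.zero_eq_bot, eq_bot_iff]
    have : RingHom.ker (Ideal.Quotient.factor hle) ≤ J.map (Ideal.Quotient.mk (J ^ m)) := by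
      intro x hx
      obtain ⟨s, rfl⟩ := Ideal.Quotient.mk_surjective x
      rw [RingHom.mem_ker, Ideal.Quotient.factor_mk] at hx
      exact Ideal.mem_map_of_mem _ (Ideal.Quotient.eq_zero_iff_mem.1 hx)
    refine (Ideal.pow_right_mono this m).trans ?_
    rw [← Ideal.map_pow, Ideal.map_quotient_self]
  · ext x
    simp only [RingHom.comp_apply, AlgHom.coe_toRingHom, AlgHom.comp_apply,
      Ideal.Quotient.mkₐ_eq_mk, Ideal.Quotient.factor_mk]
    obtain ⟨r, hr⟩ := Ideal.Quotient.mk_surjective (psi R S J hJ m hm x)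
    have h1 := gmap_psi R S J hJ m hm x
    rw [← hr] at h1 ⊢
    rw [theta_mk, Ideal.Quotient.factor_mk]
    rw [gmap_mk, IsScalarTower.algebraMap_apply R S (S ⧸ J)] at h1
    exact h1

include hJ in
lemma surj (m : ℕ) (hm : 1 ≤ m) (x : S) : ∃ a : R, x - algebraMap R S a ∈ J ^ m := by
  obtain ⟨r, hr⟩ := Ideal.Quotient.mk_surjective (psi R S J hJ m hm x)
  refine ⟨r, ?_⟩
  have h1 := AlgHom.congr_fun (theta_psi R S J hJ m hm) x
  rw [AlgHom.comp_apply, ← hr, theta_mk, Ideal.Quotient.mkₐ_eq_mk] at h1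
  rw [← Ideal.Quotient.eq]
  exact h1.symm

include hJ in
lemma key2 (n : ℕ) (x : S) (hx : x ∈ J ^ n) :
    ∃ a, a ∈ (I) ^ n ∧ x - algebraMap R S a ∈ J ^ (n + 1) := by
  obtain ⟨a, ha⟩ := surj R S J hJ (n + 1) (by omega) x
  refine ⟨a, key1 R S J hJ n a ?_, ha⟩
  have : algebraMap R S a = x - (x - algebraMap R S a) := by ring
  rw [this]
  exact Ideal.sub_mem _ hx (Ideal.pow_le_pow_right (Nat.le_succ n) ha)

include hJ in
theorem main :
    Function.Bijective (AssocGr.map (AssocGr.IsFiltHom.adic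
      (Ideal.map_comap_le : (J.comap (algebraMap R S)).map (algebraMap R S) ≤ J))) :=
  @gr_bijective_of_keys R S _ _ (algebraMap R S) (J.comap (algebraMap R S)) J
    Ideal.map_comap_le (key1 R S J hJ) (key2 R S J hJ)

end etale

end Groth.Agent.H82.GrEtale
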