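import Groth.Prelude.Def_GrMap
import Mathlib.RingTheory.AdicCompletion.Basic
import Mathlib.Tactic

set_option autoImplicit false
universe u

namespace Groth.Agent.H82.AdicGrR

open AssocGr Polynomial

variable {A : Type u} [CommRing A] {B : Type u} [CommRing B] (φ : A →+* B) (I : Ideal A) (J : Ideal B)
  (hIJ : I.map φ ≤ J)

theorem smodEq_pow_iff {R : Type*} [CommRing R] (K : Ideal R) (m : ℕ) (a b : R) :
    a ≡ b [SMOD (K ^ m • ⊤ : Submodule R R)] ↔ a - b ∈ K ^ m := by
  rw [SModEq.sub_mem, smul_eq_mul, Ideal.mul_top]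

include hIJ in
/-- degreewise surjectivity -/
theorem approx (h : Function.Surjective (AssocGr.map (AssocGr.IsFiltHom.adic hIJ)))
    (n : ℕ) (b : B) (hb : b ∈ J ^ n) : ∃ a ∈ I ^ n, b - φ a ∈ J ^ (n + 1) := by
  have hb' : b ∈ (FiltBl.IdealFiltration.adic J).F n := hb
  obtain ⟨g, hg⟩ := h (inDeg (FiltBl.IdealFiltration.adic J) n ⟨b, hb'⟩ : GrRing _)
  obtain ⟨f, rfl⟩ := mkG_surjective _ g
  rw [map_mkG, coe_inDeg, ← sub_eq_zero, ← map_sub, mkG_eq_zero_iff, mem_succIdeal_iff] at hg
  have h2 := hg n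
  refine ⟨(f : A[X]).coeff n, f.2 n, ?_⟩
  have h3 : ((reesMap (AssocGr.IsFiltHom.adic hIJ) f -
      (monom (FiltBl.IdealFiltration.adic J) n ⟨b, hb'⟩ : (FiltBl.IdealFiltration.adic J).rees) :
      (FiltBl.IdealFiltration.adic J).rees) : B[X]).coeff n = φ ((f : A[X]).coeff n) - b := by
    rw [Subalgebra.coe_sub, coeff_sub, coe_reesMap, coeff_map, coe_coe_monom, coeff_monomial,
      if_pos rfl]
  rw [h3] at h2
  have : b - φ ((f : A[X]).coeff n) = -(φ ((f : A[X]).coeff n) - b) := by ring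
  rw [this]
  exact neg_mem h2

include hIJ in
/-- lifting with convergence: every `b ∈ J ^ n₀` is `φ a` for some `a ∈ I ^ n₀` -/
theorem exists_preimage [IsPrecomplete I A] [IsHausdorff J B]
    (h : Function.Surjective (AssocGr.map (AssocGr.IsFiltHom.adic hIJ)))
    (n₀ : ℕ) (b : B) (hb : b ∈ J ^ n₀) : ∃ a ∈ I ^ n₀, φ a = b := by
  classical
  have hA : ∀ (n : ℕ) (b : B), b ∈ J ^ n → ∃ a, a ∈ I ^ n ∧ b - φ a ∈ J ^ (n + 1) :=
    fun n b hb => by
      obtain ⟨a, ha, hab⟩ := approx φ I J hIJ h n b hb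
      exact ⟨a, ha, hab⟩
  choose! c hc1 hc2 using hA
  let z : ℕ → B := fun n => Nat.rec b (fun n zn => zn - φ (c (n₀ + n) zn)) n
  have hzs : ∀ n, z (n + 1) = z n - φ (c (n₀ + n) (z n)) := fun n => rfl
  have hzmem : ∀ n, z n ∈ J ^ (n₀ + n) := by
    intro n
    induction n with
    | zero => exact hb
    | succ n ih => rw [hzs]; exact hc2 _ _ ih
  let s : ℕ → A := fun K => ∑ n ∈ Finset.range K, c (n₀ + n) (z n)
  have hs : ∀ K, b - φ (s K) = z K := by
    intro K
    induction K with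
    | zero => simp [s, z]
    | succ K ih =>
      have : s (K + 1) = s K + c (n₀ + K) (z K) := Finset.sum_range_succ _ _
      rw [hzs, this, map_add, ← sub_sub, ih]
  have hsmem : ∀ K, s K ∈ I ^ n₀ := fun K =>
    Ideal.sum_mem _ fun n _ => Ideal.pow_le_pow_right (Nat.le_add_right _ _) (hc1 _ _ (hzmem n))
  have hcauchy : ∀ {m n : ℕ}, m ≤ n → s m ≡ s n [SMOD (I ^ m • ⊤ : Submodule A A)] := by
    intro m n hmn
    rw [smodEq_pow_iff, ← neg_sub, neg_mem_iff]
    have : s n - s m = ∑ j ∈ Finset.Ico m n, c (n₀ + j) (z j) := by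
      rw [Finset.sum_Ico_eq_sub _ hmn]
    rw [this]
    refine Ideal.sum_mem _ (fun j hj => ?_)
    rw [Finset.mem_Ico] at hj
    exact Ideal.pow_le_pow_right (by omega) (hc1 _ _ (hzmem j))
  obtain ⟨L, hL⟩ := IsPrecomplete.prec' (I := I) (M := A) s (fun {m n} hmn => hcauchy hmn)
  have hL' : ∀ m, s m - L ∈ I ^ m := fun m => (smodEq_pow_iff I m _ _).mp (hL m)
  refine ⟨L, ?_, ?_⟩
  · have : L = s n₀ - (s n₀ - L) := by ring
    rw [this]
    exact Ideal.sub_mem _ (hsmem n₀) (hL' n₀)
  · have hzero : b - φ L = 0 := by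
      apply IsHausdorff.haus' (I := J) (M := B)
      intro m
      rw [SModEq.zero, smul_eq_mul, Ideal.mul_top]
      have e : b - φ L = z m + φ (s m - L) := by rw [← hs, map_sub]; ring
      rw [e]
      refine Ideal.add_mem _ (Ideal.pow_le_pow_right (Nat.le_add_left _ _) (hzmem m)) ?_
      exact (AssocGr.IsFiltHom.adic hIJ) m (hL' m)
    exact (sub_eq_zero.mp hzero).symm

include hIJ in
theorem main [IsPrecomplete I A] [IsHausdorff J B]
    (h : Function.Surjective (AssocGr.map (AssocGr.IsFiltHom.adic hIJ))) :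
    Function.Surjective φ ∧ I.map φ = J ∧ IsAdicComplete J B := by
  have hsurj : Function.Surjective φ := by
    intro b
    obtain ⟨a, _, ha⟩ := exists_preimage φ I J hIJ h 0 b (by simp)
    exact ⟨a, ha⟩
  refine ⟨hsurj, le_antisymm hIJ ?_, ?_⟩
  · intro b hb
    obtain ⟨a, ha, hab⟩ := exists_preimage φ I J hIJ h 1 b (by simpa using hb)
    rw [← hab]
    exact Ideal.mem_map_of_mem φ (by simpa using ha)
  · have hprec : IsPrecomplete J B := by
      refine ⟨fun f hf => ?_⟩
      obtain ⟨a₀, ha₀⟩ := hsurj (f 0)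
      have hc : ∀ m, ∃ c ∈ I ^ m, φ c = f (m + 1) - f m := by
        intro m
        apply exists_preimage φ I J hIJ h m
        have := hf (Nat.le_succ m)
        rw [smodEq_pow_iff] at this
        rw [← neg_sub]
        exact neg_mem this
      choose c hc1 hc2 using hc
      let a : ℕ → A := fun m => a₀ + ∑ j ∈ Finset.range m, c j
      have ha : ∀ m, φ (a m) = f m := by
        intro m
        induction m with
        | zero => simp [a, ha₀]
        | succ m ih =>
          have : a (m + 1) = a m + c m := by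
            simp only [a, Finset.sum_range_succ]; ring
          rw [this, map_add, ih, hc2]; ring
      have hcauchy : ∀ {m n : ℕ}, m ≤ n → a m ≡ a n [SMOD (I ^ m • ⊤ : Submodule A A)] := by
        intro m n hmn
        rw [smodEq_pow_iff, ← neg_sub, neg_mem_iff]
        have : a n - a m = ∑ j ∈ Finset.Ico m n, c j := by
          rw [Finset.sum_Ico_eq_sub _ hmn]
          simp only [a]; ring
        rw [this]
        refine Ideal.sum_mem _ (fun j hj => ?_)
        rw [Finset.mem_Ico] at hj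
        exact Ideal.pow_le_pow_right hj.1 (hc1 j)
      obtain ⟨L, hL⟩ := IsPrecomplete.prec' (I := I) (M := A) a (fun {m n} hmn => hcauchy hmn)
      refine ⟨φ L, fun m => ?_⟩
      rw [smodEq_pow_iff, ← ha m, ← map_sub]
      exact (AssocGr.IsFiltHom.adic hIJ) m ((smodEq_pow_iff I m _ _).mp (hL m))
    exact { toIsHausdorff := inferInstance, toIsPrecomplete := hprec }

end Groth.Agent.H82.AdicGrR
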