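import Mathlib
import Groth.Prelude.Def_Dieu
import Groth.Agent.H15.FFDescElem

/-! Descent of flat modules over Witt vectors along a faithfully flat ring map (helper82). -/

set_option autoImplicit false
set_option linter.style.haveILetI false
universe u v w

open TensorProduct Dieu

namespace Groth.Agent.H82.WittDesc

section Abstract

variable {A : Type u} {B : Type v} {C : Type w} [CommRing A] [CommRing B] [CommRing C]
variable (g : A →+* B) (h₁ h₂ : B →+* C) (e : h₁.comp g = h₂.comp g)
variable (M : Type*) [AddCommGroup M] [Module A M]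

/-- `a ↦ g a` as a linear map into `Res g` -/
def gam : A →ₗ[A] Res g where
  toFun a := Res.mk g (g a)
  map_add' a b := by apply Res.ext; simp
  map_smul' a b := by apply Res.ext; simp

include e in
lemma e_apply (a : A) : h₁ (g a) = h₂ (g a) := by
  have := congrArg (fun f => f a) e
  simpa using this

/-- `b ↦ h₁ b - h₂ b` as a linear map -/
def del : Res g →ₗ[A] Res (h₂.comp g) where
  toFun t := Res.mk (h₂.comp g) (h₁ t.val - h₂ t.val)
  map_add' s t := by apply Res.ext; simp; ring
  map_smul' a t := by
    apply Res.ext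
    simp only [Res.val_smul, Res.val_mk, map_mul, RingHom.id_apply, RingHom.comp_apply]
    rw [e_apply g h₁ h₂ e a]; ring

lemma exact_gam_del (hEq : ∀ b : B, h₁ b = h₂ b → ∃ a, g a = b) :
    Function.Exact (gam g) (del g h₁ h₂ e) := by
  intro t
  constructor
  · intro ht
    have h1 : h₁ t.val - h₂ t.val = 0 := ht
    obtain ⟨a, ha⟩ := hEq t.val (sub_eq_zero.mp h1)
    exact ⟨a, ha⟩
  · rintro ⟨a, rfl⟩
    apply Res.ext
    change h₁ (g a) - h₂ (g a) = 0
    rw [e_apply g h₁ h₂ e a, sub_self]

lemma gam_injective (hg : Function.Injective g) : Function.Injective (gam g) := fun _ _ h => hg h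

lemma iota_eq (x : M) :
    (BC.ι g M x : Res g ⊗[A] M) = (gam g).rTensor M ((TensorProduct.lid A M).symm x) := by
  rw [TensorProduct.lid_symm_apply, LinearMap.rTensor_tmul]
  change (Res.mk g 1) ⊗ₜ[A] x = (Res.mk g (g 1)) ⊗ₜ[A] x
  rw [map_one]

/-- `del ⊗ M` viewed on `BC` -/
def F1 : BC g M →+ BC (h₂.comp g) M := ((del g h₁ h₂ e).rTensor M).toAddMonoidHom

/-- `castHom ∘ push h₁ - push h₂` -/
def F2 : BC g M →+ BC (h₂.comp g) M :=
  (BC.castHom e).toAddMonoidHom.comp (BC.push g h₁).toAddMonoidHom - (BC.push g h₂).toAddMonoidHom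

lemma F2_apply (z : BC g M) :
    F2 g h₁ h₂ e M z = BC.castHom e (BC.push g h₁ z) - BC.push g h₂ z := rfl

lemma F1_tmul (b : B) (x : M) :
    F1 g h₁ h₂ e M (BC.tmul g b x) = BC.tmul (h₂.comp g) (h₁ b - h₂ b) x := by
  change ((del g h₁ h₂ e).rTensor M) ((Res.mk g b) ⊗ₜ[A] x) = _
  rw [LinearMap.rTensor_tmul]
  rfl

lemma F1_eq_F2 : F1 g h₁ h₂ e M = F2 g h₁ h₂ e M := by
  apply DFunLike.ext
  intro z
  induction z using BC.induction_on g with
  | zero => rw [map_zero, map_zero]
  | tmul b x =>
    rw [F1_tmul, F2_apply, BC.push_tmul, BC.push_tmul, BC.castHom_tmul, eq_sub_iff_add_eq,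
      ← BC.add_tmul, sub_add_cancel]
  | add z₁ z₂ h1 h2 => rw [map_add, map_add, h1, h2]

theorem main [Module.Flat A M] (hg : Function.Injective g)
    (hEq : ∀ b : B, h₁ b = h₂ b → ∃ a, g a = b) :
    Function.Injective (BC.ι g M) ∧
      ∀ z : BC g M, (BC.castHom e (BC.push g h₁ z) = BC.push g h₂ z ↔
        z ∈ Set.range (BC.ι g M)) := by
  have hinj : Function.Injective ((gam g).rTensor M) :=
    Module.Flat.rTensor_preserves_injective_linearMap _ (gam_injective g hg)
  have hex : Function.Exact ((gam g).rTensor M) ((del g h₁ h₂ e).rTensor M) :=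
    Module.Flat.rTensor_exact M (exact_gam_del g h₁ h₂ e hEq)
  constructor
  · intro x y hxy
    have h1 := iota_eq g M x
    have h2 := iota_eq g M y
    have h3 : (gam g).rTensor M ((TensorProduct.lid A M).symm x) =
        (gam g).rTensor M ((TensorProduct.lid A M).symm y) := by
      rw [← h1, ← h2, hxy]
    exact (TensorProduct.lid A M).symm.injective (hinj h3)
  · intro z
    have h1 : F1 g h₁ h₂ e M z = F2 g h₁ h₂ e M z := DFunLike.congr_fun (F1_eq_F2 g h₁ h₂ e M) z
    have h2 : (BC.castHom e (BC.push g h₁ z) = BC.push g h₂ z) ↔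
        (del g h₁ h₂ e).rTensor M z = 0 := by
      constructor
      · intro h
        have h3 : F2 g h₁ h₂ e M z = 0 := sub_eq_zero.mpr h
        have h4 : F1 g h₁ h₂ e M z = 0 := h1.trans h3
        exact h4
      · intro h
        have h3 : F1 g h₁ h₂ e M z = 0 := h
        have h4 : F2 g h₁ h₂ e M z = 0 := h1.symm.trans h3
        exact sub_eq_zero.mp h4
    rw [h2, hex z]
    constructor
    · rintro ⟨y, rfl⟩
      refine ⟨TensorProduct.lid A M y, ?_⟩
      have := iota_eq g M (TensorProduct.lid A M y)
      rw [LinearEquiv.symm_apply_apply] at this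
      exact this
    · rintro ⟨x, rfl⟩
      exact ⟨_, (iota_eq g M x).symm⟩

end Abstract

section Witt

variable (p : ℕ) [Fact p.Prime] (S R : Type u) [CommRing S] [CommRing R] [Algebra S R]
  [Module.FaithfullyFlat S R]

lemma exists_of_include_eq (b : R)
    (hb : (Algebra.TensorProduct.includeLeftRingHom : R →+* R ⊗[S] R) b =
      ((Algebra.TensorProduct.includeRight : R →ₐ[S] R ⊗[S] R) : R →+* R ⊗[S] R) b) :
    ∃ s : S, algebraMap S R s = b := by
  have h1 : b ⊗ₜ[S] (1 : R) = (1 : R) ⊗ₜ[S] b := hb
  have h2 := congrArg (LinearMap.lTensor R (TensorProduct.rid S R).symm.toLinearMap) h1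
  simp only [LinearMap.lTensor_tmul, LinearEquiv.coe_coe, TensorProduct.rid_symm_apply] at h2
  obtain ⟨m, hm⟩ := Groth.Agent.H15.FFD.exists_of_eq S R S (b ⊗ₜ[S] (1 : S))
    (by rw [Groth.Agent.H15.FFD.d₂_tmul]; exact h2.symm)
  refine ⟨m, ?_⟩
  have h3 := congrArg (TensorProduct.rid S R) hm
  simp only [TensorProduct.rid_tmul] at h3
  rw [Algebra.algebraMap_eq_smul_one]
  simpa using h3

theorem main_witt (M : Type v) [AddCommGroup M] [Module (WittVector p S) M]
    [Module.Flat (WittVector p S) M]
    (e : (WittVector.map (Algebra.TensorProduct.includeLeftRingHom : R →+* TensorProduct S R R) : WittVector p R →+* WittVector p (TensorProduct S R R)).comp (WittVector.map (algebraMap S R) : WittVector p S →+* WittVector p R) = (WittVector.map ((Algebra.TensorProduct.includeRight : R →ₐ[S] TensorProduct S R R) : R →+* TensorProduct S R R) : WittVector p R →+* WittVector p (TensorProduct S R R)).comp (WittVector.map (algebraMap S R) : WittVector p S →+* WittVector p R)) :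
    Function.Injective (Dieu.BC.ι (WittVector.map (algebraMap S R) : WittVector p S →+* WittVector p R) M) ∧
      ∀ z : Dieu.BC (WittVector.map (algebraMap S R) : WittVector p S →+* WittVector p R) M,
        (Dieu.BC.castHom e (Dieu.BC.push (WittVector.map (algebraMap S R) : WittVector p S →+* WittVector p R) (WittVector.map (Algebra.TensorProduct.includeLeftRingHom : R →+* TensorProduct S R R) : WittVector p R →+* WittVector p (TensorProduct S R R)) z) = Dieu.BC.push (WittVector.map (algebraMap S R) : WittVector p S →+* WittVector p R) (WittVector.map ((Algebra.TensorProduct.includeRight : R →ₐ[S] TensorProduct S R R) : R →+* TensorProduct S R R) : WittVector p R →+* WittVector p (TensorProduct S R R)) z ↔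
          z ∈ Set.range (Dieu.BC.ι (WittVector.map (algebraMap S R) : WittVector p S →+* WittVector p R) M)) := by
  refine main _ _ _ e M ?_ ?_
  · exact WittVector.map_injective _ (FaithfulSMul.algebraMap_injective S R)
  · intro b hb
    have h : ∀ n, ∃ s : S, algebraMap S R s = b.coeff n := by
      intro n
      apply exists_of_include_eq
      have := congrArg (fun w => w.coeff n) hb
      simpa only [WittVector.map_coeff] using this
    choose s hs using h
    refine ⟨WittVector.mk p s, ?_⟩
    ext n
    rw [WittVector.map_coeff, WittVector.coeff_mk, hs]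

end Witt

end Groth.Agent.H82.WittDesc
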