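import Groth.Agent.H82.AugDim

set_option autoImplicit false

namespace Groth.Agent.H82.Cartier

open TensorProduct MvPolynomial Groth.Agent.H82.AugGr

universe u v
variable {k : Type u} {A : Type v} [Field k] [CommRing A] [HopfAlgebra k A]

section Basis

variable {ι : Type*} [Fintype ι] [DecidableEq ι] {b : Module.Basis ι k (aug k A).Cotangent}

lemma nilpotent_mem_pow_aux [CharZero k] {x : ι → A} (hx : ∀ i, x i ∈ aug k A)
    (hxb : ∀ i, (aug k A).toCotangent ⟨x i, hx i⟩ = b i) (y : A) (e : ℕ) (hy : y ^ (e + 1) = 0) :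
    ∀ m : ℕ, y ∈ (aug k A) ^ m := by
  intro m
  induction m with
  | zero => simp
  | succ m ih =>
    obtain ⟨u, ⟨p, hp, rfl⟩, v, hv, hyv⟩ := Submodule.mem_sup.mp (pow_le_span hx hxb m ih)
    change p.IsHomogeneous m at hp
    change aeval x p + v = y at hyv
    change v ∈ (aug k A) ^ (m + 1) at hv
    -- show `p = 0`
    have hpe : (p ^ (e + 1)).IsHomogeneous (m * (e + 1)) := hp.pow (e + 1)
    have hmem : aeval x (p ^ (e + 1)) ∈ (aug k A) ^ (m * (e + 1) + 1) := by
      have h1 : aeval x (p ^ (e + 1)) = (aeval x p) ^ (e + 1) - y ^ (e + 1) := by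
        rw [hy, sub_zero, map_pow]
      rw [h1, ← geom_sum₂_mul]
      have h2 : aeval x p - y = -v := by rw [← hyv]; ring
      rw [h2]
      have h3 : ∑ i ∈ Finset.range (e + 1), (aeval x p) ^ i * y ^ (e + 1 - 1 - i) ∈ (aug k A) ^ (m * e) := by
        refine Ideal.sum_mem _ fun i hi => ?_
        have hi' : i ≤ e := Nat.lt_succ_iff.mp (Finset.mem_range.mp hi)
        have : m * e = m * i + m * (e + 1 - 1 - i) := by
          rw [← Nat.mul_add]; congr 1; omega
        rw [this, pow_add, pow_mul, pow_mul]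
        exact Ideal.mul_mem_mul (Ideal.pow_mem_pow (aeval_mem_pow hx hp) _) (Ideal.pow_mem_pow ih _)
      have h4 : m * (e + 1) + 1 = m * e + (m + 1) := by ring
      rw [h4, pow_add]
      exact Ideal.mul_mem_mul h3 (neg_mem hv)
    have hp0 : p ^ (e + 1) = 0 :=
      indep hx hxb _ (Nat.cast_ne_zero.mpr (Nat.factorial_ne_zero _)) _ hpe hmem
    have hp0' : p = 0 := pow_eq_zero_iff (Nat.succ_ne_zero e) |>.mp hp0
    rw [← hyv, hp0', map_zero, zero_add]
    exact hv

end Basis

lemma nilpotent_mem_pow [CharZero k] [Algebra.FiniteType k A] (y : A) (hy : IsNilpotent y) (m : ℕ) :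
    y ∈ (aug k A) ^ m := by
  classical
  have := finite_cotangent (k := k) (A := A)
  let b := Module.finBasis k (aug k A).Cotangent
  choose z hz using fun i => Ideal.toCotangent_surjective (aug k A) (b i)
  obtain ⟨e, he⟩ := hy
  have he' : y ^ (e + 1) = 0 := by rw [pow_succ, he, zero_mul]
  exact nilpotent_mem_pow_aux (b := b) (x := fun i => (z i : A)) (fun i => (z i).2) (fun i => hz i) y e he' m

/-- A nilpotent element is killed by an element of counit one. -/
lemma exists_counit_one_mul_eq_zero [CharZero k] [Algebra.FiniteType k A] (y : A) (hy : IsNilpotent y) :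
    ∃ s : A, Coalgebra.counit (R := k) s = 1 ∧ s * y = 0 := by
  have : IsNoetherianRing A := Algebra.FiniteType.isNoetherianRing k A
  have hmem : y ∈ (⨅ i : ℕ, (aug k A) ^ i • ⊤ : Submodule A A) := by
    rw [Submodule.mem_iInf]
    intro i
    rw [smul_eq_mul, Ideal.mul_top]
    exact nilpotent_mem_pow y hy i
  obtain ⟨r, hr⟩ := (Ideal.mem_iInf_smul_pow_eq_bot_iff (aug k A) y).mp hmem
  refine ⟨1 - r, ?_, ?_⟩
  · rw [map_sub, mem_aug.mp r.2, sub_zero, Bialgebra.counit_one]
  · rw [sub_mul, one_mul, ← smul_eq_mul, hr, sub_self]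


section Translate

open WithConv

/-- translation by a point -/
noncomputable def tau (G : WithConv (A →ₐ[k] k)) : WithConv (A →ₐ[k] A) :=
  toConv ((Algebra.ofId k A).comp G.ofConv) * toConv (AlgHom.id k A)

lemma tau_one : (tau (1 : WithConv (A →ₐ[k] k))).ofConv = AlgHom.id k A := by
  have : toConv ((Algebra.ofId k A).comp (1 : WithConv (A →ₐ[k] k)).ofConv) = (1 : WithConv (A →ₐ[k] A)) := by
    apply WithConv.ofConv_injective
    ext a
    simp [AlgHom.convOne_apply]
  rw [tau, this, one_mul]

lemma ofId_mul (G G' : WithConv (A →ₐ[k] k)) :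
    toConv ((Algebra.ofId k A).comp (G * G').ofConv) =
      toConv ((Algebra.ofId k A).comp G.ofConv) * toConv ((Algebra.ofId k A).comp G'.ofConv) := by
  apply WithConv.ofConv_injective
  exact AlgHom.comp_convMul_distrib (Algebra.ofId k A) G G'

lemma tau_comp (G G' : WithConv (A →ₐ[k] k)) :
    (tau G').ofConv.comp (tau G).ofConv = (tau (G * G')).ofConv := by
  have h1 := AlgHom.comp_convMul_distrib (tau G').ofConv (toConv ((Algebra.ofId k A).comp G.ofConv))
    (toConv (AlgHom.id k A))
  have h2 : (tau G').ofConv.comp ((Algebra.ofId k A).comp G.ofConv) = (Algebra.ofId k A).comp G.ofConv := by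
    ext a
    simp [Algebra.ofId_apply]
  rw [ofConv_toConv, ofConv_toConv, h2, AlgHom.comp_id, toConv_ofConv] at h1
  rw [show (tau G) = toConv ((Algebra.ofId k A).comp G.ofConv) * toConv (AlgHom.id k A) from rfl, h1]
  rw [tau, tau, ofId_mul, mul_assoc]

lemma pt_comp_tau (G G' : WithConv (A →ₐ[k] k)) :
    G.ofConv.comp (tau G').ofConv = (G' * G).ofConv := by
  have h1 := AlgHom.comp_convMul_distrib G.ofConv (toConv ((Algebra.ofId k A).comp G'.ofConv))
    (toConv (AlgHom.id k A))
  have h2 : G.ofConv.comp ((Algebra.ofId k A).comp G'.ofConv) = G'.ofConv := by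
    ext a
    simp [Algebra.ofId_apply]
  rw [ofConv_toConv, ofConv_toConv, h2, AlgHom.comp_id, toConv_ofConv, toConv_ofConv] at h1
  exact h1

/-- A nilpotent element is killed by an element not vanishing at a given point. -/
lemma exists_pt_one_mul_eq_zero [CharZero k] [Algebra.FiniteType k A] (y : A) (hy : IsNilpotent y)
    (g : A →ₐ[k] k) : ∃ t : A, g t = 1 ∧ t * y = 0 := by
  set G : WithConv (A →ₐ[k] k) := toConv g with hG
  obtain ⟨s, hs1, hs2⟩ := exists_counit_one_mul_eq_zero (k := k) ((tau G).ofConv y) (hy.map _)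
  refine ⟨(tau G⁻¹).ofConv s, ?_, ?_⟩
  · have := pt_comp_tau G G⁻¹
    rw [inv_mul_cancel] at this
    have h2 := DFunLike.congr_fun this s
    rw [AlgHom.comp_apply] at h2
    rw [show g = G.ofConv from rfl, h2]
    change (1 : WithConv (A →ₐ[k] k)) s = 1
    rw [AlgHom.convOne_apply, hs1]
    rfl
  · have h1 : y = (tau G⁻¹).ofConv ((tau G).ofConv y) := by
      rw [← AlgHom.comp_apply, tau_comp, mul_inv_cancel, tau_one]
      rfl
    rw [h1, ← map_mul, hs2, map_zero]

end Translate


section AlgClosed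

/-- every maximal ideal of a finite type algebra over an algebraically closed field is the
kernel of a point -/
lemma exists_pt_of_isMaximal [IsAlgClosed k] [Algebra.FiniteType k A] (M : Ideal A) [M.IsMaximal] :
    ∃ g : A →ₐ[k] k, RingHom.ker g = M := by
  letI := Ideal.Quotient.field M
  haveI : Algebra.FiniteType k (A ⧸ M) :=
    Algebra.FiniteType.of_surjective (Ideal.Quotient.mkₐ k M) (Ideal.Quotient.mkₐ_surjective k M)
  haveI : Module.Finite k (A ⧸ M) := finite_of_finite_type_of_isJacobsonRing k (A ⧸ M)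
  have hbij : Function.Bijective (algebraMap k (A ⧸ M)) := IsAlgClosed.algebraMap_bijective_of_isIntegral
  let e : k ≃ₐ[k] (A ⧸ M) := AlgEquiv.ofBijective (Algebra.ofId k (A ⧸ M)) hbij
  refine ⟨(e.symm : (A ⧸ M) →ₐ[k] k).comp (Ideal.Quotient.mkₐ k M), ?_⟩
  ext a
  rw [RingHom.mem_ker]
  change e.symm (Ideal.Quotient.mk M a) = 0 ↔ _
  rw [map_eq_zero_iff _ e.symm.injective, Ideal.Quotient.eq_zero_iff_mem]

/-- **Cartier's theorem**, algebraically closed case. -/
theorem isReduced_of_isAlgClosed [IsAlgClosed k] [CharZero k] [Algebra.FiniteType k A] : IsReduced A := by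
  refine ⟨fun y hy => ?_⟩
  by_contra hne
  have hJ : (Ideal.span {y}).annihilator ≠ ⊤ := by
    intro h
    have h1 : (1 : A) ∈ (Ideal.span {y}).annihilator := by rw [h]; trivial
    rw [Submodule.mem_annihilator_span_singleton] at h1
    exact hne (by simpa using h1)
  obtain ⟨M, hM, hJM⟩ := Ideal.exists_le_maximal _ hJ
  obtain ⟨g, hg⟩ := exists_pt_of_isMaximal (k := k) M
  obtain ⟨t, ht1, ht2⟩ := exists_pt_one_mul_eq_zero y hy g
  have htJ : t ∈ (Ideal.span {y}).annihilator := by
    rw [Submodule.mem_annihilator_span_singleton]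
    exact ht2
  have : t ∈ RingHom.ker g := by rw [hg]; exact hJM htJ
  rw [RingHom.mem_ker, ht1] at this
  exact one_ne_zero this

end AlgClosed

section General

/-- **Cartier's theorem**: a finitely generated commutative Hopf algebra over a field of
characteristic zero is reduced. -/
theorem isReduced [CharZero k] [Algebra.FiniteType k A] : IsReduced A := by
  have h : IsReduced (AlgebraicClosure k ⊗[k] A) := isReduced_of_isAlgClosed (k := AlgebraicClosure k)
  have hinj : Function.Injective (Algebra.TensorProduct.includeRight : A →ₐ[k] AlgebraicClosure k ⊗[k] A) :=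
    Algebra.TensorProduct.includeRight_injective (FaithfulSMul.algebraMap_injective k (AlgebraicClosure k))
  exact isReduced_of_injective _ hinj

end General

end Groth.Agent.H82.Cartier
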