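import Groth.Agent.H82.Cartier
import Groth.Agent.H48.AlgClosedTensor

set_option autoImplicit false

namespace Groth.Agent.H82.ConnDomain

open TensorProduct Groth.Agent.H82.Cartier Groth.Agent.H82.AugGr WithConv

universe u v
variable {k : Type u} {A : Type v} [Field k] [CommRing A] [HopfAlgebra k A]

/-- translation as an algebra automorphism -/
noncomputable def tauEquiv (G : WithConv (A →ₐ[k] k)) : A ≃ₐ[k] A :=
  AlgEquiv.ofAlgHom (tau G).ofConv (tau G⁻¹).ofConv
    (by rw [tau_comp, inv_mul_cancel, tau_one]) (by rw [tau_comp, mul_inv_cancel, tau_one])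

lemma tauEquiv_apply (G : WithConv (A →ₐ[k] k)) (a : A) : tauEquiv G a = (tau G).ofConv a := rfl

lemma tauEquiv_mul (G H : WithConv (A →ₐ[k] k)) (a : A) :
    tauEquiv H (tauEquiv G a) = tauEquiv (G * H) a := by
  simp only [tauEquiv_apply]
  rw [← AlgHom.comp_apply, tau_comp]

lemma pt_tauEquiv (G H : WithConv (A →ₐ[k] k)) (a : A) :
    G.ofConv (tauEquiv H a) = (H * G).ofConv a := by
  rw [tauEquiv_apply, ← AlgHom.comp_apply, pt_comp_tau]

/-- transitivity of translations on points -/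
lemma exists_tauEquiv_eq (g g' : A →ₐ[k] k) :
    ∃ H : WithConv (A →ₐ[k] k), ∀ a, g' (tauEquiv H a) = g a := by
  refine ⟨toConv g * (toConv g')⁻¹, fun a => ?_⟩
  have := pt_tauEquiv (toConv g') (toConv g * (toConv g')⁻¹) a
  rw [inv_mul_cancel_right] at this
  exact this

lemma nontrivial_of_hopf (k : Type u) {A : Type v} [Field k] [CommRing A] [HopfAlgebra k A] :
    Nontrivial A := by
  refine ⟨⟨0, 1, fun h => ?_⟩⟩
  have := congrArg (Coalgebra.counit (R := k)) h
  rw [map_zero, Bialgebra.counit_one] at this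
  exact zero_ne_one this

section AlgClosed

variable [IsAlgClosed k] [Algebra.FiniteType k A]

/-- there is a point lying on exactly one irreducible component -/
lemma exists_good_pt (P₁ : Ideal A) (hP₁ : P₁ ∈ minimalPrimes A) :
    ∃ g₀ : A →ₐ[k] k, P₁ ≤ RingHom.ker g₀ ∧
      ∀ P ∈ minimalPrimes A, P ≤ RingHom.ker g₀ → P = P₁ := by
  classical
  have : IsNoetherianRing A := Algebra.FiniteType.isNoetherianRing k A
  have hfin : (minimalPrimes A).Finite := minimalPrimes.finite_of_isNoetherianRing A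
  have hprime : P₁.IsPrime := hP₁.1.1
  set T : Finset (Ideal A) := hfin.toFinset.erase P₁ with hT
  have hnot : ¬ (T.inf id ≤ P₁) := by
    intro hle
    rw [Ideal.IsPrime.inf_le' hprime] at hle
    obtain ⟨P, hPT, hPle⟩ := hle
    rw [hT, Finset.mem_erase, Set.Finite.mem_toFinset] at hPT
    have : P₁ ≤ P := hP₁.2 ⟨hPT.2.1.1, bot_le⟩ hPle
    exact hPT.1 (le_antisymm hPle this)
  obtain ⟨a, haT, haP⟩ := SetLike.not_le_iff_exists.mp hnot
  -- work in the domain A / P₁
  have : Algebra.FiniteType k (A ⧸ P₁) :=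
    Algebra.FiniteType.of_surjective (Ideal.Quotient.mkₐ k P₁) (Ideal.Quotient.mkₐ_surjective k P₁)
  have hdom : IsDomain (A ⧸ P₁) := Ideal.Quotient.isDomain P₁
  have hne : Ideal.Quotient.mk P₁ a ≠ 0 := by
    rw [Ne, Ideal.Quotient.eq_zero_iff_mem]; exact haP
  have hnil : ¬ IsNilpotent (Ideal.Quotient.mk P₁ a) := fun h => hne (IsNilpotent.eq_zero h)
  obtain ⟨φ, hφ⟩ := Groth.Agent.H48.exists_algHom_apply_ne_zero (k := k) _ hnil
  refine ⟨φ.comp (Ideal.Quotient.mkₐ k P₁), ?_, ?_⟩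
  · intro x hx
    rw [RingHom.mem_ker]
    change φ (Ideal.Quotient.mk P₁ x) = 0
    rw [Ideal.Quotient.eq_zero_iff_mem.mpr hx, map_zero]
  · intro P hP hPle
    by_contra hne'
    have hPT : P ∈ T := by
      rw [hT, Finset.mem_erase, Set.Finite.mem_toFinset]; exact ⟨hne', hP⟩
    have haP' : a ∈ P := by
      have : T.inf id ≤ P := Finset.inf_le (f := id) hPT
      exact this haT
    have := hPle haP'
    rw [RingHom.mem_ker] at this
    exact hφ this

omit [IsAlgClosed k] [Algebra.FiniteType k A] in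
lemma comap_mem_minimalPrimes (σ : A ≃ₐ[k] A) (P : Ideal A) (hP : P ∈ minimalPrimes A) :
    P.comap (σ : A →+* A) ∈ minimalPrimes A := by
  refine ⟨⟨Ideal.IsPrime.comap _ (hK := hP.1.1), bot_le⟩, ?_⟩
  rintro Q ⟨hQ, -⟩ hQle
  -- `Q ≤ comap σ P`, so `comap σ.symm Q ≤ P`
  have h1 : Q.comap (σ.symm : A →+* A) ≤ P := by
    intro x hx
    have := hQle hx
    simpa using this
  have hQ' : (Q.comap (σ.symm : A →+* A)).IsPrime := Ideal.IsPrime.comap _
  have h2 := hP.2 ⟨hQ', bot_le⟩ h1
  intro x hx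
  have := h2 hx
  simpa using this

/-- every point lies on exactly one irreducible component -/
lemma unique_minimalPrime_le (g : A →ₐ[k] k) (P P' : Ideal A) (hP : P ∈ minimalPrimes A)
    (hP' : P' ∈ minimalPrimes A) (h : P ≤ RingHom.ker g) (h' : P' ≤ RingHom.ker g) : P = P' := by
  have hnt : Nontrivial A := nontrivial_of_hopf k
  obtain ⟨P₁, hP₁⟩ : (minimalPrimes A).Nonempty := ⟨P, hP⟩
  obtain ⟨g₀, -, hg₀⟩ := exists_good_pt (k := k) P₁ hP₁
  obtain ⟨H, hH⟩ := exists_tauEquiv_eq g₀ g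
  -- `g ∘ σ = g₀`
  set σ := tauEquiv H with hσ
  have key : ∀ Q ∈ minimalPrimes A, Q ≤ RingHom.ker g → Q.comap (σ : A →+* A) = P₁ := by
    intro Q hQ hQle
    apply hg₀ _ (comap_mem_minimalPrimes σ Q hQ)
    intro x hx
    rw [RingHom.mem_ker, ← hH x]
    exact hQle hx
  have h1 := key P hP h
  have h2 := key P' hP' h'
  have : P.comap (σ : A →+* A) = P'.comap (σ : A →+* A) := h1.trans h2.symm
  exact Ideal.comap_injective_of_surjective (σ : A →+* A) σ.surjective this

lemma sup_eq_top_of_ne (k : Type u) {A : Type v} [Field k] [CommRing A] [HopfAlgebra k A]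
    [IsAlgClosed k] [Algebra.FiniteType k A] (P P' : Ideal A) (hP : P ∈ minimalPrimes A)
    (hP' : P' ∈ minimalPrimes A) (hne : P ≠ P') : P ⊔ P' = ⊤ := by
  by_contra h
  obtain ⟨M, hM, hle⟩ := Ideal.exists_le_maximal _ h
  obtain ⟨g, hg⟩ := exists_pt_of_isMaximal (k := k) M
  apply hne
  apply unique_minimalPrime_le g P P' hP hP'
  · rw [hg]; exact le_sup_left.trans hle
  · rw [hg]; exact le_sup_right.trans hle

/-- For a connected affine algebraic group over an algebraically closed field, the nilradical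
is prime (the group is irreducible). -/
theorem nilradical_isPrime (k : Type u) {A : Type v} [Field k] [CommRing A] [HopfAlgebra k A]
    [IsAlgClosed k] [Algebra.FiniteType k A] (hconn : ∀ e : A, IsIdempotentElem e → e = 0 ∨ e = 1) :
    (nilradical A).IsPrime := by
  classical
  have : IsNoetherianRing A := Algebra.FiniteType.isNoetherianRing k A
  have hnt : Nontrivial A := nontrivial_of_hopf k
  have hfin : (minimalPrimes A).Finite := minimalPrimes.finite_of_isNoetherianRing A
  obtain ⟨⟨P₁, hP₁⟩⟩ : Nonempty (minimalPrimes A) :=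
    Ideal.nonempty_minimalPrimes (I := (⊥ : Ideal A)) bot_ne_top
  have hprime : P₁.IsPrime := hP₁.1.1
  set T : Finset (Ideal A) := hfin.toFinset.erase P₁ with hT
  have hmemT : ∀ P, P ∈ T ↔ P ≠ P₁ ∧ P ∈ minimalPrimes A := by
    intro P; rw [hT, Finset.mem_erase, Set.Finite.mem_toFinset]
  have hnil : ∀ x, x ∈ nilradical A ↔ x ∈ P₁ ∧ x ∈ ⨅ P ∈ T, P := by
    intro x
    rw [nilradical, ← Ideal.sInf_minimalPrimes, Ideal.mem_sInf]
    simp only [Ideal.mem_iInf, hmemT]
    constructor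
    · intro h
      exact ⟨h hP₁, fun P hP => h hP.2⟩
    · rintro ⟨h1, h2⟩ P hP
      by_cases hPP : P = P₁
      · rw [hPP]; exact h1
      · exact h2 P ⟨hPP, hP⟩
  by_cases hT0 : T = ∅
  · have : nilradical A = P₁ := by
      ext x
      rw [hnil, hT0]
      simp
    rw [this]; exact hprime
  · exfalso
    obtain ⟨P₂, hP₂⟩ := Finset.nonempty_iff_ne_empty.mpr hT0
    have hP₂' := (hmemT P₂).mp hP₂
    have hsup : P₁ ⊔ ⨅ P ∈ T, P = ⊤ := by
      apply Ideal.sup_iInf_eq_top
      intro P hP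
      have hP' := (hmemT P).mp hP
      exact sup_eq_top_of_ne k P₁ P hP₁ hP'.2 (Ne.symm hP'.1)
    have h1 : (1 : A) ∈ P₁ ⊔ ⨅ P ∈ T, P := by rw [hsup]; trivial
    obtain ⟨x, hx, y, hy, hxy⟩ := Submodule.mem_sup.mp h1
    have hxyn : x * y ∈ nilradical A := by
      rw [hnil]
      exact ⟨Ideal.mul_mem_right _ _ hx, Ideal.mul_mem_left _ _ hy⟩
    obtain ⟨n, hn⟩ := mem_nilradical.mp hxyn
    have hn' : (x * y) ^ (n + 1) = 0 := by rw [pow_succ, hn, zero_mul]
    have hcop : IsCoprime (x ^ (n + 1)) (y ^ (n + 1)) :=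
      IsCoprime.pow ⟨1, 1, by rw [one_mul, one_mul, hxy]⟩
    obtain ⟨s, t, hst⟩ := hcop
    have hu : IsIdempotentElem (s * x ^ (n + 1)) := by
      have h2 : s * x ^ (n + 1) = 1 - t * y ^ (n + 1) := by rw [← hst]; ring
      have h3 : s * x ^ (n + 1) * (t * y ^ (n + 1)) = 0 := by
        have : s * x ^ (n + 1) * (t * y ^ (n + 1)) = s * t * (x * y) ^ (n + 1) := by
          rw [mul_pow]; ring
        rw [this, hn', mul_zero]
      change s * x ^ (n + 1) * (s * x ^ (n + 1)) = s * x ^ (n + 1)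
      nth_rewrite 2 [h2]
      rw [mul_sub, mul_one, h3, sub_zero]
    have hxn : s * x ^ (n + 1) ∈ P₁ :=
      Ideal.mul_mem_left _ _ (Ideal.pow_mem_of_mem _ hx _ (Nat.succ_pos n))
    have hyn : t * y ^ (n + 1) ∈ ⨅ P ∈ T, P :=
      Ideal.mul_mem_left _ _ (Ideal.pow_mem_of_mem _ hy _ (Nat.succ_pos n))
    rcases hconn _ hu with h0 | h1'
    · rw [h0, zero_add] at hst
      rw [hst] at hyn
      have : (1 : A) ∈ P₂ := by
        have hle : (⨅ P ∈ T, P) ≤ P₂ := iInf₂_le P₂ hP₂
        exact hle hyn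
      exact hP₂'.2.1.1.ne_top ((Ideal.eq_top_iff_one _).mpr this)
    · rw [h1'] at hxn
      exact hprime.ne_top ((Ideal.eq_top_iff_one _).mpr hxn)

/-- A connected reduced affine algebraic group over an algebraically closed field has integral
coordinate ring. -/
theorem isDomain_of_connected (k : Type u) {A : Type v} [Field k] [CommRing A] [HopfAlgebra k A]
    [IsAlgClosed k] [Algebra.FiniteType k A] [IsReduced A] (hconn : ∀ e : A, IsIdempotentElem e → e = 0 ∨ e = 1) :
    IsDomain A := by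
  have h := nilradical_isPrime k hconn
  rw [nilradical_eq_zero] at h
  have hnt : Nontrivial A := nontrivial_of_hopf k
  exact IsDomain.of_bot_isPrime A

end AlgClosed

end Groth.Agent.H82.ConnDomain
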