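import Groth.Agent.H40.DiagMapPts
import Groth.Prelude.Def_Magnet2
import Mathlib

/-! Points of the diagonalizable monoid schemes `A(N)_S` as characters `N → Γ(X, 𝒪)`. -/

set_option autoImplicit false
set_option linter.unusedSectionVars false
universe u

open CategoryTheory MonoidalCategory CartesianMonoidalCategory MonObj AlgebraicGeometry
open CategoryTheory.Limits
open scoped TensorProduct
open Groth.Agent.H42 Groth.Agent.H40 Magnet

namespace Groth.Agent.H82.AMonPts

section BaseChange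

variable {S' S : Scheme.{u}} (f : S' ⟶ S) (G : Over S) [MonObj G]

/-- The point of `G` over `S` corresponding to a point of the base change. -/
noncomputable def bcPtM {X : Over S'} (x : X ⟶ Red.bc f G) : (Over.map f).obj X ⟶ G :=
  ((Over.mapPullbackAdj f).homEquiv X G).symm x

theorem bcPtM_left {X : Over S'} (x : X ⟶ Red.bc f G) :
    (bcPtM f G x).left = x.left ≫ pullback.fst _ _ := rfl

theorem bcPtM_injective {X : Over S'} : Function.Injective (bcPtM f G (X := X)) :=
  ((Over.mapPullbackAdj f).homEquiv X G).symm.injective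

theorem bcPtM_surjective {X : Over S'} : Function.Surjective (bcPtM f G (X := X)) :=
  ((Over.mapPullbackAdj f).homEquiv X G).symm.surjective

theorem bcPtM_mul {X : Over S'} (x y : X ⟶ Red.bc f G) :
    bcPtM f G (x * y) = bcPtM f G x * bcPtM f G y := by
  apply ((Over.mapPullbackAdj f).homEquiv X G).injective
  simp only [bcPtM, Equiv.apply_symm_apply]
  rw [Adjunction.homEquiv_unit, Functor.map_mul, MonObj.comp_mul]
  congr 1
  · rw [← Adjunction.homEquiv_unit, Equiv.apply_symm_apply]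
  · rw [← Adjunction.homEquiv_unit, Equiv.apply_symm_apply]

theorem bcPtM_map {G' : Over S} [MonObj G'] (g : G ⟶ G') {X : Over S'} (x : X ⟶ Red.bc f G) :
    bcPtM f G' (x ≫ (Over.pullback f).map g) = bcPtM f G x ≫ g := by
  unfold bcPtM
  exact Adjunction.homEquiv_naturality_right_symm _ _ _

end BaseChange

section General

variable {R : Type u} [CommRing R] {G : Type} [CommMonoid G]
  {Y : Over (Spec (CommRingCat.of R))}

theorem pb_ptL_mul_single'
    (c d : Y ⟶ (Spec (CommRingCat.of (MonoidAlgebra R G))).asOver (Spec (CommRingCat.of R)))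
    (g : G) :
    pb (ptL (c * d)) (MonoidAlgebra.single g (1 : R)) =
      pb (ptL c) (MonoidAlgebra.single g (1 : R)) * pb (ptL d) (MonoidAlgebra.single g (1 : R)) := by
  rw [pb_ptL_mul, MonoidAlgebra.comul_single]
  have : Coalgebra.comul (R := R) (1 : R) = (1 : R) ⊗ₜ[R] (1 : R) := rfl
  rw [this, TensorProduct.map_tmul, pb_pairPt_tmul]
  rfl

end General

section AMonZ

variable {N : Type} [AddCommMonoid N] {Y : Over (Spec (CommRingCat.of (ULift.{u} ℤ)))}

/-- The character values of a point of `A(N)` over `ℤ`. -/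
noncomputable def amFnZ (c : Y ⟶ AMon (ULift.{u} ℤ) N) : Multiplicative N →* Γ(Y.left, ⊤) :=
  ((pb (ptL c) : MonoidAlgebra (ULift.{u} ℤ) (Multiplicative N) →+* Γ(Y.left, ⊤)) :
    MonoidAlgebra (ULift.{u} ℤ) (Multiplicative N) →* Γ(Y.left, ⊤)).comp
    (MonoidAlgebra.of (ULift.{u} ℤ) (Multiplicative N))

theorem amFnZ_apply (c : Y ⟶ AMon (ULift.{u} ℤ) N) (m : Multiplicative N) :
    amFnZ c m = pb (ptL c) (MonoidAlgebra.single m (1 : ULift.{u} ℤ)) := rfl

theorem amFnZ_mul (c d : Y ⟶ AMon (ULift.{u} ℤ) N) (m : Multiplicative N) :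
    amFnZ (c * d) m = amFnZ c m * amFnZ d m :=
  pb_ptL_mul_single' c d m

theorem amFnZ_injective : Function.Injective (amFnZ (Y := Y) (N := N)) := by
  intro c d h
  apply ptL_injective
  apply pb_injective
  apply MonoidAlgebra.ringHom_ext
  · intro r
    have := ringHom_ext_uliftInt ((pb (ptL c)).comp MonoidAlgebra.singleOneRingHom)
      ((pb (ptL d)).comp MonoidAlgebra.singleOneRingHom)
    exact RingHom.congr_fun this r
  · intro m
    exact DFunLike.congr_fun h m

theorem amFnZ_surjective : Function.Surjective (amFnZ (Y := Y) (N := N)) := by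
  intro χ
  let φ : MonoidAlgebra (ULift.{u} ℤ) (Multiplicative N) →+* Γ(Y.left, ⊤) :=
    MonoidAlgebra.liftNCRingHom
      ((Int.castRingHom Γ(Y.left, ⊤)).comp (ULift.ringEquiv : ULift.{u} ℤ ≃+* ℤ).toRingHom)
      χ (fun _ _ => Commute.all _ _)
  obtain ⟨g, hg⟩ := pb_surjective (A := MonoidAlgebra (ULift.{u} ℤ) (Multiplicative N))
    (Y := Y.left) φ
  obtain ⟨c, hc⟩ := ptL_surjective (A := MonoidAlgebra (ULift.{u} ℤ) (Multiplicative N))
    (Y := Y) g
  refine ⟨c, MonoidHom.ext fun m => ?_⟩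
  rw [amFnZ_apply, hc, hg]
  show MonoidAlgebra.liftNCRingHom _ _ _ _ = _
  rw [MonoidAlgebra.liftNCRingHom_single]
  have : (ULift.ringEquiv : ULift.{u} ℤ ≃+* ℤ) 1 = 1 := rfl
  simp [this]

theorem amFnZ_comp {Y' : Over (Spec (CommRingCat.of (ULift.{u} ℤ)))} (h : Y' ⟶ Y)
    (c : Y ⟶ AMon (ULift.{u} ℤ) N) (m : Multiplicative N) :
    amFnZ (h ≫ c) m = h.left.appTop (amFnZ c m) := by
  rw [amFnZ_apply, amFnZ_apply, ptL_comp, pb_comp]

theorem amFnZ_map {N' : Type} [AddCommMonoid N'] (φ : N →+ N') (c : Y ⟶ AMon (ULift.{u} ℤ) N')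
    (m : Multiplicative N) :
    amFnZ (c ≫ AMon.map (ULift.{u} ℤ) φ) m = amFnZ c (AddMonoidHom.toMultiplicative φ m) := by
  rw [amFnZ_apply, amFnZ_apply]
  have h : ptL (c ≫ AMon.map (ULift.{u} ℤ) φ) = ptL c ≫ Spec.map (CommRingCat.ofHom
      (MonoidAlgebra.mapDomainBialgHom (ULift.{u} ℤ)
        (AddMonoidHom.toMultiplicative φ)).toAlgHom.toRingHom) := rfl
  rw [h, pb_comp_specMap]
  congr 1
  simp

end AMonZ

section AMonS

variable {S : Scheme.{u}} {X : Over S} {N : Type} [AddCommMonoid N]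

/-- The character values of a point of `A(N)_S`. -/
noncomputable def amFn (x : X ⟶ AMonS S N) : Multiplicative N →* Γ(X.left, ⊤) :=
  amFnZ (bcPtM (Limits.IsTerminal.from specULiftZIsTerminal S) (AMon (ULift.{u} ℤ) N) x)

theorem amFn_mul (x y : X ⟶ AMonS S N) (m : Multiplicative N) :
    amFn (x * y) m = amFn x m * amFn y m := by
  unfold amFn
  rw [bcPtM_mul, amFnZ_mul]

theorem amFn_injective : Function.Injective (amFn (S := S) (X := X) (N := N)) := by
  intro x y h
  exact bcPtM_injective _ _ (amFnZ_injective h)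

theorem amFn_ext {x y : X ⟶ AMonS S N} (h : ∀ m, amFn x m = amFn y m) : x = y :=
  amFn_injective (MonoidHom.ext h)

theorem amFn_surjective : Function.Surjective (amFn (S := S) (X := X) (N := N)) := by
  intro χ
  obtain ⟨c, hc⟩ := amFnZ_surjective
    (Y := (Over.map (Limits.IsTerminal.from specULiftZIsTerminal S)).obj X) χ
  obtain ⟨x, hx⟩ := bcPtM_surjective (Limits.IsTerminal.from specULiftZIsTerminal S)
    (AMon (ULift.{u} ℤ) N) c
  exact ⟨x, by unfold amFn; rw [hx, hc]⟩

theorem amFn_comp {X' : Over S} (h : X' ⟶ X) (x : X ⟶ AMonS S N) (m : Multiplicative N) :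
    amFn (h ≫ x) m = h.left.appTop (amFn x m) := by
  unfold amFn
  have : bcPtM (Limits.IsTerminal.from specULiftZIsTerminal S) (AMon (ULift.{u} ℤ) N) (h ≫ x) =
      (Over.map (Limits.IsTerminal.from specULiftZIsTerminal S)).map h ≫
        bcPtM (Limits.IsTerminal.from specULiftZIsTerminal S) (AMon (ULift.{u} ℤ) N) x := by
    ext
    simp [bcPtM_left]
  rw [this, amFnZ_comp]
  rfl

theorem amFn_map {N' : Type} [AddCommMonoid N'] (φ : N →+ N') (x : X ⟶ AMonS S N')
    (m : Multiplicative N) :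
    amFn (x ≫ AMonS.map S φ) m = amFn x (AddMonoidHom.toMultiplicative φ m) := by
  unfold amFn AMonS.map
  rw [bcPtM_map, amFnZ_map]

theorem amFn_one (m : Multiplicative N) : amFn (1 : X ⟶ AMonS S N) m = 1 := by
  have h : (1 : X ⟶ AMonS S N) ≫ AMonS.map S (0 : N →+ N) = 1 :=
    MonObj.one_comp (AMonS.map S (0 : N →+ N))
  rw [← h, amFn_map]
  exact map_one _

end AMonS

section Group

variable {S : Scheme.{u}} {X : Over S} {M : Type} [AddCommGroup M]

theorem amFn_eq_dsFn (x : X ⟶ AMonS S M) : amFn x = dsFn x := rfl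

end Group

end Groth.Agent.H82.AMonPts
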