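import Groth.Prelude.Def_AssocGrMod
import Mathlib.RingTheory.AdicCompletion.Basic
import Mathlib.Tactic

set_option autoImplicit false
universe u

namespace Groth.Agent.H82.AdicGrH

open AssocGr Polynomial

variable {A : Type u} [CommRing A] {I : Ideal A} {M : Type u} [AddCommGroup M] [Module A M]
  (F : I.Filtration M)

/-- coefficient of `f • (x Xᵈ)` -/
theorem coeff_smul_monomM (f : ↥(FiltBl.IdealFiltration.adic I).rees) (d : ℕ) (x : F.N d) (n : ℕ) :
    ReesM.coeff F (f • monomM F d x) n =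
      if d ≤ n then (f : A[X]).coeff (n - d) • (x : M) else 0 := by
  rw [ReesM.coeff_smul]
  simp only [ReesM.coeff_monomM, smul_ite, smul_zero]
  split_ifs with h
  · rw [Finset.sum_eq_single (n - d, d)]
    · rw [if_pos rfl]
    · rintro ⟨p, q⟩ hp hne
      rw [Finset.mem_antidiagonal] at hp
      simp only at hp
      rw [if_neg]
      rintro rfl
      apply hne
      have : p = n - d := by omega
      rw [this]
    · intro h'
      exfalso
      apply h'
      rw [Finset.mem_antidiagonal]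
      simp only
      omega
  · refine Finset.sum_eq_zero (fun p hp => ?_)
    rw [Finset.mem_antidiagonal] at hp
    rw [if_neg]
    omega

/-- **Approximation step.** If the class of `y ∈ Nₙ` lies in the span of the classes of the `x i`,
then `y` is congruent modulo `Nₙ₊₁` to a combination of the `x i` with coefficients
in the appropriate powers of `I`. -/
theorem approx' {ι : Type*} [Fintype ι] (d : ι → ℕ) (x : (i : ι) → ↥(F.N (d i)))
    (n : ℕ) (y : M) (hy : y ∈ F.N n)
    (hmem : (AssocGr.inDegM F n ⟨y, hy⟩ : AssocGr.GrMod F) ∈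
      Submodule.span (AssocGr.GrRing (FiltBl.IdealFiltration.adic I))
      (Set.range fun i => (AssocGr.inDegM F (d i) (x i) : AssocGr.GrMod F))) :
    ∃ a : ι → A, (∀ i, d i ≤ n → a i ∈ I ^ (n - d i)) ∧ (∀ i, n < d i → a i = 0) ∧
      y - ∑ i, a i • (x i : M) ∈ F.N (n + 1) := by
  classical
  rw [Submodule.mem_span_range_iff_exists_fun] at hmem
  obtain ⟨g, hg⟩ := hmem
  choose f hf using fun i => mkG_surjective (FiltBl.IdealFiltration.adic I) (g i)
  have h1 : mkGM F (monomM F n ⟨y, hy⟩ - ∑ i, f i • monomM F (d i) (x i)) = 0 := by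
    rw [map_sub, map_sum, sub_eq_zero, ← coe_inDegM, ← hg]
    refine Finset.sum_congr rfl (fun i _ => ?_)
    rw [← hf i, coe_inDegM, mkG_smul_mkGM]
  rw [mkGM_eq_zero_iff, mem_succMod_iff] at h1
  have h2 := h1 n
  refine ⟨fun i => if d i ≤ n then ((f i : ↥(FiltBl.IdealFiltration.adic I).rees) : A[X]).coeff (n - d i)
    else 0, ?_, ?_, ?_⟩
  · intro i hi
    simp only [if_pos hi]
    exact (f i).2 (n - d i)
  · intro i hi
    simp only [if_neg (not_le.mpr hi)]
  · have h3 : ReesM.coeff F (monomM F n ⟨y, hy⟩ - ∑ i, f i • monomM F (d i) (x i)) n =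
        y - ∑ i, (if d i ≤ n then ((f i : ↥(FiltBl.IdealFiltration.adic I).rees) : A[X]).coeff (n - d i)
          else 0) • (x i : M) := by
      rw [← ReesM.coeffHom_apply, map_sub, map_sum]
      simp only [ReesM.coeffHom_apply, ReesM.coeff_monomM, coeff_smul_monomM]
      congr 1
      refine Finset.sum_congr rfl (fun i _ => ?_)
      split_ifs <;> simp
    rw [h3] at h2
    exact h2

theorem smodEq_pow_iff (m : ℕ) (a b : A) :
    a ≡ b [SMOD (I ^ m • ⊤ : Submodule A A)] ↔ a - b ∈ I ^ m := by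
  rw [SModEq.sub_mem, smul_eq_mul, Ideal.mul_top]

/-- **Relative generation.** (after Bourbaki, Alg. Comm. III §2 no. 9)  Let `C` be a submodule of `M`
containing the `x i ∈ N_{d i}`, such that the class of every element of `C ∩ Nₙ` lies in the span
of the classes of the `x i`. If `A` is `I`-adically precomplete and the filtration is separated,
then `C` is contained in the span of the `x i`. -/
theorem le_span_of_classes [IsPrecomplete I A] (h0 : F.N 0 = ⊤) (hsep : ⨅ n, F.N n = ⊥)
    {ι : Type*} [Fintype ι] (d : ι → ℕ) (x : (i : ι) → ↥(F.N (d i))) (C : Submodule A M)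
    (hxC : ∀ i, (x i : M) ∈ C)
    (hgen : ∀ (n : ℕ) (y : M) (hy : y ∈ F.N n), y ∈ C →
      (AssocGr.inDegM F n ⟨y, hy⟩ : AssocGr.GrMod F) ∈
        Submodule.span (AssocGr.GrRing (FiltBl.IdealFiltration.adic I))
        (Set.range fun i => (AssocGr.inDegM F (d i) (x i) : AssocGr.GrMod F))) :
    C ≤ Submodule.span A (Set.range fun i => ((x i : ↥(F.N (d i))) : M)) := by
  classical
  intro y hyC
  have hA : ∀ (n : ℕ) (y : M), y ∈ F.N n ∧ y ∈ C → ∃ a : ι → A,
      (∀ i, d i ≤ n → a i ∈ I ^ (n - d i)) ∧ (∀ i, n < d i → a i = 0) ∧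
      y - ∑ i, a i • (x i : M) ∈ F.N (n + 1) :=
    fun n y hy => approx' F d x n y hy.1 (hgen n y hy.1 hy.2)
  choose! a ha1 ha2 ha3 using hA
  let z : ℕ → M := fun n => Nat.rec y (fun n zn => zn - ∑ i, a n zn i • (x i : M)) n
  have hz0 : z 0 = y := rfl
  have hzs : ∀ n, z (n + 1) = z n - ∑ i, a n (z n) i • (x i : M) := fun n => rfl
  have hzmem : ∀ n, z n ∈ F.N n ∧ z n ∈ C := by
    intro n
    induction n with
    | zero => exact ⟨by rw [h0]; trivial, hyC⟩
    | succ n ih =>
      rw [hzs]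
      exact ⟨ha3 n (z n) ih, C.sub_mem ih.2
        (C.sum_mem fun i _ => C.smul_mem _ (hxC i))⟩
  let s : ι → ℕ → A := fun i K => ∑ n ∈ Finset.range K, a n (z n) i
  have hs : ∀ K, y - ∑ i, s i K • (x i : M) = z K := by
    intro K
    induction K with
    | zero => simp [s, hz0]
    | succ K ih =>
      have e1 : ∑ i, s i (K + 1) • (x i : M) =
          ∑ i, s i K • (x i : M) + ∑ i, a K (z K) i • (x i : M) := by
        simp only [s, Finset.sum_range_succ, add_smul, Finset.sum_add_distrib]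
      rw [hzs, e1, ← sub_sub, ih]
  obtain ⟨D, hD⟩ : ∃ D, ∀ i, d i ≤ D :=
    ⟨Finset.univ.sup d, fun i => Finset.le_sup (Finset.mem_univ i)⟩
  have hcauchy : ∀ i, ∀ {m n : ℕ}, m ≤ n →
      s i (m + D) ≡ s i (n + D) [SMOD (I ^ m • ⊤ : Submodule A A)] := by
    intro i m n hmn
    rw [smodEq_pow_iff, ← neg_sub, neg_mem_iff]
    have hle : m + D ≤ n + D := by omega
    have : s i (n + D) - s i (m + D) = ∑ j ∈ Finset.Ico (m + D) (n + D), a j (z j) i := by
      rw [Finset.sum_Ico_eq_sub _ hle]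
    rw [this]
    refine Ideal.sum_mem _ (fun j hj => ?_)
    rw [Finset.mem_Ico] at hj
    have hdj : d i ≤ j := by have := hD i; omega
    have h1 := ha1 j (z j) (hzmem j) i hdj
    exact Ideal.pow_le_pow_right (by have := hD i; omega) h1
  choose L hL using fun i => IsPrecomplete.prec' (I := I) (M := A) (fun m => s i (m + D))
    (fun {m n} hmn => hcauchy i hmn)
  have hfinal : y - ∑ i, L i • (x i : M) = 0 := by
    have hmem : y - ∑ i, L i • (x i : M) ∈ ⨅ n, F.N n := by
      rw [Submodule.mem_iInf]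
      intro m
      have e : y - ∑ i, L i • (x i : M) =
          z (m + D) + ∑ i, (s i (m + D) - L i) • (x i : M) := by
        rw [← hs]
        simp only [sub_smul, Finset.sum_sub_distrib]
        abel
      rw [e]
      refine Submodule.add_mem _ (F.antitone (Nat.le_add_right m D) (hzmem _).1)
        (Submodule.sum_mem _ fun i _ => ?_)
      have h1 : s i (m + D) - L i ∈ I ^ m := by
        have := hL i m
        rwa [smodEq_pow_iff] at this
      have h2 : (x i : M) ∈ F.N 0 := F.antitone (Nat.zero_le _) (x i).2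
      have := F.pow_smul_le m 0 (Submodule.smul_mem_smul h1 h2)
      simpa using this
    rw [hsep] at hmem
    exact hmem
  have hy : y = ∑ i, L i • (x i : M) := sub_eq_zero.mp hfinal
  rw [hy]
  exact Submodule.sum_mem _ fun i _ => Submodule.smul_mem _ _ (Submodule.subset_span ⟨i, rfl⟩)

/-- **Generation.** (Bourbaki, Alg. Comm. III §2 no. 9) -/
theorem span_eq_top [IsPrecomplete I A] (h0 : F.N 0 = ⊤) (hsep : ⨅ n, F.N n = ⊥)
    {ι : Type*} [Fintype ι] (d : ι → ℕ) (x : (i : ι) → ↥(F.N (d i)))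
    (hgen : Submodule.span (AssocGr.GrRing (FiltBl.IdealFiltration.adic I))
      (Set.range fun i => (AssocGr.inDegM F (d i) (x i) : AssocGr.GrMod F)) = ⊤) :
    Submodule.span A (Set.range fun i => ((x i : ↥(F.N (d i))) : M)) = ⊤ := by
  rw [eq_top_iff]
  exact le_span_of_classes F h0 hsep d x ⊤ (fun _ => trivial)
    (fun n y hy _ => by rw [hgen]; trivial)

/-- the main finiteness/closedness statement -/
theorem fg_and_closed [IsPrecomplete I A] (h0 : F.N 0 = ⊤) (hsep : ⨅ n, F.N n = ⊥)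
    (M' : Submodule A M)
    (hfg : (Submodule.span (AssocGr.GrRing (FiltBl.IdealFiltration.adic I))
      {γ : AssocGr.GrMod F | ∃ (n : ℕ) (y : M) (hy : y ∈ F.N n), y ∈ M' ∧
        γ = (AssocGr.inDegM F n ⟨y, hy⟩ : AssocGr.GrMod F)}).FG) :
    M'.FG ∧ ⨅ n, M' ⊔ F.N n = M' := by
  classical
  rw [Submodule.fg_span_iff_fg_span_finset_subset] at hfg
  obtain ⟨S', hS's, hspan⟩ := hfg
  have hch : ∀ i : ↥S', ∃ (n : ℕ) (y : M) (hy : y ∈ F.N n), y ∈ M' ∧
      (i : AssocGr.GrMod F) = (AssocGr.inDegM F n ⟨y, hy⟩ : AssocGr.GrMod F) :=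
    fun i => hS's i.2
  choose d y hy hyM' hyeq using hch
  let x : (i : ↥S') → ↥(F.N (d i)) := fun i => ⟨y i, hy i⟩
  have hrange : (Set.range fun i : ↥S' => (AssocGr.inDegM F (d i) (x i) : AssocGr.GrMod F)) =
      (S' : Set (AssocGr.GrMod F)) := by
    ext γ
    constructor
    · rintro ⟨i, rfl⟩
      change (AssocGr.inDegM F (d i) ⟨y i, hy i⟩ : AssocGr.GrMod F) ∈ _
      rw [← hyeq i]
      exact i.2
    · intro hγ
      refine ⟨⟨γ, hγ⟩, ?_⟩
      change (AssocGr.inDegM F (d ⟨γ, hγ⟩) ⟨y ⟨γ, hγ⟩, hy ⟨γ, hγ⟩⟩ : AssocGr.GrMod F) = γ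
      rw [← hyeq ⟨γ, hγ⟩]
  have hle : (⨅ n, M' ⊔ F.N n) ≤
      Submodule.span A (Set.range fun i => ((x i : ↥(F.N (d i))) : M)) := by
    apply le_span_of_classes F h0 hsep d x (⨅ n, M' ⊔ F.N n)
    · intro i
      rw [Submodule.mem_iInf]
      intro n
      exact Submodule.mem_sup_left (hyM' i)
    · intro n z hz hzC
      rw [hrange, ← hspan]
      rw [Submodule.mem_iInf] at hzC
      obtain ⟨m', hm', ν, hν, hsum⟩ := Submodule.mem_sup.mp (hzC (n + 1))
      have hm'n : m' ∈ F.N n := by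
        have : m' = z - ν := by rw [← hsum]; abel
        rw [this]
        exact Submodule.sub_mem _ hz (F.antitone (Nat.le_succ n) hν)
      have heq : (AssocGr.inDegM F n ⟨z, hz⟩ : AssocGr.GrMod F) =
          (AssocGr.inDegM F n ⟨m', hm'n⟩ : AssocGr.GrMod F) := by
        have h1 : (⟨z, hz⟩ : ↥(F.N n)) = ⟨m', hm'n⟩ + ⟨ν, F.antitone (Nat.le_succ n) hν⟩ :=
          Subtype.ext hsum.symm
        have h2 : AssocGr.inDegM F n ⟨ν, F.antitone (Nat.le_succ n) hν⟩ = 0 :=
          (inDegM_eq_zero_iff F n _).mpr hν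
        rw [h1, map_add, h2, add_zero]
      rw [heq]
      exact Submodule.subset_span ⟨n, m', hm'n, hm', rfl⟩
  have hle2 : Submodule.span A (Set.range fun i => ((x i : ↥(F.N (d i))) : M)) ≤ M' := by
    rw [Submodule.span_le]
    rintro _ ⟨i, rfl⟩
    exact hyM' i
  have hle3 : M' ≤ ⨅ n, M' ⊔ F.N n := le_iInf fun n => le_sup_left
  have heq1 : ⨅ n, M' ⊔ F.N n = M' := le_antisymm (hle.trans hle2) hle3
  refine ⟨?_, heq1⟩
  have : M' = Submodule.span A (Set.range fun i => ((x i : ↥(F.N (d i))) : M)) :=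
    le_antisymm (hle3.trans hle) hle2
  rw [this]
  exact Submodule.fg_span (Set.finite_range _)

/-- every element of the associated graded module is a sum of homogeneous classes -/
theorem mem_span_classes (γ : AssocGr.GrMod F) :
    γ ∈ Submodule.span (AssocGr.GrRing (FiltBl.IdealFiltration.adic I))
      {γ : AssocGr.GrMod F | ∃ (n : ℕ) (y : M) (hy : y ∈ F.N n), y ∈ (⊤ : Submodule A M) ∧
        γ = (AssocGr.inDegM F n ⟨y, hy⟩ : AssocGr.GrMod F)} := by
  obtain ⟨y, rfl⟩ := mkGM_surjective F γ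
  rw [← sum_termM F y, map_sum]
  refine Submodule.sum_mem _ (fun n _ => Submodule.subset_span ?_)
  exact ⟨n, ReesM.coeff F y n, ReesM.coeff_mem F y n, trivial, rfl⟩

end Groth.Agent.H82.AdicGrH
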