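import Mathlib

/-! `X`-adic separatedness of localizations `B[X]_{H·H(0)}`. -/

set_option autoImplicit false
universe u

open Polynomial

namespace Groth.Agent.H82.AlgSep

variable {B : Type u} [CommRing B]

/-- the map `B[X] → B_{h₀}[[X]]` -/
noncomputable def psi (h₀ : B) : B[X] →+* PowerSeries (Localization.Away h₀) :=
  (Polynomial.coeToPowerSeries.ringHom).comp
    (Polynomial.mapRingHom (algebraMap B (Localization.Away h₀)))

theorem psi_X (h₀ : B) : psi h₀ (X : B[X]) = PowerSeries.X := by
  unfold psi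
  simp

theorem constantCoeff_psi (h₀ : B) (p : B[X]) :
    PowerSeries.constantCoeff (psi h₀ p) = algebraMap B (Localization.Away h₀) (p.coeff 0) := by
  unfold psi
  rw [RingHom.comp_apply, Polynomial.coeToPowerSeries.ringHom_apply,
    ← PowerSeries.coeff_zero_eq_constantCoeff_apply, Polynomial.coeff_coe]
  simp

theorem psi_eq_zero (h₀ : B) (p : B[X]) (hp : psi h₀ p = 0) :
    ∃ N : ℕ, Polynomial.C (h₀ ^ N) * p = 0 := by
  unfold psi at hp
  rw [RingHom.comp_apply, Polynomial.coeToPowerSeries.ringHom_apply] at hp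
  have h1 : p.map (algebraMap B (Localization.Away h₀)) = 0 := by
    apply Polynomial.coe_injective
    rw [Polynomial.coe_zero]
    exact hp
  have h2 : ∀ i, ∃ n : ℕ, h₀ ^ n * p.coeff i = 0 := by
    intro i
    have := congrArg (fun q => q.coeff i) h1
    simp only [Polynomial.coeff_map, Polynomial.coeff_zero] at this
    obtain ⟨⟨_, n, rfl⟩, hn⟩ :=
      (IsLocalization.map_eq_zero_iff (Submonoid.powers h₀) (Localization.Away h₀) _).mp this
    exact ⟨n, hn⟩
  choose n hn using h2
  refine ⟨p.support.sup n, ?_⟩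
  ext i
  rw [Polynomial.coeff_C_mul, Polynomial.coeff_zero]
  by_cases hi : i ∈ p.support
  · have hle : n i ≤ p.support.sup n := Finset.le_sup hi
    obtain ⟨d, hd⟩ := Nat.exists_eq_add_of_le hle
    rw [hd, pow_add, mul_comm (h₀ ^ n i), mul_assoc, hn i, mul_zero]
  · rw [Polynomial.notMem_support_iff.mp hi, mul_zero]

theorem eq_zero_of_forall_X_pow_dvd (H : B[X]) {C : Type u} [CommRing C] [Algebra B[X] C]
    [IsLocalization.Away (H * Polynomial.C (H.coeff 0)) C] (s : C)
    (hs : ∀ n : ℕ, algebraMap B[X] C (X ^ n) ∣ s) : s = 0 := by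
  set h₀ := H.coeff 0 with hh₀
  have hu0 : IsUnit (algebraMap B (Localization.Away h₀) h₀) :=
    IsLocalization.Away.algebraMap_isUnit h₀
  have hunit : IsUnit (psi h₀ (H * Polynomial.C h₀)) := by
    rw [PowerSeries.isUnit_iff_constantCoeff, constantCoeff_psi, Polynomial.coeff_mul_C, map_mul]
    exact hu0.mul hu0
  let ρ : C →+* PowerSeries (Localization.Away h₀) :=
    IsLocalization.Away.lift (H * Polynomial.C h₀) hunit
  have hρ : ∀ p : B[X], ρ (algebraMap B[X] C p) = psi h₀ p :=
    fun p => IsLocalization.Away.lift_eq _ hunit p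
  have hCu : IsUnit (algebraMap B[X] C (Polynomial.C h₀)) := by
    have h1 : IsUnit (algebraMap B[X] C (H * Polynomial.C h₀)) :=
      IsLocalization.Away.algebraMap_isUnit _
    rw [map_mul] at h1
    exact isUnit_of_mul_isUnit_right h1
  have hinj : Function.Injective ρ := by
    rw [injective_iff_map_eq_zero]
    intro c hc
    obtain ⟨n, p, hp⟩ := IsLocalization.Away.surj (H * Polynomial.C h₀) c
    have hun : IsUnit (algebraMap B[X] C (H * Polynomial.C h₀) ^ n) :=
      (IsLocalization.Away.algebraMap_isUnit _).pow n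
    have h1 : psi h₀ p = 0 := by
      rw [← hρ, ← hp, map_mul, hc, zero_mul]
    obtain ⟨N, hN⟩ := psi_eq_zero h₀ p h1
    have h2 : algebraMap B[X] C (Polynomial.C (h₀ ^ N)) * algebraMap B[X] C p = 0 := by
      rw [← map_mul, hN, map_zero]
    have h3 : IsUnit (algebraMap B[X] C (Polynomial.C (h₀ ^ N))) := by
      rw [Polynomial.C_pow, map_pow]
      exact hCu.pow N
    have h4 : algebraMap B[X] C p = 0 := by
      rwa [h3.mul_right_eq_zero] at h2
    rw [h4] at hp
    exact (hun.mul_left_eq_zero).mp hp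
  apply hinj
  rw [map_zero]
  ext m
  rw [map_zero]
  have h1 : (PowerSeries.X : PowerSeries (Localization.Away h₀)) ^ (m + 1) ∣ ρ s := by
    obtain ⟨s', hs'⟩ := hs (m + 1)
    refine ⟨ρ s', ?_⟩
    rw [hs', map_mul, hρ, map_pow, psi_X]
  exact PowerSeries.X_pow_dvd_iff.mp h1 m (Nat.lt_succ_self m)

/-- the same through a ring isomorphism `e : B[X] ≃ G` -/
theorem eq_zero_of_forall_pow_dvd' {G : Type u} [CommRing G] (e : B[X] →+* G)
    (he : Function.Bijective e) (H : B[X]) {C : Type u} [CommRing C] [Algebra G C]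
    [IsLocalization.Away (e (H * Polynomial.C (H.coeff 0))) C] (s : C)
    (hs : ∀ n : ℕ, algebraMap G C (e X) ^ (n + 1) ∣ s) : s = 0 := by
  set h₀ := H.coeff 0 with hh₀
  let e' : B[X] ≃+* G := RingEquiv.ofBijective e he
  have he' : ∀ p, e'.symm (e p) = p := fun p => e'.symm_apply_apply p
  have hu0 : IsUnit (algebraMap B (Localization.Away h₀) h₀) :=
    IsLocalization.Away.algebraMap_isUnit h₀
  have hunit : IsUnit (((psi h₀).comp (e'.symm : G →+* B[X])) (e (H * Polynomial.C h₀))) := by
    rw [RingHom.comp_apply]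
    change IsUnit (psi h₀ (e'.symm (e _)))
    rw [he', PowerSeries.isUnit_iff_constantCoeff, constantCoeff_psi, Polynomial.coeff_mul_C,
      map_mul]
    exact hu0.mul hu0
  let ρ : C →+* PowerSeries (Localization.Away h₀) :=
    IsLocalization.Away.lift (e (H * Polynomial.C h₀)) hunit
  have hρ : ∀ p : B[X], ρ (algebraMap G C (e p)) = psi h₀ p := by
    intro p
    have : ρ (algebraMap G C (e p)) = _ :=
      IsLocalization.Away.lift_eq (S := C) (e (H * Polynomial.C h₀)) hunit (e p)
    rw [this, RingHom.comp_apply]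
    change psi h₀ (e'.symm (e p)) = _
    rw [he']
  have hCu : IsUnit (algebraMap G C (e (Polynomial.C h₀))) := by
    have h1 : IsUnit (algebraMap G C (e (H * Polynomial.C h₀))) :=
      IsLocalization.Away.algebraMap_isUnit _
    rw [map_mul, map_mul] at h1
    exact isUnit_of_mul_isUnit_right h1
  have hinj : Function.Injective ρ := by
    rw [injective_iff_map_eq_zero]
    intro c hc
    obtain ⟨n, g, hg⟩ := IsLocalization.Away.surj (e (H * Polynomial.C h₀)) c
    obtain ⟨p, rfl⟩ := he.2 g
    have hun : IsUnit (algebraMap G C (e (H * Polynomial.C h₀)) ^ n) :=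
      (IsLocalization.Away.algebraMap_isUnit _).pow n
    have h1 : psi h₀ p = 0 := by
      rw [← hρ, ← hg, map_mul, hc, zero_mul]
    obtain ⟨N, hN⟩ := psi_eq_zero h₀ p h1
    have h2 : algebraMap G C (e (Polynomial.C (h₀ ^ N))) * algebraMap G C (e p) = 0 := by
      rw [← map_mul, ← map_mul, hN, map_zero, map_zero]
    have h3 : IsUnit (algebraMap G C (e (Polynomial.C (h₀ ^ N)))) := by
      rw [Polynomial.C_pow, map_pow, map_pow]
      exact hCu.pow N
    have h4 : algebraMap G C (e p) = 0 := by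
      rwa [h3.mul_right_eq_zero] at h2
    rw [h4] at hg
    exact (hun.mul_left_eq_zero).mp hg
  apply hinj
  rw [map_zero]
  ext m
  rw [map_zero]
  have h1 : (PowerSeries.X : PowerSeries (Localization.Away h₀)) ^ (m + 1) ∣ ρ s := by
    obtain ⟨s', hs'⟩ := hs m
    refine ⟨ρ s', ?_⟩
    rw [hs', map_mul, map_pow, hρ, psi_X]
  exact PowerSeries.X_pow_dvd_iff.mp h1 m (Nat.lt_succ_self m)

end Groth.Agent.H82.AlgSep
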