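import Mathlib.RingTheory.MvPolynomial.Basic
import Mathlib.RingTheory.Polynomial.Basic
import Mathlib.Algebra.MvPolynomial.CommRing
import Mathlib.RingTheory.Ideal.Quotient.Operations
import Mathlib.RingTheory.Spectrum.Prime.RingHom
import Mathlib.RingTheory.LocalRing.ResidueField.Ideal
import Mathlib.FieldTheory.IsAlgClosed.Basic
import Mathlib.FieldTheory.IsAlgClosed.AlgebraicClosure
import Mathlib.FieldTheory.Isaacs
import Mathlib.RingTheory.Polynomial.ScaleRoots
import Mathlib.Algebra.Polynomial.Lifts
import Mathlib.RingTheory.Localization.Integer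
import Mathlib.Tactic

set_option autoImplicit false
universe u

namespace Groth.Agent.H82.AllRoots

open Polynomial

variable (A : Type u) [CommRing A]

abbrev Idx := {P : Polynomial A // P.Monic ∧ 0 < P.natDegree}

noncomputable abbrev J : Ideal (MvPolynomial (Idx A) A) :=
  Ideal.span (Set.range fun P : Idx A => Polynomial.aeval (MvPolynomial.X (R := A) P) P.1)

abbrev T := MvPolynomial (Idx A) A ⧸ J A

/-- the class of `X_P` in `T`. -/
noncomputable def xi (P : Idx A) : T A := Ideal.Quotient.mk (J A) (MvPolynomial.X P)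

lemma eval₂_xi (P : Idx A) : Polynomial.eval₂ (algebraMap A (T A)) (xi A P) P.1 = 0 := by
  have h1 : Polynomial.aeval (xi A P) P.1 = Ideal.Quotient.mkₐ A (J A)
      (Polynomial.aeval (MvPolynomial.X (R := A) P) P.1) := by
    rw [← Polynomial.aeval_algHom_apply]; rfl
  have h2 : Ideal.Quotient.mkₐ A (J A)
      (Polynomial.aeval (MvPolynomial.X (R := A) P) P.1) = 0 := by
    rw [Ideal.Quotient.mkₐ_eq_mk, Ideal.Quotient.eq_zero_iff_mem]
    exact Ideal.subset_span ⟨P, rfl⟩
  rw [← Polynomial.aeval_def, h1, h2]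

/-- A ring hom out of `T` kills nothing essential: images of `xi` are roots. -/
lemma eval₂_map_xi {B : Type*} [CommRing B] (ψ : T A →+* B) (P : Idx A) :
    Polynomial.eval₂ (ψ.comp (algebraMap A (T A))) (ψ (xi A P)) P.1 = 0 := by
  rw [← Polynomial.hom_eval₂, eval₂_xi, map_zero]

/-- Induction principle for `T`. -/
lemma T_induction {motive : T A → Prop} (hC : ∀ a : A, motive (algebraMap A (T A) a))
    (hX : ∀ P, motive (xi A P)) (hadd : ∀ x y, motive x → motive y → motive (x + y))
    (hmul : ∀ x y, motive x → motive y → motive (x * y)) (t : T A) : motive t := by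
  obtain ⟨m, rfl⟩ := Ideal.Quotient.mk_surjective t
  induction m using MvPolynomial.induction_on with
  | C a => exact hC a
  | add p q hp hq => rw [map_add]; exact hadd _ _ hp hq
  | mul_X p i hp => rw [map_mul]; exact hmul _ _ hp (hX i)

theorem surj : Function.Surjective (PrimeSpectrum.comap (algebraMap A (T A))) := by
  intro p
  let F := p.asIdeal.ResidueField
  let K := AlgebraicClosure F
  let g : A →+* K := (algebraMap F K).comp (algebraMap A F)
  have hroot : ∀ P : Idx A, ∃ r : K, Polynomial.eval₂ g r P.1 = 0 := by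
    intro P
    have hdeg : (P.1.map g).degree ≠ 0 := by
      apply Polynomial.degree_ne_of_natDegree_ne
      rw [P.2.1.natDegree_map g]
      exact P.2.2.ne'
    obtain ⟨r, hr⟩ := IsAlgClosed.exists_root (P.1.map g) hdeg
    exact ⟨r, by rwa [Polynomial.eval₂_eq_eval_map]⟩
  choose r hr using hroot
  let φ₀ : MvPolynomial (Idx A) A →+* K := MvPolynomial.eval₂Hom g r
  have hcomp : φ₀.comp (algebraMap A (MvPolynomial (Idx A) A)) = g := by
    ext a; simp [φ₀, MvPolynomial.algebraMap_eq]
  have hJ : ∀ x ∈ J A, φ₀ x = 0 := by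
    have : J A ≤ RingHom.ker φ₀ := by
      rw [Ideal.span_le]
      rintro _ ⟨P, rfl⟩
      simp only [SetLike.mem_coe, RingHom.mem_ker]
      rw [Polynomial.aeval_def, Polynomial.hom_eval₂, hcomp]
      simpa [φ₀] using hr P
    exact fun x hx => this hx
  let φ : T A →+* K := Ideal.Quotient.lift (J A) φ₀ hJ
  refine ⟨⟨RingHom.ker φ, RingHom.ker_isPrime φ⟩, ?_⟩
  ext a
  have h1 : φ (algebraMap A (T A) a) = g a := by
    have : algebraMap A (T A) a = Ideal.Quotient.mk (J A) (MvPolynomial.C a) := rfl
    rw [this, Ideal.Quotient.lift_mk]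
    simp [φ₀]
  change algebraMap A (T A) a ∈ RingHom.ker φ ↔ a ∈ p.asIdeal
  rw [RingHom.mem_ker, h1]
  change algebraMap F K (algebraMap A F a) = 0 ↔ _
  rw [map_eq_zero_iff _ (algebraMap F K).injective, Ideal.algebraMap_residueField_eq_zero]


section Part2

variable (Q : Ideal (T A)) [Q.IsPrime]

/-- the induced map on residue fields -/
noncomputable abbrev f : (Q.comap (algebraMap A (T A))).ResidueField →+* Q.ResidueField :=
  Ideal.ResidueField.map (Q.comap (algebraMap A (T A))) Q (algebraMap A (T A)) rfl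

lemma comp_eq : (algebraMap (T A) Q.ResidueField).comp (algebraMap A (T A)) =
    (f A Q).comp (algebraMap A (Q.comap (algebraMap A (T A))).ResidueField) := by
  ext a
  exact (Ideal.ResidueField.map_algebraMap _ _ _ rfl a).symm

theorem isIntegral_f : (f A Q).IsIntegral := by
  letI : Algebra (Q.comap (algebraMap A (T A))).ResidueField Q.ResidueField := (f A Q).toAlgebra
  have hT : ∀ t : T A, IsIntegral (Q.comap (algebraMap A (T A))).ResidueField
      (algebraMap (T A) Q.ResidueField t) := by
    intro t
    refine T_induction A (motive := fun t => IsIntegral (Q.comap (algebraMap A (T A))).ResidueField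
      (algebraMap (T A) Q.ResidueField t)) ?_ ?_ ?_ ?_ t
    · intro a
      have : algebraMap (T A) Q.ResidueField (algebraMap A (T A) a) =
          algebraMap (Q.comap (algebraMap A (T A))).ResidueField Q.ResidueField
            (algebraMap A (Q.comap (algebraMap A (T A))).ResidueField a) :=
        (Ideal.ResidueField.map_algebraMap _ _ _ rfl a).symm
      rw [this]; exact isIntegral_algebraMap
    · intro P
      refine ⟨P.1.map (algebraMap A _), P.2.1.map _, ?_⟩
      rw [Polynomial.eval₂_map]
      have := eval₂_map_xi A (algebraMap (T A) Q.ResidueField) P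
      rw [comp_eq] at this
      exact this
    · intro x y hx hy; rw [map_add]; exact hx.add hy
    · intro x y hx hy; rw [map_mul]; exact hx.mul hy
  intro x
  obtain ⟨a, b, -, rfl⟩ := IsFractionRing.div_surjective (A := T A ⧸ Q) x
  obtain ⟨a, rfl⟩ := Ideal.Quotient.mk_surjective a
  obtain ⟨b, rfl⟩ := Ideal.Quotient.mk_surjective b
  rw [Ideal.algebraMap_quotient_residueField_mk, Ideal.algebraMap_quotient_residueField_mk,
    div_eq_mul_inv]
  exact (hT a).mul (hT b).inv

theorem isAlgClosed : IsAlgClosed Q.ResidueField := by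
  letI : Algebra (Q.comap (algebraMap A (T A))).ResidueField Q.ResidueField := (f A Q).toAlgebra
  haveI : Algebra.IsIntegral (Q.comap (algebraMap A (T A))).ResidueField Q.ResidueField :=
    ⟨isIntegral_f A Q⟩
  haveI : Algebra.IsAlgebraic (Q.comap (algebraMap A (T A))).ResidueField Q.ResidueField :=
    Algebra.IsIntegral.isAlgebraic
  suffices h : ∀ q : Polynomial (Q.comap (algebraMap A (T A))).ResidueField, q.Monic →
      Irreducible q → ∃ x : Q.ResidueField, Polynomial.aeval x q = 0 from
    (IsAlgClosure.of_exists_root h).isAlgClosed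
  intro q hq hirr
  set pp := Q.comap (algebraMap A (T A)) with hpp
  have hn : 0 < q.natDegree := hirr.natDegree_pos
  obtain ⟨b, hb⟩ := IsLocalization.exist_integer_multiples (nonZeroDivisors (A ⧸ pp))
    (Finset.range (q.natDegree + 1)) q.coeff
  obtain ⟨b', hb'⟩ := Ideal.Quotient.mk_surjective (b : A ⧸ pp)
  set s' : pp.ResidueField := algebraMap A pp.ResidueField b' with hs'
  have hs'b : algebraMap (A ⧸ pp) pp.ResidueField b = s' := by
    rw [← hb', Ideal.algebraMap_quotient_residueField_mk]
  have hs'0 : s' ≠ 0 := by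
    rw [← hs'b]
    exact map_ne_zero_of_mem_nonZeroDivisors _ pp.injective_algebraMap_quotient_residueField b.2
  have hcoef : ∀ i ≤ q.natDegree, ∃ c : A, algebraMap A pp.ResidueField c = s' * q.coeff i := by
    intro i hi
    obtain ⟨c, hc⟩ := hb i (Finset.mem_range.2 (Nat.lt_succ_of_le hi))
    obtain ⟨c', rfl⟩ := Ideal.Quotient.mk_surjective c
    refine ⟨c', ?_⟩
    rw [← Ideal.algebraMap_quotient_residueField_mk, hc, Algebra.smul_def, hs'b]
  have hlifts : Polynomial.scaleRoots q s' ∈ Polynomial.lifts (algebraMap A pp.ResidueField) := by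
    rw [Polynomial.lifts_iff_coeff_lifts]
    intro i
    rw [Polynomial.coeff_scaleRoots]
    rcases lt_trichotomy i q.natDegree with hi | hi | hi
    · obtain ⟨c, hc⟩ := hcoef i hi.le
      refine ⟨c * b' ^ (q.natDegree - i - 1), ?_⟩
      rw [map_mul, map_pow, hc, ← hs']
      have : q.natDegree - i = (q.natDegree - i - 1) + 1 := by omega
      conv_rhs => rw [this, pow_succ]
      ring
    · subst hi
      refine ⟨1, ?_⟩
      rw [map_one, Nat.sub_self, pow_zero, mul_one]
      exact hq.coeff_natDegree.symm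
    · refine ⟨0, ?_⟩
      rw [map_zero, Polynomial.coeff_eq_zero_of_natDegree_lt hi, zero_mul]
  have hmon : (Polynomial.scaleRoots q s').Monic := (Polynomial.monic_scaleRoots_iff s').2 hq
  obtain ⟨P, hPmap, hPdeg, hPmon⟩ := Polynomial.lifts_and_natDegree_eq_and_monic hlifts hmon
  have hPpos : 0 < P.natDegree := by
    rw [hPdeg, Polynomial.natDegree_scaleRoots]; exact hn
  let idx : Idx A := ⟨P, hPmon, hPpos⟩
  have h0 := eval₂_map_xi A (algebraMap (T A) Q.ResidueField) idx
  rw [comp_eq, ← Polynomial.eval₂_map] at h0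
  change Polynomial.eval₂ (f A Q) _ (P.map (algebraMap A pp.ResidueField)) = 0 at h0
  rw [hPmap] at h0
  have hfs : (f A Q) s' ≠ 0 := (map_ne_zero (f A Q)).2 hs'0
  refine ⟨algebraMap (T A) Q.ResidueField (xi A idx) / (f A Q) s', ?_⟩
  have h1 := Polynomial.scaleRoots_eval₂_mul (p := q) (f A Q)
    (algebraMap (T A) Q.ResidueField (xi A idx) / (f A Q) s') s'
  rw [mul_div_cancel₀ _ hfs, h0] at h1
  have h2 := (mul_eq_zero.1 h1.symm).resolve_left (pow_ne_zero _ hfs)
  rw [Polynomial.aeval_def]
  exact h2

theorem main : IsAlgClosed Q.ResidueField ∧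
    (Ideal.ResidueField.map (Q.comap (algebraMap A (T A))) Q (algebraMap A (T A)) rfl).IsIntegral :=
  ⟨isAlgClosed A Q, isIntegral_f A Q⟩

end Part2

end Groth.Agent.H82.AllRoots
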