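import Groth.Agent.H82.AttrComap2

/-! The change-of-monoid map of attractors `X^{f⁻¹Y ⊂ M} ⟶ X^{Y ⊂ Z}` is an isomorphism for
`Y ⊆ f(M)`. -/

set_option autoImplicit false
set_option linter.unusedSectionVars false
universe u

open CategoryTheory MonoidalCategory CartesianMonoidalCategory MonObj AlgebraicGeometry
open CategoryTheory.Limits Opposite
open Groth.Agent.H42 Groth.Agent.H40 Magnet Magnet.MonAct
open Groth.Agent.H82.AttrFix Groth.Agent.H82.AMonPts Groth.Agent.H82.AttrComap1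
open Groth.Agent.H82.AttrComap2

namespace Groth.Agent.H82.AttrComap

variable {S : Scheme.{u}} {M Z : Type} [AddCommGroup M] [AddCommGroup Z] (f : M →+ Z)
  (Y : AddSubmonoid Z) {X : Over S} (a : MonAct (AMonS S M) X)

theorem subAct_pts' {L : Type} [AddCommMonoid L] (N : AddSubmonoid L) {W : Over S}
    (g : W ⟶ AMonS S L) (b : W ⟶ AMonS S ↥N) :
    lift g b ≫ (subAct S L N).act = (g ≫ AMonS.map S N.subtype) * b := by
  unfold subAct
  rw [lift_restrict_act, lift_regular_act]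

/-- equivariance on points, source attractor -/
theorem attrN_pts {T : Over S} (φ : AMonS S ↥(Y.comap f) ⊗ T ⟶ X)
    (hφ : IsEquivariant ((subAct S M (Y.comap f)).prod (MonAct.trivial (AMonS S M) T)) a φ)
    {W : Over S} (g : W ⟶ AMonS S M) (b : W ⟶ AMonS S ↥(Y.comap f)) (t : W ⟶ T) :
    lift ((g ≫ AMonS.map S (Y.comap f).subtype) * b) t ≫ φ = lift g (lift b t ≫ φ) ≫ a.act := by
  rw [← subAct_pts']
  exact (mem_eqvHom_iff φ).mp hφ W g b t

/-- equivariance on points, target attractor -/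
theorem attrY_pts {T : Over S} (ψ : AMonS S ↥Y ⊗ T ⟶ X)
    (hψ : IsEquivariant ((subAct S Z Y).prod (MonAct.trivial (AMonS S Z) T))
      (a.restrict (AMonS.map S f)) ψ)
    {W : Over S} (k : W ⟶ AMonS S Z) (y : W ⟶ AMonS S ↥Y) (t : W ⟶ T) :
    lift ((k ≫ AMonS.map S Y.subtype) * y) t ≫ ψ =
      lift (k ≫ AMonS.map S f) (lift y t ≫ ψ) ≫ a.act := by
  rw [← subAct_pts', ← lift_restrict_act]
  exact (mem_eqvHom_iff ψ).mp hψ W k y t

theorem epi_cc (hY : Y ≤ AddMonoidHom.mrange f) (T : Over S) :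
    Epi (AMonS.map S (theta f Y) ▷ T) :=
  epi_of_cov _ (cov_whiskerRight _ _ (cov_theta f Y S hY))

/-- an equivariant map on `A(N) × T` in terms of its restriction to `A(Y) × T` -/
theorem attrN_pair {T : Over S} (φ : AMonS S ↥(Y.comap f) ⊗ T ⟶ X)
    (hφ : IsEquivariant ((subAct S M (Y.comap f)).prod (MonAct.trivial (AMonS S M) T)) a φ)
    {W : Over S} (g : W ⟶ AMonS S M) (y : W ⟶ AMonS S ↥Y) (t : W ⟶ T) :
    lift (pair Y g y) t ≫ (AMonS.map S (theta f Y) ▷ T) ≫ φ =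
      lift g (lift y t ≫ (AMonS.map S (fN f Y) ▷ T) ≫ φ) ≫ a.act := by
  rw [lift_whiskerRight_assoc, pair_cc, attrN_pts f Y a φ hφ, lift_whiskerRight_assoc]

theorem app_injective (hY : Y ≤ AddMonoidHom.mrange f) (T : (Over S)ᵒᵖ) :
    Function.Injective ((attrComap a f Y).app T) := by
  intro φ₁ φ₂ h
  have hx : (AMonS.map S (fN f Y) ▷ unop T) ≫ φ₁.1 = (AMonS.map S (fN f Y) ▷ unop T) ≫ φ₂.1 :=
    congrArg Subtype.val h
  apply Subtype.ext
  have := epi_cc f Y hY (unop T)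
  rw [← cancel_epi (AMonS.map S (theta f Y) ▷ unop T)]
  apply hom_ext_lift₂
  intro W p t
  obtain ⟨g, y, rfl⟩ := exists_pair Y p
  rw [attrN_pair f Y a φ₁.1 φ₁.2, attrN_pair f Y a φ₂.1 φ₂.2, hx]

/-- the orbit-type map `(p, t) ↦ p_M • ψ(p_Y, t)` on `A(M × Y) × T` -/
noncomputable def psiT {T : Over S} (ψ : AMonS S ↥Y ⊗ T ⟶ X) : AMonS S (M × ↥Y) ⊗ T ⟶ X :=
  lift (fst _ _ ≫ AMonS.map S (AddMonoidHom.inl M ↥Y))
    (lift (fst _ _ ≫ AMonS.map S (AddMonoidHom.inr M ↥Y)) (snd _ _) ≫ ψ) ≫ a.act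

theorem psiT_pair {T : Over S} (ψ : AMonS S ↥Y ⊗ T ⟶ X) {W : Over S}
    (g : W ⟶ AMonS S M) (y : W ⟶ AMonS S ↥Y) (t : W ⟶ T) :
    lift (pair Y g y) t ≫ psiT Y a ψ = lift g (lift y t ≫ ψ) ≫ a.act := by
  unfold psiT
  rw [comp_lift_assoc, comp_lift_assoc, lift_fst_assoc, lift_fst_assoc, lift_snd, pair_pM, pair_pY]

theorem psiT_desc (hY : Y ≤ AddMonoidHom.mrange f) {T : Over S} (ψ : AMonS S ↥Y ⊗ T ⟶ X)
    (hψ : IsEquivariant ((subAct S Z Y).prod (MonAct.trivial (AMonS S Z) T))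
      (a.restrict (AMonS.map S f)) ψ)
    (W : Over S) (g₁ g₂ : W ⟶ AMonS S (M × ↥Y) ⊗ T)
    (hg : g₁ ≫ (AMonS.map S (theta f Y) ▷ T) = g₂ ≫ (AMonS.map S (theta f Y) ▷ T)) :
    g₁ ≫ psiT Y a ψ = g₂ ≫ psiT Y a ψ := by
  rw [← lift_comp_fst_snd g₁, ← lift_comp_fst_snd g₂] at hg ⊢
  obtain ⟨m₁, y₁, hp₁⟩ := exists_pair Y (g₁ ≫ fst _ _)
  obtain ⟨m₂, y₂, hp₂⟩ := exists_pair Y (g₂ ≫ fst _ _)
  rw [hp₁, hp₂] at hg ⊢
  set t₁ := g₁ ≫ snd _ _
  set t₂ := g₂ ≫ snd _ _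
  rw [lift_whiskerRight, lift_whiskerRight] at hg
  have h1 : pair Y m₁ y₁ ≫ AMonS.map S (theta f Y) = pair Y m₂ y₂ ≫ AMonS.map S (theta f Y) := by
    have := congrArg (fun q => q ≫ fst _ _) hg
    simpa only [lift_fst] using this
  have h2 : t₁ = t₂ := by
    have := congrArg (fun q => q ≫ snd _ _) hg
    simpa only [lift_snd] using this
  obtain ⟨W', π, k, hπ, hk1, hk2⟩ := exists_cover_of_eq f Y hY m₁ m₂ y₁ y₂ h1
  have : Epi π := epi_of_cov _ hπ
  rw [psiT_pair, psiT_pair, ← h2, ← cancel_epi π]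
  rw [comp_lift_assoc, comp_lift_assoc, comp_lift_assoc, comp_lift_assoc, hk2,
    attrY_pts f Y a ψ hψ, ← lift_mul_act, hk1]

theorem app_surjective (hY : Y ≤ AddMonoidHom.mrange f) (T : (Over S)ᵒᵖ) :
    Function.Surjective ((attrComap a f Y).app T) := by
  intro ψ'
  obtain ⟨ψ, hψ⟩ := ψ'
  have hcov := cov_whiskerRight (AMonS.map S (theta f Y)) (unop T) (cov_theta f Y S hY)
  obtain ⟨φ₀, hφ₀⟩ := exists_desc_of_cov (AMonS.map S (theta f Y) ▷ unop T) hcov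
    (psiT Y a ψ) (psiT_desc f Y a hY ψ hψ)
  -- the descended map on points
  have hP : ∀ {W : Over S} (g : W ⟶ AMonS S M) (y : W ⟶ AMonS S ↥Y) (t : W ⟶ unop T),
      lift ((g ≫ AMonS.map S (Y.comap f).subtype) * (y ≫ AMonS.map S (fN f Y))) t ≫ φ₀ =
        lift g (lift y t ≫ ψ) ≫ a.act := by
    intro W g y t
    rw [← pair_cc, ← lift_whiskerRight_assoc, hφ₀, psiT_pair]
  have heq : IsEquivariant ((subAct S M (Y.comap f)).prod
      (MonAct.trivial (AMonS S M) (unop T))) a φ₀ := by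
    have : Epi (AMonS S M ◁ (AMonS.map S (theta f Y) ▷ unop T)) :=
      epi_of_cov _ (cov_whiskerLeft _ _ hcov)
    unfold IsEquivariant
    rw [← cancel_epi (AMonS S M ◁ (AMonS.map S (theta f Y) ▷ unop T))]
    apply hom_ext_lift₂
    intro W g z
    obtain ⟨p, t, rfl⟩ : ∃ p t, z = lift p t := ⟨_, _, (lift_comp_fst_snd z).symm⟩
    obtain ⟨g', y, rfl⟩ := exists_pair Y p
    have e1 : lift g (lift (pair Y g' y) t) ≫
        (AMonS S M ◁ (AMonS.map S (theta f Y) ▷ unop T)) =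
        lift g (lift ((g' ≫ AMonS.map S (Y.comap f).subtype) * (y ≫ AMonS.map S (fN f Y))) t) := by
      rw [lift_whiskerLeft, lift_whiskerRight, pair_cc]
    have e2 : lift g (lift ((g' ≫ AMonS.map S (Y.comap f).subtype) *
        (y ≫ AMonS.map S (fN f Y))) t) ≫
        ((subAct S M (Y.comap f)).prod (MonAct.trivial (AMonS S M) (unop T))).act =
        lift (((g * g') ≫ AMonS.map S (Y.comap f).subtype) * (y ≫ AMonS.map S (fN f Y))) t := by
      rw [lift_prod_act, lift_trivial_act, subAct_pts',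
        MonObj.mul_comp _ _ (AMonS.map S (Y.comap f).subtype), _root_.mul_assoc]
    have e3 : lift g (lift ((g' ≫ AMonS.map S (Y.comap f).subtype) *
        (y ≫ AMonS.map S (fN f Y))) t) ≫ (AMonS S M ◁ φ₀) =
        lift g (lift g' (lift y t ≫ ψ) ≫ a.act) := by
      rw [lift_whiskerLeft, hP]
    rw [← Category.assoc, e1, ← Category.assoc, e2, hP, lift_mul_act, ← e3, ← e1,
      Category.assoc, Category.assoc]
  refine ⟨⟨φ₀, heq⟩, Subtype.ext ?_⟩
  change (AMonS.map S (fN f Y) ▷ unop T) ≫ φ₀ = ψ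
  apply hom_ext_lift₂
  intro W y t
  rw [lift_whiskerRight_assoc]
  have := hP (1 : W ⟶ AMonS S M) y t
  rw [MonObj.one_comp (AMonS.map S (Y.comap f).subtype), _root_.one_mul, lift_one_act] at this
  exact this

theorem main (S : Scheme.{u}) (M Z : Type) [AddCommGroup M] [AddCommGroup Z]
    (f : M →+ Z) (Y : AddSubmonoid Z) (hY : Y ≤ AddMonoidHom.mrange f)
    (X : Over S) (a : AlgGrp.Action (Red.DS S M) X) :
    IsIso (Magnet.attrComap (Magnet.MonAct.ofAction a) f Y) := by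
  have : ∀ T, IsIso ((Magnet.attrComap (Magnet.MonAct.ofAction a) f Y).app T) := by
    intro T
    rw [isIso_iff_bijective]
    exact ⟨app_injective f Y _ hY T, app_surjective f Y _ hY T⟩
  exact NatIso.isIso_of_isIso_app _

end Groth.Agent.H82.AttrComap
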