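import Mathlib

/-! For a homomorphism `θ : N →* P` of commutative monoids and a family `s : B → P` such that
`(b, n) ↦ θ n * s b` is a bijection `B × N → P`, the monoid algebra `R[P]` is a free `R[N]`-module
with basis `s`; in particular `R[N] → R[P]` is faithfully flat. -/

set_option autoImplicit false
universe u v w x

namespace Groth.Agent.H82.MonAlgFree

open MonoidAlgebra

variable (R : Type u) [CommRing R] {P : Type v} {N : Type w} [CommMonoid P] [CommMonoid N]
  (θ : N →* P)

theorem map_mul_single (a : MonoidAlgebra R N) (b : P) :
    mapDomainRingHom R θ a * single b (1 : R) = mapDomain (fun n => θ n * b) a := by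
  induction a using MonoidAlgebra.induction_linear with
  | zero => simp
  | add a c ha hc => rw [map_add, add_mul, ha, hc, mapDomain_add]
  | single n r =>
    rw [mapDomainRingHom_apply, mapDomain_single, single_mul_single, _root_.mul_one,
      mapDomain_single]

theorem free_of_bijective {B : Type x} (s : B → P)
    (hbij : Function.Bijective (fun y : B × N => θ y.2 * s y.1)) :
    letI := (mapDomainRingHom R θ).toAlgebra
    Module.Free (MonoidAlgebra R N) (MonoidAlgebra R P) := by
  let _ := (mapDomainRingHom R θ).toAlgebra
  have hsmul : ∀ (a : MonoidAlgebra R N) (y : MonoidAlgebra R P),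
      a • y = mapDomainRingHom R θ a * y := fun a y => rfl
  have hinj : ∀ b : B, Function.Injective (fun n : N => θ n * s b) := by
    intro b n n' h
    have := hbij.1 (a₁ := (b, n)) (a₂ := (b, n')) h
    exact (Prod.ext_iff.mp this).2
  let v : B → MonoidAlgebra R P := fun c => single (s c) 1
  have hli : LinearIndependent (MonoidAlgebra R N) v := by
    rw [linearIndependent_iff']
    intro t a hsum c₀ hc₀
    ext h
    have h1 := congrArg (fun y : MonoidAlgebra R P => y.coeff (θ h * s c₀)) hsum
    simp only [coeff_sum, Finsupp.coe_finsetSum, Finset.sum_apply, coeff_zero, Finsupp.coe_zero,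
      Pi.zero_apply] at h1
    rw [Finset.sum_eq_single c₀] at h1
    · rw [hsmul, map_mul_single] at h1
      change (Finsupp.mapDomain (fun n => θ n * s c₀) (a c₀).coeff) (θ h * s c₀) = 0 at h1
      rw [Finsupp.mapDomain_apply (hinj c₀) _ h] at h1
      rw [h1]; rfl
    · intro c _ hc
      rw [hsmul, map_mul_single]
      change (Finsupp.mapDomain (fun n => θ n * s c) (a c).coeff) (θ h * s c₀) = 0
      apply Finsupp.mapDomain_of_notMem_range
      rintro ⟨n, hn⟩
      apply hc
      have := hbij.1 (a₁ := (c, n)) (a₂ := (c₀, h)) hn
      exact (Prod.ext_iff.mp this).1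
    · intro hc
      exact absurd hc₀ hc
  have hsp : ⊤ ≤ Submodule.span (MonoidAlgebra R N) (Set.range v) := by
    rw [top_le_iff, Submodule.eq_top_iff']
    intro y
    induction y using MonoidAlgebra.induction_linear with
    | zero => exact Submodule.zero_mem _
    | add a b ha hb => exact Submodule.add_mem _ ha hb
    | single g r =>
      obtain ⟨⟨b, n⟩, hbn⟩ := hbij.2 g
      have : single g r = (single n r : MonoidAlgebra R N) • v b := by
        rw [hsmul]
        change _ = mapDomainRingHom R θ (single n r) * single (s b) 1
        rw [mapDomainRingHom_apply, mapDomain_single, single_mul_single, _root_.mul_one, ← hbn]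
      rw [this]
      exact Submodule.smul_mem _ _ (Submodule.subset_span ⟨_, rfl⟩)
  exact Module.Free.of_basis (Module.Basis.mk hli hsp)

theorem faithfullyFlat_of_bijective [Nontrivial R] {B : Type x} (s : B → P)
    (hbij : Function.Bijective (fun y : B × N => θ y.2 * s y.1)) :
    (mapDomainRingHom R θ).FaithfullyFlat := by
  let _ := (mapDomainRingHom R θ).toAlgebra
  have := free_of_bijective R θ s hbij
  change Module.FaithfullyFlat (MonoidAlgebra R N) (MonoidAlgebra R P)
  infer_instance

end Groth.Agent.H82.MonAlgFree
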