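import Groth.Agent.H82.AttrFix
import Groth.Agent.H82.AMonPts
import Groth.Agent.H82.MonAlgFree
import Groth.Prelude.Def_Magnet3
import Mathlib

/-! The change-of-monoid map of attractors `X^{f⁻¹Y ⊂ M} ⟶ X^{Y ⊂ Z}` is an isomorphism for
`Y ⊆ f(M)`: geometric and algebraic preliminaries. -/

set_option autoImplicit false
set_option linter.unusedSectionVars false
universe u

open CategoryTheory MonoidalCategory CartesianMonoidalCategory MonObj AlgebraicGeometry
open CategoryTheory.Limits Opposite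
open Groth.Agent.H42 Groth.Agent.H40 Magnet
open Groth.Agent.H82.AttrFix Groth.Agent.H82.AMonPts

namespace Groth.Agent.H82.AttrComap1

section Geometry

variable {S : Scheme.{u}} {N P : Type} [AddCommMonoid N] [AddCommMonoid P]

theorem cov_AMon_map (θ : N →+ P)
    (hff : (MonoidAlgebra.mapDomainRingHom (ULift.{u} ℤ)
      (AddMonoidHom.toMultiplicative θ)).FaithfullyFlat) :
    Cov (AMon.map (ULift.{u} ℤ) θ).left := by
  have h := (flat_and_surjective_SpecMap_iff (CommRingCat.ofHom
    (MonoidAlgebra.mapDomainRingHom (ULift.{u} ℤ) (AddMonoidHom.toMultiplicative θ)))).mpr hff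
  refine ⟨h.1, h.2, ?_⟩
  change QuasiCompact (Spec.map _)
  infer_instance

theorem cov_AMonS_map (θ : N →+ P)
    (hff : (MonoidAlgebra.mapDomainRingHom (ULift.{u} ℤ)
      (AddMonoidHom.toMultiplicative θ)).FaithfullyFlat) :
    Cov (AMonS.map S θ).left := by
  have sq := Groth.Agent.H26.isPullback_overPullback_map
    (Limits.IsTerminal.from specULiftZIsTerminal S) (AMon.map (ULift.{u} ℤ) θ)
  obtain ⟨h1, h2, h3⟩ := cov_AMon_map.{u} θ hff
  exact ⟨MorphismProperty.of_isPullback (P := @Flat) sq.flip h1,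
    MorphismProperty.of_isPullback (P := @Surjective) sq.flip h2,
    MorphismProperty.of_isPullback (P := @QuasiCompact) sq.flip h3⟩

end Geometry

section Algebra

variable {M Z : Type} [AddCommGroup M] [AddCommGroup Z] (f : M →+ Z) (Y : AddSubmonoid Z)

/-- `N = f⁻¹(Y) → Y` -/
abbrev fN : ↥(Y.comap f) →+ ↥Y := (f.comp (Y.comap f).subtype).codRestrict Y (fun x => x.2)

/-- `N → M × Y`, `n ↦ (n, f n)` -/
def theta : ↥(Y.comap f) →+ M × ↥Y := AddMonoidHom.prod (Y.comap f).subtype (fN f Y)

theorem theta_apply (n : ↥(Y.comap f)) : theta f Y n = ((n : M), fN f Y n) := rfl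

theorem theta_bij_add (hY : Y ≤ AddMonoidHom.mrange f) :
    Function.Bijective (fun y : (M ⧸ f.ker) × ↥(Y.comap f) =>
      theta f Y y.2 + (((Quotient.out y.1 : M), (0 : ↥Y)) : M × ↥Y)) := by
  constructor
  · rintro ⟨c, n⟩ ⟨c', n'⟩ h0
    simp only [theta_apply, Prod.mk_add_mk, Prod.mk.injEq, add_zero] at h0
    obtain ⟨h1, h2⟩ := h0
    have h3 : f (n : M) = f (n' : M) := congrArg Subtype.val h2
    have h4 : (QuotientAddGroup.mk (Quotient.out c) : M ⧸ f.ker) =
        QuotientAddGroup.mk (Quotient.out c') := by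
      rw [QuotientAddGroup.eq, AddMonoidHom.mem_ker]
      have : -(Quotient.out c : M) + Quotient.out c' = (n : M) - (n' : M) := by
        have e : (Quotient.out c' : M) = (n : M) + Quotient.out c - (n' : M) := by
          rw [h1]; abel
        rw [e]; abel
      rw [this, map_sub, h3, sub_self]
    rw [show (QuotientAddGroup.mk (Quotient.out c) : M ⧸ f.ker) = c from Quotient.out_eq _,
      show (QuotientAddGroup.mk (Quotient.out c') : M ⧸ f.ker) = c' from Quotient.out_eq _] at h4
    subst h4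
    have h5 : (n : M) = (n' : M) := add_right_cancel h1
    exact Prod.ext rfl (Subtype.ext h5)
  · rintro ⟨m, y⟩
    obtain ⟨n₀, hn₀⟩ := hY y.2
    obtain ⟨k, hk⟩ := QuotientAddGroup.mk_out_eq_add f.ker (m - n₀)
    have hkk : f (k : M) = 0 := AddMonoidHom.mem_ker.mp k.2
    have hmem : n₀ - (k : M) ∈ Y.comap f := by
      rw [AddSubmonoid.mem_comap, map_sub, hkk, sub_zero, hn₀]
      exact y.2
    refine ⟨(QuotientAddGroup.mk (m - n₀), ⟨n₀ - (k : M), hmem⟩), ?_⟩
    simp only [theta_apply, Prod.mk_add_mk, add_zero]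
    refine Prod.ext ?_ (Subtype.ext ?_)
    · change n₀ - (k : M) + Quotient.out (QuotientAddGroup.mk (m - n₀) : M ⧸ f.ker) = m
      rw [hk]; abel
    · change f (n₀ - (k : M)) = (y : Z)
      rw [map_sub, hkk, sub_zero, hn₀]

theorem theta_bij (hY : Y ≤ AddMonoidHom.mrange f) :
    Function.Bijective (fun y : (M ⧸ f.ker) × Multiplicative ↥(Y.comap f) =>
      AddMonoidHom.toMultiplicative (theta f Y) y.2 *
        Multiplicative.ofAdd (((Quotient.out y.1 : M), (0 : ↥Y)) : M × ↥Y)) := by
  have h := theta_bij_add f Y hY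
  have e : (fun y : (M ⧸ f.ker) × Multiplicative ↥(Y.comap f) =>
      AddMonoidHom.toMultiplicative (theta f Y) y.2 *
        Multiplicative.ofAdd (((Quotient.out y.1 : M), (0 : ↥Y)) : M × ↥Y)) =
      Multiplicative.ofAdd ∘ (fun y : (M ⧸ f.ker) × ↥(Y.comap f) =>
      theta f Y y.2 + (((Quotient.out y.1 : M), (0 : ↥Y)) : M × ↥Y)) ∘
        (Prod.map id Multiplicative.toAdd) := by
    funext y; rfl
  rw [e]
  exact Multiplicative.ofAdd.bijective.comp
    (h.comp (Function.bijective_id.prodMap Multiplicative.toAdd.bijective))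

theorem faithfullyFlat_theta (hY : Y ≤ AddMonoidHom.mrange f) :
    (MonoidAlgebra.mapDomainRingHom (ULift.{u} ℤ)
      (AddMonoidHom.toMultiplicative (theta f Y))).FaithfullyFlat :=
  MonAlgFree.faithfullyFlat_of_bijective (ULift.{u} ℤ) _
    (fun c : M ⧸ f.ker => Multiplicative.ofAdd (((Quotient.out c : M), (0 : ↥Y)) : M × ↥Y))
    (theta_bij f Y hY)

theorem cov_theta (S : Scheme.{u}) (hY : Y ≤ AddMonoidHom.mrange f) :
    Cov (AMonS.map S (theta f Y)).left :=
  cov_AMonS_map _ (faithfullyFlat_theta f Y hY)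

end Algebra

end Groth.Agent.H82.AttrComap1
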