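import Groth.Agent.H82.AttrComap1

/-! Points of `A(M × Y)` as pairs, and the descent datum for the change-of-monoid map. -/

set_option autoImplicit false
set_option linter.unusedSectionVars false
universe u

open CategoryTheory MonoidalCategory CartesianMonoidalCategory MonObj AlgebraicGeometry
open CategoryTheory.Limits Opposite
open Groth.Agent.H42 Groth.Agent.H40 Magnet
open Groth.Agent.H82.AttrFix Groth.Agent.H82.AMonPts Groth.Agent.H82.AttrComap1

namespace Groth.Agent.H82.AttrComap2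

section Lift

variable {S : Scheme.{u}}

/-- pull back a cover along a point -/
theorem exists_lift_cov {A B W : Over S} (q : A ⟶ B) (hq : Cov q.left) (z : W ⟶ B) :
    ∃ (W' : Over S) (π : W' ⟶ W) (h : W' ⟶ A), Cov π.left ∧ h ≫ q = π ≫ z := by
  obtain ⟨h1, h2, h3⟩ := hq
  have hw : pullback.snd z.left q.left ≫ A.hom = pullback.fst z.left q.left ≫ W.hom := by
    rw [← Over.w q, ← Category.assoc, ← pullback.condition, Category.assoc, Over.w z]
  refine ⟨Over.mk (pullback.fst z.left q.left ≫ W.hom), Over.homMk (pullback.fst z.left q.left) rfl,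
    Over.homMk (pullback.snd z.left q.left) hw, ⟨?_, ?_, ?_⟩, ?_⟩
  · exact MorphismProperty.pullback_fst (P := @Flat) _ _ h1
  · exact MorphismProperty.pullback_fst (P := @Surjective) _ _ h2
  · exact MorphismProperty.pullback_fst (P := @QuasiCompact) _ _ h3
  · ext
    exact pullback.condition.symm

end Lift

section Points

variable {S : Scheme.{u}} {M Z : Type} [AddCommGroup M] [AddCommGroup Z] (f : M →+ Z)
  (Y : AddSubmonoid Z)

/-- a point of `A(M × Y)` from a point of `A(M)` and a point of `A(Y)` -/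
noncomputable def pair {W : Over S} (g : W ⟶ AMonS S M) (y : W ⟶ AMonS S ↥Y) :
    W ⟶ AMonS S (M × ↥Y) :=
  (g ≫ AMonS.map S (AddMonoidHom.fst M ↥Y)) * (y ≫ AMonS.map S (AddMonoidHom.snd M ↥Y))

theorem amFn_pair {W : Over S} (g : W ⟶ AMonS S M) (y : W ⟶ AMonS S ↥Y)
    (q : Multiplicative (M × ↥Y)) :
    amFn (pair Y g y) q = amFn g (AddMonoidHom.toMultiplicative (AddMonoidHom.fst M ↥Y) q) *
      amFn y (AddMonoidHom.toMultiplicative (AddMonoidHom.snd M ↥Y) q) := by
  unfold pair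
  rw [amFn_mul, amFn_map, amFn_map]

theorem pair_pM {W : Over S} (g : W ⟶ AMonS S M) (y : W ⟶ AMonS S ↥Y) :
    pair Y g y ≫ AMonS.map S (AddMonoidHom.inl M ↥Y) = g := by
  apply amFn_ext
  intro m
  rw [amFn_map, amFn_pair]
  have e1 : AddMonoidHom.toMultiplicative (AddMonoidHom.fst M ↥Y)
      (AddMonoidHom.toMultiplicative (AddMonoidHom.inl M ↥Y) m) = m := rfl
  have e2 : AddMonoidHom.toMultiplicative (AddMonoidHom.snd M ↥Y)
      (AddMonoidHom.toMultiplicative (AddMonoidHom.inl M ↥Y) m) = 1 := rfl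
  rw [e1, e2, map_one, _root_.mul_one]

theorem pair_pY {W : Over S} (g : W ⟶ AMonS S M) (y : W ⟶ AMonS S ↥Y) :
    pair Y g y ≫ AMonS.map S (AddMonoidHom.inr M ↥Y) = y := by
  apply amFn_ext
  intro m
  rw [amFn_map, amFn_pair]
  have e1 : AddMonoidHom.toMultiplicative (AddMonoidHom.fst M ↥Y)
      (AddMonoidHom.toMultiplicative (AddMonoidHom.inr M ↥Y) m) = 1 := rfl
  have e2 : AddMonoidHom.toMultiplicative (AddMonoidHom.snd M ↥Y)
      (AddMonoidHom.toMultiplicative (AddMonoidHom.inr M ↥Y) m) = m := rfl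
  rw [e1, e2, map_one, _root_.one_mul]

theorem pair_cc {W : Over S} (g : W ⟶ AMonS S M) (y : W ⟶ AMonS S ↥Y) :
    pair Y g y ≫ AMonS.map S (theta f Y) =
      (g ≫ AMonS.map S (Y.comap f).subtype) * (y ≫ AMonS.map S (fN f Y)) := by
  apply amFn_ext
  intro n
  rw [amFn_map, amFn_pair, amFn_mul, amFn_map, amFn_map]
  rfl

theorem exists_pair {W : Over S} (p : W ⟶ AMonS S (M × ↥Y)) :
    ∃ (g : W ⟶ AMonS S M) (y : W ⟶ AMonS S ↥Y), p = pair Y g y := by
  refine ⟨p ≫ AMonS.map S (AddMonoidHom.inl M ↥Y), p ≫ AMonS.map S (AddMonoidHom.inr M ↥Y), ?_⟩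
  apply amFn_ext
  intro q
  rw [amFn_pair, amFn_map, amFn_map, ← map_mul]
  congr 1
  change Multiplicative.ofAdd (Multiplicative.toAdd q) = Multiplicative.ofAdd
    (((Multiplicative.toAdd q).1, (0 : ↥Y)) + ((0 : M), (Multiplicative.toAdd q).2))
  rw [Prod.mk_add_mk, add_zero, zero_add]

theorem comp_pair {W W' : Over S} (h : W' ⟶ W) (g : W ⟶ AMonS S M) (y : W ⟶ AMonS S ↥Y) :
    h ≫ pair Y g y = pair Y (h ≫ g) (h ≫ y) := by
  unfold pair
  rw [MonObj.comp_mul, Category.assoc, Category.assoc]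

end Points

section Descent

variable {S : Scheme.{u}} {M Z : Type} [AddCommGroup M] [AddCommGroup Z] (f : M →+ Z)
  (Y : AddSubmonoid Z)

theorem amFn_isUnit {W : Over S} (g : W ⟶ AMonS S M) (m : Multiplicative M) :
    IsUnit (amFn g m) :=
  (Group.isUnit m).map (amFn g)

theorem exists_cover_of_eq (hY : Y ≤ AddMonoidHom.mrange f) {W : Over S}
    (g g' : W ⟶ AMonS S M) (y y' : W ⟶ AMonS S ↥Y)
    (h : pair Y g y ≫ AMonS.map S (theta f Y) = pair Y g' y' ≫ AMonS.map S (theta f Y)) :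
    ∃ (W' : Over S) (π : W' ⟶ W) (k : W' ⟶ AMonS S Z), Cov π.left ∧
      (π ≫ g) * (k ≫ AMonS.map S f) = π ≫ g' ∧
      π ≫ y = (k ≫ AMonS.map S Y.subtype) * (π ≫ y') := by
  -- characters
  have hchar : ∀ n : ↥(Y.comap f),
      amFn g (Multiplicative.ofAdd (n : M)) * amFn y (Multiplicative.ofAdd (fN f Y n)) =
        amFn g' (Multiplicative.ofAdd (n : M)) * amFn y' (Multiplicative.ofAdd (fN f Y n)) := by
    intro n
    have := congrArg (fun p => amFn p (Multiplicative.ofAdd n)) h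
    beta_reduce at this
    rw [pair_cc, pair_cc, amFn_mul, amFn_mul, amFn_map, amFn_map, amFn_map, amFn_map] at this
    exact this
  -- step 1: `g` and `g'` agree on the kernel
  have h1 : g' ≫ Red.DSmap S f.ker.subtype = g ≫ Red.DSmap S f.ker.subtype := by
    apply dsFn_ext
    intro k
    rw [dsFn_DSmap, dsFn_DSmap]
    have hk : f ((Multiplicative.toAdd k : ↥f.ker) : M) = 0 :=
      AddMonoidHom.mem_ker.mp (Multiplicative.toAdd k).2
    have hmem : ((Multiplicative.toAdd k : ↥f.ker) : M) ∈ Y.comap f := by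
      rw [AddSubmonoid.mem_comap, hk]; exact Y.zero_mem
    have h2 := hchar ⟨_, hmem⟩
    have h3 : fN f Y ⟨_, hmem⟩ = 0 := Subtype.ext hk
    rw [h3, ofAdd_zero, map_one, map_one, _root_.mul_one, _root_.mul_one] at h2
    exact h2.symm
  obtain ⟨z, hz⟩ := exists_eq_mul_of_comp_eq f.ker g' g h1
  obtain ⟨W', π, k, hπ, hk⟩ := exists_lift_cov (Red.DSmap S (QuotientAddGroup.kerLift f))
    (cov_DSmap _ (QuotientAddGroup.kerLift_injective f)) z
  have hku : k ≫ AMonS.map S f = π ≫ z ≫ Red.DSmap S (QuotientAddGroup.mk' f.ker) := by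
    rw [← Category.assoc, ← hk]
    apply dsFn_ext
    intro m
    change dsFn (k ≫ Red.DSmap S f) m = dsFn ((k ≫ Red.DSmap S (QuotientAddGroup.kerLift f)) ≫
      Red.DSmap S (QuotientAddGroup.mk' f.ker)) m
    rw [dsFn_DSmap, dsFn_DSmap, dsFn_DSmap]
    rfl
  refine ⟨W', π, k, hπ, ?_, ?_⟩
  · rw [hz, MonObj.comp_mul, hku]
  · apply amFn_ext
    intro yy
    obtain ⟨n₀, hn₀⟩ := hY (Multiplicative.toAdd yy).2
    have hmem : n₀ ∈ Y.comap f := by
      rw [AddSubmonoid.mem_comap, hn₀]; exact (Multiplicative.toAdd yy).2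
    have h2 := hchar ⟨n₀, hmem⟩
    have h3 : fN f Y ⟨n₀, hmem⟩ = Multiplicative.toAdd yy := Subtype.ext hn₀
    rw [h3, ofAdd_toAdd, hz] at h2
    have h4 : amFn (g * z ≫ Red.DSmap S (QuotientAddGroup.mk' f.ker)) (Multiplicative.ofAdd n₀) =
        amFn g (Multiplicative.ofAdd n₀) *
          amFn (z ≫ Red.DSmap S (QuotientAddGroup.mk' f.ker)) (Multiplicative.ofAdd n₀) :=
      amFn_mul _ _ _
    change amFn g (Multiplicative.ofAdd n₀) * _ = _ at h2
    rw [h4, _root_.mul_assoc] at h2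
    have h5 := (amFn_isUnit g (Multiplicative.ofAdd n₀)).mul_left_cancel h2
    rw [amFn_comp, h5, map_mul, ← amFn_comp, ← amFn_comp, amFn_mul, amFn_map, ← hku]
    congr 1
    change dsFn (k ≫ Red.DSmap S f) _ = _
    rw [dsFn_DSmap]
    change dsFn k (Multiplicative.ofAdd (f n₀)) = dsFn k (Multiplicative.ofAdd ((Multiplicative.toAdd yy : ↥Y) : Z))
    rw [hn₀]

end Descent

end Groth.Agent.H82.AttrComap2
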