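import Mathlib

/-! For an injective homomorphism `j : H →* G` of commutative groups, `R[G]` is a free `R[H]`-module;
in particular `R[H] → R[G]` is faithfully flat. -/

set_option autoImplicit false
universe u v w

namespace Groth.Agent.H82.GrpAlgFree

open MonoidAlgebra

variable (R : Type u) [CommRing R] {G : Type v} {H : Type w} [CommGroup G] [CommGroup H]
  (j : H →* G)

/-- coefficient of `mapDomain j a * single g 1` -/
theorem coeff_smul_single (hj : Function.Injective j) (a : MonoidAlgebra R H) (g : G) (h : H) :
    (mapDomainRingHom R j a * single g (1 : R)).coeff (j h * g) = a.coeff h := by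
  rw [coeff_mul_single_apply, _root_.mul_one, mul_inv_cancel_right]
  change (Finsupp.mapDomain j a.coeff) (j h) = _
  exact Finsupp.mapDomain_apply hj _ _

theorem coeff_smul_single_of_notMem (a : MonoidAlgebra R H) (g g' : G)
    (hg : g' * g⁻¹ ∉ Set.range j) :
    (mapDomainRingHom R j a * single g (1 : R)).coeff g' = 0 := by
  rw [coeff_mul_single_apply, _root_.mul_one]
  change (Finsupp.mapDomain j a.coeff) (g' * g⁻¹) = _
  exact Finsupp.mapDomain_of_notMem_range _ _ hg

theorem free_of_injective (hj : Function.Injective j) :
    letI := (mapDomainRingHom R j).toAlgebra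
    Module.Free (MonoidAlgebra R H) (MonoidAlgebra R G) := by
  let _ := (mapDomainRingHom R j).toAlgebra
  have hsmul : ∀ (a : MonoidAlgebra R H) (x : MonoidAlgebra R G),
      a • x = mapDomainRingHom R j a * x := fun a x => rfl
  let Q := G ⧸ j.range
  let s : Q → G := Quotient.out
  have hs : ∀ g : G, ∃ h : H, g = j h * s (QuotientGroup.mk g) := by
    intro g
    have : (QuotientGroup.mk (s (QuotientGroup.mk g)) : Q) = QuotientGroup.mk g := Quotient.out_eq _
    rw [QuotientGroup.eq] at this
    obtain ⟨h, hh⟩ := this
    refine ⟨h, ?_⟩
    rw [hh, mul_comm ((s _)⁻¹ * g), mul_inv_cancel_left]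
  let v : Q → MonoidAlgebra R G := fun c => single (s c) 1
  have hli : LinearIndependent (MonoidAlgebra R H) v := by
    rw [linearIndependent_iff']
    intro t a hsum c₀ hc₀
    ext h
    have h1 := congrArg (fun y : MonoidAlgebra R G => y.coeff (j h * s c₀)) hsum
    simp only [coeff_sum, Finsupp.coe_finsetSum, Finset.sum_apply, coeff_zero, Finsupp.coe_zero,
      Pi.zero_apply] at h1
    rw [Finset.sum_eq_single c₀] at h1
    · rw [hsmul, coeff_smul_single R j hj] at h1
      rw [h1]; rfl
    · intro c _ hc
      rw [hsmul]
      apply coeff_smul_single_of_notMem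
      rintro ⟨h', hh'⟩
      apply hc
      have : (QuotientGroup.mk (s c) : Q) = QuotientGroup.mk (s c₀) := by
        rw [QuotientGroup.eq]
        refine ⟨h⁻¹ * h', ?_⟩
        rw [map_mul, map_inv, hh', mul_assoc, inv_mul_cancel_left, mul_comm]
      rw [show (QuotientGroup.mk (s c) : Q) = c from Quotient.out_eq _,
        show (QuotientGroup.mk (s c₀) : Q) = c₀ from Quotient.out_eq _] at this
      exact this
    · intro hc
      exact absurd hc₀ hc
  have hsp : ⊤ ≤ Submodule.span (MonoidAlgebra R H) (Set.range v) := by
    rw [top_le_iff, Submodule.eq_top_iff']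
    intro x
    induction x using MonoidAlgebra.induction_linear with
    | zero => exact Submodule.zero_mem _
    | add a b ha hb => exact Submodule.add_mem _ ha hb
    | single g r =>
      obtain ⟨h, hh⟩ := hs g
      have : single g r = (single h r : MonoidAlgebra R H) • v (QuotientGroup.mk g) := by
        rw [hsmul]
        change _ = mapDomainRingHom R j (single h r) * single (s (QuotientGroup.mk g)) 1
        rw [mapDomainRingHom_apply, mapDomain_single, single_mul_single, _root_.mul_one, ← hh]
      rw [this]
      exact Submodule.smul_mem _ _ (Submodule.subset_span ⟨_, rfl⟩)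
  exact Module.Free.of_basis (Module.Basis.mk hli hsp)

theorem faithfullyFlat_of_injective [Nontrivial R] (hj : Function.Injective j) :
    (mapDomainRingHom R j).FaithfullyFlat := by
  let _ := (mapDomainRingHom R j).toAlgebra
  have := free_of_injective R j hj
  change Module.FaithfullyFlat (MonoidAlgebra R H) (MonoidAlgebra R G)
  infer_instance

end Groth.Agent.H82.GrpAlgFree
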