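import Groth.Agent.H82.TorusHom
import Groth.Agent.H82.GrpAlgFree
import Groth.Agent.H26.UEE2
import Groth.Prelude.Def_Magnet2
import Mathlib

/-! The attractor of a subgroup `Z ⊆ M` is the fixed-point functor of `D(M/Z)`. -/

set_option autoImplicit false
universe u

open CategoryTheory MonoidalCategory CartesianMonoidalCategory MonObj GrpObj AlgebraicGeometry
open CategoryTheory.Limits Opposite
open Groth.Agent.H42 Groth.Agent.H40

namespace Groth.Agent.H82.AttrFix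

section Geometry

variable {S : Scheme.{u}} {M N : Type} [AddCommGroup M] [AddCommGroup N]

/-- the three properties needed for fpqc descent of morphisms -/
def Cov {X Y : Scheme.{u}} (f : X ⟶ Y) : Prop := Flat f ∧ Surjective f ∧ QuasiCompact f

theorem cov_diagMap (φ : N →+ M) (hφ : Function.Injective φ) :
    Cov (Red.diagMap (ULift.{u} ℤ) φ).left := by
  have h := (flat_and_surjective_SpecMap_iff (CommRingCat.ofHom
    (MonoidAlgebra.mapDomainAlgHom (ULift.{u} ℤ) (ULift.{u} ℤ)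
      (AddMonoidHom.toMultiplicative φ)).toRingHom)).mpr
    (GrpAlgFree.faithfullyFlat_of_injective (ULift.{u} ℤ) (AddMonoidHom.toMultiplicative φ) hφ)
  refine ⟨h.1, h.2, ?_⟩
  change QuasiCompact (Spec.map _)
  infer_instance

theorem cov_DSmap (φ : N →+ M) (hφ : Function.Injective φ) : Cov (Red.DSmap S φ).left := by
  have sq := Groth.Agent.H26.isPullback_overPullback_map
    (Limits.IsTerminal.from specULiftZIsTerminal S) (Red.diagMap (ULift.{u} ℤ) φ)
  obtain ⟨h1, h2, h3⟩ := cov_diagMap.{u} φ hφ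
  exact ⟨MorphismProperty.of_isPullback (P := @Flat) sq.flip h1,
    MorphismProperty.of_isPullback (P := @Surjective) sq.flip h2,
    MorphismProperty.of_isPullback (P := @QuasiCompact) sq.flip h3⟩

theorem cov_whiskerRight {A B : Over S} (f : A ⟶ B) (T : Over S) (h : Cov f.left) :
    Cov (f ▷ T).left := by
  obtain ⟨h1, h2, h3⟩ := h
  rw [Over.whiskerRight_left]
  exact ⟨MorphismProperty.pullbackMap (P := @Flat) h1 (MorphismProperty.id_mem _ _)
      (Over.w f).symm (Category.id_comp _).symm,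
    MorphismProperty.pullbackMap (P := @Surjective) h2 (MorphismProperty.id_mem _ _)
      (Over.w f).symm (Category.id_comp _).symm,
    MorphismProperty.pullbackMap (P := @QuasiCompact) h3 (MorphismProperty.id_mem _ _)
      (Over.w f).symm (Category.id_comp _).symm⟩

theorem cov_whiskerLeft {A B : Over S} (f : A ⟶ B) (T : Over S) (h : Cov f.left) :
    Cov (T ◁ f).left := by
  obtain ⟨h1, h2, h3⟩ := h
  rw [Over.whiskerLeft_left]
  exact ⟨MorphismProperty.pullbackMap (P := @Flat) (MorphismProperty.id_mem _ _) h1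
      (Category.id_comp _).symm (Over.w f).symm,
    MorphismProperty.pullbackMap (P := @Surjective) (MorphismProperty.id_mem _ _) h2
      (Category.id_comp _).symm (Over.w f).symm,
    MorphismProperty.pullbackMap (P := @QuasiCompact) (MorphismProperty.id_mem _ _) h3
      (Category.id_comp _).symm (Over.w f).symm⟩

theorem epi_of_cov {P Q : Over S} (q : P ⟶ Q) (h : Cov q.left) : Epi q := by
  obtain ⟨h1, h2, h3⟩ := h
  have : Epi q.left := Flat.epi_of_flat_of_surjective q.left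
  exact Over.epi_of_epi_left q

/-- descent of morphisms along a flat surjective quasi-compact morphism -/
theorem exists_desc_of_cov {P Q X : Over S} (q : P ⟶ Q) (hq : Cov q.left) (ψ : P ⟶ X)
    (h : ∀ (W : Over S) (g₁ g₂ : W ⟶ P), g₁ ≫ q = g₂ ≫ q → g₁ ≫ ψ = g₂ ≫ ψ) :
    ∃ φ : Q ⟶ X, q ≫ φ = ψ := by
  obtain ⟨h1, h2, h3⟩ := hq
  have : Epi q.left := Flat.epi_of_flat_of_surjective q.left
  have hE : EffectiveEpi q.left := inferInstance
  have hcoh : ∀ {Z : Scheme.{u}} (g₁ g₂ : Z ⟶ P.left), g₁ ≫ q.left = g₂ ≫ q.left →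
      g₁ ≫ ψ.left = g₂ ≫ ψ.left := by
    intro Z g₁ g₂ hg
    have hw : g₂ ≫ P.hom = g₁ ≫ P.hom := by
      rw [← Over.w q, ← Category.assoc, ← Category.assoc, hg]
    have := h (Over.mk (g₁ ≫ P.hom)) (Over.homMk g₁ rfl) (Over.homMk g₂ hw)
      (by ext; exact hg)
    exact congrArg (fun t => t.left) this
  let φ₀ : Q.left ⟶ X.left := EffectiveEpi.desc q.left ψ.left hcoh
  have hfac : q.left ≫ φ₀ = ψ.left := EffectiveEpi.fac q.left ψ.left hcoh
  have hw : φ₀ ≫ X.hom = Q.hom := by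
    rw [← cancel_epi q.left, ← Category.assoc, hfac, Over.w ψ, Over.w q]
  exact ⟨Over.homMk φ₀ hw, by ext; exact hfac⟩

end Geometry

section Main

open Magnet Magnet.MonAct

variable {S : Scheme.{u}} {M : Type} [AddCommGroup M]

/-- points of `D(M)` that die in `D(Z)` come from `D(M/Z)` -/
theorem exists_lift_subgroup (Z : AddSubgroup M) {W : Over S} (x : W ⟶ Red.DS S M)
    (hx : x ≫ Red.DSmap S Z.subtype = 1) :
    ∃ z : W ⟶ Red.DS S (M ⧸ Z), z ≫ Red.DSmap S (QuotientAddGroup.mk' Z) = x := by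
  let a : M →+ Additive Γ(W.left, ⊤) := MonoidHom.toAdditiveRight (dsFn x)
  have ha : ∀ m ∈ Z, a m = 0 := by
    intro m hm
    have h1 : dsFn (x ≫ Red.DSmap S Z.subtype) (Multiplicative.ofAdd (⟨m, hm⟩ : Z)) = 1 := by
      rw [hx, dsFn_one]
    rw [dsFn_DSmap] at h1
    exact congrArg Additive.ofMul h1
  let abar : M ⧸ Z →+ Additive Γ(W.left, ⊤) := QuotientAddGroup.lift Z a ha
  obtain ⟨z, hz⟩ := dsFn_surjective (S := S) (X := W) (M := M ⧸ Z)
    (AddMonoidHom.toMultiplicativeLeft abar)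
  refine ⟨z, dsFn_ext fun m => ?_⟩
  rw [dsFn_DSmap, hz]
  rfl

theorem comp_DSmap_mk_subtype (Z : AddSubgroup M) {W : Over S} (k : W ⟶ Red.DS S (M ⧸ Z)) :
    (k ≫ Red.DSmap S (QuotientAddGroup.mk' Z)) ≫ Red.DSmap S Z.subtype = 1 := by
  apply dsFn_ext
  intro z
  rw [dsFn_DSmap, dsFn_DSmap, dsFn_one]
  have : (AddMonoidHom.toMultiplicative (QuotientAddGroup.mk' Z))
      ((AddMonoidHom.toMultiplicative Z.subtype) z) = 1 := by
    change Multiplicative.ofAdd ((QuotientAddGroup.mk' Z) (Z.subtype (Multiplicative.toAdd z))) = 1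
    have h0 : (QuotientAddGroup.mk' Z) (Z.subtype (Multiplicative.toAdd z)) = 0 := by
      rw [QuotientAddGroup.mk'_apply, QuotientAddGroup.eq_zero_iff]
      exact (Multiplicative.toAdd z).2
    rw [h0]
    rfl
  rw [this, map_one]

theorem mul_comm_pts {W : Over S} (x y : W ⟶ Red.DS S M) : x * y = y * x := by
  apply dsFn_ext
  intro m
  rw [dsFn_mul, dsFn_mul, mul_comm]

theorem exists_eq_mul_of_comp_eq (Z : AddSubgroup M) {W : Over S} (m₁ m₂ : W ⟶ Red.DS S M)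
    (h : m₁ ≫ Red.DSmap S Z.subtype = m₂ ≫ Red.DSmap S Z.subtype) :
    ∃ z : W ⟶ Red.DS S (M ⧸ Z), m₁ = m₂ * (z ≫ Red.DSmap S (QuotientAddGroup.mk' Z)) := by
  have h3 : (m₁ * m₂⁻¹) ≫ Red.DSmap S Z.subtype = 1 := by
    rw [MonObj.mul_comp _ _ (Red.DSmap S Z.subtype), GrpObj.inv_comp _ (Red.DSmap S Z.subtype), h,
      mul_inv_cancel]
  obtain ⟨z, hz⟩ := exists_lift_subgroup Z (m₁ * m₂⁻¹) h3
  refine ⟨z, ?_⟩
  rw [hz, mul_comm_pts, _root_.mul_assoc, inv_mul_cancel, _root_.mul_one]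

section Setup

variable (Z : AddSubgroup M) {X : Over S} (a : MonAct (AMonS S M) X)

/-- `D(M) ⟶ D(Z)` -/
noncomputable abbrev iota : AMonS S M ⟶ AMonS S ↥Z.toAddSubmonoid :=
  AMonS.map S Z.toAddSubmonoid.subtype

/-- `D(M/Z) ⟶ D(M)` -/
noncomputable abbrev piq : AMonS S (M ⧸ Z) ⟶ AMonS S M :=
  AMonS.map S (QuotientAddGroup.mk' Z)

theorem cov_iota : Cov (iota (S := S) Z).left :=
  cov_DSmap (S := S) Z.subtype Subtype.val_injective

theorem piq_iota {W : Over S} (k : W ⟶ AMonS S (M ⧸ Z)) : (k ≫ piq Z) ≫ iota Z = 1 :=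
  comp_DSmap_mk_subtype Z k

theorem exists_eq_mul_iota {W : Over S} (m₁ m₂ : W ⟶ AMonS S M)
    (h : m₁ ≫ iota Z = m₂ ≫ iota Z) :
    ∃ z : W ⟶ AMonS S (M ⧸ Z), m₁ = m₂ * (z ≫ piq Z) :=
  exists_eq_mul_of_comp_eq Z m₁ m₂ h

variable {Z a}

theorem subAct_pts {W : Over S} (g : W ⟶ AMonS S M) (b : W ⟶ AMonS S ↥Z.toAddSubmonoid) :
    lift g b ≫ (subAct S M Z.toAddSubmonoid).act = (g ≫ iota Z) * b := by
  unfold subAct
  rw [lift_restrict_act, lift_regular_act]

/-- equivariance on points -/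
theorem attr_pts {T : Over S} (φ : AMonS S ↥Z.toAddSubmonoid ⊗ T ⟶ X)
    (hφ : IsEquivariant ((subAct S M Z.toAddSubmonoid).prod (MonAct.trivial (AMonS S M) T)) a φ)
    {W : Over S} (g : W ⟶ AMonS S M) (b : W ⟶ AMonS S ↥Z.toAddSubmonoid) (t : W ⟶ T) :
    lift ((g ≫ iota Z) * b) t ≫ φ = lift g (lift b t ≫ φ) ≫ a.act := by
  rw [← subAct_pts]
  exact (mem_eqvHom_iff φ).mp hφ W g b t

/-- an equivariant map is determined by its restriction to the unit section -/
theorem iota_whisker_comp {T : Over S} (φ : AMonS S ↥Z.toAddSubmonoid ⊗ T ⟶ X)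
    (hφ : IsEquivariant ((subAct S M Z.toAddSubmonoid).prod (MonAct.trivial (AMonS S M) T)) a φ) :
    (iota Z ▷ T) ≫ φ = (AMonS S M ◁ (lift (toUnit T ≫ η[AMonS S ↥Z.toAddSubmonoid]) (𝟙 T) ≫ φ)) ≫ a.act := by
  apply hom_ext_lift₂
  intro W g t
  rw [lift_whiskerRight_assoc, lift_whiskerLeft_assoc, ← Category.assoc t, comp_lift,
    Category.comp_id, ← Category.assoc t, toUnit_unique (t ≫ toUnit T) (toUnit W), ← Hom.one_def,
    ← attr_pts φ hφ, _root_.mul_one]

variable (Z a)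

/-- the restriction of an attractor point to the unit section is fixed by `D(M/Z)` -/
theorem fixed_of_attr {T : Over S} (φ : AMonS S ↥Z.toAddSubmonoid ⊗ T ⟶ X)
    (hφ : IsEquivariant ((subAct S M Z.toAddSubmonoid).prod (MonAct.trivial (AMonS S M) T)) a φ)
    (T' : Over S) (t : T' ⟶ T) (k : T' ⟶ AMonS S (M ⧸ Z)) :
    lift k (t ≫ lift (toUnit T ≫ η[AMonS S ↥Z.toAddSubmonoid]) (𝟙 T) ≫ φ) ≫
      (a.restrict (piq Z)).act =
    t ≫ lift (toUnit T ≫ η[AMonS S ↥Z.toAddSubmonoid]) (𝟙 T) ≫ φ := by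
  have e : t ≫ lift (toUnit T ≫ η[AMonS S ↥Z.toAddSubmonoid]) (𝟙 T) ≫ φ =
      lift (1 : T' ⟶ AMonS S ↥Z.toAddSubmonoid) t ≫ φ := by
    rw [← Category.assoc t, comp_lift, Category.comp_id, ← Category.assoc t,
      toUnit_unique (t ≫ toUnit T) (toUnit T'), ← Hom.one_def]
  rw [e, lift_restrict_act, ← attr_pts φ hφ, piq_iota, _root_.mul_one]

/-- the comparison map from the attractor to the fixed points -/
noncomputable def tau : attr a Z.toAddSubmonoid ⟶ fixedPsh (a.restrict (piq Z)) where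
  app T := TypeCat.ofHom fun φ => ⟨(attrToX a Z.toAddSubmonoid).app T φ,
    fun T' t k => fixed_of_attr Z a φ.1 φ.2 T' t k⟩
  naturality T T' t := ConcreteCategory.hom_ext _ _ fun φ => Subtype.ext
    (ConcreteCategory.congr_hom ((attrToX a Z.toAddSubmonoid).naturality t) φ)

theorem tau_comp : tau Z a ≫ fixedPshι _ = attrToX a Z.toAddSubmonoid := rfl

theorem isEquivariant_of_desc {T : Over S} (x : T ⟶ X)
    (φ₀ : AMonS S ↥Z.toAddSubmonoid ⊗ T ⟶ X)
    (hψ : ∀ {W : Over S} (g : W ⟶ AMonS S M) (t : W ⟶ T),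
      lift (g ≫ iota Z) t ≫ φ₀ = lift g (t ≫ x) ≫ a.act) :
    IsEquivariant ((subAct S M Z.toAddSubmonoid).prod (MonAct.trivial (AMonS S M) T)) a φ₀ := by
  have hcov := cov_whiskerRight (iota (S := S) Z) T (cov_iota Z)
  have : Epi (AMonS S M ◁ (iota (S := S) Z ▷ T)) := epi_of_cov _ (cov_whiskerLeft _ _ hcov)
  unfold IsEquivariant
  rw [← cancel_epi (AMonS S M ◁ (iota (S := S) Z ▷ T))]
  apply hom_ext_lift₂
  intro W g z
  obtain ⟨g', t, rfl⟩ : ∃ g' t, z = lift g' t := ⟨_, _, (lift_comp_fst_snd z).symm⟩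
  have e1 : lift g (lift g' t) ≫ (AMonS S M ◁ (iota (S := S) Z ▷ T)) =
      lift g (lift (g' ≫ iota Z) t) := by
    rw [lift_whiskerLeft, lift_whiskerRight]
  have e2 : lift g (lift (g' ≫ iota Z) t) ≫
      ((subAct S M Z.toAddSubmonoid).prod (MonAct.trivial (AMonS S M) T)).act =
      lift ((g * g') ≫ iota Z) t := by
    rw [lift_prod_act, lift_trivial_act, subAct_pts, MonObj.mul_comp _ _ (iota (S := S) Z)]
  have e3 : lift g (lift (g' ≫ iota Z) t) ≫ (AMonS S M ◁ φ₀) =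
      lift g (lift g' (t ≫ x) ≫ a.act) := by
    rw [lift_whiskerLeft, hψ]
  calc lift g (lift g' t) ≫ (AMonS S M ◁ (iota (S := S) Z ▷ T)) ≫
        ((subAct S M Z.toAddSubmonoid).prod (MonAct.trivial (AMonS S M) T)).act ≫ φ₀
      = (lift g (lift g' t) ≫ (AMonS S M ◁ (iota (S := S) Z ▷ T))) ≫
        ((subAct S M Z.toAddSubmonoid).prod (MonAct.trivial (AMonS S M) T)).act ≫ φ₀ := by
        rw [Category.assoc]
    _ = lift ((g * g') ≫ iota Z) t ≫ φ₀ := by rw [e1, ← Category.assoc, e2]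
    _ = lift (g * g') (t ≫ x) ≫ a.act := hψ _ _
    _ = lift g (lift g' (t ≫ x) ≫ a.act) ≫ a.act := lift_mul_act _ _ _ _
    _ = (lift g (lift (g' ≫ iota Z) t) ≫ (AMonS S M ◁ φ₀)) ≫ a.act := by rw [e3]
    _ = lift g (lift g' t) ≫ (AMonS S M ◁ (iota (S := S) Z ▷ T)) ≫ (AMonS S M ◁ φ₀) ≫ a.act := by
        rw [← e1, Category.assoc, Category.assoc]

theorem tau_app_injective (T : (Over S)ᵒᵖ) : Function.Injective ((tau Z a).app T) := by
  intro φ₁ φ₂ h
  have hx : (attrToX a Z.toAddSubmonoid).app T φ₁ = (attrToX a Z.toAddSubmonoid).app T φ₂ :=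
    congrArg Subtype.val h
  apply Subtype.ext
  have : Epi (iota (S := S) Z ▷ unop T) := epi_of_cov _ (cov_whiskerRight _ _ (cov_iota Z))
  rw [← cancel_epi (iota (S := S) Z ▷ unop T), iota_whisker_comp φ₁.1 φ₁.2,
    iota_whisker_comp φ₂.1 φ₂.2]
  simp only [eqvHom.evalAt_app] at hx
  rw [hx]

theorem tau_app_surjective (T : (Over S)ᵒᵖ) : Function.Surjective ((tau Z a).app T) := by
  intro x
  obtain ⟨x, hx⟩ := x
  -- the orbit map of `x`
  let ψ : AMonS S M ⊗ unop T ⟶ X := (AMonS S M ◁ x) ≫ a.act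
  have hcov := cov_whiskerRight (iota (S := S) Z) (unop T) (cov_iota Z)
  have hdesc : ∀ (W : Over S) (g₁ g₂ : W ⟶ AMonS S M ⊗ unop T),
      g₁ ≫ (iota Z ▷ unop T) = g₂ ≫ (iota Z ▷ unop T) → g₁ ≫ ψ = g₂ ≫ ψ := by
    intro W g₁ g₂ hg
    rw [← lift_comp_fst_snd g₁, ← lift_comp_fst_snd g₂] at hg ⊢
    set m₁ := g₁ ≫ fst _ _
    set m₂ := g₂ ≫ fst _ _
    set t₁ := g₁ ≫ snd _ _
    set t₂ := g₂ ≫ snd _ _
    rw [lift_whiskerRight, lift_whiskerRight] at hg
    have h1 : m₁ ≫ iota Z = m₂ ≫ iota Z := by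
      have := congrArg (fun f => f ≫ fst _ _) hg
      simpa only [lift_fst] using this
    have h2 : t₁ = t₂ := by
      have := congrArg (fun f => f ≫ snd _ _) hg
      simpa only [lift_snd] using this
    obtain ⟨z, h4⟩ := exists_eq_mul_iota Z m₁ m₂ h1
    change lift m₁ t₁ ≫ (AMonS S M ◁ x) ≫ a.act = lift m₂ t₂ ≫ (AMonS S M ◁ x) ≫ a.act
    rw [lift_whiskerLeft_assoc, lift_whiskerLeft_assoc, h2, h4, lift_mul_act]
    have := hx W t₂ z
    rw [lift_restrict_act] at this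
    rw [this]
  obtain ⟨φ₀, hφ₀⟩ := exists_desc_of_cov (iota Z ▷ unop T) hcov ψ hdesc
  have hψ : ∀ {W : Over S} (g : W ⟶ AMonS S M) (t : W ⟶ unop T),
      lift (g ≫ iota Z) t ≫ φ₀ = lift g (t ≫ x) ≫ a.act := by
    intro W g t
    rw [← lift_whiskerRight_assoc, hφ₀, lift_whiskerLeft_assoc]
  have heq : IsEquivariant ((subAct S M Z.toAddSubmonoid).prod
      (MonAct.trivial (AMonS S M) (unop T))) a φ₀ := isEquivariant_of_desc Z a x φ₀ hψ
  refine ⟨⟨φ₀, heq⟩, Subtype.ext ?_⟩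
  change lift (toUnit (unop T) ≫ η[AMonS S ↥Z.toAddSubmonoid]) (𝟙 (unop T)) ≫ φ₀ = x
  rw [← Hom.one_def, ← MonObj.one_comp (iota (S := S) Z), hψ, Category.id_comp, lift_one_act]

end Setup

theorem main (S : Scheme.{u}) (M : Type) [AddCommGroup M]
    (Z : AddSubgroup M) (X : Over S) (a : AlgGrp.Action (Red.DS S M) X) :
    ∃ e : Magnet.attr (Magnet.MonAct.ofAction a) Z.toAddSubmonoid ≅
        Magnet.MonAct.fixedPsh ((Magnet.MonAct.ofAction a).restrict
          (Magnet.AMonS.map S (QuotientAddGroup.mk' Z))),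
      e.hom ≫ Magnet.MonAct.fixedPshι _ =
        Magnet.attrToX (Magnet.MonAct.ofAction a) Z.toAddSubmonoid := by
  have hiso : IsIso (tau Z (MonAct.ofAction a)) := by
    have : ∀ T, IsIso ((tau Z (MonAct.ofAction a)).app T) := by
      intro T
      rw [isIso_iff_bijective]
      exact ⟨tau_app_injective Z _ T, tau_app_surjective Z _ T⟩
    exact NatIso.isIso_of_isIso_app _
  exact ⟨asIso (tau Z (MonAct.ofAction a)), tau_comp Z _⟩

end Main

end Groth.Agent.H82.AttrFix
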