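import Groth.Agent.H82.AugSpan

set_option autoImplicit false

namespace Groth.Agent.H82.AugGr

open TensorProduct MvPolynomial

universe u v
variable {k : Type u} {A : Type v} [Field k] [CommRing A] [HopfAlgebra k A]

section Dim

variable {ι : Type*} [Fintype ι]

variable (k) in
/-- the map from homogeneous polynomials of degree `n` to `A / I^(n+1)` -/
noncomputable def Psi (x : ι → A) (n : ℕ) :
    homogeneousSubmodule ι k n →ₗ[k] A ⧸ (aug k A) ^ (n + 1) :=
  (Ideal.Quotient.mkₐ k ((aug k A) ^ (n + 1))).toLinearMap ∘ₗ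
    (aeval x : MvPolynomial ι k →ₐ[k] A).toLinearMap ∘ₗ (homogeneousSubmodule ι k n).subtype

variable (k A) in
/-- the projection `A / I^(n+1) → A / I^n`. -/
noncomputable def proj (n : ℕ) : (A ⧸ (aug k A) ^ (n + 1)) →ₗ[k] A ⧸ (aug k A) ^ n :=
  (Ideal.Quotient.factorₐ k (Ideal.pow_le_pow_right (Nat.le_succ n))).toLinearMap

lemma proj_surjective (n : ℕ) : Function.Surjective (proj k A n) :=
  Ideal.Quotient.factor_surjective (Ideal.pow_le_pow_right (Nat.le_succ n))

variable {b : Module.Basis ι k (aug k A).Cotangent}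

lemma exact_Psi_proj {x : ι → A} (hx : ∀ i, x i ∈ aug k A)
    (hxb : ∀ i, (aug k A).toCotangent ⟨x i, hx i⟩ = b i) (n : ℕ) :
    Function.Exact (Psi k x n) (proj k A n) := by
  intro y
  obtain ⟨a, rfl⟩ := Ideal.Quotient.mk_surjective y
  constructor
  · intro h
    have ha : a ∈ (aug k A) ^ n :=
      Ideal.Quotient.eq_zero_iff_mem.mp (show Ideal.Quotient.mk ((aug k A) ^ n) a = 0 from h)
    obtain ⟨u, ⟨p, hp, rfl⟩, v, hv, rfl⟩ := Submodule.mem_sup.mp (pow_le_span hx hxb n ha)
    refine ⟨⟨p, hp⟩, ?_⟩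
    change Ideal.Quotient.mk ((aug k A) ^ (n + 1)) (aeval x p) =
      Ideal.Quotient.mk ((aug k A) ^ (n + 1)) (aeval x p + v)
    rw [Ideal.Quotient.eq, sub_add_cancel_left, neg_mem_iff]
    exact hv
  · rintro ⟨⟨p, hp⟩, h⟩
    rw [← h]
    change Ideal.Quotient.mk ((aug k A) ^ n) (aeval x p) = 0
    rw [Ideal.Quotient.eq_zero_iff_mem]
    exact aeval_mem_pow hx hp

lemma Psi_injective [DecidableEq ι] {x : ι → A} (hx : ∀ i, x i ∈ aug k A)
    (hxb : ∀ i, (aug k A).toCotangent ⟨x i, hx i⟩ = b i) (n : ℕ) (hn : (n.factorial : k) ≠ 0) :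
    Function.Injective (Psi k x n) := by
  rw [← LinearMap.ker_eq_bot, LinearMap.ker_eq_bot']
  rintro ⟨p, hp⟩ h
  have : aeval x p ∈ (aug k A) ^ (n + 1) :=
    Ideal.Quotient.eq_zero_iff_mem.mp (show Ideal.Quotient.mk ((aug k A) ^ (n + 1)) (aeval x p) = 0 from h)
  have := indep hx hxb n hn p hp this
  subst this
  rfl

lemma finite_quot {x : ι → A} (hx : ∀ i, x i ∈ aug k A)
    (hxb : ∀ i, (aug k A).toCotangent ⟨x i, hx i⟩ = b i) :
    ∀ n : ℕ, Module.Finite k (A ⧸ (aug k A) ^ n) := by
  intro n
  induction n with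
  | zero =>
    have : Subsingleton (A ⧸ (aug k A) ^ 0) := by
      rw [pow_zero, Ideal.one_eq_top]
      exact Ideal.Quotient.subsingleton_iff.mpr rfl
    infer_instance
  | succ n ih =>
    have : Module.Finite k (homogeneousSubmodule ι k n) :=
      Module.Finite.iff_fg.mpr (homogeneousSubmodule_fg ι k n)
    exact Module.Finite.of_exact (exact_Psi_proj hx hxb n) (proj_surjective n)

lemma finrank_homog (n : ℕ) :
    Module.finrank k (homogeneousSubmodule ι k n) = (Fintype.card ι + n - 1).choose n := by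
  classical
  rw [homogeneousSubmodule_eq_finsupp_supported]
  rw [(AddMonoidAlgebra.supportedEquivFinsupp (R := k) (S := k) {d : ι →₀ ℕ | d.degree = n}).finrank_eq]
  have hset : {d : ι →₀ ℕ | d.degree = n} = ↑((Finset.univ (α := ι)).finsuppAntidiag n) := by
    ext d
    simp [Finsupp.degree_eq_sum]
  rw [hset]
  rw [Module.finrank_finsupp_self, ← Nat.card_eq_fintype_card]
  refine (Nat.card_eq_finsetCard ((Finset.univ (α := ι)).finsuppAntidiag n)).trans ?_
  rw [Finset.card_finsuppAntidiag_nat_eq_choose, Finset.card_univ]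

theorem finrank_succ [DecidableEq ι] {x : ι → A} (hx : ∀ i, x i ∈ aug k A)
    (hxb : ∀ i, (aug k A).toCotangent ⟨x i, hx i⟩ = b i) (n : ℕ) (hn : (n.factorial : k) ≠ 0) :
    Module.finrank k (A ⧸ (aug k A) ^ (n + 1)) =
      Module.finrank k (A ⧸ (aug k A) ^ n) + (Fintype.card ι + n - 1).choose n := by
  have := finite_quot hx hxb (n + 1)
  rw [← LinearMap.finrank_range_add_finrank_ker (proj k A n),
    LinearMap.range_eq_top.mpr (proj_surjective n), finrank_top,
    LinearMap.exact_iff.mp (exact_Psi_proj hx hxb n),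
    LinearMap.finrank_range_of_inj (Psi_injective hx hxb n hn), finrank_homog]

end Dim

section Main

lemma aug_smul_cotangent (a : A) (ha : a ∈ aug k A) (m : (aug k A).Cotangent) : a • m = 0 := by
  have : a • m = (Ideal.Quotient.mk (aug k A) a) • m := by
    rw [← Ideal.Quotient.algebraMap_eq, algebraMap_smul]
  rw [this, Ideal.Quotient.eq_zero_iff_mem.mpr ha, zero_smul]

lemma finite_cotangent [Algebra.FiniteType k A] : Module.Finite k (aug k A).Cotangent := by
  have : IsNoetherianRing A := Algebra.FiniteType.isNoetherianRing k A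
  have hfin : Module.Finite A (aug k A).Cotangent :=
    Module.Finite.of_surjective (aug k A).toCotangent (Ideal.toCotangent_surjective _)
  obtain ⟨S, hS⟩ := hfin.fg_top
  refine ⟨⟨S, ?_⟩⟩
  rw [eq_top_iff]
  intro m _
  have hm : m ∈ Submodule.span A (S : Set (aug k A).Cotangent) := by rw [hS]; trivial
  refine Submodule.span_induction ?_ ?_ ?_ ?_ hm
  · intro s hs; exact Submodule.subset_span hs
  · exact Submodule.zero_mem _
  · intro u v _ _ hu hv; exact Submodule.add_mem _ hu hv
  · intro a u _ hu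
    have : a • u = Coalgebra.counit (R := k) a • u := by
      have h1 := aug_smul_cotangent _ (sub_counit_mem (k := k) a) u
      rw [sub_smul, sub_eq_zero, algebraMap_smul] at h1
      exact h1
    rw [this]
    exact Submodule.smul_mem _ _ hu

/-- S7964. -/
theorem main [Algebra.FiniteType k A] (n : ℕ) (hn : (n.factorial : k) ≠ 0) :
    Module.finrank k (A ⧸ (aug k A) ^ (n + 1)) =
      Module.finrank k (A ⧸ (aug k A) ^ n) +
        Nat.choose (Module.finrank k (aug k A).Cotangent + n - 1) n := by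
  classical
  have := finite_cotangent (k := k) (A := A)
  let b := Module.finBasis k (aug k A).Cotangent
  choose y hy using fun i => Ideal.toCotangent_surjective (aug k A) (b i)
  have h := finrank_succ (b := b) (x := fun i => (y i : A)) (fun i => (y i).2) (fun i => hy i) n hn
  rw [Fintype.card_fin] at h
  exact h

end Main

end Groth.Agent.H82.AugGr
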