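import Mathlib

set_option autoImplicit false

namespace Groth.Agent.H82.AugGr

open TensorProduct MvPolynomial

universe u v
variable {k : Type u} {A : Type v} [Field k] [CommRing A] [HopfAlgebra k A]

/-- The invariant operator `(id ⊗ d) ∘ Δ` attached to a functional `d`. -/
noncomputable def Dop (d : A →ₗ[k] k) : A →ₗ[k] A :=
  (TensorProduct.rid k A).toLinearMap ∘ₗ (LinearMap.lTensor A d) ∘ₗ Coalgebra.comul

lemma Dop_apply (d : A →ₗ[k] k) (a : A) :
    Dop d a = TensorProduct.rid k A (LinearMap.lTensor A d (Coalgebra.comul a)) := rfl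

lemma counit_Dop (d : A →ₗ[k] k) (a : A) :
    Coalgebra.counit (R := k) (Dop d a) = d a := by
  have h : ∀ t : A ⊗[k] A, Coalgebra.counit (R := k) (TensorProduct.rid k A (LinearMap.lTensor A d t))
      = d (TensorProduct.lid k A (LinearMap.rTensor A (Coalgebra.counit (R := k) (A := A)) t)) := by
    intro t
    induction t using TensorProduct.induction_on with
    | zero => simp
    | tmul x y => simp [mul_comm]
    | add s t hs ht => simp only [map_add, hs, ht]
  rw [Dop_apply, h, Coalgebra.rTensor_counit_comul]
  simp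

lemma Dop_mul (d : A →ₗ[k] k)
    (hd : ∀ a b : A, d (a * b) = Coalgebra.counit (R := k) a * d b + d a * Coalgebra.counit (R := k) b)
    (a b : A) : Dop d (a * b) = a * Dop d b + Dop d a * b := by
  set E : A ⊗[k] A →ₗ[k] A := (TensorProduct.rid k A).toLinearMap ∘ₗ (LinearMap.lTensor A d) with hE
  set m : A ⊗[k] A →ₗ[k] A := (TensorProduct.rid k A).toLinearMap ∘ₗ
    (LinearMap.lTensor A (Coalgebra.counit (R := k) (A := A))) with hm
  have key : ∀ s t : A ⊗[k] A, E (s * t) = m s * E t + E s * m t := by
    intro s t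
    induction s using TensorProduct.induction_on with
    | zero => simp
    | add s₁ s₂ h₁ h₂ => rw [add_mul, map_add, h₁, h₂, map_add, map_add]; ring
    | tmul a₁ a₂ =>
      induction t using TensorProduct.induction_on with
      | zero => simp
      | add t₁ t₂ h₁ h₂ => rw [mul_add, map_add, h₁, h₂, map_add, map_add]; ring
      | tmul b₁ b₂ =>
        simp only [hE, hm, Algebra.TensorProduct.tmul_mul_tmul, LinearMap.coe_comp,
          LinearEquiv.coe_coe, Function.comp_apply, LinearMap.lTensor_tmul, TensorProduct.rid_tmul,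
          hd]
        simp only [smul_eq_mul, Algebra.smul_def, map_add, map_mul]
        ring
  have hma : ∀ a : A, m (Coalgebra.comul a) = a := by
    intro a
    simp only [hm, LinearMap.coe_comp, LinearEquiv.coe_coe, Function.comp_apply]
    rw [Coalgebra.lTensor_counit_comul]
    simp
  have : Dop d (a * b) = E (Coalgebra.comul (R := k) a * Coalgebra.comul (R := k) b) := by
    rw [Dop_apply, Bialgebra.comul_mul]; rfl
  rw [this, key, hma, hma]
  rfl

variable (k A)

/-- The augmentation ideal. -/
abbrev aug : Ideal A := RingHom.ker (Bialgebra.counitAlgHom k A)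

variable {k A}

lemma mem_aug {a : A} : a ∈ aug k A ↔ Coalgebra.counit (R := k) a = 0 := by
  rw [RingHom.mem_ker]; rfl

lemma sub_counit_mem (a : A) : a - algebraMap k A (Coalgebra.counit (R := k) a) ∈ aug k A := by
  rw [mem_aug, map_sub]
  have : Coalgebra.counit (R := k) (algebraMap k A (Coalgebra.counit (R := k) a))
      = Coalgebra.counit (R := k) a := by
    rw [Algebra.algebraMap_eq_smul_one, map_smul, Bialgebra.counit_one, smul_eq_mul, mul_one]
  rw [this, sub_self]

/-- The class of `a - ε a` in `I/I²`. -/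
noncomputable def delta : A →ₗ[k] (aug k A).Cotangent where
  toFun a := (aug k A).toCotangent ⟨a - algebraMap k A (Coalgebra.counit (R := k) a), sub_counit_mem a⟩
  map_add' a b := by
    rw [← map_add]
    congr 1
    ext
    simp only [map_add, Submodule.coe_add]
    ring
  map_smul' c a := by
    rw [RingHom.id_apply, ← LinearMap.map_smul_of_tower]
    congr 1
    ext
    simp only [map_mul, Submodule.coe_smul_of_tower, Algebra.smul_def,
      Bialgebra.counit_mul, Bialgebra.counit_algebraMap]
    ring

lemma delta_of_mem {a : A} (ha : a ∈ aug k A) : delta a = (aug k A).toCotangent ⟨a, ha⟩ := by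
  unfold delta
  simp only [LinearMap.coe_mk, AddHom.coe_mk]
  congr 1
  ext
  simp [mem_aug.mp ha]

lemma delta_mul (a b : A) :
    delta (k := k) (a * b) = Coalgebra.counit (R := k) a • delta b + Coalgebra.counit (R := k) b • delta a := by
  unfold delta
  simp only [LinearMap.coe_mk, AddHom.coe_mk]
  rw [← LinearMap.map_smul_of_tower, ← LinearMap.map_smul_of_tower, ← map_add, Ideal.toCotangent_eq]
  have : (a * b - algebraMap k A (Coalgebra.counit (R := k) (a * b))) -
      ((Coalgebra.counit (R := k) a • (⟨b - algebraMap k A (Coalgebra.counit (R := k) b), sub_counit_mem b⟩ : aug k A) +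
        Coalgebra.counit (R := k) b • (⟨a - algebraMap k A (Coalgebra.counit (R := k) a), sub_counit_mem a⟩ : aug k A) : aug k A) : A)
      = (a - algebraMap k A (Coalgebra.counit (R := k) a)) * (b - algebraMap k A (Coalgebra.counit (R := k) b)) := by
    simp only [Submodule.coe_add, Submodule.coe_smul_of_tower, Algebra.smul_def, Bialgebra.counit_mul, map_mul]
    ring
  rw [this, pow_two]
  exact Ideal.mul_mem_mul (sub_counit_mem a) (sub_counit_mem b)


section Chain

variable {ι : Type*} [Fintype ι]

omit [HopfAlgebra k A] in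
lemma chain [Algebra k A] (D : A →ₗ[k] A) (hD : ∀ a b, D (a * b) = a * D b + D a * b) (x : ι → A)
    (p : MvPolynomial ι k) :
    D (aeval x p) = ∑ j, aeval x (pderiv j p) * D (x j) := by
  classical
  have h1 : D 1 = 0 := by
    have := hD 1 1
    simp only [mul_one, one_mul] at this
    simpa using this
  induction p using MvPolynomial.induction_on with
  | C c =>
    simp only [aeval_C, pderiv_C, map_zero, zero_mul, Finset.sum_const_zero]
    rw [Algebra.algebraMap_eq_smul_one, map_smul, h1, smul_zero]
  | add p q hp hq =>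
    simp only [map_add, hp, hq, add_mul, Finset.sum_add_distrib]
  | mul_X p i hp =>
    rw [map_mul, aeval_X, hD, hp]
    simp only [pderiv_mul, pderiv_X, map_add, map_mul, aeval_X, add_mul, Finset.sum_add_distrib]
    rw [add_comm]
    congr 1
    · rw [Finset.sum_mul]
      refine Finset.sum_congr rfl fun j _ => ?_
      ring
    · rw [Finset.sum_eq_single i]
      · simp
      · intro j _ hj
        simp [Pi.single_apply, hj]
      · simp

end Chain


section Basis

variable {ι : Type*} [Fintype ι] [DecidableEq ι] (b : Module.Basis ι k (aug k A).Cotangent)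

/-- the `i`-th coordinate functional on `A`, an `ε`-derivation. -/
noncomputable def dfun (i : ι) : A →ₗ[k] k := (b.coord i) ∘ₗ delta

lemma dfun_mul (i : ι) (a c : A) :
    dfun b i (a * c) = Coalgebra.counit (R := k) a * dfun b i c + dfun b i a * Coalgebra.counit (R := k) c := by
  simp only [dfun, LinearMap.coe_comp, Function.comp_apply, delta_mul, map_add, map_smul, smul_eq_mul]
  ring

variable {b}

lemma dfun_x {x : ι → A} (hx : ∀ i, x i ∈ aug k A)
    (hxb : ∀ i, (aug k A).toCotangent ⟨x i, hx i⟩ = b i) (i j : ι) :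
    dfun b i (x j) = if i = j then 1 else 0 := by
  simp only [dfun, LinearMap.coe_comp, Function.comp_apply, delta_of_mem (hx j), hxb]
  rw [Module.Basis.coord_apply, Module.Basis.repr_self, Finsupp.single_apply]
  simp [eq_comm]

lemma Dop_mem_pow (d : A →ₗ[k] k)
    (hd : ∀ a b : A, d (a * b) = Coalgebra.counit (R := k) a * d b + d a * Coalgebra.counit (R := k) b) :
    ∀ (n : ℕ) (a : A), a ∈ (aug k A) ^ (n + 1) → Dop d a ∈ (aug k A) ^ n := by
  intro n
  induction n with
  | zero => intro a _; simp
  | succ n ih =>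
    intro a ha
    rw [pow_succ] at ha
    refine Submodule.mul_induction_on ha ?_ ?_
    · intro u hu v hv
      rw [Dop_mul d hd]
      refine Ideal.add_mem _ ?_ ?_
      · exact Ideal.mul_mem_right _ _ hu
      · rw [pow_succ]
        exact Ideal.mul_mem_mul (ih u hu) hv
    · intro u v hu hv
      rw [map_add]
      exact Ideal.add_mem _ hu hv

lemma Dop_x_sub_mem {x : ι → A} (hx : ∀ i, x i ∈ aug k A)
    (hxb : ∀ i, (aug k A).toCotangent ⟨x i, hx i⟩ = b i) (i j : ι) :
    Dop (dfun b i) (x j) - (if i = j then 1 else 0) ∈ aug k A := by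
  rw [mem_aug, map_sub, counit_Dop, dfun_x hx hxb]
  split_ifs <;> simp

omit [DecidableEq ι] in
lemma aeval_mem_pow {x : ι → A} (hx : ∀ i, x i ∈ aug k A) {n : ℕ} {p : MvPolynomial ι k}
    (hp : p.IsHomogeneous n) : aeval x p ∈ (aug k A) ^ n := by
  have h1 : p ∈ idealOfVars ι k ^ n := by
    rw [mem_pow_idealOfVars_iff]
    intro d hd
    rw [mem_support_iff] at hd
    rw [Finsupp.degree_eq_weight_one]
    exact (hp hd).ge
  have h2 : Ideal.map (aeval x : MvPolynomial ι k →ₐ[k] A) (idealOfVars ι k) ≤ aug k A := by
    rw [Ideal.map_span, Ideal.span_le]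
    rintro _ ⟨_, ⟨i, rfl⟩, rfl⟩
    simpa using hx i
  have h3 := Ideal.mem_map_of_mem (aeval x : MvPolynomial ι k →ₐ[k] A) h1
  rw [Ideal.map_pow] at h3
  exact Ideal.pow_right_mono h2 n h3

theorem indep {x : ι → A} (hx : ∀ i, x i ∈ aug k A)
    (hxb : ∀ i, (aug k A).toCotangent ⟨x i, hx i⟩ = b i) :
    ∀ (n : ℕ), (n.factorial : k) ≠ 0 → ∀ p : MvPolynomial ι k, p.IsHomogeneous n →
      aeval x p ∈ (aug k A) ^ (n + 1) → p = 0 := by
  intro n
  induction n with
  | zero =>
    intro _ p hp h
    rw [← totalDegree_zero_iff_isHomogeneous, totalDegree_eq_zero_iff_eq_C] at hp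
    rw [hp] at h ⊢
    rw [aeval_C, zero_add, pow_one, mem_aug] at h
    have : Coalgebra.counit (R := k) (algebraMap k A (coeff 0 p)) = coeff 0 p :=
      Bialgebra.counit_algebraMap _
    rw [this] at h
    rw [h, map_zero]
  | succ n ih =>
    intro hn p hp h
    have hn1 : ((n + 1 : ℕ) : k) ≠ 0 := by
      intro h0; apply hn; rw [Nat.factorial_succ, Nat.cast_mul, h0, zero_mul]
    have hn2 : (n.factorial : k) ≠ 0 := by
      intro h0; apply hn; rw [Nat.factorial_succ, Nat.cast_mul, h0, mul_zero]
    have hpd : ∀ i, pderiv i p = 0 := by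
      intro i
      apply ih hn2 _ (by simpa using hp.pderiv (i := i))
      have hD := Dop_mem_pow (dfun b i) (dfun_mul b i) (n + 1) _ h
      rw [chain _ (Dop_mul _ (dfun_mul b i))] at hD
      have hsum : aeval x (pderiv i p) = ∑ j, aeval x (pderiv j p) * Dop (dfun b i) (x j)
          - ∑ j, aeval x (pderiv j p) * (Dop (dfun b i) (x j) - (if i = j then 1 else 0)) := by
        rw [← Finset.sum_sub_distrib]
        simp [mul_sub]
      rw [hsum]
      refine Ideal.sub_mem _ hD (Ideal.sum_mem _ fun j _ => ?_)
      rw [pow_succ]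
      exact Ideal.mul_mem_mul (aeval_mem_pow hx (by simpa using hp.pderiv (i := j)))
        (Dop_x_sub_mem hx hxb i j)
    have he := hp.sum_X_mul_pderiv
    simp only [hpd, mul_zero, Finset.sum_const_zero] at he
    have : ((n + 1 : ℕ) : k) • p = 0 := by
      rw [Nat.cast_smul_eq_nsmul]; exact he.symm
    rcases smul_eq_zero.mp this with h0 | h0
    · exact absurd h0 hn1
    · exact h0

end Basis

end Groth.Agent.H82.AugGr
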