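import Groth.Agent.H82.AugGr

set_option autoImplicit false

namespace Groth.Agent.H82.AugGr

open TensorProduct MvPolynomial

universe u v
variable {k : Type u} {A : Type v} [Field k] [CommRing A] [HopfAlgebra k A]

omit [HopfAlgebra k A] [Field k] in
lemma ideal_pow_le (I J : Ideal A) (hJ : J ≤ I) (h : I ≤ J ⊔ I ^ 2) :
    ∀ n : ℕ, I ^ n ≤ J ^ n ⊔ I ^ (n + 1) := by
  intro n
  induction n with
  | zero => simp
  | succ n ih =>
    calc I ^ (n + 1) = I ^ n * I := pow_succ _ _
      _ ≤ (J ^ n ⊔ I ^ (n + 1)) * (J ⊔ I ^ 2) := Ideal.mul_mono ih h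
      _ ≤ J ^ (n + 1) ⊔ I ^ (n + 1 + 1) := by
        rw [Ideal.sup_mul, Ideal.mul_sup, Ideal.mul_sup]
        refine sup_le (sup_le ?_ ?_) (sup_le ?_ ?_)
        · rw [← pow_succ]; exact le_sup_left
        · refine le_trans ?_ le_sup_right
          calc J ^ n * I ^ 2 ≤ I ^ n * I ^ 2 := Ideal.mul_mono_left (Ideal.pow_right_mono hJ n)
            _ = I ^ (n + 1 + 1) := by rw [← pow_add]
        · refine le_trans ?_ le_sup_right
          calc I ^ (n + 1) * J ≤ I ^ (n + 1) * I := Ideal.mul_mono_right hJ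
            _ = I ^ (n + 1 + 1) := by rw [← pow_succ]
        · refine le_trans ?_ le_sup_right
          calc I ^ (n + 1) * I ^ 2 ≤ I ^ (n + 1) * I := Ideal.mul_mono_right (Ideal.pow_le_self two_ne_zero)
            _ = I ^ (n + 1 + 1) := by rw [← pow_succ]

section Basis

variable {ι : Type*} [Fintype ι] {b : Module.Basis ι k (aug k A).Cotangent}

lemma aug_le {x : ι → A} (hx : ∀ i, x i ∈ aug k A)
    (hxb : ∀ i, (aug k A).toCotangent ⟨x i, hx i⟩ = b i) :
    aug k A ≤ Ideal.span (Set.range x) ⊔ (aug k A) ^ 2 := by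
  intro a ha
  have h1 : (aug k A).toCotangent ⟨a, ha⟩ =
      (aug k A).toCotangent (∑ j, b.repr ((aug k A).toCotangent ⟨a, ha⟩) j • (⟨x j, hx j⟩ : aug k A)) := by
    rw [map_sum]
    conv_lhs => rw [← b.sum_repr ((aug k A).toCotangent ⟨a, ha⟩)]
    refine Finset.sum_congr rfl fun j _ => ?_
    rw [LinearMap.map_smul_of_tower, hxb]
  rw [Ideal.toCotangent_eq] at h1
  have h2 : a = (∑ j, b.repr ((aug k A).toCotangent ⟨a, ha⟩) j • (⟨x j, hx j⟩ : aug k A) : aug k A) +
      (a - (∑ j, b.repr ((aug k A).toCotangent ⟨a, ha⟩) j • (⟨x j, hx j⟩ : aug k A) : aug k A)) := by ring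
  rw [h2]
  refine Submodule.add_mem_sup ?_ h1
  rw [Submodule.coe_sum]
  refine Ideal.sum_mem _ fun j _ => ?_
  rw [Submodule.coe_smul_of_tower, Algebra.smul_def]
  exact Ideal.mul_mem_left _ _ (Ideal.subset_span ⟨j, rfl⟩)

lemma span_pow_le {x : ι → A} (hx : ∀ i, x i ∈ aug k A) (n : ℕ) :
    ((Ideal.span (Set.range x)) ^ n).restrictScalars k ≤
      (homogeneousSubmodule ι k n).map (aeval x : MvPolynomial ι k →ₐ[k] A).toLinearMap ⊔
        ((aug k A) ^ (n + 1)).restrictScalars k := by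
  have hJ : Ideal.span (Set.range x) = Ideal.map (aeval x : MvPolynomial ι k →ₐ[k] A) (idealOfVars ι k) := by
    rw [Ideal.map_span, ← Set.range_comp]
    congr 1
    ext i
    simp
  rw [hJ, ← Ideal.map_pow, pow_idealOfVars_eq_span, Ideal.map_span]
  set T := (homogeneousSubmodule ι k n).map (aeval x : MvPolynomial ι k →ₐ[k] A).toLinearMap ⊔
        ((aug k A) ^ (n + 1)).restrictScalars k with hT
  have hTle : T ≤ ((aug k A) ^ n).restrictScalars k := by
    refine sup_le ?_ ?_
    · rintro _ ⟨p, hp, rfl⟩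
      exact aeval_mem_pow hx hp
    · intro y hy
      exact Ideal.pow_le_pow_right (Nat.le_succ n) hy
  intro y hy
  rw [Submodule.restrictScalars_mem] at hy
  refine Submodule.span_induction ?_ ?_ ?_ ?_ hy
  · rintro _ ⟨_, ⟨d, hd, rfl⟩, rfl⟩
    refine Submodule.mem_sup_left ⟨monomial d 1, ?_, rfl⟩
    exact isHomogeneous_monomial _ hd
  · exact T.zero_mem
  · intro u v _ _ hu hv
    exact T.add_mem hu hv
  · intro a u _ hu
    have : a • u = Coalgebra.counit (R := k) a • u + (a - algebraMap k A (Coalgebra.counit (R := k) a)) * u := by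
      rw [smul_eq_mul, Algebra.smul_def]; ring
    rw [this]
    refine T.add_mem (T.smul_mem _ hu) (Submodule.mem_sup_right ?_)
    rw [Submodule.restrictScalars_mem, pow_succ']
    exact Ideal.mul_mem_mul (sub_counit_mem a) (hTle hu)

lemma pow_le_span {x : ι → A} (hx : ∀ i, x i ∈ aug k A)
    (hxb : ∀ i, (aug k A).toCotangent ⟨x i, hx i⟩ = b i) (n : ℕ) :
    ((aug k A) ^ n).restrictScalars k ≤
      (homogeneousSubmodule ι k n).map (aeval x : MvPolynomial ι k →ₐ[k] A).toLinearMap ⊔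
        ((aug k A) ^ (n + 1)).restrictScalars k := by
  have hJ : Ideal.span (Set.range x) ≤ aug k A := by
    rw [Ideal.span_le]; rintro _ ⟨i, rfl⟩; exact hx i
  intro a ha
  have h1 := ideal_pow_le (aug k A) (Ideal.span (Set.range x)) hJ (aug_le hx hxb) n ha
  obtain ⟨u, hu, v, hv, rfl⟩ := Submodule.mem_sup.mp h1
  refine Submodule.add_mem _ (span_pow_le hx n hu) (Submodule.mem_sup_right hv)

end Basis

end Groth.Agent.H82.AugGr
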