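import Groth.Agent.H82.BBStep1
import Groth.Agent.H82.AttrComap
import Groth.Agent.S18861
import Mathlib

/-! Two equivariant maps `A¹ × Y → X` agreeing on all nilpotent points are equal. -/

set_option autoImplicit false
set_option linter.unusedSectionVars false
universe u

open CategoryTheory MonoidalCategory CartesianMonoidalCategory MonObj AlgebraicGeometry
open CategoryTheory.Limits
open Groth.Agent.H42 Groth.Agent.H40 Magnet Magnet.MonAct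
open Groth.Agent.H82.AMonPts Groth.Agent.H82.LinePts Groth.Agent.H82.LineIso
open Groth.Agent.H82.BBStep1

namespace Groth.Agent.H82.BBMain

theorem agree_iSup {Z W : Scheme.{u}} (f g : Z ⟶ W) {J : Type*} (U : J → Z.Opens)
    (h : ∀ j, (U j).ι ≫ f = (U j).ι ≫ g) : (⨆ j, U j).ι ≫ f = (⨆ j, U j).ι ≫ g := by
  apply (Scheme.Opens.iSupOpenCover U).hom_ext
  intro j
  change Z.homOfLE (le_iSup U j) ≫ _ = Z.homOfLE (le_iSup U j) ≫ _
  rw [Scheme.homOfLE_ι_assoc, Scheme.homOfLE_ι_assoc]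
  exact h j

theorem agree_image {Z' Z W : Scheme.{u}} (j : Z' ⟶ Z) [IsOpenImmersion j] (f g : Z ⟶ W)
    (Q : Z'.Opens) (h : Q.ι ≫ j ≫ f = Q.ι ≫ j ≫ g) :
    (j ''ᵁ Q).ι ≫ f = (j ''ᵁ Q).ι ≫ g := by
  rw [← cancel_epi (j.isoImage Q).hom, Scheme.Hom.isoImage_hom_ι_assoc,
    Scheme.Hom.isoImage_hom_ι_assoc]
  exact h

variable {S : Scheme.{u}} {X Y : Over S} (γ₁ γ₂ : AMonS S ↥N₁ ⊗ Y ⟶ X)

/-- the largest open on which the two maps agree -/
noncomputable def agreeOpen : (AMonS S ↥N₁ ⊗ Y).left.Opens :=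
  ⨆ U : {U : (AMonS S ↥N₁ ⊗ Y).left.Opens // U.ι ≫ γ₁.left = U.ι ≫ γ₂.left}, U.1

theorem agreeOpen_ι : (agreeOpen γ₁ γ₂).ι ≫ γ₁.left = (agreeOpen γ₁ γ₂).ι ≫ γ₂.left :=
  agree_iSup _ _ _ (fun U => U.2)

theorem le_agreeOpen (U : (AMonS S ↥N₁ ⊗ Y).left.Opens)
    (hU : U.ι ≫ γ₁.left = U.ι ≫ γ₂.left) : U ≤ agreeOpen γ₁ γ₂ :=
  le_iSup (fun U : {U : (AMonS S ↥N₁ ⊗ Y).left.Opens // U.ι ≫ γ₁.left = U.ι ≫ γ₂.left} => U.1)
    ⟨U, hU⟩

theorem isOpenImmersion_whiskerLeft {A B : Over S} (f : A ⟶ B) (T : Over S)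
    [IsOpenImmersion f.left] : IsOpenImmersion (T ◁ f).left := by
  rw [Over.whiskerLeft_left]
  exact MorphismProperty.pullbackMap (P := @IsOpenImmersion) (MorphismProperty.id_mem _ _)
    inferInstance (Category.id_comp _).symm (Over.w f).symm

theorem zsec_natural {Y' : Over S} (j : Y' ⟶ Y) :
    zsec Y' ≫ (AMonS S ↥N₁ ◁ j) = j ≫ zsec Y := by
  unfold zsec
  rw [lift_whiskerLeft, comp_lift, comp_ptOf, map_zero, Category.id_comp, Category.comp_id]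

theorem zsec_mem_agreeOpen
    (hγ : ∀ (T : Over S) (τ : T ⟶ AMonS S ↥N₁ ⊗ Y) (n : ℕ),
      coord (τ ≫ fst _ _) ^ (n + 1) = 0 → τ ≫ γ₁ = τ ≫ γ₂) (y : Y.left) :
    (zsec Y).left y ∈ agreeOpen γ₁ γ₂ := by
  obtain ⟨Y₀, hY₀, hy, -⟩ := exists_isAffineOpen_mem_and_subset (x := y) (U := ⊤) trivial
  let Y' : Over S := Over.mk (Y₀.ι ≫ Y.hom)
  let j : Y' ⟶ Y := Over.homMk Y₀.ι rfl
  haveI : IsAffine Y'.left := hY₀
  haveI : IsOpenImmersion j.left := inferInstanceAs (IsOpenImmersion Y₀.ι)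
  haveI := isOpenImmersion_whiskerLeft j (AMonS S ↥N₁)
  obtain ⟨Q, hQ, hQe⟩ := local_agree Y' ((AMonS S ↥N₁ ◁ j) ≫ γ₁) ((AMonS S ↥N₁ ◁ j) ≫ γ₂)
    (fun T τ n hn => by
      rw [← Category.assoc, ← Category.assoc]
      apply hγ T (τ ≫ (AMonS S ↥N₁ ◁ j)) n
      rw [Category.assoc, whiskerLeft_fst]
      exact hn) ⟨y, hy⟩
  rw [Over.comp_left, Over.comp_left] at hQe
  have h1 := le_agreeOpen γ₁ γ₂ _ (agree_image (AMonS S ↥N₁ ◁ j).left γ₁.left γ₂.left Q hQe)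
  apply h1
  refine ⟨(zsec Y').left ⟨y, hy⟩, hQ, ?_⟩
  change ((zsec Y').left ≫ (AMonS S ↥N₁ ◁ j).left) ⟨y, hy⟩ = _
  rw [← Over.comp_left, zsec_natural, Over.comp_left]
  rfl

theorem flat_AMonS_hom (M : Type) [AddCommMonoid M] : Flat (AMonS S M).hom := by
  have h : Flat (AMon (ULift.{u} ℤ) M).hom := by
    change Flat (Spec.map (CommRingCat.ofHom
      (algebraMap (ULift.{u} ℤ) (MonoidAlgebra (ULift.{u} ℤ) (Multiplicative M)))))
    rw [Flat.SpecMap_iff]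
    exact RingHom.flat_algebraMap_iff.mpr inferInstance
  exact MorphismProperty.pullback_snd (P := @Flat) _ _ h

/-- the action of `G_m` on `A¹ × Y` through the first factor -/
noncomputable abbrev actP (Y : Over S) : MonAct (AMonS S ℤ) (AMonS S ↥N₁ ⊗ Y) :=
  (subAct S ℤ N₁).prod (MonAct.trivial (AMonS S ℤ) Y)

theorem actP_pts {W : Over S} (g : W ⟶ AMonS S ℤ) (b : W ⟶ AMonS S ↥N₁) (t : W ⟶ Y) :
    lift g (lift b t) ≫ (actP Y).act = lift ((g ≫ iota S) * b) t := by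
  rw [lift_prod_act, lift_trivial_act, AttrComap.subAct_pts']

theorem flat_actP : Flat (actP Y).act.left := by
  let A : AlgGrp.Action (AMonS S ℤ) (AMonS S ↥N₁ ⊗ Y) := (actP Y).toAction
  have := (Groth.Agent.S18861.result A).2.1 (flat_AMonS_hom ℤ)
  exact this

theorem isUnit_of_mem_basicOpen_field (K : Type u) [Field K]
    (f : Γ(Spec (CommRingCat.of K), ⊤)) (pt : Spec (CommRingCat.of K))
    (h : pt ∈ (Spec (CommRingCat.of K)).basicOpen f) : IsUnit f := by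
  by_contra hf
  have h1 : (Scheme.ΓSpecIso (CommRingCat.of K)).hom f = 0 := by
    by_contra h0
    apply hf
    have hu : IsUnit ((Scheme.ΓSpecIso (CommRingCat.of K)).hom f) :=
      (isUnit_iff_ne_zero (G₀ := K)).mpr h0
    have := hu.map (Scheme.ΓSpecIso (CommRingCat.of K)).inv.hom
    rwa [show (Scheme.ΓSpecIso (CommRingCat.of K)).inv.hom
      ((Scheme.ΓSpecIso (CommRingCat.of K)).hom f) = f from
      Iso.hom_inv_id_apply (C := CommRingCat) _ _] at this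
  have h2 : f = 0 := by
    have := congrArg (Scheme.ΓSpecIso (CommRingCat.of K)).inv h1
    rwa [map_zero, Iso.hom_inv_id_apply (C := CommRingCat)] at this
  rw [h2, Scheme.basicOpen_zero] at h
  exact h

theorem irreducible_line (W : Over S) [IsAffine W.left] [IsDomain Γ(W.left, ⊤)]
    [Nonempty W.left] : IrreducibleSpace (AMonS S ↥N₁ ⊗ W).left := by
  haveI : IsDomain Γ((AMonS S ↥N₁ ⊗ W).left, ⊤) :=
    (RingEquiv.ofBijective (alpha W) (alpha_bijective W)).symm.toMulEquiv.isDomain _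
  haveI : Nonempty (AMonS S ↥N₁ ⊗ W).left := ⟨(zsec W).left (Classical.arbitrary _)⟩
  haveI : IsIntegral (AMonS S ↥N₁ ⊗ W).left := isIntegral_of_isAffine_of_isDomain _
  infer_instance

section Main

variable (hγ : ∀ (T : Over S) (τ : T ⟶ AMonS S ↥N₁ ⊗ Y) (n : ℕ),
  coord (τ ≫ fst _ _) ^ (n + 1) = 0 → τ ≫ γ₁ = τ ≫ γ₂)

/-- the agreement locus as an object over `S` -/
noncomputable abbrev OO : Over S :=
  Over.mk ((agreeOpen γ₁ γ₂).ι ≫ (AMonS S ↥N₁ ⊗ Y).hom)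

/-- its inclusion -/
noncomputable abbrev ii : OO γ₁ γ₂ ⟶ AMonS S ↥N₁ ⊗ Y := Over.homMk (agreeOpen γ₁ γ₂).ι rfl

theorem ii_agree : ii γ₁ γ₂ ≫ γ₁ = ii γ₁ γ₂ ≫ γ₂ := by
  ext : 1
  rw [Over.comp_left, Over.comp_left]
  exact agreeOpen_ι γ₁ γ₂

/-- `G_m × O' → A¹ × Y` -/
noncomputable abbrev cc : AMonS S ℤ ⊗ OO γ₁ γ₂ ⟶ AMonS S ↥N₁ ⊗ Y :=
  (AMonS S ℤ ◁ ii γ₁ γ₂) ≫ (actP Y).act

include hγ in
theorem surjective_cc : Surjective (cc γ₁ γ₂).left := by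
  refine ⟨fun p => ?_⟩
  -- the point `p` as a field-valued point
  let W : Over S := Over.mk ((AMonS S ↥N₁ ⊗ Y).left.fromSpecResidueField p ≫ (AMonS S ↥N₁ ⊗ Y).hom)
  let w : W ⟶ AMonS S ↥N₁ ⊗ Y := Over.homMk ((AMonS S ↥N₁ ⊗ Y).left.fromSpecResidueField p) rfl
  haveI : IsAffine W.left :=
    inferInstanceAs (IsAffine (Spec ((AMonS S ↥N₁ ⊗ Y).left.residueField p)))
  haveI : IsDomain Γ(W.left, ⊤) :=
    (Scheme.ΓSpecIso ((AMonS S ↥N₁ ⊗ Y).left.residueField p)).commRingCatIsoToRingEquiv.toMulEquiv.isDomain _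
  haveI : Nonempty W.left :=
    inferInstanceAs (Nonempty (Spec ((AMonS S ↥N₁ ⊗ Y).left.residueField p)))
  haveI := irreducible_line W
  let m : W ⟶ AMonS S ↥N₁ := w ≫ fst _ _
  let t : W ⟶ Y := w ≫ snd _ _
  let φ : AMonS S ↥N₁ ⊗ W ⟶ AMonS S ↥N₁ ⊗ Y :=
    lift (fst (AMonS S ↥N₁) W * (snd (AMonS S ↥N₁) W ≫ m)) (snd (AMonS S ↥N₁) W ≫ t)
  have hzφ : zsec W ≫ φ = t ≫ zsec Y := by
    unfold zsec
    rw [comp_lift, comp_lift, MonObj.comp_mul, lift_fst, lift_snd_assoc, Category.id_comp,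
      Category.comp_id, comp_ptOf, map_zero]
    congr 1
    · apply coord_ext
      rw [coord_mul, coord_ptOf, zero_mul]
    · rw [lift_snd_assoc, Category.id_comp]
  obtain ⟨pt₀⟩ : Nonempty W.left := inferInstance
  have hne₁ : ((φ.left ⁻¹ᵁ agreeOpen γ₁ γ₂ : (AMonS S ↥N₁ ⊗ W).left.Opens) :
      Set (AMonS S ↥N₁ ⊗ W).left).Nonempty := by
    refine ⟨(zsec W).left pt₀, ?_⟩
    change φ.left ((zsec W).left pt₀) ∈ agreeOpen γ₁ γ₂
    rw [← Scheme.Hom.comp_apply, ← Over.comp_left, hzφ, Over.comp_left, Scheme.Hom.comp_apply]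
    exact zsec_mem_agreeOpen γ₁ γ₂ hγ _
  have hne₂ : (((AMonS S ↥N₁ ⊗ W).left.basicOpen (xx W) : (AMonS S ↥N₁ ⊗ W).left.Opens) :
      Set (AMonS S ↥N₁ ⊗ W).left).Nonempty := by
    refine ⟨(lift (1 : W ⟶ AMonS S ↥N₁) (𝟙 W)).left pt₀, ?_⟩
    have h1 : (lift (1 : W ⟶ AMonS S ↥N₁) (𝟙 W)).left ⁻¹ᵁ
        (AMonS S ↥N₁ ⊗ W).left.basicOpen (xx W) = ⊤ := by
      rw [Scheme.preimage_basicOpen_top]
      unfold xx
      rw [← coord_comp, lift_fst, coord_one, Scheme.basicOpen_one]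
    have h2 : pt₀ ∈ (lift (1 : W ⟶ AMonS S ↥N₁) (𝟙 W)).left ⁻¹ᵁ
        (AMonS S ↥N₁ ⊗ W).left.basicOpen (xx W) := by rw [h1]; trivial
    exact h2
  obtain ⟨q, hq₁, hq₂⟩ := nonempty_preirreducible_inter
    (φ.left ⁻¹ᵁ agreeOpen γ₁ γ₂ : (AMonS S ↥N₁ ⊗ W).left.Opens).isOpen
    ((AMonS S ↥N₁ ⊗ W).left.basicOpen (xx W)).isOpen hne₁ hne₂
  -- the point `q` as a field-valued point
  let W' : Over S :=
    Over.mk ((AMonS S ↥N₁ ⊗ W).left.fromSpecResidueField q ≫ (AMonS S ↥N₁ ⊗ W).hom)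
  let w' : W' ⟶ AMonS S ↥N₁ ⊗ W :=
    Over.homMk ((AMonS S ↥N₁ ⊗ W).left.fromSpecResidueField q) rfl
  obtain ⟨pt'⟩ : Nonempty W'.left :=
    inferInstanceAs (Nonempty (Spec ((AMonS S ↥N₁ ⊗ W).left.residueField q)))
  have hw'pt : w'.left pt' = q := Scheme.fromSpecResidueField_apply _ _
  let s : W' ⟶ AMonS S ↥N₁ := w' ≫ fst _ _
  have hs : IsUnit (coord s) := by
    have h1 : pt' ∈ w'.left ⁻¹ᵁ (AMonS S ↥N₁ ⊗ W).left.basicOpen (xx W) := by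
      change w'.left pt' ∈ (AMonS S ↥N₁ ⊗ W).left.basicOpen (xx W)
      rw [hw'pt]
      exact hq₂
    rw [Scheme.preimage_basicOpen_top] at h1
    have h2 : coord s = w'.left.appTop (xx W) := coord_comp _ _
    rw [h2]
    exact isUnit_of_mem_basicOpen_field ((AMonS S ↥N₁ ⊗ W).left.residueField q) _ pt' h1
  obtain ⟨us, hus⟩ := hs
  obtain ⟨g', hg'⟩ := exists_iota_of_isUnit (S := S) (T := W') (ptOf ((us⁻¹ : (Γ(W'.left, ⊤))ˣ) : Γ(W'.left, ⊤)))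
    (by rw [coord_ptOf]; exact Units.isUnit _)
  have hgs : (g' ≫ iota S) * s = 1 := by
    apply coord_ext
    rw [coord_mul, hg', coord_ptOf, coord_one, ← hus]
    exact Units.inv_mul us
  -- the point of `O'`
  have hrange : Set.range (w' ≫ φ).left ⊆ Set.range (agreeOpen γ₁ γ₂).ι := by
    rintro _ ⟨pt'', rfl⟩
    rw [Scheme.Opens.range_ι]
    have : w'.left pt'' = q := Scheme.fromSpecResidueField_apply _ _
    change φ.left (w'.left pt'') ∈ agreeOpen γ₁ γ₂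
    rw [this]
    exact hq₁
  let o : W' ⟶ OO γ₁ γ₂ :=
    Over.homMk (IsOpenImmersion.lift (agreeOpen γ₁ γ₂).ι (w' ≫ φ).left hrange) (by
      change _ ≫ (agreeOpen γ₁ γ₂).ι ≫ _ = _
      rw [IsOpenImmersion.lift_fac_assoc]
      exact Over.w (w' ≫ φ))
  have ho : o ≫ ii γ₁ γ₂ = w' ≫ φ := by
    apply Over.OverMorphism.ext
    exact IsOpenImmersion.lift_fac _ _ _
  have hfin : lift g' o ≫ cc γ₁ γ₂ = (w' ≫ snd _ _) ≫ w := by
    rw [lift_whiskerLeft_assoc, ho]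
    have h1 : w' ≫ φ = lift (s * (w' ≫ snd _ _ ≫ m)) (w' ≫ snd _ _ ≫ t) := by
      rw [comp_lift, MonObj.comp_mul]
    rw [h1, actP_pts, ← _root_.mul_assoc, hgs, _root_.one_mul]
    have h2 : w = lift m t := (lift_comp_fst_snd w).symm
    calc lift (w' ≫ snd _ _ ≫ m) (w' ≫ snd _ _ ≫ t) = (w' ≫ snd _ _) ≫ lift m t := by
          rw [comp_lift, Category.assoc, Category.assoc]
      _ = (w' ≫ snd _ _) ≫ w := by rw [← h2]
  refine ⟨(lift g' o).left pt', ?_⟩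
  rw [← Scheme.Hom.comp_apply, ← Over.comp_left, hfin, Over.comp_left, Scheme.Hom.comp_apply]
  exact Scheme.fromSpecResidueField_apply _ _

end Main

theorem main (a : MonAct (AMonS S ℤ) X)
    (h₁ : IsEquivariant (actP Y) a γ₁) (h₂ : IsEquivariant (actP Y) a γ₂)
    (hγ : ∀ (T : Over S) (τ : T ⟶ AMonS S ↥N₁ ⊗ Y) (n : ℕ),
      coord (τ ≫ fst _ _) ^ (n + 1) = 0 → τ ≫ γ₁ = τ ≫ γ₂) : γ₁ = γ₂ := by
  have hflat : Flat (cc γ₁ γ₂).left := by
    rw [Over.comp_left]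
    haveI : IsOpenImmersion (ii γ₁ γ₂).left :=
      inferInstanceAs (IsOpenImmersion (agreeOpen γ₁ γ₂).ι)
    haveI := isOpenImmersion_whiskerLeft (ii γ₁ γ₂) (AMonS S ℤ)
    haveI := flat_actP (Y := Y)
    infer_instance
  haveI := hflat
  haveI := surjective_cc γ₁ γ₂ hγ
  haveI : Epi (cc γ₁ γ₂).left := Flat.epi_of_flat_of_surjective _
  haveI : Epi (cc γ₁ γ₂) := Over.epi_of_epi_left _
  rw [← cancel_epi (cc γ₁ γ₂)]
  unfold IsEquivariant at h₁ h₂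
  rw [Category.assoc, Category.assoc, h₁, h₂, ← MonoidalCategory.whiskerLeft_comp_assoc,
    ← MonoidalCategory.whiskerLeft_comp_assoc, ii_agree]

end Groth.Agent.H82.BBMain
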