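import Mathlib

/-! Two maps from an `ξ`-adically separated affine scheme into an affine open that agree on all
`ξ`-adic thickenings agree. -/

set_option autoImplicit false
universe u

open CategoryTheory AlgebraicGeometry

namespace Groth.Agent.H82.LocAgree

theorem loc_agree {C : CommRingCat.{u}} (ξ : C) (hsep : ∀ s : C, (∀ n : ℕ, ξ ^ (n + 1) ∣ s) → s = 0)
    {Z : Scheme.{u}} (V : Z.Opens) (hV : IsAffineOpen V) (u₁ u₂ : Spec C ⟶ Z)
    (h₁ : ∀ pt, u₁ pt ∈ V) (h₂ : ∀ pt, u₂ pt ∈ V)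
    (hn : ∀ n : ℕ,
      Spec.map (CommRingCat.ofHom (Ideal.Quotient.mk (Ideal.span {ξ ^ (n + 1)}))) ≫ u₁ =
      Spec.map (CommRingCat.ofHom (Ideal.Quotient.mk (Ideal.span {ξ ^ (n + 1)}))) ≫ u₂) :
    u₁ = u₂ := by
  have hr₁ : Set.range u₁ ⊆ Set.range V.ι := by
    rintro _ ⟨pt, rfl⟩
    rw [Scheme.Opens.range_ι]
    exact h₁ pt
  have hr₂ : Set.range u₂ ⊆ Set.range V.ι := by
    rintro _ ⟨pt, rfl⟩
    rw [Scheme.Opens.range_ι]
    exact h₂ pt
  set v₁ := IsOpenImmersion.lift V.ι u₁ hr₁ with hv₁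
  set v₂ := IsOpenImmersion.lift V.ι u₂ hr₂ with hv₂
  have e₁ : v₁ ≫ V.ι = u₁ := IsOpenImmersion.lift_fac _ _ _
  have e₂ : v₂ ≫ V.ι = u₂ := IsOpenImmersion.lift_fac _ _ _
  suffices hv : v₁ = v₂ by rw [← e₁, ← e₂, hv]
  haveI : IsAffine ↑V := hV
  apply ext_of_isAffine
  refine CommRingCat.hom_ext (RingHom.ext fun f => ?_)
  have key : (Scheme.ΓSpecIso C).hom (v₁.appTop f - v₂.appTop f) = 0 := by
    apply hsep
    intro n
    have hq : Spec.map (CommRingCat.ofHom (Ideal.Quotient.mk (Ideal.span {ξ ^ (n + 1)}))) ≫ v₁ =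
        Spec.map (CommRingCat.ofHom (Ideal.Quotient.mk (Ideal.span {ξ ^ (n + 1)}))) ≫ v₂ := by
      rw [← cancel_mono V.ι, Category.assoc, Category.assoc, e₁, e₂]
      exact hn n
    have h3 := congrArg (fun g => g.appTop f) hq
    simp only [Scheme.Hom.comp_appTop, CommRingCat.comp_apply] at h3
    have h4 : (Spec.map (CommRingCat.ofHom (Ideal.Quotient.mk (Ideal.span {ξ ^ (n + 1)})))).appTop
        (v₁.appTop f - v₂.appTop f) = 0 := by
      rw [map_sub, h3, sub_self]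
    have h5 := congrArg (Scheme.ΓSpecIso _).hom h4
    rw [map_zero, ← CommRingCat.comp_apply, Scheme.ΓSpecIso_naturality, CommRingCat.comp_apply] at h5
    have h6 : (Scheme.ΓSpecIso C).hom (v₁.appTop f - v₂.appTop f) ∈
        Ideal.span {ξ ^ (n + 1)} := Ideal.Quotient.eq_zero_iff_mem.mp h5
    exact Ideal.mem_span_singleton.mp h6
  have h7 : v₁.appTop f - v₂.appTop f = 0 := by
    have := congrArg (Scheme.ΓSpecIso C).inv key
    rwa [map_zero, Iso.hom_inv_id_apply (C := CommRingCat)] at this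
  exact sub_eq_zero.mp h7

end Groth.Agent.H82.LocAgree
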