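import Groth.Agent.H82.LineIso
import Groth.Agent.H82.AlgSep
import Groth.Agent.H82.LocAgree
import Mathlib

/-! Two maps `A¹ × Y' → X` (`Y'` affine) agreeing on all nilpotent points agree on a neighbourhood
of every point of the zero section. -/

set_option autoImplicit false
set_option linter.unusedSectionVars false
universe u

open CategoryTheory MonoidalCategory CartesianMonoidalCategory MonObj AlgebraicGeometry
open CategoryTheory.Limits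
open Groth.Agent.H42 Groth.Agent.H40 Magnet
open Groth.Agent.H82.AMonPts Groth.Agent.H82.LinePts Groth.Agent.H82.LineIso

namespace Groth.Agent.H82.BBStep1

theorem fromSpec_appTop {Z : Scheme.{u}} {U : Z.Opens} (hU : IsAffineOpen U) (y : Γ(Z, ⊤)) :
    hU.fromSpec.appTop y =
      (Scheme.ΓSpecIso Γ(Z, U)).inv (Z.presheaf.map (homOfLE le_top).op y) := by
  have h := congrArg Scheme.Hom.appTop hU.fromSpec_toSpecΓ
  rw [Scheme.Hom.comp_appTop, Scheme.toSpecΓ_appTop] at h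
  have h2 : hU.fromSpec.appTop = (Scheme.ΓSpecIso Γ(Z, ⊤)).inv ≫
      (Spec.map (Z.presheaf.map (homOfLE (le_top : U ≤ ⊤)).op)).appTop := by
    rw [← h, Iso.inv_hom_id_assoc]
  rw [h2, ← Scheme.ΓSpecIso_inv_naturality]
  rfl

theorem thick_appTop {Z : Scheme.{u}} {U : Z.Opens} (hU : IsAffineOpen U) (x : Γ(Z, ⊤)) (n : ℕ) :
    (Spec.map (CommRingCat.ofHom (Ideal.Quotient.mk (Ideal.span
      {(Z.presheaf.map (homOfLE (le_top : U ≤ ⊤)).op x : Γ(Z, U)) ^ (n + 1)}))) ≫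
        hU.fromSpec).appTop x ^ (n + 1) = 0 := by
  rw [Scheme.Hom.comp_appTop, CommRingCat.comp_apply, fromSpec_appTop]
  have key : ∀ c : Γ(Z, U), (Spec.map (CommRingCat.ofHom (Ideal.Quotient.mk (Ideal.span
      {(Z.presheaf.map (homOfLE (le_top : U ≤ ⊤)).op x : Γ(Z, U)) ^ (n + 1)})))).appTop
        ((Scheme.ΓSpecIso Γ(Z, U)).inv c) =
      (Scheme.ΓSpecIso _).inv ((Ideal.Quotient.mk (Ideal.span
      {(Z.presheaf.map (homOfLE (le_top : U ≤ ⊤)).op x : Γ(Z, U)) ^ (n + 1)})) c) := by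
    intro c
    have := Scheme.ΓSpecIso_inv_naturality (CommRingCat.ofHom (Ideal.Quotient.mk (Ideal.span
      {(Z.presheaf.map (homOfLE (le_top : U ≤ ⊤)).op x : Γ(Z, U)) ^ (n + 1)})))
    exact (ConcreteCategory.congr_hom this c).symm
  rw [key]
  have h0 : (Ideal.Quotient.mk (Ideal.span
      {(Z.presheaf.map (homOfLE (le_top : U ≤ ⊤)).op x : Γ(Z, U)) ^ (n + 1)}))
      ((Z.presheaf.map (homOfLE (le_top : U ≤ ⊤)).op x : Γ(Z, U)) ^ (n + 1)) = 0 :=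
    Ideal.Quotient.eq_zero_iff_mem.mpr (Ideal.mem_span_singleton_self _)
  have h1 : (Ideal.Quotient.mk (Ideal.span
      {(Z.presheaf.map (homOfLE (le_top : U ≤ ⊤)).op x : Γ(Z, U)) ^ (n + 1)}))
      ((Z.presheaf.map (homOfLE (le_top : U ≤ ⊤)).op x : Γ(Z, U))) ^ (n + 1) = 0 :=
    (map_pow _ _ _).symm.trans h0
  exact (map_pow _ _ _).symm.trans (by rw [h1, map_zero])

variable {S : Scheme.{u}} {X : Over S} (Y' : Over S) [IsAffine Y'.left]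

theorem agree_of_left (δ₁ δ₂ : AMonS S ↥N₁ ⊗ Y' ⟶ X)
    (hδ : ∀ (T : Over S) (τ : T ⟶ AMonS S ↥N₁ ⊗ Y') (n : ℕ),
      coord (τ ≫ fst _ _) ^ (n + 1) = 0 → τ ≫ δ₁ = τ ≫ δ₂)
    {Z : Scheme.{u}} (τ' : Z ⟶ (AMonS S ↥N₁ ⊗ Y').left) (n : ℕ)
    (hτ' : τ'.appTop (xx Y') ^ (n + 1) = 0) : τ' ≫ δ₁.left = τ' ≫ δ₂.left := by
  have hτ : (Over.homMk τ' rfl : Over.mk (τ' ≫ (AMonS S ↥N₁ ⊗ Y').hom) ⟶ _) ≫ δ₁ =
      (Over.homMk τ' rfl : Over.mk (τ' ≫ (AMonS S ↥N₁ ⊗ Y').hom) ⟶ _) ≫ δ₂ := by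
    apply hδ _ _ n
    rw [coord_comp]
    exact hτ'
  have := congrArg Over.Hom.left hτ
  rwa [Over.comp_left, Over.comp_left] at this

theorem local_agree (δ₁ δ₂ : AMonS S ↥N₁ ⊗ Y' ⟶ X)
    (hδ : ∀ (T : Over S) (τ : T ⟶ AMonS S ↥N₁ ⊗ Y') (n : ℕ),
      coord (τ ≫ fst _ _) ^ (n + 1) = 0 → τ ≫ δ₁ = τ ≫ δ₂)
    (y' : Y'.left) :
    ∃ Q : (AMonS S ↥N₁ ⊗ Y').left.Opens,
      (zsec Y').left y' ∈ Q ∧ Q.ι ≫ δ₁.left = Q.ι ≫ δ₂.left := by
  have hz : zsec Y' ≫ δ₁ = zsec Y' ≫ δ₂ := by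
    apply hδ Y' (zsec Y') 0
    rw [zsec_fst, coord_ptOf, zero_add, pow_one]
  have hp : δ₁.left ((zsec Y').left y') = δ₂.left ((zsec Y').left y') := by
    have := congrArg (fun f => f.left y') hz
    simpa using this
  obtain ⟨V, hV, hpV, -⟩ := exists_isAffineOpen_mem_and_subset
    (x := δ₁.left ((zsec Y').left y')) (U := ⊤) trivial
  let O : (AMonS S ↥N₁ ⊗ Y').left.Opens := δ₁.left ⁻¹ᵁ V ⊓ δ₂.left ⁻¹ᵁ V
  have hpO : (zsec Y').left y' ∈ O := ⟨hpV, by change δ₂.left _ ∈ V; rw [← hp]; exact hpV⟩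
  obtain ⟨h, hhO, hph⟩ := (isAffineOpen_top (AMonS S ↥N₁ ⊗ Y').left).exists_basicOpen_le
    ⟨(zsec Y').left y', hpO⟩ trivial
  obtain ⟨H, rfl⟩ := alpha_surjective Y' h
  have hy' : y' ∈ Y'.left.basicOpen (H.coeff 0) := by
    have h1 : y' ∈ (zsec Y').left ⁻¹ᵁ (AMonS S ↥N₁ ⊗ Y').left.basicOpen (alpha Y' H) := hph
    rwa [Scheme.preimage_basicOpen_top, zsec_alpha] at h1
  have hpQ : (zsec Y').left y' ∈
      (AMonS S ↥N₁ ⊗ Y').left.basicOpen (alpha Y' (H * Polynomial.C (H.coeff 0))) := by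
    rw [map_mul, Scheme.basicOpen_mul, alpha_C, ← Scheme.preimage_basicOpen_top]
    refine ⟨hph, ?_⟩
    change (snd (AMonS S ↥N₁) Y').left ((zsec Y').left y') ∈ Y'.left.basicOpen (H.coeff 0)
    rw [← Scheme.Hom.comp_apply, ← Over.comp_left, zsec_snd]
    exact hy'
  have hQO : (AMonS S ↥N₁ ⊗ Y').left.basicOpen (alpha Y' (H * Polynomial.C (H.coeff 0))) ≤ O := by
    rw [map_mul, Scheme.basicOpen_mul]
    exact inf_le_left.trans hhO
  have hQ : IsAffineOpen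
      ((AMonS S ↥N₁ ⊗ Y').left.basicOpen (alpha Y' (H * Polynomial.C (H.coeff 0)))) :=
    (isAffineOpen_top _).basicOpen _
  refine ⟨_, hpQ, ?_⟩
  have hsep : ∀ s : Γ((AMonS S ↥N₁ ⊗ Y').left,
      (AMonS S ↥N₁ ⊗ Y').left.basicOpen (alpha Y' (H * Polynomial.C (H.coeff 0)))),
      (∀ n : ℕ, (algebraMap Γ((AMonS S ↥N₁ ⊗ Y').left, ⊤) _ (xx Y')) ^ (n + 1) ∣ s) → s = 0 := by
    intro s hs
    refine AlgSep.eq_zero_of_forall_pow_dvd' (alpha Y') (alpha_bijective Y') H s ?_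
    rw [alpha_X]
    exact hs
  have key := LocAgree.loc_agree
    (C := Γ((AMonS S ↥N₁ ⊗ Y').left,
      (AMonS S ↥N₁ ⊗ Y').left.basicOpen (alpha Y' (H * Polynomial.C (H.coeff 0)))))
    (algebraMap Γ((AMonS S ↥N₁ ⊗ Y').left, ⊤) _ (xx Y')) hsep V hV
    (hQ.fromSpec ≫ δ₁.left) (hQ.fromSpec ≫ δ₂.left) ?_ ?_ ?_
  · rw [← hQ.isoSpec_hom_fromSpec, Category.assoc, Category.assoc, key]
  · intro pt
    have h1 : hQ.fromSpec pt ∈ O := hQO (by
      have : hQ.fromSpec pt ∈ Set.range hQ.fromSpec := ⟨pt, rfl⟩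
      rwa [hQ.range_fromSpec] at this)
    exact h1.1
  · intro pt
    have h1 : hQ.fromSpec pt ∈ O := hQO (by
      have : hQ.fromSpec pt ∈ Set.range hQ.fromSpec := ⟨pt, rfl⟩
      rwa [hQ.range_fromSpec] at this)
    exact h1.2
  · intro n
    rw [← Category.assoc, ← Category.assoc]
    apply agree_of_left Y' δ₁ δ₂ hδ _ n
    exact thick_appTop hQ (xx Y') n

end Groth.Agent.H82.BBStep1
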