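import Groth.Agent.H40.DiagMapPts
import Mathlib

/-! Homomorphisms between diagonalizable groups over a field: every group homomorphism
`D(M) ⟶ D(N)` over `Spec k` is `D(φ)`. -/

set_option autoImplicit false
universe u

open CategoryTheory MonoidalCategory CartesianMonoidalCategory MonObj GrpObj AlgebraicGeometry
open CategoryTheory.Limits
open Groth.Agent.H42 Groth.Agent.H40

namespace Groth.Agent.H82.TorusHom

section Test

variable (k : Type u) [CommRing k]

/-- `Spec B` as a scheme over `Spec k`. -/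
noncomputable abbrev T (B : Type u) [CommRing B] [Algebra k B] : Over (Spec (CommRingCat.of k)) :=
  Over.mk (Spec.map (CommRingCat.ofHom (algebraMap k B)))

/-- global functions of `Spec B` -/
noncomputable def gam (B : Type u) [CommRing B] [Algebra k B] : B ≃+* Γ((T k B).left, ⊤) :=
  (Scheme.ΓSpecIso (CommRingCat.of B)).symm.commRingCatIsoToRingEquiv

theorem gam_apply (B : Type u) [CommRing B] [Algebra k B] (b : B) :
    gam k B b = (Scheme.ΓSpecIso (CommRingCat.of B)).inv b := rfl

variable {k}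

/-- the morphism of test schemes attached to an algebra map -/
noncomputable def tmap {B B' : Type u} [CommRing B] [Algebra k B] [CommRing B'] [Algebra k B']
    (g : B →ₐ[k] B') : T k B' ⟶ T k B :=
  Over.homMk (Spec.map (CommRingCat.ofHom g.toRingHom)) (by
    change Spec.map _ ≫ Spec.map _ = Spec.map _
    rw [← Spec.map_comp, ← CommRingCat.ofHom_comp]
    congr 2
    ext c
    simp)

theorem tmap_appTop {B B' : Type u} [CommRing B] [Algebra k B] [CommRing B'] [Algebra k B']
    (g : B →ₐ[k] B') (b : B) : (tmap g).left.appTop (gam k B b) = gam k B' (g b) := by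
  have := Scheme.ΓSpecIso_inv_naturality (CommRingCat.ofHom g.toRingHom)
  have h2 := congrArg (fun t => t.hom b) this
  simp only [CommRingCat.hom_comp, RingHom.comp_apply, CommRingCat.hom_ofHom] at h2
  rw [gam_apply, gam_apply]
  exact h2.symm

theorem exists_hom_T {X : Over (Spec (CommRingCat.of k))} (B : Type u) [CommRing B] [Algebra k B]
    (θ : B →+* Γ(X.left, ⊤)) (hθ : ∀ c : k, θ (algebraMap k B c) = pb X.hom c) :
    ∃ h : X ⟶ T k B, ∀ b, h.left.appTop (gam k B b) = θ b := by
  obtain ⟨g, hg⟩ := pb_surjective (A := B) (Y := X.left) θ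
  have hw : g ≫ Spec.map (CommRingCat.ofHom (algebraMap k B)) = X.hom := by
    apply pb_injective
    ext c
    rw [pb_comp_specMap, hg, hθ]
  refine ⟨Over.homMk g hw, fun b => ?_⟩
  rw [gam_apply]
  change pb g b = θ b
  rw [hg]

end Test

section Univ

variable {k : Type u} [CommRing k] {M : Type} [AddCommGroup M]

/-- a universal point of `D(M)`, with values in `Spec k[M]` -/
theorem exists_univ (k : Type u) [CommRing k] (M : Type) [AddCommGroup M] :
    ∃ u : T k (MonoidAlgebra k (Multiplicative M)) ⟶ Red.DS (Spec (CommRingCat.of k)) M,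
      ∀ m, dsFn u m = gam k _ (MonoidAlgebra.of k (Multiplicative M) m) := by
  obtain ⟨u, hu⟩ := dsFn_surjective (S := Spec (CommRingCat.of k))
    (X := T k (MonoidAlgebra k (Multiplicative M))) (M := M)
    (((gam k (MonoidAlgebra k (Multiplicative M))) :
      MonoidAlgebra k (Multiplicative M) →* _).comp (MonoidAlgebra.of k (Multiplicative M)))
  exact ⟨u, fun m => by rw [hu]; rfl⟩

theorem exists_factor (u : T k (MonoidAlgebra k (Multiplicative M)) ⟶ Red.DS (Spec (CommRingCat.of k)) M)
    (hu : ∀ m, dsFn u m = gam k _ (MonoidAlgebra.of k (Multiplicative M) m))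
    {X : Over (Spec (CommRingCat.of k))} (x : X ⟶ Red.DS (Spec (CommRingCat.of k)) M) :
    ∃ h : X ⟶ T k (MonoidAlgebra k (Multiplicative M)), h ≫ u = x := by
  let θ : MonoidAlgebra k (Multiplicative M) →+* Γ(X.left, ⊤) :=
    MonoidAlgebra.liftNCRingHom (pb X.hom) (dsFn x) (fun _ _ => Commute.all _ _)
  obtain ⟨h, hh⟩ := exists_hom_T (MonoidAlgebra k (Multiplicative M)) θ (by
    intro c
    change MonoidAlgebra.liftNCRingHom _ _ _ _ = _
    rw [MonoidAlgebra.coe_algebraMap, Function.comp_apply, MonoidAlgebra.liftNCRingHom_single]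
    simp)
  refine ⟨h, dsFn_ext fun m => ?_⟩
  rw [dsFn_comp, hu, hh]
  change MonoidAlgebra.liftNCRingHom _ _ _ _ = _
  rw [MonoidAlgebra.of_apply, MonoidAlgebra.liftNCRingHom_single]
  simp

end Univ

section LemmaA

open scoped TensorProduct

variable {k : Type u} [CommRing k] [IsDomain k] {M N : Type} [AddCommGroup M] [AddCommGroup N]

local notation "Sk" => Spec (CommRingCat.of k)

omit [IsDomain k] in
/-- the values of a group homomorphism on the universal point are group-like -/
theorem isGroupLike_of_hom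
    (u : T k (MonoidAlgebra k (Multiplicative M)) ⟶ Red.DS (Spec (CommRingCat.of k)) M)
    (hu : ∀ m, dsFn u m = gam k _ (MonoidAlgebra.of k (Multiplicative M) m))
    (f : Red.DS (Spec (CommRingCat.of k)) M ⟶ Red.DS (Spec (CommRingCat.of k)) N) [IsMonHom f]
    (n : Multiplicative N) :
    IsGroupLikeElem k ((gam k (MonoidAlgebra k (Multiplicative M))).symm (dsFn (u ≫ f) n)) := by
  set A := MonoidAlgebra k (Multiplicative M) with hA
  set c : A := (gam k A).symm (dsFn (u ≫ f) n) with hc
  have hgc : gam k A c = dsFn (u ≫ f) n := (gam k A).apply_symm_apply _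
  have hunit : IsUnit c := (dsFn_isUnit (u ≫ f) n).map (gam k A).symm
  let iL : A →ₐ[k] A ⊗[k] A := Algebra.TensorProduct.includeLeft
  let iR : A →ₐ[k] A ⊗[k] A := Algebra.TensorProduct.includeRight
  let Δ : A →ₐ[k] A ⊗[k] A := Bialgebra.comulAlgHom k A
  have hx : (tmap iL ≫ u) * (tmap iR ≫ u) = tmap Δ ≫ u := by
    apply dsFn_ext
    intro m
    rw [dsFn_mul, dsFn_comp, dsFn_comp, dsFn_comp, hu, tmap_appTop, tmap_appTop, tmap_appTop,
      ← map_mul]
    congr 1
    change (MonoidAlgebra.of k (Multiplicative M) m) ⊗ₜ[k] (1 : A) * (1 : A) ⊗ₜ[k] (MonoidAlgebra.of k (Multiplicative M) m) =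
      Coalgebra.comul (R := k) (MonoidAlgebra.of k (Multiplicative M) m)
    rw [MonoidAlgebra.of_apply, MonoidAlgebra.comul_single, Algebra.TensorProduct.tmul_mul_tmul,
      _root_.mul_one, _root_.one_mul]
    rfl
  have hval : ∀ g : A →ₐ[k] A ⊗[k] A, dsFn ((tmap g ≫ u) ≫ f) n = gam k _ (g c) := by
    intro g
    rw [Category.assoc, dsFn_comp, ← hgc, tmap_appTop]
  have hcomul : Coalgebra.comul (R := k) c = c ⊗ₜ[k] c := by
    have h1 := hval Δ
    rw [← hx, MonObj.mul_comp _ _ f, dsFn_mul, hval, hval, ← map_mul] at h1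
    have h2 := (gam k (A ⊗[k] A)).injective h1
    change c ⊗ₜ[k] (1 : A) * (1 : A) ⊗ₜ[k] c = Coalgebra.comul (R := k) c at h2
    rw [Algebra.TensorProduct.tmul_mul_tmul, _root_.mul_one, _root_.one_mul] at h2
    exact h2.symm
  refine ⟨?_, hcomul⟩
  -- counit
  have h3 := Coalgebra.rTensor_counit_comul (R := k) c
  rw [hcomul, LinearMap.rTensor_tmul] at h3
  have h4 := congrArg (TensorProduct.lid k A) h3
  rw [TensorProduct.lid_tmul, TensorProduct.lid_tmul, one_smul] at h4
  have h5 : Coalgebra.counit (R := k) c • (1 : A) = 1 := by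
    have : (Coalgebra.counit (R := k) c • (1 : A)) * c = 1 * c := by
      rw [smul_mul_assoc, _root_.one_mul, h4]
    exact hunit.mul_right_cancel this
  have h6 := congrArg (Coalgebra.counit (R := k)) h5
  rw [map_smul, Bialgebra.counit_one, smul_eq_mul, _root_.mul_one] at h6
  exact h6

/-- **Lemma A**: over a domain `k`, every homomorphism of group schemes `D(M) ⟶ D(N)` over `Spec k`
is induced by a homomorphism of character groups. -/
theorem exists_DSmap_eq
    (f : Red.DS (Spec (CommRingCat.of k)) M ⟶ Red.DS (Spec (CommRingCat.of k)) N) [IsMonHom f] :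
    ∃ φ : N →+ M, f = Red.DSmap (Spec (CommRingCat.of k)) φ := by
  obtain ⟨u, hu⟩ := exists_univ k M
  set A := MonoidAlgebra k (Multiplicative M) with hA
  have hgl := fun n => (MonoidAlgebra.isGroupLikeElem_iff_mem_range_of (R := k)).mp
    (isGroupLike_of_hom u hu f n)
  choose φ₀ hφ₀ using hgl
  have hgam : ∀ n, dsFn (u ≫ f) n = gam k A (MonoidAlgebra.of k _ (φ₀ n)) := by
    intro n
    rw [hφ₀, RingEquiv.apply_symm_apply]
  have hinj : Function.Injective (MonoidAlgebra.of k (Multiplicative M)) :=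
    MonoidAlgebra.of_injective
  let φm : Multiplicative N →* Multiplicative M :=
    { toFun := φ₀
      map_one' := by
        apply hinj
        apply (gam k A).injective
        rw [← hgam, map_one, map_one, map_one]
      map_mul' := by
        intro a b
        apply hinj
        apply (gam k A).injective
        rw [← hgam, map_mul, map_mul, map_mul, hgam, hgam] }
  refine ⟨AddMonoidHom.toMultiplicative.symm φm, ?_⟩
  have key : ∀ {X : Over (Spec (CommRingCat.of k))} (x : X ⟶ Red.DS (Spec (CommRingCat.of k)) M),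
      x ≫ f = x ≫ Red.DSmap (Spec (CommRingCat.of k)) (AddMonoidHom.toMultiplicative.symm φm) := by
    intro X x
    obtain ⟨h, rfl⟩ := exists_factor u hu x
    apply dsFn_ext
    intro n
    rw [dsFn_DSmap, Equiv.apply_symm_apply, Category.assoc, dsFn_comp h (u ≫ f), hgam,
      dsFn_comp h u, hu]
    rfl
  have := key (𝟙 _)
  rwa [Category.id_comp, Category.id_comp] at this

end LemmaA

section Functoriality

variable {S : Scheme.{u}} {M N P : Type} [AddCommGroup M] [AddCommGroup N] [AddCommGroup P]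

theorem DSmap_comp (φ : N →+ M) (ψ : P →+ N) :
    Red.DSmap S φ ≫ Red.DSmap S ψ = Red.DSmap S (φ.comp ψ) := by
  apply dsFn_ext
  intro p
  rw [dsFn_DSmap, ← Category.id_comp (Red.DSmap S φ), dsFn_DSmap,
    ← Category.id_comp (Red.DSmap S (φ.comp ψ)), dsFn_DSmap]
  rfl

theorem DSmap_id : Red.DSmap S (AddMonoidHom.id M) = 𝟙 _ := by
  apply dsFn_ext
  intro p
  rw [← Category.id_comp (Red.DSmap S (AddMonoidHom.id M)), dsFn_DSmap]
  rfl

theorem DSmap_injective (k : Type u) [CommRing k] [Nontrivial k] (φ φ' : N →+ M)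
    (h : Red.DSmap (Spec (CommRingCat.of k)) φ = Red.DSmap (Spec (CommRingCat.of k)) φ') : φ = φ' := by
  obtain ⟨u, hu⟩ := exists_univ k M
  ext n
  have h1 : dsFn (u ≫ Red.DSmap (Spec (CommRingCat.of k)) φ) (Multiplicative.ofAdd n) =
      dsFn (u ≫ Red.DSmap (Spec (CommRingCat.of k)) φ') (Multiplicative.ofAdd n) := by rw [h]
  rw [dsFn_DSmap, dsFn_DSmap, hu, hu] at h1
  have h2 := MonoidAlgebra.of_injective ((gam k _).injective h1)
  exact congrArg Multiplicative.toAdd h2

end Functoriality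

section Kernel

variable {S : Scheme.{u}} {M N : Type} [AddCommGroup M] [AddCommGroup N]

/-- `D(M/φ(N)) ⟶ D(M)` is a monomorphism -/
theorem DSmap_mono_of_surjective {C : Type} [AddCommGroup C] (q : M →+ C) (hq : Function.Surjective q)
    {X : Over S} (z z' : X ⟶ Red.DS S C) (h : z ≫ Red.DSmap S q = z' ≫ Red.DSmap S q) : z = z' := by
  apply dsFn_ext
  intro c
  obtain ⟨m, rfl⟩ := hq (Multiplicative.toAdd c)
  have := congrArg (fun t => dsFn t (Multiplicative.ofAdd m)) h
  simp only [dsFn_DSmap] at this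
  exact this

/-- points of `D(M)` killed by `D(φ)` lift to `D(M/φ(N))` -/
theorem exists_lift_of_comp_eq_one (φ : N →+ M) {X : Over S} (x : X ⟶ Red.DS S M)
    (hx : x ≫ Red.DSmap S φ = 1) :
    ∃ z : X ⟶ Red.DS S (M ⧸ φ.range), z ≫ Red.DSmap S (QuotientAddGroup.mk' φ.range) = x := by
  let a : M →+ Additive Γ(X.left, ⊤) := MonoidHom.toAdditiveRight (dsFn x)
  have ha : ∀ m ∈ φ.range, a m = 0 := by
    rintro _ ⟨n, rfl⟩
    have h1 : dsFn (x ≫ Red.DSmap S φ) (Multiplicative.ofAdd n) = 1 := by rw [hx, dsFn_one]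
    rw [dsFn_DSmap] at h1
    exact congrArg Additive.ofMul h1
  let abar : M ⧸ φ.range →+ Additive Γ(X.left, ⊤) := QuotientAddGroup.lift φ.range a ha
  obtain ⟨z, hz⟩ := dsFn_surjective (S := S) (X := X) (M := M ⧸ φ.range)
    (AddMonoidHom.toMultiplicativeLeft abar)
  refine ⟨z, dsFn_ext fun m => ?_⟩
  rw [dsFn_DSmap, hz]
  rfl

end Kernel

section LemmaBD

variable {k : Type u} [CommRing k] [IsDomain k] {M N : Type} [AddCommGroup M] [AddCommGroup N]

/-- **Lemma B**: isomorphic diagonalizable groups over a domain have isomorphic character groups -/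
theorem nonempty_addEquiv_of_iso
    (e : Red.DS (Spec (CommRingCat.of k)) M ≅ Red.DS (Spec (CommRingCat.of k)) N) [IsMonHom e.hom] :
    Nonempty (M ≃+ N) := by
  obtain ⟨α, hα⟩ := exists_DSmap_eq e.hom
  obtain ⟨β, hβ⟩ := exists_DSmap_eq e.inv
  have h1 : α.comp β = AddMonoidHom.id M := by
    apply DSmap_injective k
    rw [← DSmap_comp, ← hα, ← hβ, e.hom_inv_id, DSmap_id]
  have h2 : β.comp α = AddMonoidHom.id N := by
    apply DSmap_injective k
    rw [← DSmap_comp, ← hα, ← hβ, e.inv_hom_id, DSmap_id]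
  exact ⟨{ toFun := β, invFun := α, left_inv := fun m => DFunLike.congr_fun h1 m,
           right_inv := fun n => DFunLike.congr_fun h2 n, map_add' := β.map_add }⟩

omit [IsDomain k] in
/-- **Lemma D**: if `D(φ)` is an epimorphism then `φ` is injective -/
theorem injective_of_epi [Nontrivial k] (φ : N →+ M) [Epi (Red.DSmap (Spec (CommRingCat.of k)) φ)] :
    Function.Injective φ := by
  rw [injective_iff_map_eq_zero]
  intro n hn
  have h : Red.DSmap (Spec (CommRingCat.of k)) φ ≫ Red.DSmap (Spec (CommRingCat.of k)) (zmultiplesHom N n) =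
      Red.DSmap (Spec (CommRingCat.of k)) φ ≫ Red.DSmap (Spec (CommRingCat.of k)) (zmultiplesHom N 0) := by
    rw [DSmap_comp, DSmap_comp]
    congr 1
    ext
    simp [hn]
  have h2 := DSmap_injective k _ _ ((cancel_epi _).mp h)
  exact (zmultiplesHom N).injective h2

end LemmaBD

section Split

/-- an injection of abelian groups with free cokernel has a retraction -/
theorem exists_retraction {N M : Type} [AddCommGroup N] [AddCommGroup M] (φ : N →+ M)
    (hφ : Function.Injective φ) (r : ℕ) (e : (M ⧸ φ.range) ≃+ (Fin r → ℤ)) :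
    ∃ ψ : M →+ N, ψ.comp φ = AddMonoidHom.id N := by
  have : Module.Free ℤ (M ⧸ φ.range) := Module.Free.of_equiv e.toIntLinearEquiv.symm
  let q : M →ₗ[ℤ] (M ⧸ φ.range) := (QuotientAddGroup.mk' φ.range).toIntLinearMap
  have hq : Function.Surjective q := QuotientAddGroup.mk'_surjective _
  obtain ⟨σ, hσ⟩ := Module.projective_lifting_property q LinearMap.id hq
  have hmem : ∀ m : M, m - σ (q m) ∈ φ.range := by
    intro m
    rw [← QuotientAddGroup.eq_zero_iff]
    have : q (σ (q m)) = q m := LinearMap.congr_fun hσ (q m)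
    change q (m - σ (q m)) = 0
    rw [map_sub, this, sub_self]
  choose ψ₀ hψ₀ using hmem
  refine ⟨AddMonoidHom.mk' ψ₀ ?_, ?_⟩
  · intro a b
    apply hφ
    rw [map_add, hψ₀, hψ₀, hψ₀, map_add, map_add]
    abel
  · ext n
    apply hφ
    change φ (ψ₀ (φ n)) = φ n
    rw [hψ₀]
    have : q (φ n) = 0 := by
      change (QuotientAddGroup.mk' φ.range) (φ n) = 0
      rw [QuotientAddGroup.mk'_apply, QuotientAddGroup.eq_zero_iff]
      exact ⟨n, rfl⟩
    rw [this, map_zero, sub_zero]

end Split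

section Main

variable {S : Scheme.{u}}

theorem exists_iso_of_grpIso {G H : Over S} [GrpObj G] [GrpObj H]
    (h : Nonempty (Grp.mk G ≅ Grp.mk H)) : ∃ e : G ≅ H, IsMonHom e.hom := by
  obtain ⟨E⟩ := h
  have h1 : E.hom.hom.hom ≫ E.inv.hom.hom = 𝟙 G := by
    show (E.hom ≫ E.inv).hom.hom = _
    rw [E.hom_inv_id]
    rfl
  have h2 : E.inv.hom.hom ≫ E.hom.hom.hom = 𝟙 H := by
    show (E.inv ≫ E.hom).hom.hom = _
    rw [E.inv_hom_id]
    rfl
  exact ⟨⟨E.hom.hom.hom, E.inv.hom.hom, h1, h2⟩, inferInstanceAs (IsMonHom E.hom.hom.hom)⟩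

theorem DSmap_zero {M N : Type} [AddCommGroup M] [AddCommGroup N] :
    Red.DSmap S (0 : N →+ M) = 1 := by
  apply dsFn_ext
  intro n
  rw [← Category.id_comp (Red.DSmap S (0 : N →+ M)), dsFn_DSmap, dsFn_one]
  exact map_one _

theorem main (k : Type u) [Field k]
    (K G Q : Over (Spec (CommRingCat.of k))) [GrpObj K] [GrpObj G] [GrpObj Q] (nK nG nQ : ℕ)
    (hK : Red.IsSplitTorusWith (Fin nK → ℤ) K) (hG : Red.IsSplitTorusWith (Fin nG → ℤ) G)
    (hQ : Red.IsSplitTorusWith (Fin nQ → ℤ) Q)
    (i : K ⟶ G) [IsMonHom i]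
    (π : G ⟶ Q) [IsMonHom π] [Flat π.left] [Surjective π.left] (hker : AlgGrp.IsKernel i π) :
    ∃ s : Q ⟶ G, IsMonHom s ∧ s ≫ π = 𝟙 Q := by
  obtain ⟨eK, hK'⟩ := exists_iso_of_grpIso hK
  obtain ⟨eG, hG'⟩ := exists_iso_of_grpIso hG
  obtain ⟨eQ, hQ'⟩ := exists_iso_of_grpIso hQ
  -- `π` in coordinates
  obtain ⟨φ, hφ⟩ := exists_DSmap_eq (eG.inv ≫ π ≫ eQ.hom)
  have hπ' : Red.DSmap _ φ ≫ eQ.inv = eG.inv ≫ π := by
    rw [← hφ, Category.assoc, Category.assoc, eQ.hom_inv_id, Category.comp_id]
  -- `π` is an epimorphism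
  have : Epi π.left := Flat.epi_of_flat_of_surjective π.left
  have : Epi π := Over.epi_of_epi_left π
  have : Epi (Red.DSmap (Spec (CommRingCat.of k)) φ) := by
    rw [← hφ]
    infer_instance
  have hinj : Function.Injective φ := injective_of_epi (k := k) φ
  -- the kernel
  have hiπ : i ≫ π = 1 := by
    rw [hker.w, Hom.one_def]
  have h1 : (i ≫ eG.hom) ≫ Red.DSmap _ φ = 1 := by
    rw [← hφ, Category.assoc, eG.hom_inv_id_assoc, ← Category.assoc, hiπ]
    exact MonObj.one_comp eQ.hom
  obtain ⟨e₁, he₁⟩ := exists_lift_of_comp_eq_one φ (i ≫ eG.hom) h1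
  have h2 : (Red.DSmap _ (QuotientAddGroup.mk' φ.range) ≫ eG.inv) ≫ π =
      toUnit _ ≫ η[Q] := by
    rw [Category.assoc, ← hπ', ← Category.assoc, DSmap_comp]
    have : (QuotientAddGroup.mk' φ.range).comp φ = 0 := by
      apply AddMonoidHom.ext
      intro n
      change (QuotientAddGroup.mk' φ.range) (φ n) = 0
      rw [QuotientAddGroup.mk'_apply, QuotientAddGroup.eq_zero_iff]
      exact ⟨n, rfl⟩
    rw [this, DSmap_zero, MonObj.one_comp, Hom.one_def]
  let e₂ := hker.lift _ _ h2
  have he₂ : e₂ ≫ i = Red.DSmap _ (QuotientAddGroup.mk' φ.range) ≫ eG.inv := hker.lift_fst _ _ h2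
  have hext : ∀ {X : Over (Spec (CommRingCat.of k))} (z z' : X ⟶ K), z ≫ i = z' ≫ i → z = z' :=
    fun z z' h => hker.hom_ext h (toUnit_unique _ _)
  let E : Red.DS (Spec (CommRingCat.of k)) ((Fin nG → ℤ) ⧸ φ.range) ≅ K :=
    { hom := e₂
      inv := e₁
      hom_inv_id := by
        apply DSmap_mono_of_surjective _ (QuotientAddGroup.mk'_surjective _)
        rw [Category.assoc, he₁, ← Category.assoc, he₂, Category.assoc, eG.inv_hom_id,
          Category.comp_id, Category.id_comp]
      inv_hom_id := by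
        apply hext
        rw [Category.assoc, he₂, ← Category.assoc, he₁, Category.assoc, eG.hom_inv_id,
          Category.comp_id, Category.id_comp] }
  have hE : IsMonHom E.hom := by
    apply isMonHom_of_points
    · apply hext
      rw [Category.assoc, he₂, MonObj.one_comp, MonObj.one_comp]
    · intro X g g'
      apply hext
      rw [Category.assoc, he₂, MonObj.mul_comp, MonObj.mul_comp _ _ i, Category.assoc,
        Category.assoc, he₂]
  have hE2 : IsMonHom (E ≪≫ eK).hom := by
    rw [Iso.trans_hom]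
    infer_instance
  obtain ⟨eC⟩ := nonempty_addEquiv_of_iso (E ≪≫ eK)
  obtain ⟨ψ, hψ⟩ := exists_retraction φ hinj nK eC
  refine ⟨eQ.hom ≫ Red.DSmap _ ψ ≫ eG.inv, inferInstance, ?_⟩
  rw [Category.assoc, Category.assoc, ← hπ', ← Category.assoc (Red.DSmap _ ψ), DSmap_comp, hψ,
    DSmap_id, Category.id_comp, eQ.hom_inv_id]

end Main

end Groth.Agent.H82.TorusHom
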