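import Groth.Agent.H82.ChartComp
import Groth.Agent.H82.TorusHom
import Mathlib

/-! Base change of a chart: if `H' ≅ D_U(M)` over `U` then `bc w H' ≅ D_W(M)` over `W`. -/

set_option autoImplicit false
set_option linter.unusedSectionVars false
universe u

open CategoryTheory MonoidalCategory CartesianMonoidalCategory MonObj AlgebraicGeometry
open CategoryTheory.Limits
open Groth.Agent.H42 Groth.Agent.H40 Magnet
open Groth.Agent.H82.AMonPts Groth.Agent.H82.ChartComp

namespace Groth.Agent.H82.ChartBC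

variable {U W : Scheme.{u}} (w : W ⟶ U) (H' : Over U) [GrpObj H'] {M : Type} [AddCommGroup M]
  (e : H' ≅ AMonS U M) [IsMonHom e.hom]

theorem bcPtM_comp' {Y Y' : Over W} (t : Y' ⟶ Y) (h : Y ⟶ Red.bc w H') :
    bcPtM w H' (t ≫ h) = (Over.map w).map t ≫ bcPtM w H' h :=
  Adjunction.homEquiv_naturality_left_symm _ _ _

/-- characters of a point of `bc w H'`, computed through the chart `e` over `U` -/
noncomputable def chr (Y : Over W) (h : Y ⟶ Red.bc w H') :
    Multiplicative M →* Γ(Y.left, ⊤) :=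
  amFn (S := U) (X := (Over.map w).obj Y) (bcPtM w H' h ≫ e.hom)

theorem chr_mul (Y : Over W) (h h' : Y ⟶ Red.bc w H') (m : Multiplicative M) :
    chr w H' e Y (h * h') m = chr w H' e Y h m * chr w H' e Y h' m := by
  unfold chr
  rw [bcPtM_mul, MonObj.mul_comp, amFn_mul]

theorem chr_comp {Y Y' : Over W} (t : Y' ⟶ Y) (h : Y ⟶ Red.bc w H') (m : Multiplicative M) :
    chr w H' e Y' (t ≫ h) m = t.left.appTop (chr w H' e Y h m) := by
  unfold chr
  rw [bcPtM_comp', Category.assoc, amFn_comp]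
  rfl

/-- forward map on points -/
noncomputable def fwd (Y : Over W) (h : Y ⟶ Red.bc w H') : Y ⟶ AMonS W M :=
  (amFn_surjective (chr w H' e Y h)).choose

theorem amFn_fwd (Y : Over W) (h : Y ⟶ Red.bc w H') :
    amFn (fwd w H' e Y h) = chr w H' e Y h :=
  (amFn_surjective (chr w H' e Y h)).choose_spec

/-- backward map on points -/
noncomputable def bwd (Y : Over W) (x : Y ⟶ AMonS W M) : Y ⟶ Red.bc w H' :=
  ((Over.mapPullbackAdj w).homEquiv Y H') (toU w Y x ≫ e.inv)

theorem bcPtM_bwd (Y : Over W) (x : Y ⟶ AMonS W M) :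
    bcPtM w H' (bwd w H' e Y x) = toU w Y x ≫ e.inv :=
  Equiv.symm_apply_apply _ _

theorem fwd_bwd (Y : Over W) (x : Y ⟶ AMonS W M) : fwd w H' e Y (bwd w H' e Y x) = x := by
  apply amFn_injective
  rw [amFn_fwd]
  unfold chr
  rw [bcPtM_bwd, Category.assoc, e.inv_hom_id, Category.comp_id, amFn_toU]

theorem bwd_fwd (Y : Over W) (h : Y ⟶ Red.bc w H') : bwd w H' e Y (fwd w H' e Y h) = h := by
  apply bcPtM_injective w H'
  rw [bcPtM_bwd]
  have h1 : toU w Y (fwd w H' e Y h) = bcPtM w H' h ≫ e.hom := by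
    apply amFn_injective
    rw [amFn_toU, amFn_fwd]
    rfl
  rw [h1, Category.assoc, e.hom_inv_id, Category.comp_id]

theorem fwd_comp {Y Y' : Over W} (t : Y' ⟶ Y) (h : Y ⟶ Red.bc w H') :
    fwd w H' e Y' (t ≫ h) = t ≫ fwd w H' e Y h := by
  apply amFn_ext
  intro m
  rw [amFn_fwd, chr_comp, amFn_comp, amFn_fwd]

theorem fwd_mul (Y : Over W) (h h' : Y ⟶ Red.bc w H') :
    fwd w H' e Y (h * h') = fwd w H' e Y h * fwd w H' e Y h' := by
  apply amFn_ext
  intro m
  rw [amFn_mul, amFn_fwd, amFn_fwd, amFn_fwd, chr_mul]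

/-- the base-changed chart -/
theorem exists_chart_bc :
    ∃ e' : Red.bc w H' ≅ AMonS W M, IsMonHom e'.hom ∧
      ∀ (Y : Over W) (h : Y ⟶ Red.bc w H'), amFn (h ≫ e'.hom) = chr w H' e Y h := by
  let e' : Red.bc w H' ≅ AMonS W M :=
    Yoneda.ext _ _ (fun {Y} h => fwd w H' e Y h) (fun {Y} x => bwd w H' e Y x)
      (fun {Y} h => bwd_fwd w H' e Y h) (fun {Y} x => fwd_bwd w H' e Y x)
      (fun {Y Y'} t h => fwd_comp w H' e t h)
  have he' : ∀ (Y : Over W) (h : Y ⟶ Red.bc w H'), h ≫ e'.hom = fwd w H' e Y h := by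
    intro Y h
    have h1 : e'.hom = fwd w H' e _ (𝟙 _) := rfl
    rw [h1, ← fwd_comp, Category.comp_id]
  refine ⟨e', ?_, fun Y h => ?_⟩
  · apply isMonHom_of_points
    · rw [he']
      apply amFn_ext
      intro m
      have h2 := congrArg (fun f => amFn f m)
        (fwd_mul w H' e _ (1 : 𝟙_ (Over W) ⟶ Red.bc w H') 1)
      beta_reduce at h2
      rw [_root_.mul_one, amFn_mul] at h2
      have hu : IsUnit (amFn (fwd w H' e _ (1 : 𝟙_ (Over W) ⟶ Red.bc w H')) m) :=
        (Group.isUnit m).map _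
      rw [amFn_one]
      exact hu.mul_left_cancel (by rw [← h2, _root_.mul_one])
    · intro T a b
      rw [he', he', he', fwd_mul]
  · rw [he', amFn_fwd]

/-- a group split with character group `M` stays split after any base change -/
theorem exists_chart_of_split {S B : Scheme.{u}} (g : B ⟶ S) (T : Over S) [GrpObj T]
    (hT : Nonempty (Grp.mk T ≅ Grp.mk (Red.DS S M))) :
    ∃ e' : Red.bc g T ≅ AMonS B M, IsMonHom e'.hom := by
  obtain ⟨e, he⟩ := TorusHom.exists_iso_of_grpIso hT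
  obtain ⟨e', he', -⟩ := exists_chart_bc g T (M := M) e
  exact ⟨e', he'⟩

end Groth.Agent.H82.ChartBC
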