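import Groth.Agent.H82.HomLoc
import Groth.Agent.H82.TorusHom
import Mathlib

/-! Two diagonalizable charts of the same group near points with the same image have isomorphic
character groups. -/

set_option autoImplicit false
set_option linter.unusedSectionVars false
universe u

open CategoryTheory MonoidalCategory CartesianMonoidalCategory MonObj AlgebraicGeometry
open CategoryTheory.Limits
open Groth.Agent.H42 Groth.Agent.H40 Magnet
open Groth.Agent.H82.AMonPts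

namespace Groth.Agent.H82.ChartRank

variable {S : Scheme.{u}}

theorem chart_congr {B : Scheme.{u}} {g g' : B ⟶ S} (h : g = g') (H : Over S) [GrpObj H]
    {M : Type} [AddCommGroup M] (e : Red.bc g H ≅ AMonS B M) [IsMonHom e.hom] :
    ∃ e' : Red.bc g' H ≅ AMonS B M, IsMonHom e'.hom := by
  subst h
  exact ⟨e, inferInstance⟩

theorem nonempty_addEquiv_of_charts {B₁ B₂ : Scheme.{u}} (H : Over S) [GrpObj H]
    (g₁ : B₁ ⟶ S) (g₂ : B₂ ⟶ S) {M₁ M₂ : Type} [AddCommGroup M₁] [AddCommGroup M₂]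
    (e₁ : Red.bc g₁ H ≅ AMonS B₁ M₁) [IsMonHom e₁.hom]
    (e₂ : Red.bc g₂ H ≅ AMonS B₂ M₂) [IsMonHom e₂.hom]
    (b₁ : B₁) (b₂ : B₂) (hb : g₁ b₁ = g₂ b₂) : Nonempty (M₁ ≃+ M₂) := by
  obtain ⟨ζ, -, -⟩ := Scheme.Pullback.exists_preimage_pullback (f := g₁) (g := g₂) b₁ b₂ hb
  let ℓ := (pullback g₁ g₂).fromSpecResidueField ζ
  obtain ⟨e₁', he₁', -⟩ := ChartComp.exists_chart_comp g₁ (ℓ ≫ pullback.fst g₁ g₂) H e₁
  obtain ⟨e₂', he₂', -⟩ := ChartComp.exists_chart_comp g₂ (ℓ ≫ pullback.snd g₁ g₂) H e₂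
  have hcomm : (ℓ ≫ pullback.snd g₁ g₂) ≫ g₂ = (ℓ ≫ pullback.fst g₁ g₂) ≫ g₁ := by
    rw [Category.assoc, Category.assoc, pullback.condition]
  obtain ⟨e₂'', he₂''⟩ := chart_congr hcomm H e₂'
  let E : AMonS (Spec ((pullback g₁ g₂).residueField ζ)) M₁ ≅
      AMonS (Spec ((pullback g₁ g₂).residueField ζ)) M₂ := e₁'.symm ≪≫ e₂''
  haveI : IsMonHom E.hom := by
    change IsMonHom (e₁'.inv ≫ e₂''.hom)
    infer_instance
  exact TorusHom.nonempty_addEquiv_of_iso (k := (pullback g₁ g₂).residueField ζ) E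

theorem rank_eq_of_addEquiv {r r' : ℕ} (h : Nonempty ((Fin r → ℤ) ≃+ (Fin r' → ℤ))) : r = r' := by
  obtain ⟨e⟩ := h
  have h1 := LinearEquiv.finrank_eq e.toIntLinearEquiv
  rwa [Module.finrank_fin_fun, Module.finrank_fin_fun] at h1

end Groth.Agent.H82.ChartRank
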