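import Groth.Agent.H82.MonoLocus
import Groth.Agent.H82.ChartBC

/-! Groups which are fpqc-locally diagonalizable, with a predicate on the character groups; honest
local charts for a homomorphism between two of them. -/

set_option autoImplicit false
set_option linter.unusedSectionVars false
universe u

open CategoryTheory MonoidalCategory CartesianMonoidalCategory MonObj AlgebraicGeometry
open CategoryTheory.Limits
open Groth.Agent.H42 Groth.Agent.H40 Magnet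
open Groth.Agent.H82.AMonPts Groth.Agent.H82.GroupIso Groth.Agent.H82.ChartComp

namespace Groth.Agent.H82.LocDiag

/-- converse of `singleton_mem_fpqcPrecoverage_of_image` -/
theorem image_of_singleton_mem_fpqcPrecoverage {Z Y : Scheme.{u}} (q : Z ⟶ Y)
    (h : Presieve.singleton q ∈ Scheme.fpqcPrecoverage Y) :
    Flat q ∧ Surjective q ∧ ∀ V : Y.Opens, IsAffineOpen V →
      ∃ W : Z.Opens, IsCompact (W : Set Z) ∧ q.base '' (W : Set Z) = (V : Set Y) := by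
  obtain ⟨h1, h2⟩ := h
  rw [Scheme.singleton_mem_precoverage_iff] at h2
  refine ⟨h2.2, ⟨h2.1⟩, fun V hV => ?_⟩
  rw [← PreZeroHypercover.presieve₀_singleton.{_, _, 0}, Scheme.presieve₀_mem_qcPrecoverage_iff] at h1
  have h3 := h1.1 hV
  rw [IsCompactOpenCovered.iff_of_unique] at h3
  obtain ⟨W, hW, hWV⟩ := h3
  exact ⟨W, hW, hWV⟩

variable {S : Scheme.{u}}

/-- fpqc-locally, then Zariski-locally, diagonalizable with character group satisfying `PP` -/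
def IsLocDiag (PP : ∀ (M : Type) [AddCommGroup M], Prop) (G : Over S) [GrpObj G] : Prop :=
  ∃ (S' : Scheme.{u}) (f : S' ⟶ S), Flat f ∧ Surjective f ∧
    (∀ V : S.Opens, IsAffineOpen V → ∃ W : S'.Opens, IsCompact (W : Set S') ∧ f.base '' (W : Set S') = (V : Set S)) ∧
    ∀ s' : S', ∃ U : S'.Opens, s' ∈ U ∧ ∃ (M : Type) (_ : AddCommGroup M), PP M ∧
      Nonempty (Grp.mk (Red.bc (U.ι ≫ f) G) ≅ Grp.mk (Red.DS (U : Scheme.{u}) M))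

/-- free of finite rank -/
def FreeFin (M : Type) [AddCommGroup M] : Prop := ∃ r : ℕ, Nonempty (M ≃+ (Fin r → ℤ))

theorem isLocDiag_of_isMultTypeFT {G : Over S} [GrpObj G] (h : SGA3x.IsMultTypeFT G) :
    IsLocDiag (fun M _ => AddGroup.FG M) G := h

theorem isLocDiag_of_isTorus {G : Over S} [GrpObj G] (h : Red.IsTorus G) :
    IsLocDiag (fun M _ => FreeFin M) G := by
  obtain ⟨S', f, h1, h2, h3, h4⟩ := h
  refine ⟨S', f, h1, h2, h3, fun s' => ?_⟩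
  obtain ⟨U, hU, r, hr⟩ := h4 s'
  exact ⟨U, hU, Fin r → ℤ, inferInstance, ⟨r, ⟨AddEquiv.refl _⟩⟩, hr⟩

theorem fg_of_freeFin (M : Type) [AddCommGroup M] (h : FreeFin M) : AddGroup.FG M := by
  obtain ⟨r, ⟨e⟩⟩ := h
  have h1 : AddGroup.FG (Fin r → ℤ) := Module.Finite.iff_addGroup_fg.mp inferInstance
  have : Module.Finite ℤ (Fin r → ℤ) := inferInstance
  have h2 : Module.Finite ℤ M := Module.Finite.equiv e.symm.toIntLinearEquiv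
  exact Module.Finite.iff_addGroup_fg.mp h2


section Restrict

variable {B : Scheme.{u}} (g : B ⟶ S) {H₁ H₂ : Over S} [GrpObj H₁] [GrpObj H₂]
  (u : H₁ ⟶ H₂) [IsMonHom u]
  {M₁ M₂ : Type} [AddCommGroup M₁] [AddCommGroup M₂]
  (e₁ : Red.bc g H₁ ≅ AMonS B M₁) [IsMonHom e₁.hom]
  (e₂ : Red.bc g H₂ ≅ AMonS B M₂) [IsMonHom e₂.hom]
  (V : B.Opens) (φ : M₂ →+ M₁)
  (hV : ∀ (T : Over B) (h : T ⟶ AMonS B M₁), (∀ z, T.hom z ∈ V) →
    h ≫ HomLoc.cH g u e₁ e₂ = h ≫ AMonS.map B φ)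
  (e₁' : Red.bc (V.ι ≫ g) H₁ ≅ AMonS (V : Scheme.{u}) M₁) [IsMonHom e₁'.hom]
  (h₁ : ∀ (Y : Over (V : Scheme.{u})) (h : Y ⟶ Red.bc (V.ι ≫ g) H₁),
    amFn (h ≫ e₁'.hom) = chr g V.ι H₁ e₁ Y h)
  (e₂' : Red.bc (V.ι ≫ g) H₂ ≅ AMonS (V : Scheme.{u}) M₂) [IsMonHom e₂'.hom]
  (h₂ : ∀ (Y : Over (V : Scheme.{u})) (h : Y ⟶ Red.bc (V.ι ≫ g) H₂),
    amFn (h ≫ e₂'.hom) = chr g V.ι H₂ e₂ Y h)

include hV h₁ h₂ in
/-- a local description of a homomorphism in charts becomes an honest equality over the open -/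
theorem cH_restrict : HomLoc.cH (V.ι ≫ g) u e₁' e₂' = AMonS.map (V : Scheme.{u}) φ := by
  apply amFn_ext
  intro m
  have hland : ∀ z, ((Over.map V.ι).obj (AMonS (V : Scheme.{u}) M₁)).hom z ∈ V := by
    intro z
    change ((AMonS (V : Scheme.{u}) M₁).hom ≫ V.ι) z ∈ V
    rw [Scheme.Hom.comp_apply]
    exact ((AMonS (V : Scheme.{u}) M₁).hom z).2
  have e1 : HomLoc.cH (V.ι ≫ g) u e₁' e₂' =
      (e₁'.inv ≫ (Over.pullback (V.ι ≫ g)).map u) ≫ e₂'.hom := by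
    unfold HomLoc.cH
    rw [Category.assoc]
  rw [e1, h₂]
  unfold chr
  rw [LocIso.ptEquiv_map, HomLoc.comp_bc_eq g u e₁ e₂, Category.assoc, Iso.inv_hom_id,
    Category.comp_id, hV _ _ hland, amFn_map]
  have e2 : amFn (S := B) (X := (Over.map V.ι).obj (AMonS (V : Scheme.{u}) M₁))
      (ptEquiv g V.ι H₁ (AMonS (V : Scheme.{u}) M₁) e₁'.inv ≫ e₁.hom) =
      chr g V.ι H₁ e₁ (AMonS (V : Scheme.{u}) M₁) e₁'.inv := rfl
  rw [e2, ← h₁, Iso.inv_hom_id]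
  have e3 : AMonS.map (V : Scheme.{u}) φ = 𝟙 _ ≫ AMonS.map (V : Scheme.{u}) φ :=
    (Category.id_comp _).symm
  rw [e3, amFn_map]

end Restrict


/-- common honest charts for a homomorphism of two locally diagonalizable groups -/
theorem exists_local_chart {G H : Over S} [GrpObj G] [GrpObj H]
    {PP₁ PP₂ : ∀ (M : Type) [AddCommGroup M], Prop}
    (hG : IsLocDiag PP₁ G) (hH : IsLocDiag PP₂ H)
    (hfg : ∀ (M : Type) [AddCommGroup M], PP₂ M → AddGroup.FG M)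
    (u : G ⟶ H) [IsMonHom u] :
    ∃ (P : Scheme.{u}) (π : P ⟶ S), Presieve.singleton π ∈ Scheme.fpqcPrecoverage S ∧
      ∀ z : P, ∃ (V : Scheme.{u}) (j : V ⟶ P) (t : V ⟶ S), IsOpenImmersion j ∧ j ≫ π = t ∧
        z ∈ Set.range j ∧ ∃ (M₁ M₂ : Type) (_ : AddCommGroup M₁) (_ : AddCommGroup M₂),
          PP₁ M₁ ∧ PP₂ M₂ ∧ ∃ (e₁ : Red.bc t G ≅ AMonS V M₁) (e₂ : Red.bc t H ≅ AMonS V M₂)
            (φ : M₂ →+ M₁), IsMonHom e₁.hom ∧ IsMonHom e₂.hom ∧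
              e₁.inv ≫ (Over.pullback t).map u ≫ e₂.hom = AMonS.map V φ := by
  obtain ⟨S₁, f₁, hflat₁, hsurj₁, hqc₁, htriv₁⟩ := hG
  obtain ⟨S₂, f₂, hflat₂, hsurj₂, hqc₂, htriv₂⟩ := hH
  have h₁ : Presieve.singleton f₁ ∈ Scheme.fpqcPrecoverage S :=
    Groth.Agent.H40.CD.singleton_mem_fpqcPrecoverage_of_image f₁ hsurj₁ hflat₁ hqc₁
  have h₂ : Presieve.singleton f₂ ∈ Scheme.fpqcPrecoverage S :=
    Groth.Agent.H40.CD.singleton_mem_fpqcPrecoverage_of_image f₂ hsurj₂ hflat₂ hqc₂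
  let π : Limits.pullback f₁ f₂ ⟶ S := Limits.pullback.fst f₁ f₂ ≫ f₁
  have hπ : Presieve.singleton π ∈ Scheme.fpqcPrecoverage S :=
    Groth.Agent.H40.singleton_comp_mem_fpqcPrecoverage _ _
      (Groth.Agent.H40.CD.singleton_mem_fpqcPrecoverage_of_isPullback h₂
        (IsPullback.of_hasPullback f₁ f₂)) h₁
  refine ⟨_, π, hπ, fun z => ?_⟩
  obtain ⟨U₁, hz₁, M₁, iM₁, hP₁, hs₁⟩ := htriv₁ (Limits.pullback.fst f₁ f₂ z)
  obtain ⟨U₂, hz₂, M₂, iM₂, hP₂, hs₂⟩ := htriv₂ (Limits.pullback.snd f₁ f₂ z)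
  obtain ⟨e₁, he₁⟩ := Groth.Agent.H82.TorusHom.exists_iso_of_grpIso hs₁
  obtain ⟨e₂, he₂⟩ := Groth.Agent.H82.TorusHom.exists_iso_of_grpIso hs₂
  let V₀ : (Limits.pullback f₁ f₂).Opens :=
    (Limits.pullback.fst f₁ f₂) ⁻¹ᵁ U₁ ⊓ (Limits.pullback.snd f₁ f₂) ⁻¹ᵁ U₂
  have hzV₀ : z ∈ V₀ := ⟨hz₁, hz₂⟩
  let w₁ : (V₀ : Scheme.{u}) ⟶ (U₁ : Scheme.{u}) :=
    IsOpenImmersion.lift U₁.ι (V₀.ι ≫ Limits.pullback.fst f₁ f₂) (by
      rintro _ ⟨w, rfl⟩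
      rw [Scheme.Opens.range_ι]
      exact w.2.1)
  let w₂ : (V₀ : Scheme.{u}) ⟶ (U₂ : Scheme.{u}) :=
    IsOpenImmersion.lift U₂.ι (V₀.ι ≫ Limits.pullback.snd f₁ f₂) (by
      rintro _ ⟨w, rfl⟩
      rw [Scheme.Opens.range_ι]
      exact w.2.2)
  have hw₁ : w₁ ≫ U₁.ι = V₀.ι ≫ Limits.pullback.fst f₁ f₂ := IsOpenImmersion.lift_fac _ _ _
  have hw₂ : w₂ ≫ U₂.ι = V₀.ι ≫ Limits.pullback.snd f₁ f₂ := IsOpenImmersion.lift_fac _ _ _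
  have hg₁ : w₁ ≫ (U₁.ι ≫ f₁) = V₀.ι ≫ π := by
    rw [← Category.assoc, hw₁, Category.assoc]
  have hg₂ : w₂ ≫ (U₂.ι ≫ f₂) = V₀.ι ≫ π := by
    rw [← Category.assoc, hw₂, Category.assoc, ← Limits.pullback.condition]
  obtain ⟨e₁', he₁', -⟩ := Groth.Agent.H82.ChartComp.exists_chart_comp (U₁.ι ≫ f₁) w₁ G e₁
  obtain ⟨e₁'', he₁''⟩ := Groth.Agent.H82.ChartRank.chart_congr hg₁ G e₁'
  obtain ⟨e₂', he₂', -⟩ := Groth.Agent.H82.ChartComp.exists_chart_comp (U₂.ι ≫ f₂) w₂ H e₂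
  obtain ⟨e₂'', he₂''⟩ := Groth.Agent.H82.ChartRank.chart_congr hg₂ H e₂'
  obtain ⟨V, φ, hzV, hV⟩ := Groth.Agent.H82.HomLoc.exists_local_hom (V₀.ι ≫ π) u e₁'' e₂''
    (hfg M₂ hP₂) ⟨z, hzV₀⟩
  obtain ⟨a₁, ha₁, hc₁⟩ := Groth.Agent.H82.ChartComp.exists_chart_comp (V₀.ι ≫ π) V.ι G e₁''
  obtain ⟨a₂, ha₂, hc₂⟩ := Groth.Agent.H82.ChartComp.exists_chart_comp (V₀.ι ≫ π) V.ι H e₂''
  have hres := cH_restrict (V₀.ι ≫ π) u e₁'' e₂'' V φ hV a₁ hc₁ a₂ hc₂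
  exact ⟨V, V.ι ≫ V₀.ι, V.ι ≫ V₀.ι ≫ π, inferInstance, Category.assoc _ _ _,
    ⟨⟨⟨z, hzV₀⟩, hzV⟩, rfl⟩, M₁, M₂, iM₁, iM₂, hP₁, hP₂, a₁, a₂, φ, ha₁, ha₂, hres⟩

end Groth.Agent.H82.LocDiag
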