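import Groth.Agent.H82.ChartComp
import Groth.Agent.H82.ChartBC
import Groth.Agent.H82.ChartRank
import Groth.Agent.H82.LocDiag

/-! Iterated base change of a group, and stability of "multiplicative type of finite type" under
base change. -/

set_option autoImplicit false
set_option linter.unusedSectionVars false
universe u

open CategoryTheory MonoidalCategory CartesianMonoidalCategory MonObj AlgebraicGeometry
open CategoryTheory.Limits
open Groth.Agent.H42 Groth.Agent.H40 Magnet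
open Groth.Agent.H82.AMonPts Groth.Agent.H82.GroupIso Groth.Agent.H82.ChartComp

namespace Groth.Agent.H82.BCMult

variable {S U W : Scheme.{u}} (g : U ⟶ S) (w : W ⟶ U) (H : Over S) [GrpObj H]

/-- forward map on points -/
noncomputable def fwd (Y : Over W) (h : Y ⟶ Red.bc (w ≫ g) H) : Y ⟶ Red.bc w (Red.bc g H) :=
  ((Over.mapPullbackAdj w).homEquiv Y (Red.bc g H)) (ptEquiv g w H Y h)

theorem bcPtM_fwd (Y : Over W) (h : Y ⟶ Red.bc (w ≫ g) H) :
    bcPtM w (Red.bc g H) (fwd g w H Y h) = ptEquiv g w H Y h :=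
  Equiv.symm_apply_apply _ _

/-- backward map on points -/
noncomputable def bwd (Y : Over W) (x : Y ⟶ Red.bc w (Red.bc g H)) : Y ⟶ Red.bc (w ≫ g) H :=
  (ptEquiv g w H Y).symm (bcPtM w (Red.bc g H) x)

theorem fwd_bwd (Y : Over W) (x : Y ⟶ Red.bc w (Red.bc g H)) : fwd g w H Y (bwd g w H Y x) = x := by
  apply bcPtM_injective w (Red.bc g H)
  rw [bcPtM_fwd]
  unfold bwd
  rw [Equiv.apply_symm_apply]

theorem bwd_fwd (Y : Over W) (h : Y ⟶ Red.bc (w ≫ g) H) : bwd g w H Y (fwd g w H Y h) = h := by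
  unfold bwd
  rw [bcPtM_fwd, Equiv.symm_apply_apply]

theorem fwd_comp {Y Y' : Over W} (t : Y' ⟶ Y) (h : Y ⟶ Red.bc (w ≫ g) H) :
    fwd g w H Y' (t ≫ h) = t ≫ fwd g w H Y h := by
  apply bcPtM_injective w (Red.bc g H)
  rw [bcPtM_fwd, ptEquiv_comp, ChartBC.bcPtM_comp', bcPtM_fwd]

theorem fwd_mul (Y : Over W) (h h' : Y ⟶ Red.bc (w ≫ g) H) :
    fwd g w H Y (h * h') = fwd g w H Y h * fwd g w H Y h' := by
  apply bcPtM_injective w (Red.bc g H)
  rw [bcPtM_mul, bcPtM_fwd, bcPtM_fwd, bcPtM_fwd, ptEquiv_mul]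

/-- a morphism of group objects which is multiplicative on points is a homomorphism -/
theorem isMonHom_of_mul {C : Type*} [Category C] [CartesianMonoidalCategory C] {G Q : C}
    [GrpObj G] [GrpObj Q] (φ : G ⟶ Q)
    (hmul : ∀ (T : C) (a b : T ⟶ G), (a * b) ≫ φ = (a ≫ φ) * (b ≫ φ)) : IsMonHom φ := by
  apply isMonHom_of_points _ _ hmul
  have h := hmul _ (1 : 𝟙_ C ⟶ G) 1
  rw [_root_.mul_one] at h
  exact (mul_eq_left.mp h.symm)

/-- iterated base change is base change along the composite, as groups -/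
theorem exists_assoc_iso :
    ∃ φ : Red.bc (w ≫ g) H ≅ Red.bc w (Red.bc g H), IsMonHom φ.hom ∧
      ∀ (Y : Over W) (h : Y ⟶ Red.bc (w ≫ g) H),
        bcPtM w (Red.bc g H) (h ≫ φ.hom) = ptEquiv g w H Y h := by
  let φ : Red.bc (w ≫ g) H ≅ Red.bc w (Red.bc g H) :=
    Yoneda.ext _ _ (fun {Y} h => fwd g w H Y h) (fun {Y} x => bwd g w H Y x)
      (fun {Y} h => bwd_fwd g w H Y h) (fun {Y} x => fwd_bwd g w H Y x)
      (fun {Y Y'} t h => fwd_comp g w H t h)
  have hφ : ∀ (Y : Over W) (h : Y ⟶ Red.bc (w ≫ g) H), h ≫ φ.hom = fwd g w H Y h := by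
    intro Y h
    have h1 : φ.hom = fwd g w H _ (𝟙 _) := rfl
    rw [h1, ← fwd_comp, Category.comp_id]
  refine ⟨φ, ?_, fun Y h => ?_⟩
  · apply isMonHom_of_mul
    intro T a b
    rw [hφ, hφ, hφ, fwd_mul]
  · rw [hφ, bcPtM_fwd]

/-- multiplicative type of finite type is stable under base change -/
theorem isMultTypeFT_bc {S B : Scheme.{u}} (g : B ⟶ S) {H : Over S} [GrpObj H]
    (hH : SGA3x.IsMultTypeFT H) : SGA3x.IsMultTypeFT (Red.bc g H) := by
  obtain ⟨S₁, f₁, hflat₁, hsurj₁, hqc₁, htriv₁⟩ := hH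
  have h₁ : Presieve.singleton f₁ ∈ Scheme.fpqcPrecoverage S :=
    Groth.Agent.H40.CD.singleton_mem_fpqcPrecoverage_of_image f₁ hsurj₁ hflat₁ hqc₁
  have h₂ : Presieve.singleton (pullback.fst g f₁) ∈ Scheme.fpqcPrecoverage B :=
    Groth.Agent.H40.CD.singleton_mem_fpqcPrecoverage_of_isPullback h₁
      (IsPullback.of_hasPullback g f₁)
  obtain ⟨hflat, hsurj, hqc⟩ := LocDiag.image_of_singleton_mem_fpqcPrecoverage _ h₂
  refine ⟨pullback g f₁, pullback.fst g f₁, hflat, hsurj, hqc, fun z => ?_⟩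
  obtain ⟨U₁, hz₁, M, iM, hM, hs⟩ := htriv₁ (pullback.snd g f₁ z)
  obtain ⟨e, he⟩ := Groth.Agent.H82.TorusHom.exists_iso_of_grpIso hs
  let V : (pullback g f₁).Opens := (pullback.snd g f₁) ⁻¹ᵁ U₁
  let w : (V : Scheme.{u}) ⟶ (U₁ : Scheme.{u}) :=
    IsOpenImmersion.lift U₁.ι (V.ι ≫ pullback.snd g f₁) (by
      rintro _ ⟨x, rfl⟩
      rw [Scheme.Opens.range_ι]
      exact x.2)
  have hw : w ≫ U₁.ι = V.ι ≫ pullback.snd g f₁ := IsOpenImmersion.lift_fac _ _ _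
  have hcomp : w ≫ (U₁.ι ≫ f₁) = (V.ι ≫ pullback.fst g f₁) ≫ g := by
    rw [← Category.assoc, hw, Category.assoc, Category.assoc, pullback.condition]
  obtain ⟨e', he', -⟩ := exists_chart_comp (U₁.ι ≫ f₁) w H e
  obtain ⟨e'', he''⟩ := ChartRank.chart_congr hcomp H e'
  obtain ⟨φ, hφ, -⟩ := exists_assoc_iso g (V.ι ≫ pullback.fst g f₁) H
  let ψ : Red.bc (V.ι ≫ pullback.fst g f₁) (Red.bc g H) ≅ AMonS (V : Scheme.{u}) M :=
    φ.symm ≪≫ e''
  have : IsMonHom ψ.hom := by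
    change IsMonHom (φ.inv ≫ e''.hom)
    infer_instance
  exact ⟨V, hz₁, M, iM, hM, ⟨Grp.mkIso' ψ⟩⟩

end Groth.Agent.H82.BCMult
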