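import Mathlib

set_option autoImplicit false
universe u

namespace Groth.Agent.H82.BinForms

open MvPolynomial Module

variable {K : Type u} [Field K]

/-- binary forms of degree `d` -/
noncomputable abbrev W (K : Type u) [Field K] (d : ℕ) : Submodule K (MvPolynomial (Fin 2) K) :=
  homogeneousSubmodule (Fin 2) K d

theorem finrank_W (d : ℕ) : finrank K (W K d) = d + 1 := by
  classical
  unfold W
  rw [homogeneousSubmodule_eq_finsupp_supported]
  have hset : {e : Fin 2 →₀ ℕ | e.degree = d} =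
      ((Finset.univ : Finset (Fin 2)).finsuppAntidiag d : Set (Fin 2 →₀ ℕ)) := by
    ext e
    simp [Finsupp.degree_eq_sum]
  rw [hset]
  rw [LinearEquiv.finrank_eq (AddMonoidAlgebra.supportedEquivFinsupp _)]
  rw [Module.finrank_finsupp_self]
  rw [Fintype.card_of_subtype ((Finset.univ : Finset (Fin 2)).finsuppAntidiag d)
    (fun x => by simp), Finset.card_finsuppAntidiag_nat_eq_choose]
  simp only [Finset.card_univ, Fintype.card_fin]
  have : 2 + d - 1 = d + 1 := by omega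
  rw [this, Nat.choose_symm_add, Nat.choose_one_right]

instance finite_W (d : ℕ) : Module.Finite K (W K d) :=
  Module.finite_of_finrank_pos (by rw [finrank_W]; omega)

/-- the multiplication pairing followed by a linear map. -/
noncomputable def mulB {Q : Type*} [AddCommGroup Q] [Module K Q] {a b n : ℕ} (hab : a + b = n)
    (ℓ : W K n →ₗ[K] Q) : W K a →ₗ[K] W K b →ₗ[K] Q :=
  LinearMap.mk₂ K (fun g h => ℓ ⟨g.1 * h.1, hab ▸ (IsHomogeneous.mul g.2 h.2)⟩)
    (fun g₁ g₂ h => by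
      rw [← map_add]; congr 1; ext1; simp [add_mul])
    (fun c g h => by
      rw [← map_smul]; congr 1; ext1; simp)
    (fun g h₁ h₂ => by
      rw [← map_add]; congr 1; ext1; simp [mul_add])
    (fun c g h => by
      rw [← map_smul]; congr 1; ext1; simp)

@[simp] lemma mulB_apply {Q : Type*} [AddCommGroup Q] [Module K Q] {a b n : ℕ} (hab : a + b = n)
    (ℓ : W K n →ₗ[K] Q) (g : W K a) (h : W K b) :
    mulB hab ℓ g h = ℓ ⟨g.1 * h.1, hab ▸ (IsHomogeneous.mul g.2 h.2)⟩ := rfl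


theorem exists_secant (n r k : ℕ) (hkn : k ≤ n) (hineq : (r + 1) * (n + 1) ≤ (r + 2) * k)
    (U : Submodule K (MvPolynomial (Fin 2) K)) (hU : U ≤ W K n)
    (hcodim : finrank K U + (r + 1) = n + 1) :
    ∃ g ∈ W K k, g ≠ 0 ∧ ∀ h ∈ W K (n - k), g * h ∈ U := by
  let U' : Submodule K (W K n) := U.comap (W K n).subtype
  have hU' : finrank K U' = finrank K U := (Submodule.comapSubtypeEquivOfLe hU).finrank_eq
  have hQ : finrank K (W K n ⧸ U') = r + 1 := by
    have := Submodule.finrank_quotient_add_finrank U'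
    rw [finrank_W, hU'] at this; omega
  let B := mulB (K := K) (a := k) (b := n - k) (n := n) (by omega) U'.mkQ
  have hlt : finrank K (W K (n - k) →ₗ[K] (W K n ⧸ U')) < finrank K (W K k) := by
    rw [Module.finrank_linearMap, finrank_W, finrank_W, hQ]
    obtain ⟨j, rfl⟩ : ∃ j, n = k + j := ⟨n - k, by omega⟩
    have : k + j - k = j := by omega
    rw [this]
    nlinarith
  have hker := LinearMap.ker_ne_bot_of_finrank_lt (f := B) hlt
  obtain ⟨g, hg, hg0⟩ := (Submodule.ne_bot_iff _).1 hker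
  refine ⟨g.1, g.2, fun h0 => hg0 (Subtype.ext h0), fun h hh => ?_⟩
  have := LinearMap.congr_fun (LinearMap.mem_ker.1 hg) ⟨h, hh⟩
  rw [mulB_apply, LinearMap.zero_apply, Submodule.mkQ_apply, Submodule.Quotient.mk_eq_zero] at this
  exact this


/-- abstract linear algebra: a pairing `V₁ × V₂ → K` with `dim V₁ = dim V₂ + 1` and trivial
right kernel has a one-dimensional left kernel. -/
theorem ker_line {V₁ V₂ : Type*} [AddCommGroup V₁] [Module K V₁] [AddCommGroup V₂] [Module K V₂]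
    [FiniteDimensional K V₁] [FiniteDimensional K V₂] (B : V₁ →ₗ[K] V₂ →ₗ[K] K)
    (hinj : Function.Injective B.flip) (h : finrank K V₁ = finrank K V₂ + 1) :
    ∃ g : V₁, g ≠ 0 ∧ B g = 0 ∧ ∀ g' : V₁, B g' = 0 → ∃ c : K, g' = c • g := by
  have hsurj : Function.Surjective B := LinearMap.flip_injective_iff₁.1 hinj
  have hker : finrank K (LinearMap.ker B) = 1 := by
    have h1 := B.finrank_range_add_finrank_ker
    rw [LinearMap.range_eq_top.2 hsurj, finrank_top, Module.finrank_linearMap, finrank_self] at h1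
    omega
  obtain ⟨g, hg0, hg⟩ := finrank_eq_one_iff'.1 hker
  refine ⟨g.1, fun h0 => hg0 (Subtype.ext h0), LinearMap.mem_ker.1 g.2, fun g' hg' => ?_⟩
  obtain ⟨c, hc⟩ := hg ⟨g', LinearMap.mem_ker.2 hg'⟩
  exact ⟨c, (congrArg Subtype.val hc).symm⟩


theorem existsUnique_trisecant (V : Submodule K (MvPolynomial (Fin 2) K)) (hV : V ≤ W K 5)
    (hdim : finrank K V = 5)
    (hsep : ∀ e ∈ W K 2, e ≠ 0 → ∀ F ∈ W K 5, ∃ v ∈ V, ∃ h ∈ W K 3, F = v + e * h) :
    ∃ g ∈ W K 3, g ≠ 0 ∧ (∀ h ∈ W K 2, g * h ∈ V) ∧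
      ∀ g' ∈ W K 3, (∀ h ∈ W K 2, g' * h ∈ V) → ∃ c : K, g' = c • g := by
  let V' : Submodule K (W K 5) := V.comap (W K 5).subtype
  have hV' : finrank K V' = 5 :=
    ((Submodule.comapSubtypeEquivOfLe hV).finrank_eq).trans hdim
  have hQ : finrank K (W K 5 ⧸ V') = 1 := by
    have := Submodule.finrank_quotient_add_finrank V'
    rw [finrank_W, hV'] at this; omega
  let e : (W K 5 ⧸ V') ≃ₗ[K] K := LinearEquiv.ofFinrankEq _ _ (by rw [hQ, finrank_self])
  let ℓ : W K 5 →ₗ[K] K := e.toLinearMap ∘ₗ V'.mkQ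
  have hℓ : ∀ x : W K 5, ℓ x = 0 ↔ x.1 ∈ V := by
    intro x
    change e (V'.mkQ x) = 0 ↔ _
    rw [LinearEquiv.map_eq_zero_iff, Submodule.mkQ_apply, Submodule.Quotient.mk_eq_zero]
    rfl
  let B := mulB (K := K) (a := 3) (b := 2) (n := 5) rfl ℓ
  have hB : ∀ (g : W K 3) (h : W K 2), B g h = 0 ↔ g.1 * h.1 ∈ V := by
    intro g h
    rw [mulB_apply, hℓ]
  have hinj : Function.Injective B.flip := by
    rw [injective_iff_map_eq_zero]
    intro h hh
    by_contra h0
    have hV5 : W K 5 ≤ V := by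
      intro F hF
      obtain ⟨v, hv, g, hg, rfl⟩ := hsep h.1 h.2 (fun h' => h0 (Subtype.ext h')) F hF
      refine V.add_mem hv ?_
      have h1 : B ⟨g, hg⟩ h = 0 := LinearMap.congr_fun hh ⟨g, hg⟩
      rw [hB] at h1
      rw [mul_comm]; exact h1
    have heq : V = W K 5 := le_antisymm hV hV5
    rw [heq, finrank_W] at hdim
    omega
  obtain ⟨g, hg0, hgB, hg⟩ := ker_line B hinj (by rw [finrank_W, finrank_W])
  refine ⟨g.1, g.2, fun h0 => hg0 (Subtype.ext h0), fun h hh => ?_, ?_⟩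
  · have h1 : B g ⟨h, hh⟩ = 0 := LinearMap.congr_fun hgB ⟨h, hh⟩
    rw [hB] at h1; exact h1
  · intro g' hg' hmul
    have hmem : B ⟨g', hg'⟩ = 0 := by
      ext h
      rw [LinearMap.zero_apply, hB]
      exact hmul h.1 h.2
    obtain ⟨c, hc⟩ := hg ⟨g', hg'⟩ hmem
    exact ⟨c, congrArg Subtype.val hc⟩

end Groth.Agent.H82.BinForms
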