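import Mathlib

set_option autoImplicit false
universe u

open TensorProduct

namespace Groth.Agent.H82.CartanRel

/-- A submodule of a finite module which is everything on all fibres is everything. -/
lemma eq_top_of_baseChange_eq_top {A : Type*} [CommRing A] {M : Type*} [AddCommGroup M]
    [Module A M] [Module.Finite A M] (N : Submodule A M)
    (h : ∀ p : PrimeSpectrum A, N.baseChange p.asIdeal.ResidueField = ⊤) : N = ⊤ := by
  rw [← Submodule.Quotient.subsingleton_iff, ← Module.support_eq_empty_iff (R := A),
    Set.eq_empty_iff_forall_notMem]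
  intro p
  rw [Module.mem_support_iff_nontrivial_residueField_tensorProduct, not_nontrivial_iff_subsingleton]
  set κ := p.asIdeal.ResidueField
  have hsurj : Function.Surjective (N.mkQ.baseChange κ) :=
    LinearMap.lTensor_surjective _ N.mkQ_surjective
  have hker : N.baseChange κ ≤ LinearMap.ker (N.mkQ.baseChange κ) := by
    rw [Submodule.baseChange_eq_span, Submodule.span_le]
    rintro _ ⟨n, hn, rfl⟩
    simp only [mk_apply, SetLike.mem_coe, LinearMap.mem_ker, LinearMap.baseChange_tmul,
      Submodule.mkQ_apply]
    rw [(Submodule.Quotient.mk_eq_zero N).mpr hn, tmul_zero]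
  refine ⟨fun x y => ?_⟩
  obtain ⟨x', rfl⟩ := hsurj x
  obtain ⟨y', rfl⟩ := hsurj y
  have hx : x' ∈ N.baseChange κ := by rw [h p]; trivial
  have hy : y' ∈ N.baseChange κ := by rw [h p]; trivial
  rw [LinearMap.mem_ker.mp (hker hx), LinearMap.mem_ker.mp (hker hy)]

/-- Fitting: generalized kernel plus range is everything. -/
lemma iSup_ker_pow_sup_range_eq_top {K : Type*} [Field K] {V : Type*} [AddCommGroup V]
    [Module K V] [FiniteDimensional K V] (f : V →ₗ[K] V) :
    (⨆ n, LinearMap.ker (f ^ n)) ⊔ LinearMap.range f = ⊤ := by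
  have h := (LinearMap.isCompl_iSup_ker_pow_iInf_range_pow f).sup_eq_top
  rw [eq_top_iff, ← h]
  refine sup_le_sup le_rfl ?_
  refine (iInf_le _ 1).trans ?_
  rw [pow_one]

/-- a direct summand of a finite module is finite -/
lemma finite_of_projective_quotient {A : Type*} [CommRing A] {M : Type*} [AddCommGroup M]
    [Module A M] [Module.Finite A M] (N : Submodule A M) [Module.Projective A (M ⧸ N)] :
    Module.Finite A N := by
  obtain ⟨s, hs⟩ := Module.projective_lifting_property N.mkQ LinearMap.id N.mkQ_surjective
  -- the projection onto N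
  have hmem : ∀ x : M, x - s (N.mkQ x) ∈ N := by
    intro x
    rw [← Submodule.Quotient.mk_eq_zero N, Submodule.Quotient.mk_sub]
    have := LinearMap.congr_fun hs (N.mkQ x)
    simp only [LinearMap.comp_apply, LinearMap.id_apply, Submodule.mkQ_apply] at this
    rw [Submodule.mkQ_apply, this, sub_self]
  let π : M →ₗ[A] N := (LinearMap.id - s ∘ₗ N.mkQ).codRestrict N (fun x => by simpa using hmem x)
  have hπ : Function.Surjective π := by
    intro n
    refine ⟨n, ?_⟩
    ext
    simp [π, (Submodule.Quotient.mk_eq_zero N).mpr n.2]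
  exact Module.Finite.of_surjective π hπ

/-- a retraction onto a submodule with projective quotient -/
lemma exists_retraction {A : Type*} [CommRing A] {M : Type*} [AddCommGroup M]
    [Module A M] (N : Submodule A M) [Module.Projective A (M ⧸ N)] :
    ∃ π : M →ₗ[A] N, ∀ n : N, π n = n := by
  obtain ⟨s, hs⟩ := Module.projective_lifting_property N.mkQ LinearMap.id N.mkQ_surjective
  have hmem : ∀ x : M, x - s (N.mkQ x) ∈ N := by
    intro x
    rw [← Submodule.Quotient.mk_eq_zero N, Submodule.Quotient.mk_sub]
    have := LinearMap.congr_fun hs (N.mkQ x)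
    simp only [LinearMap.comp_apply, LinearMap.id_apply, Submodule.mkQ_apply] at this
    rw [Submodule.mkQ_apply, this, sub_self]
  refine ⟨(LinearMap.id - s ∘ₗ N.mkQ).codRestrict N (fun x => by simpa using hmem x), ?_⟩
  intro n
  ext
  simp [(Submodule.Quotient.mk_eq_zero N).mpr n.2]

end Groth.Agent.H82.CartanRel
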