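import Mathlib

set_option autoImplicit false
universe u

open TensorProduct

namespace Groth.Agent.H82.LieFibre

/-- An element of a module which dies in the fibre at a prime `p` is carried into `p • ⊤` by
an element outside `p`. -/
lemma exists_smul_mem_of_tmul_eq_zero {A : Type*} [CommRing A] {L : Type*} [AddCommGroup L]
    [Module A L] (p : Ideal A) [p.IsPrime] (x : L)
    (hx : (1 : p.ResidueField) ⊗ₜ[A] x = 0) :
    ∃ f : A, f ∉ p ∧ f • x ∈ p • (⊤ : Submodule A L) := by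
  let κ := p.ResidueField
  let N' := (A ⧸ p) ⊗[A] L
  have h1 : (1 : κ) ⊗ₜ[A ⧸ p] ((1 : A ⧸ p) ⊗ₜ[A] x) = 0 := by
    apply (AlgebraTensorModule.cancelBaseChange A (A ⧸ p) κ κ L).injective
    rw [map_zero, AlgebraTensorModule.cancelBaseChange_tmul, one_smul]
    exact hx
  have h2 : (TensorProduct.mk (A ⧸ p) κ N' 1) ((1 : A ⧸ p) ⊗ₜ[A] x) = 0 := h1
  obtain ⟨s, hs⟩ := (IsLocalizedModule.eq_zero_iff (nonZeroDivisors (A ⧸ p))
    (TensorProduct.mk (A ⧸ p) κ N' 1)).mp h2
  obtain ⟨f, hf⟩ := Ideal.Quotient.mk_surjective (s : A ⧸ p)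
  refine ⟨f, ?_, ?_⟩
  · intro hfp
    have : (s : A ⧸ p) = 0 := by rw [← hf]; exact Ideal.Quotient.eq_zero_iff_mem.mpr hfp
    exact nonZeroDivisors.coe_ne_zero s this
  · have h3 : (1 : A ⧸ p) ⊗ₜ[A] (f • x) = 0 := by
      have : (s : A ⧸ p) • ((1 : A ⧸ p) ⊗ₜ[A] x) = 0 := hs
      rw [← hf, TensorProduct.smul_tmul', smul_eq_mul, mul_one] at this
      rw [TensorProduct.tmul_smul, TensorProduct.smul_tmul', Algebra.smul_def, mul_one]
      exact this
    have h4 := congrArg (TensorProduct.quotTensorEquivQuotSMul L p) h3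
    rw [map_zero, ← map_one (Ideal.Quotient.mk p),
      TensorProduct.quotTensorEquivQuotSMul_mk_tmul] at h4
    rw [one_smul] at h4
    exact (Submodule.Quotient.mk_eq_zero _).mp h4

end Groth.Agent.H82.LieFibre
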