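import Groth.Agent.H82.LieFibre1
import Groth.Agent.H82.LieFibre2

set_option autoImplicit false
universe u

open TensorProduct

namespace Groth.Agent.H82.LieFibre

variable {A : Type*} [CommRing A] {L : Type*} [LieRing L] [LieAlgebra A L]

lemma smul_top_sup_span (I : Ideal A) (a : A) :
    (I ⊔ Ideal.span {a}) • (⊤ : Submodule A L) =
      I • (⊤ : Submodule A L) ⊔ (⊤ : Submodule A L).map (LinearMap.lsmul A L a) := by
  rw [Submodule.sup_smul]
  congr 1
  apply le_antisymm
  · rw [Submodule.smul_le]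
    intro r hr n _
    obtain ⟨c, rfl⟩ := Ideal.mem_span_singleton'.mp hr
    exact Submodule.mem_map.mpr ⟨c • n, trivial, by simp [mul_smul]⟩
  · rintro _ ⟨n, -, rfl⟩
    exact Submodule.smul_mem_smul (Ideal.mem_span_singleton_self a) trivial

/-- the set of "bad" ideals -/
def Bad (A : Type*) [CommRing A] (L : Type*) [LieRing L] [LieAlgebra A L] : Set (Ideal A) :=
  {I | ∀ n, ¬ D A L n ≤ I • (⊤ : Submodule A L)}

lemma not_bad_of_lt {I J : Ideal A} (hI : I ∈ Bad A L) (hmax : ∀ z ∈ Bad A L, I ≤ z → z = I)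
    (hIJ : I < J) : ∃ n, D A L n ≤ J • (⊤ : Submodule A L) := by
  by_contra h
  push Not at h
  exact hIJ.ne' (hmax J h hIJ.le)

lemma exists_maximal_bad [Module.Finite A L] (h0 : (⊥ : Ideal A) ∈ Bad A L) :
    ∃ I ∈ Bad A L, ∀ z ∈ Bad A L, I ≤ z → z = I := by
  have := zorn_le_nonempty₀ (Bad A L) ?_ ⊥ h0
  · obtain ⟨m, -, hm⟩ := this
    exact ⟨m, hm.prop, fun z hz hmz => le_antisymm (hm.le_of_ge hz hmz) hmz⟩
  · intro c hc hchain y hy
    refine ⟨sSup c, ?_, fun z hz => le_sSup hz⟩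
    intro n hn
    have hcomp : IsCompactElement (D A L n) :=
      (Submodule.fg_iff_compact _).mp (D_fg n)
    rw [CompleteLattice.isCompactElement_iff_le_of_directed_sSup_le] at hcomp
    have hne : ((fun I : Ideal A => I • (⊤ : Submodule A L)) '' c).Nonempty := ⟨_, y, hy, rfl⟩
    have hdir : DirectedOn (· ≤ ·) ((fun I : Ideal A => I • (⊤ : Submodule A L)) '' c) := by
      rintro _ ⟨I, hI, rfl⟩ _ ⟨J, hJ, rfl⟩
      rcases hchain.total hI hJ with h | h
      · exact ⟨_, ⟨J, hJ, rfl⟩, Submodule.smul_mono_left h, le_rfl⟩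
      · exact ⟨_, ⟨I, hI, rfl⟩, le_rfl, Submodule.smul_mono_left h⟩
    have hle : D A L n ≤ sSup ((fun I : Ideal A => I • (⊤ : Submodule A L)) '' c) := by
      refine hn.trans ?_
      rw [sSup_eq_iSup', Submodule.iSup_smul, sSup_image']
    obtain ⟨_, ⟨I, hI, rfl⟩, hIle⟩ := hcomp _ hne hdir hle
    exact hc hI n hIle

lemma map_lsmul_le_of_mem {I : Ideal A} {a b : A} (hab : a * b ∈ I) :
    (I • (⊤ : Submodule A L) ⊔ (⊤ : Submodule A L).map (LinearMap.lsmul A L b)).map
      (LinearMap.lsmul A L a) ≤ I • (⊤ : Submodule A L) := by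
  rintro _ ⟨y, hy, rfl⟩
  obtain ⟨u, hu, w, hw, rfl⟩ := Submodule.mem_sup.mp hy
  obtain ⟨w', -, rfl⟩ := Submodule.mem_map.mp hw
  simp only [LinearMap.lsmul_apply, smul_add]
  refine add_mem (Submodule.smul_mem _ _ hu) ?_
  rw [← mul_smul]
  exact Submodule.smul_mem_smul hab trivial

theorem nilpotent_of_fibres [Module.Finite A L]
    (h : ∀ (p : Ideal A) [p.IsPrime], LieRing.IsNilpotent (p.ResidueField ⊗[A] L)) :
    LieRing.IsNilpotent L := by
  by_contra hnil
  have h0 : (⊥ : Ideal A) ∈ Bad A L := by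
    intro n hn
    apply hnil
    rw [Submodule.bot_smul, le_bot_iff, ← D_eq] at hn
    exact (LieModule.isNilpotent_iff A L L).mpr ⟨n, (LieSubmodule.toSubmodule_eq_bot _).mp hn⟩
  obtain ⟨I, hI, hmax⟩ := exists_maximal_bad h0
  have hprime : I.IsPrime := by
    rw [Ideal.isPrime_iff]
    refine ⟨?_, ?_⟩
    · rintro rfl
      exact hI 0 (by rw [Submodule.top_smul]; exact le_top)
    · intro a b hab
      by_contra hcon
      push Not at hcon
      obtain ⟨ha, hb⟩ := hcon
      have hlt : ∀ c : A, c ∉ I → I < I ⊔ Ideal.span {c} := fun c hc =>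
        lt_of_le_of_ne le_sup_left fun heq =>
          hc (heq ▸ (Ideal.mem_sup_right (Ideal.mem_span_singleton_self c)))
      obtain ⟨n₁, hn₁⟩ := not_bad_of_lt hI hmax (hlt a ha)
      obtain ⟨n₂, hn₂⟩ := not_bad_of_lt hI hmax (hlt b hb)
      rw [smul_top_sup_span] at hn₁ hn₂
      refine hI (n₁ + n₂) ((D_add_le I a n₁ hn₁ n₂).trans ?_)
      refine sup_le le_rfl ((Submodule.map_mono hn₂).trans (map_lsmul_le_of_mem hab))
  obtain ⟨m, hm⟩ := (LieModule.isNilpotent_iff I.ResidueField (I.ResidueField ⊗[A] L)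
    (I.ResidueField ⊗[A] L)).mp (h I)
  rw [LieSubmodule.lowerCentralSeries_tensor_eq_baseChange] at hm
  have hx : ∀ x ∈ D A L m, ∃ f : A, f ∉ I ∧ f • x ∈ I • (⊤ : Submodule A L) := by
    intro x hx
    apply exists_smul_mem_of_tmul_eq_zero
    have : (1 : I.ResidueField) ⊗ₜ[A] x ∈
        (LieModule.lowerCentralSeries A L L m).baseChange I.ResidueField :=
      LieSubmodule.tmul_mem_baseChange_of_mem 1 (by
        rw [← LieSubmodule.mem_toSubmodule, D_eq]; exact hx)
    rw [hm] at this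
    exact (LieSubmodule.mem_bot _).mp this
  -- common multiplier
  obtain ⟨t, ht⟩ := D_fg (A := A) (L := L) m
  classical
  choose! φ hφ1 hφ2 using hx
  let f : A := ∏ b ∈ t, φ b
  have hf : f ∉ I := by
    intro hfI
    obtain ⟨b, hb, hbI⟩ := (hprime.prod_mem_iff).mp hfI
    exact hφ1 b (ht ▸ Submodule.subset_span hb) hbI
  have hfD : (D A L m).map (LinearMap.lsmul A L f) ≤ I • (⊤ : Submodule A L) := by
    rw [← ht, Submodule.map_span, Submodule.span_le]
    rintro _ ⟨b, hb, rfl⟩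
    have : f = (∏ c ∈ t.erase b, φ c) * φ b := by
      rw [Finset.prod_erase_mul _ _ hb]
    rw [LinearMap.lsmul_apply, this, mul_smul]
    exact Submodule.smul_mem _ _ (hφ2 b (ht ▸ Submodule.subset_span hb))
  have hlt : I < I ⊔ Ideal.span {f} :=
    lt_of_le_of_ne le_sup_left fun heq =>
      hf (heq ▸ (Ideal.mem_sup_right (Ideal.mem_span_singleton_self f)))
  obtain ⟨n, hn⟩ := not_bad_of_lt hI hmax hlt
  rw [smul_top_sup_span] at hn
  exact hI (n + m) ((D_add_le I f n hn m).trans (sup_le le_rfl hfD))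

end Groth.Agent.H82.LieFibre
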