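import Groth.Prelude.Def_W4sga3xiixivxvCartan
import Groth.Agent.H82.CartanRel1
import Groth.Agent.H82.LieFibre3

set_option autoImplicit false
universe u

open TensorProduct

namespace Groth.Agent.H82.CartanRel

variable {A : Type u} [CommRing A] {L : Type u} [LieRing L] [LieAlgebra A L]

/-- `ad` of a subalgebra element on the subalgebra vs. on the ambient algebra. -/
lemma coe_ad_pow (H : LieSubalgebra A L) (a h : H) (k : ℕ) :
    (((LieAlgebra.ad A H a) ^ k) h : L) = ((LieAlgebra.ad A L (a : L)) ^ k) (h : L) := by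
  induction k generalizing h with
  | zero => simp
  | succ k ih =>
    rw [pow_succ, pow_succ, Module.End.mul_apply, Module.End.mul_apply, ih]
    simp

/-- a nilpotent subalgebra containing `a` lies in the Engel subalgebra of `a`. -/
lemma le_engel_of_isNilpotent (H : LieSubalgebra A L) [LieRing.IsNilpotent H] {a : L}
    (ha : a ∈ H) : H ≤ LieSubalgebra.engel A a := by
  obtain ⟨k, hk⟩ := LieAlgebra.nilpotent_ad_of_nilpotent_algebra A H
  intro h hh
  rw [LieSubalgebra.mem_engel_iff]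
  refine ⟨k, ?_⟩
  have := coe_ad_pow H ⟨a, ha⟩ ⟨h, hh⟩ k
  rw [hk ⟨a, ha⟩] at this
  simpa using this.symm

/-- image of the Engel subalgebra in a fibre lies in the Engel subalgebra of the image. -/
lemma baseChange_engel_le (p : PrimeSpectrum A) (a : L) :
    (LieSubalgebra.engel A a).toSubmodule.baseChange p.asIdeal.ResidueField ≤
      (LieSubalgebra.engel p.asIdeal.ResidueField
        ((1 : p.asIdeal.ResidueField) ⊗ₜ[A] a)).toSubmodule := by
  rw [Submodule.baseChange_eq_span, Submodule.span_le]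
  rintro _ ⟨h, hh, rfl⟩
  obtain ⟨n, hn⟩ := (LieSubalgebra.mem_engel_iff A a h).mp hh
  show _ ∈ LieSubalgebra.engel _ _
  rw [LieSubalgebra.mem_engel_iff]
  refine ⟨n, ?_⟩
  show ((LieModule.toEnd p.asIdeal.ResidueField (p.asIdeal.ResidueField ⊗[A] L)
      (p.asIdeal.ResidueField ⊗[A] L) ((1 : p.asIdeal.ResidueField) ⊗ₜ[A] a)) ^ n)
      ((1 : p.asIdeal.ResidueField) ⊗ₜ[A] h) = 0
  rw [LieModule.toEnd_baseChange, ← LinearMap.baseChange_pow, LinearMap.baseChange_tmul]
  have : ((LieModule.toEnd A L L a) ^ n) h = 0 := hn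
  rw [this, tmul_zero]

variable [Module.Finite A L]

/-- fibre of a relative Cartan subalgebra containing a quasi-regular `a` is the Engel subalgebra -/
lemma fibre_eq_engel (H : LieSubalgebra A L) (hH : SGA3t2b.IsCartanRel H) (a : L)
    (ha : SGA3t2b.IsQuasiRegular A L a) (hle : H ≤ LieSubalgebra.engel A a)
    (p : PrimeSpectrum A) :
    SGA3t2b.fibreSubmodule p H = (LieSubalgebra.engel p.asIdeal.ResidueField
        ((1 : p.asIdeal.ResidueField) ⊗ₜ[A] a)).toSubmodule := by
  apply Submodule.eq_of_le_of_finrank_eq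
  · exact (Submodule.baseChange_mono _ hle).trans (baseChange_engel_le p a)
  · rw [(hH.2 p).2.2]
    exact ((LieAlgebra.isRegular_iff_finrank_engel_eq_rank _ _).mp (ha p)).symm

/-- `H ⊔ range (ad a) = ⊤`. -/
lemma sup_range_ad_eq_top (H : LieSubalgebra A L) (a : L)
    (hfib : ∀ p : PrimeSpectrum A, (LieSubalgebra.engel p.asIdeal.ResidueField
        ((1 : p.asIdeal.ResidueField) ⊗ₜ[A] a)).toSubmodule ≤ SGA3t2b.fibreSubmodule p H) :
    H.toSubmodule ⊔ LinearMap.range (LieAlgebra.ad A L a) = ⊤ := by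
  apply eq_top_of_baseChange_eq_top
  intro p
  set κ := p.asIdeal.ResidueField
  have h1 := iSup_ker_pow_sup_range_eq_top
    (LieAlgebra.ad κ (κ ⊗[A] L) ((1 : κ) ⊗ₜ[A] a))
  rw [eq_top_iff, ← h1]
  refine sup_le ?_ ?_
  · refine (le_trans ?_ (hfib p)).trans (Submodule.baseChange_mono _ le_sup_left)
    intro x hx
    show x ∈ LieSubalgebra.engel _ _
    rw [LieSubalgebra.mem_engel_iff]
    obtain ⟨n, hn⟩ := (Submodule.mem_iSup_of_chain
      (LinearMap.iterateKer (LieAlgebra.ad κ (κ ⊗[A] L) ((1 : κ) ⊗ₜ[A] a))) x).mp hx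
    exact ⟨n, hn⟩
  · rintro _ ⟨z, rfl⟩
    induction z using TensorProduct.induction_on with
    | zero => simp
    | tmul c y =>
      have : (LieAlgebra.ad κ (κ ⊗[A] L) ((1 : κ) ⊗ₜ[A] a)) (c ⊗ₜ[A] y) = c ⊗ₜ[A] ⁅a, y⁆ := by
        simp [LieAlgebra.ad_apply]
      rw [this]
      exact Submodule.tmul_mem_baseChange_of_mem c
        (Submodule.mem_sup_right ⟨y, rfl⟩)
    | add z₁ z₂ h₁ h₂ => rw [map_add]; exact add_mem h₁ h₂

end Groth.Agent.H82.CartanRel
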