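import Groth.Agent.H82.CartanRel2

set_option autoImplicit false
universe u

open TensorProduct

namespace Groth.Agent.H82.CartanRel

variable {A : Type u} [CommRing A] {L : Type u} [LieRing L] [LieAlgebra A L]

/-- the endomorphism of `L ⧸ H` induced by `ad a`, `a ∈ H`. -/
noncomputable def adQuot (H : LieSubalgebra A L) {a : L} (ha : a ∈ H) :
    (L ⧸ H.toSubmodule) →ₗ[A] (L ⧸ H.toSubmodule) :=
  H.toSubmodule.mapQ H.toSubmodule (LieAlgebra.ad A L a) (fun h hh => by
    show ⁅a, h⁆ ∈ H
    exact H.lie_mem ha hh)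

lemma adQuot_mk (H : LieSubalgebra A L) {a : L} (ha : a ∈ H) (x : L) :
    adQuot H ha (Submodule.Quotient.mk x) = Submodule.Quotient.mk ⁅a, x⁆ := rfl

lemma adQuot_pow_mk (H : LieSubalgebra A L) {a : L} (ha : a ∈ H) (x : L) (n : ℕ) :
    ((adQuot H ha) ^ n) (Submodule.Quotient.mk x) =
      Submodule.Quotient.mk (((LieAlgebra.ad A L a) ^ n) x) := by
  induction n generalizing x with
  | zero => simp
  | succ n ih =>
    rw [pow_succ, pow_succ, Module.End.mul_apply, Module.End.mul_apply, adQuot_mk, ih]
    rfl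

lemma adQuot_surjective (H : LieSubalgebra A L) {a : L} (ha : a ∈ H)
    (hsup : H.toSubmodule ⊔ LinearMap.range (LieAlgebra.ad A L a) = ⊤) :
    Function.Surjective (adQuot H ha) := by
  intro y
  obtain ⟨y, rfl⟩ := Submodule.Quotient.mk_surjective _ y
  have hy : y ∈ H.toSubmodule ⊔ LinearMap.range (LieAlgebra.ad A L a) := by rw [hsup]; trivial
  obtain ⟨h, hh, _, ⟨z, rfl⟩, rfl⟩ := Submodule.mem_sup.mp hy
  refine ⟨Submodule.Quotient.mk z, ?_⟩
  rw [adQuot_mk, Submodule.Quotient.mk_add, (Submodule.Quotient.mk_eq_zero _).mpr hh, zero_add]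
  rfl

/-- if `ad a` is injective on `L ⧸ H` then the Engel subalgebra of `a` lies in `H` -/
lemma engel_le_of_injective (H : LieSubalgebra A L) {a : L} (ha : a ∈ H)
    (hinj : Function.Injective (adQuot H ha)) : LieSubalgebra.engel A a ≤ H := by
  intro x hx
  obtain ⟨n, hn⟩ := (LieSubalgebra.mem_engel_iff A a x).mp hx
  have h1 : ((adQuot H ha) ^ n) (Submodule.Quotient.mk x) = 0 := by
    rw [adQuot_pow_mk, hn, Submodule.Quotient.mk_zero]
  have hinj' : Function.Injective ((adQuot H ha) ^ n) := by
    rw [Module.End.coe_pow]; exact hinj.iterate n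
  have h2 : (Submodule.Quotient.mk x : L ⧸ H.toSubmodule) = 0 := hinj' (by rw [h1, map_zero])
  exact (Submodule.Quotient.mk_eq_zero _).mp h2

variable [Module.Finite A L]

theorem isNilpotent_of_isCartanRel (H : LieSubalgebra A L) (hH : SGA3t2b.IsCartanRel H) :
    LieRing.IsNilpotent H := by
  haveI : Module.Projective A (L ⧸ H.toSubmodule) := hH.1
  haveI : Module.Finite A H := finite_of_projective_quotient H.toSubmodule
  exact LieFibre.nilpotent_of_fibres (A := A) (L := H) (fun p hp => (hH.2 ⟨p, hp⟩).1)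

/-- main facts on a relative Cartan subalgebra containing a quasi-regular element -/
theorem cartan_facts (H : LieSubalgebra A L) (hH : SGA3t2b.IsCartanRel H) (a : L) (haH : a ∈ H)
    (ha : SGA3t2b.IsQuasiRegular A L a) :
    H = LieSubalgebra.engel A a ∧ Function.Bijective (adQuot H haH) := by
  haveI := isNilpotent_of_isCartanRel H hH
  have hle : H ≤ LieSubalgebra.engel A a := le_engel_of_isNilpotent H haH
  have hfib := fibre_eq_engel H hH a ha hle
  have hsup := sup_range_ad_eq_top H a (fun p => (hfib p).ge)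
  have hsurj := adQuot_surjective H haH hsup
  have hinj : Function.Injective (adQuot H haH) :=
    OrzechProperty.injective_of_surjective_endomorphism _ hsurj
  exact ⟨le_antisymm hle (engel_le_of_injective H haH hinj), hinj, hsurj⟩

end Groth.Agent.H82.CartanRel
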