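import Groth.Agent.H82.CartanRel3

set_option autoImplicit false
universe u

open TensorProduct

namespace Groth.Agent.H82.CartanRel

variable {A : Type u} [CommRing A] {L : Type u} [LieRing L] [LieAlgebra A L]

lemma lieEquiv_ad_pow (u : L ≃ₗ⁅A⁆ L) (a x : L) (n : ℕ) :
    u (((LieAlgebra.ad A L a) ^ n) x) = ((LieAlgebra.ad A L (u a)) ^ n) (u x) := by
  induction n generalizing x with
  | zero => simp
  | succ n ih =>
    rw [pow_succ, pow_succ, Module.End.mul_apply, Module.End.mul_apply, ih]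
    simp [LieAlgebra.ad_apply, LieEquiv.map_lie]

lemma engel_map (u : L ≃ₗ⁅A⁆ L) (a : L) :
    (LieSubalgebra.engel A a).map u.toLieHom = LieSubalgebra.engel A (u a) := by
  ext x
  rw [LieSubalgebra.mem_map, LieSubalgebra.mem_engel_iff]
  constructor
  · rintro ⟨y, hy, rfl⟩
    obtain ⟨n, hn⟩ := (LieSubalgebra.mem_engel_iff A a y).mp hy
    refine ⟨n, ?_⟩
    have := lieEquiv_ad_pow u a y n
    rw [hn, map_zero] at this
    exact this.symm
  · rintro ⟨n, hn⟩
    refine ⟨u.symm x, ?_, by simp⟩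
    rw [LieSubalgebra.mem_engel_iff]
    refine ⟨n, ?_⟩
    have h := lieEquiv_ad_pow u a (u.symm x) n
    rw [LieEquiv.apply_symm_apply, hn] at h
    exact u.injective (h.trans (map_zero u).symm)

lemma ad_tmul_conj (u : L ≃ₗ⁅A⁆ L) (a : L) (p : PrimeSpectrum A) :
    LieAlgebra.ad p.asIdeal.ResidueField (p.asIdeal.ResidueField ⊗[A] L)
        ((1 : p.asIdeal.ResidueField) ⊗ₜ[A] u a) =
      (u.toLinearEquiv.baseChange A p.asIdeal.ResidueField L L).conj
        (LieAlgebra.ad p.asIdeal.ResidueField (p.asIdeal.ResidueField ⊗[A] L)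
          ((1 : p.asIdeal.ResidueField) ⊗ₜ[A] a)) := by
  apply LinearMap.ext
  intro z
  induction z using TensorProduct.induction_on with
  | zero => simp
  | tmul c y =>
    simp only [LinearEquiv.conj_apply, LinearMap.comp_apply, LinearEquiv.coe_coe,
      LieAlgebra.ad_apply]
    have h1 : (u.toLinearEquiv.baseChange A p.asIdeal.ResidueField L L).symm (c ⊗ₜ[A] y) =
        c ⊗ₜ[A] u.symm y := by
      rw [LinearEquiv.symm_apply_eq, LinearEquiv.baseChange_tmul]
      simp
    rw [h1]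
    simp [LinearEquiv.baseChange_tmul, LieEquiv.map_lie]
  | add z₁ z₂ h₁ h₂ => rw [map_add, map_add, h₁, h₂]

variable [Module.Finite A L]

lemma isQuasiRegular_map (u : L ≃ₗ⁅A⁆ L) (a : L) (ha : SGA3t2b.IsQuasiRegular A L a) :
    SGA3t2b.IsQuasiRegular A L (u a) := by
  intro p
  have h := ha p
  rw [LieAlgebra.isRegular_iff_natTrailingDegree_charpoly_eq_rank] at h ⊢
  rw [ad_tmul_conj, LinearEquiv.charpoly_conj]
  exact h

theorem map_eq_iff (H : LieSubalgebra A L) (hH : SGA3t2b.IsCartanRel H) (a : L) (haH : a ∈ H)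
    (ha : SGA3t2b.IsQuasiRegular A L a) (u : L ≃ₗ⁅A⁆ L) :
    H.map u.toLieHom = H ↔ u a ∈ H := by
  constructor
  · intro h
    rw [← h, LieSubalgebra.mem_map]
    exact ⟨a, haH, rfl⟩
  · intro hua
    have h1 := (cartan_facts H hH a haH ha).1
    have h2 := (cartan_facts H hH (u a) hua (isQuasiRegular_map u a ha)).1
    calc H.map u.toLieHom = (LieSubalgebra.engel A a).map u.toLieHom := by rw [← h1]
      _ = LieSubalgebra.engel A (u a) := engel_map u a
      _ = H := h2.symm

end Groth.Agent.H82.CartanRel
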