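import Mathlib

set_option autoImplicit false
universe u

open TensorProduct Cardinal Module LieAlgebra LieSubalgebra

namespace Groth.Agent.H82.EngelReg

attribute [local instance 100] LieRing.ofAssociativeRing

section card
variable {K : Type*} [Field K] {L : Type*} [LieRing L] [LieAlgebra K L] [Module.Finite K L]

/-- regular elements have Cartan Engel subalgebras (large field) -/
lemma isCartanSubalgebra_engel_of_isRegular_of_card (h : finrank K L ≤ #K) (x : L)
    (hx : IsRegular K x) : IsCartanSubalgebra (engel K x) := by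
  refine ⟨?_, normalizer_engel _ _⟩
  apply isNilpotent_of_forall_le_engel
  intro y hy
  set Ex : {engel K z | z ∈ engel K x} := ⟨engel K x, x, self_mem_engel _ _, rfl⟩
  suffices IsBot Ex from @this ⟨engel K y, y, hy, rfl⟩
  apply engel_isBot_of_isMin h (engel K x) Ex le_rfl
  rintro ⟨_, y, hy, rfl⟩ hyx
  suffices finrank K (engel K x) ≤ finrank K (engel K y) by
    suffices engel K y = engel K x from this.ge
    apply LieSubalgebra.toSubmodule_injective
    exact Submodule.eq_of_le_of_finrank_le hyx this
  rw [(isRegular_iff_finrank_engel_eq_rank K x).mp hx]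
  apply rank_le_finrank_engel

end card

lemma natTrailingDegree_map_of_injective {R S : Type*} [Semiring R] [Semiring S] (f : R →+* S)
    (hf : Function.Injective f) (p : Polynomial R) :
    (p.map f).natTrailingDegree = p.natTrailingDegree := by
  simp only [Polynomial.natTrailingDegree, Polynomial.trailingDegree,
    Polynomial.support_map_of_injective _ hf]

section nilp
variable {R : Type*} [CommRing R] {L : Type*} [LieRing L] [LieAlgebra R L]

/-- a nilpotent subalgebra containing `a` lies in the Engel subalgebra of `a`. -/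
lemma le_engel_of_isNilpotent (H : LieSubalgebra R L) [LieRing.IsNilpotent H] {a : L}
    (ha : a ∈ H) : H ≤ LieSubalgebra.engel R a := by
  obtain ⟨k, hk⟩ := LieAlgebra.nilpotent_ad_of_nilpotent_algebra R H
  intro h hh
  rw [LieSubalgebra.mem_engel_iff]
  refine ⟨k, ?_⟩
  have := LieSubalgebra.coe_ad_pow R L H ⟨a, ha⟩ ⟨h, hh⟩ k
  rw [hk ⟨a, ha⟩] at this
  simpa using this.symm

end nilp

section bc
variable (K : Type*) [Field K] (K' : Type*) [Field K'] [Algebra K K']
  (L : Type*) [LieRing L] [LieAlgebra K L] [Module.Finite K L]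

lemma ad_baseChange_eq :
    (ad K' (K' ⊗[K] L)).toLinearMap =
      LinearMap.tensorProduct K K' L L ∘ₗ (ad K L).toLinearMap.baseChange K' := by
  apply LinearMap.ext
  intro z
  induction z using TensorProduct.induction_on with
  | zero => simp
  | tmul c y =>
    have h1 : (c ⊗ₜ[K] y : K' ⊗[K] L) = c • ((1 : K') ⊗ₜ[K] y) := by
      rw [TensorProduct.smul_tmul', smul_eq_mul, mul_one]
    have h2 : (ad K' (K' ⊗[K] L)) ((1 : K') ⊗ₜ[K] y) = (ad K L y).baseChange K' :=
      LieModule.toEnd_baseChange K K' L L y
    simp only [LieHom.coe_toLinearMap, LinearMap.comp_apply, LinearMap.baseChange_tmul]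
    rw [h1, map_smul, h2]
    simp [LinearMap.tensorProduct]
  | add z₁ z₂ h₁ h₂ => rw [map_add, map_add, h₁, h₂]

lemma rank_baseChange : rank K' (K' ⊗[K] L) = rank K L := by
  classical
  let b := Module.Free.chooseBasis K L
  rw [rank_eq_natTrailingDegree K L b,
    rank_eq_natTrailingDegree K' (K' ⊗[K] L) (Algebra.TensorProduct.basis K' b),
    ad_baseChange_eq, LinearMap.polyCharpoly_baseChange]
  exact natTrailingDegree_map_of_injective _
    (MvPolynomial.map_injective _ (algebraMap K K').injective) _

variable {L} in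
lemma isRegular_baseChange (x : L) (hx : IsRegular K x) :
    IsRegular K' ((1 : K') ⊗ₜ[K] x) := by
  rw [isRegular_iff_natTrailingDegree_charpoly_eq_rank] at hx ⊢
  rw [rank_baseChange, ← hx]
  have : ad K' (K' ⊗[K] L) ((1 : K') ⊗ₜ[K] x) = (ad K L x).baseChange K' :=
    LieModule.toEnd_baseChange K K' L L x
  rw [this, LinearMap.charpoly_baseChange]
  exact natTrailingDegree_map_of_injective _ (algebraMap K K').injective _

end bc

section main
variable {K : Type*} [Field K] {L : Type*} [LieRing L] [LieAlgebra K L] [Module.Finite K L]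

/-- Over any field, the Engel subalgebra of a regular element is nilpotent. -/
theorem isNilpotent_engel_of_isRegular (x : L) (hx : IsRegular K x) :
    LieRing.IsNilpotent (engel K x) := by
  let K' := AlgebraicClosure K
  have hx' := isRegular_baseChange K K' x hx
  have hcard : finrank K' (K' ⊗[K] L) ≤ #K' :=
    natCast_le_aleph0.trans <| Cardinal.infinite_iff.mp inferInstance
  haveI := (isCartanSubalgebra_engel_of_isRegular_of_card hcard _ hx').nilpotent
  have hmem : ∀ z ∈ engel K x, (1 : K') ⊗ₜ[K] z ∈ engel K' ((1 : K') ⊗ₜ[K] x) := by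
    intro z hz
    obtain ⟨n, hn⟩ := (mem_engel_iff K x z).mp hz
    rw [mem_engel_iff]
    refine ⟨n, ?_⟩
    have : ad K' (K' ⊗[K] L) ((1 : K') ⊗ₜ[K] x) = (ad K L x).baseChange K' :=
      LieModule.toEnd_baseChange K K' L L x
    rw [this, ← LinearMap.baseChange_pow, LinearMap.baseChange_tmul, hn, tmul_zero]
  apply isNilpotent_of_forall_le_engel
  intro y hy z hz
  have h1 := le_engel_of_isNilpotent (engel K' ((1 : K') ⊗ₜ[K] x)) (hmem y hy) (hmem z hz)
  obtain ⟨n, hn⟩ := (mem_engel_iff K' _ _).mp h1
  rw [mem_engel_iff]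
  refine ⟨n, ?_⟩
  have : ad K' (K' ⊗[K] L) ((1 : K') ⊗ₜ[K] y) = (ad K L y).baseChange K' :=
    LieModule.toEnd_baseChange K K' L L y
  rw [this, ← LinearMap.baseChange_pow, LinearMap.baseChange_tmul] at hn
  exact Module.Flat.tensorProduct_mk_injective K L K' (by simpa using hn)

end main

end Groth.Agent.H82.EngelReg
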