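import Groth.Agent.H82.LieFibre3

set_option autoImplicit false
universe u

open TensorProduct

namespace Groth.Agent.H82.LieFibre

variable {A : Type*} [CommRing A] {L : Type*} [LieRing L] [LieAlgebra A L]

/-- every element of the fibre `κ(p) ⊗ M` is a pure tensor `c ⊗ y`. -/
lemma exists_eq_tmul {M : Type*} [AddCommGroup M] [Module A M] (p : Ideal A) [p.IsPrime]
    (z : p.ResidueField ⊗[A] M) :
    ∃ (s : A) (y : M), s ∉ p ∧ z = (algebraMap A p.ResidueField s)⁻¹ ⊗ₜ[A] y := by
  induction z using TensorProduct.induction_on with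
  | zero => exact ⟨1, 0, fun h => (Ideal.IsPrime.ne_top ‹_›) ((Ideal.eq_top_iff_one p).mpr h), by simp⟩
  | tmul c y =>
    obtain ⟨c', rfl⟩ := IsLocalRing.residue_surjective c
    obtain ⟨a, s, rfl⟩ := IsLocalization.exists_mk'_eq p.primeCompl c'
    refine ⟨s, a • y, s.2, ?_⟩
    have hs : algebraMap A p.ResidueField s ≠ 0 := by
      rw [Ne, Ideal.algebraMap_residueField_eq_zero]; exact s.2
    rw [TensorProduct.tmul_smul, TensorProduct.smul_tmul', Algebra.smul_def]
    congr 1
    rw [eq_mul_inv_iff_mul_eq₀ hs]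
    show IsLocalRing.residue _ (IsLocalization.mk' _ a s) *
      algebraMap A p.ResidueField s = algebraMap A p.ResidueField a
    rw [IsScalarTower.algebraMap_apply A (Localization.AtPrime p) p.ResidueField,
      IsScalarTower.algebraMap_apply A (Localization.AtPrime p) p.ResidueField,
      IsLocalRing.ResidueField.algebraMap_eq, ← map_mul, IsLocalization.mk'_spec]
  | add z₁ z₂ h₁ h₂ =>
    obtain ⟨s₁, y₁, hs₁, rfl⟩ := h₁
    obtain ⟨s₂, y₂, hs₂, rfl⟩ := h₂
    refine ⟨s₁ * s₂, s₂ • y₁ + s₁ • y₂, ‹p.IsPrime›.mul_notMem hs₁ hs₂, ?_⟩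
    have h1 : algebraMap A p.ResidueField s₁ ≠ 0 := by
      rw [Ne, Ideal.algebraMap_residueField_eq_zero]; exact hs₁
    have h2 : algebraMap A p.ResidueField s₂ ≠ 0 := by
      rw [Ne, Ideal.algebraMap_residueField_eq_zero]; exact hs₂
    rw [TensorProduct.tmul_add, TensorProduct.tmul_smul, TensorProduct.tmul_smul,
      TensorProduct.smul_tmul', TensorProduct.smul_tmul', Algebra.smul_def, Algebra.smul_def,
      map_mul]
    congr 2 <;> field_simp

theorem nilpotent_of_ad [Module.Finite A L]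
    (h : ∀ x : L, IsNilpotent (LieAlgebra.ad A L x)) : LieRing.IsNilpotent L := by
  apply nilpotent_of_fibres (A := A)
  intro p _
  rw [LieAlgebra.isNilpotent_iff_forall (R := p.ResidueField)]
  intro z
  obtain ⟨s, y, -, rfl⟩ := exists_eq_tmul p z
  have : (algebraMap A p.ResidueField s)⁻¹ ⊗ₜ[A] y =
      (algebraMap A p.ResidueField s)⁻¹ • ((1 : p.ResidueField) ⊗ₜ[A] y) := by
    rw [TensorProduct.smul_tmul', smul_eq_mul, mul_one]
  rw [this, map_smul]
  have h1 : IsNilpotent (LieAlgebra.ad p.ResidueField (p.ResidueField ⊗[A] L)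
      ((1 : p.ResidueField) ⊗ₜ[A] y)) := by
    show IsNilpotent (LieModule.toEnd p.ResidueField (p.ResidueField ⊗[A] L)
      (p.ResidueField ⊗[A] L) ((1 : p.ResidueField) ⊗ₜ[A] y))
    rw [LieModule.toEnd_baseChange]
    exact (h y).map (Module.End.baseChangeHom A p.ResidueField L)
  obtain ⟨N, hN⟩ := h1
  exact ⟨N, by rw [smul_pow, hN, smul_zero]⟩

end Groth.Agent.H82.LieFibre
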