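import Groth.Agent.H82.CartanRel4
import Groth.Agent.H82.LieFibre4
import Groth.Agent.H82.EngelReg

set_option autoImplicit false
universe u

open TensorProduct

namespace Groth.Agent.H82.CartanRel

/-- generalized kernel of `f` lies in an `f`-stable submodule `N` with `N + range f = ⊤`. -/
lemma mem_of_pow_apply_eq_zero {R M : Type*} [CommRing R] [AddCommGroup M] [Module R M]
    [Module.Finite R M] (f : M →ₗ[R] M) (N : Submodule R M) (hf : N ≤ N.comap f)
    (hsup : N ⊔ LinearMap.range f = ⊤) {x : M} {n : ℕ} (hx : (f ^ n) x = 0) : x ∈ N := by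
  have hsurj : Function.Surjective (N.mapQ N f hf) := by
    intro y
    obtain ⟨y, rfl⟩ := Submodule.Quotient.mk_surjective _ y
    have hy : y ∈ N ⊔ LinearMap.range f := by rw [hsup]; trivial
    obtain ⟨h, hh, _, ⟨z, rfl⟩, rfl⟩ := Submodule.mem_sup.mp hy
    refine ⟨Submodule.Quotient.mk z, ?_⟩
    rw [Submodule.mapQ_apply, Submodule.Quotient.mk_add,
      (Submodule.Quotient.mk_eq_zero _).mpr hh, zero_add]
  have hinj : Function.Injective (N.mapQ N f hf) :=
    OrzechProperty.injective_of_surjective_endomorphism _ hsurj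
  have hpow : ∀ (k : ℕ) (y : M), ((N.mapQ N f hf) ^ k) (Submodule.Quotient.mk y) =
      Submodule.Quotient.mk ((f ^ k) y) := by
    intro k
    induction k with
    | zero => simp
    | succ k ih =>
      intro y
      rw [pow_succ, pow_succ, Module.End.mul_apply, Module.End.mul_apply, Submodule.mapQ_apply, ih]
  have h1 : ((N.mapQ N f hf) ^ n) (Submodule.Quotient.mk x) = 0 := by
    rw [hpow, hx, Submodule.Quotient.mk_zero]
  have hinj' : Function.Injective ((N.mapQ N f hf) ^ n) := by
    rw [Module.End.coe_pow]; exact hinj.iterate n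
  have h2 : (Submodule.Quotient.mk x : M ⧸ N) = 0 := hinj' (by rw [h1, map_zero])
  exact (Submodule.Quotient.mk_eq_zero _).mp h2

variable {A : Type u} [CommRing A] {L : Type u} [LieRing L] [LieAlgebra A L]

lemma ad_one_tmul (p : PrimeSpectrum A) (a : L) (c : p.asIdeal.ResidueField) (y : L) :
    (LieAlgebra.ad p.asIdeal.ResidueField (p.asIdeal.ResidueField ⊗[A] L)
      ((1 : p.asIdeal.ResidueField) ⊗ₜ[A] a)) (c ⊗ₜ[A] y) = c ⊗ₜ[A] ⁅a, y⁆ := by
  simp [LieAlgebra.ad_apply]

variable [Module.Finite A L]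

/-- Under the bijectivity hypothesis, the fibre of the Engel subalgebra is the Engel subalgebra
of the fibre. -/
lemma fibre_engel_eq (a : L)
    (hS : ∀ y : L, ∃ z : L, ⁅a, z⁆ - y ∈ LieSubalgebra.engel A a) (p : PrimeSpectrum A) :
    SGA3t2b.fibreSubmodule p (LieSubalgebra.engel A a) =
      (LieSubalgebra.engel p.asIdeal.ResidueField
        ((1 : p.asIdeal.ResidueField) ⊗ₜ[A] a)).toSubmodule := by
  set κ := p.asIdeal.ResidueField
  set E := LieSubalgebra.engel A a
  apply le_antisymm (baseChange_engel_le p a)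
  have hstab : E.toSubmodule.baseChange κ ≤ (E.toSubmodule.baseChange κ).comap
      (LieAlgebra.ad κ (κ ⊗[A] L) ((1 : κ) ⊗ₜ[A] a)) := by
    rw [Submodule.baseChange_eq_span, Submodule.span_le]
    rintro _ ⟨e, he, rfl⟩
    simp only [mk_apply, SetLike.mem_coe, Submodule.mem_comap]
    rw [← Submodule.baseChange_eq_span]
    have := ad_one_tmul p a 1 e
    rw [this]
    exact Submodule.tmul_mem_baseChange_of_mem 1
      (E.lie_mem (LieSubalgebra.self_mem_engel A a) he)
  have hsup : E.toSubmodule.baseChange κ ⊔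
      LinearMap.range (LieAlgebra.ad κ (κ ⊗[A] L) ((1 : κ) ⊗ₜ[A] a)) = ⊤ := by
    rw [eq_top_iff]
    rintro z -
    induction z using TensorProduct.induction_on with
    | zero => exact zero_mem _
    | tmul c y =>
      obtain ⟨z, hz⟩ := hS y
      have : c ⊗ₜ[A] y = - (c ⊗ₜ[A] (⁅a, z⁆ - y)) +
          (LieAlgebra.ad κ (κ ⊗[A] L) ((1 : κ) ⊗ₜ[A] a)) (c ⊗ₜ[A] z) := by
        rw [ad_one_tmul, tmul_sub]; abel
      rw [this]
      exact Submodule.add_mem_sup
        (neg_mem (Submodule.tmul_mem_baseChange_of_mem c hz)) ⟨_, rfl⟩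
    | add z₁ z₂ h₁ h₂ => exact add_mem h₁ h₂
  intro x hx
  obtain ⟨n, hn⟩ := (LieSubalgebra.mem_engel_iff κ _ x).mp hx
  exact mem_of_pow_apply_eq_zero _ _ hstab hsup hn

end Groth.Agent.H82.CartanRel
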