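import Groth.Agent.H82.CartanRel5

set_option autoImplicit false
universe u

open TensorProduct

namespace Groth.Agent.H82.CartanRel

variable {A : Type u} [CommRing A] {L : Type u} [LieRing L] [LieAlgebra A L]
  [Module.Finite A L]

lemma isNilpotent_tensor_engel (a : L)
    (hP : Module.Projective A (L ⧸ (LieSubalgebra.engel A a).toSubmodule)) (p : PrimeSpectrum A)
    (hF : LieRing.IsNilpotent (LieSubalgebra.engel p.asIdeal.ResidueField
        ((1 : p.asIdeal.ResidueField) ⊗ₜ[A] a))) :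
    LieRing.IsNilpotent (p.asIdeal.ResidueField ⊗[A] (LieSubalgebra.engel A a)) := by
  set κ := p.asIdeal.ResidueField
  set E := LieSubalgebra.engel A a
  set F := LieSubalgebra.engel κ ((1 : κ) ⊗ₜ[A] a)
  haveI : Module.Finite A E := finite_of_projective_quotient E.toSubmodule
  obtain ⟨π, hπ⟩ := exists_retraction E.toSubmodule
  let ι' : κ ⊗[A] E →ₗ[κ] κ ⊗[A] L := E.toSubmodule.subtype.baseChange κ
  have hι' : Function.Injective ι' := by
    have hcomp : (π.baseChange κ) ∘ₗ ι' = LinearMap.id := by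
      rw [← LinearMap.baseChange_comp]
      have : π ∘ₗ E.toSubmodule.subtype = LinearMap.id := by
        ext n; exact congrArg Subtype.val (hπ n)
      rw [this, LinearMap.baseChange_id]
    exact Function.LeftInverse.injective (g := π.baseChange κ)
      (fun w => LinearMap.congr_fun hcomp w)
  have hmem : ∀ w, ι' w ∈ F := fun w =>
    baseChange_engel_le p a (⟨w, rfl⟩ : ι' w ∈ E.toSubmodule.baseChange κ)
  obtain ⟨n, hn⟩ := LieAlgebra.nilpotent_ad_of_nilpotent_algebra κ F
  rw [LieAlgebra.isNilpotent_iff_forall (R := κ)]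
  intro z
  obtain ⟨s, e, -, rfl⟩ := LieFibre.exists_eq_tmul p.asIdeal z
  have h1 : (algebraMap A κ s)⁻¹ ⊗ₜ[A] e =
      (algebraMap A κ s)⁻¹ • ((1 : κ) ⊗ₜ[A] e) := by
    rw [TensorProduct.smul_tmul', smul_eq_mul, mul_one]
  rw [h1, map_smul]
  have h2 : LieAlgebra.ad κ (κ ⊗[A] E) ((1 : κ) ⊗ₜ[A] e) = (LieAlgebra.ad A E e).baseChange κ :=
    LieModule.toEnd_baseChange A κ E E e
  have h3 : LieAlgebra.ad κ (κ ⊗[A] L) ((1 : κ) ⊗ₜ[A] (e : L)) =
      (LieAlgebra.ad A L (e : L)).baseChange κ :=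
    LieModule.toEnd_baseChange A κ L L (e : L)
  have hint : ι' ∘ₗ (LieAlgebra.ad A E e).baseChange κ =
      (LieAlgebra.ad A L (e : L)).baseChange κ ∘ₗ ι' := by
    rw [← LinearMap.baseChange_comp, ← LinearMap.baseChange_comp]
    congr 1
  have hpow : ∀ (k : ℕ) (w : κ ⊗[A] E), ι' ((((LieAlgebra.ad A E e).baseChange κ) ^ k) w) =
      (((LieAlgebra.ad A L (e : L)).baseChange κ) ^ k) (ι' w) := by
    intro k
    induction k with
    | zero => simp
    | succ k ih =>
      intro w
      rw [pow_succ', pow_succ', Module.End.mul_apply, Module.End.mul_apply, ← ih]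
      exact LinearMap.congr_fun hint _
  have hzero : ((LieAlgebra.ad A E e).baseChange κ) ^ n = 0 := by
    apply LinearMap.ext
    intro w
    apply hι'
    rw [hpow, LinearMap.zero_apply, map_zero, ← h3]
    have he : (1 : κ) ⊗ₜ[A] (e : L) ∈ F := hmem ((1 : κ) ⊗ₜ[A] e)
    have := LieSubalgebra.coe_ad_pow κ (κ ⊗[A] L) F ⟨_, he⟩ ⟨_, hmem w⟩ n
    rw [hn] at this
    simpa using this.symm
  refine ⟨n, ?_⟩
  rw [smul_pow, h2, hzero, smul_zero]

end Groth.Agent.H82.CartanRel
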