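import Groth.Agent.H82.CartanRel6

set_option autoImplicit false
universe u

open TensorProduct

namespace Groth.Agent.H82.CartanRel

variable {A : Type u} [CommRing A] {L : Type u} [LieRing L] [LieAlgebra A L]
  [Module.Finite A L]

theorem isCartanRel_engel (a : L) (ha : SGA3t2b.IsQuasiRegular A L a)
    (hP : Module.Projective A (L ⧸ (LieSubalgebra.engel A a).toSubmodule))
    (hS : ∀ y : L, ∃ z : L, ⁅a, z⁆ - y ∈ LieSubalgebra.engel A a) :
    SGA3t2b.IsCartanRel (LieSubalgebra.engel A a) := by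
  refine ⟨hP, fun p => ?_⟩
  have hfe := fibre_engel_eq a hS p
  have hreg := ha p
  have hF := EngelReg.isNilpotent_engel_of_isRegular _ hreg
  refine ⟨isNilpotent_tensor_engel a hP p hF, ?_, ?_⟩
  · intro x hx
    rw [hfe] at hx ⊢
    have : x ∈ (LieSubalgebra.engel p.asIdeal.ResidueField
        ((1 : p.asIdeal.ResidueField) ⊗ₜ[A] a)).normalizer :=
      (LieSubalgebra.mem_normalizer_iff _ x).mpr hx
    rwa [LieSubalgebra.normalizer_engel] at this
  · rw [hfe]
    exact (LieAlgebra.isRegular_iff_finrank_engel_eq_rank _ _).mp hreg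

theorem main (a : L) (ha : SGA3t2b.IsQuasiRegular A L a) :
    (∀ H : LieSubalgebra A L, SGA3t2b.IsCartanRel H → a ∈ H → H = LieSubalgebra.engel A a) ∧
    ((∃ H : LieSubalgebra A L, SGA3t2b.IsCartanRel H ∧ a ∈ H) ↔
      (Module.Projective A (L ⧸ (LieSubalgebra.engel A a).toSubmodule) ∧
        (∀ z : L, ⁅a, z⁆ ∈ LieSubalgebra.engel A a → z ∈ LieSubalgebra.engel A a) ∧
        (∀ y : L, ∃ z : L, ⁅a, z⁆ - y ∈ LieSubalgebra.engel A a))) := by
  refine ⟨fun H hH haH => (cartan_facts H hH a haH ha).1, ?_, ?_⟩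
  · rintro ⟨H, hH, haH⟩
    obtain ⟨hE, hinj, hsurj⟩ := cartan_facts H hH a haH ha
    rw [← hE]
    refine ⟨hH.1, ?_, ?_⟩
    · intro z hz
      have h1 : adQuot H haH (Submodule.Quotient.mk z) = 0 := by
        rw [adQuot_mk]; exact (Submodule.Quotient.mk_eq_zero _).mpr hz
      have h2 := hinj (h1.trans (map_zero _).symm)
      exact (Submodule.Quotient.mk_eq_zero _).mp h2
    · intro y
      obtain ⟨w, hw⟩ := hsurj (Submodule.Quotient.mk y)
      obtain ⟨z, rfl⟩ := Submodule.Quotient.mk_surjective _ w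
      refine ⟨z, ?_⟩
      rw [adQuot_mk] at hw
      exact (Submodule.Quotient.eq _).mp hw
  · rintro ⟨hP, -, hS⟩
    exact ⟨_, isCartanRel_engel a ha hP hS, LieSubalgebra.self_mem_engel A a⟩

end Groth.Agent.H82.CartanRel
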