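import Mathlib.Tactic
import Mathlib.Algebra.Polynomial.Taylor
import Mathlib.Data.Nat.Choose.Lucas
import Mathlib.Algebra.CharP.Basic

set_option autoImplicit false
universe u

namespace Groth.Agent.H82

open Polynomial Finset

theorem coeff_comp_X_add_C {k : Type u} [CommRing k] (h : k[X]) (α : k) (B : ℕ)
    (hB : h.natDegree < B) (m : ℕ) :
    (h.comp (X + C α)).coeff m =
      ∑ l ∈ range B, ((l.choose m : ℕ) : k) * h.coeff l * α ^ (l - m) := by
  rw [← taylor_apply, taylor_coeff, hasseDeriv_apply,
    Polynomial.sum_over_range' _ (by intro n; simp) B hB, eval_finsetSum]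
  refine Finset.sum_congr rfl fun l _ => ?_
  rw [eval_monomial]

theorem lucas_cast {k : Type u} [CommRing k] (p : ℕ) [Fact p.Prime] [CharP k p]
    (I i r s : ℕ) (hr : r < p) (hs : s < p) :
    (((I * p + r).choose (i * p + s) : ℕ) : k) = ((I.choose i : ℕ) : k) * ((r.choose s : ℕ) : k) := by
  have h := Choose.choose_modEq_choose_mod_mul_choose_div_nat (n := I * p + r) (k := i * p + s) (p := p)
  have hp : 0 < p := (Fact.out : p.Prime).pos
  have e1 : (I * p + r) % p = r := by
    rw [Nat.add_comm, Nat.add_mul_mod_self_right, Nat.mod_eq_of_lt hr]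
  have e2 : (i * p + s) % p = s := by
    rw [Nat.add_comm, Nat.add_mul_mod_self_right, Nat.mod_eq_of_lt hs]
  have e3 : (I * p + r) / p = I := by
    rw [Nat.add_comm, Nat.add_mul_div_right _ _ hp, Nat.div_eq_of_lt hr, Nat.zero_add]
  have e4 : (i * p + s) / p = i := by
    rw [Nat.add_comm, Nat.add_mul_div_right _ _ hp, Nat.div_eq_of_lt hs, Nat.zero_add]
  rw [e1, e2, e3, e4] at h
  have := (CharP.natCast_eq_natCast k p).mpr h
  rw [this, Nat.cast_mul, mul_comm]

/-- the Cartier-Manin transformation identity, coefficientwise -/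
theorem cartierManin_coeff {k : Type u} [CommRing k] (p : ℕ) [Fact p.Prime] [CharP k p]
    (g : ℕ) (hg : g ≤ p) (h : k[X]) (hdeg : h.natDegree ≤ (g + 1) * (p - 1)) (α : k)
    (i j : ℕ) (_hi : i < g) (hj : j < g) :
    (h.comp (X + C α)).coeff ((i + 1) * p - (j + 1)) =
      ∑ J ∈ range g, (∑ I ∈ range g, (((I.choose i : ℕ) : k) * α ^ ((I - i) * p)) *
          h.coeff ((I + 1) * p - (J + 1))) *
        ((((p - (J + 1)).choose (p - (j + 1)) : ℕ) : k) * α ^ (j - J)) := by
  have hp : 0 < p := (Fact.out : p.Prime).pos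
  have hB : h.natDegree < (g + 1) * p := by
    have : (g + 1) * (p - 1) < (g + 1) * p := Nat.mul_lt_mul_of_pos_left (by omega) (by omega)
    omega
  rw [coeff_comp_X_add_C h α _ hB]
  simp_rw [Finset.sum_mul]
  rw [← Finset.sum_product' (range g) (range g)
    (fun J I => (((I.choose i : ℕ) : k) * α ^ ((I - i) * p)) * h.coeff ((I + 1) * p - (J + 1)) *
        ((((p - (J + 1)).choose (p - (j + 1)) : ℕ) : k) * α ^ (j - J)))]
  set s := p - (j + 1) with hs
  have hsp : s < p := by omega
  have hm : (i + 1) * p - (j + 1) = i * p + s := by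
    have : (i + 1) * p = i * p + p := by ring
    omega
  rw [hm]
  -- key facts about a nonzero term
  have key : ∀ l, l < (g + 1) * p →
      ((l.choose (i * p + s) : ℕ) : k) * h.coeff l * α ^ (l - (i * p + s)) ≠ 0 →
      p - 1 - l % p < g ∧ l / p < g := by
    intro l hl hne
    have hr : l % p < p := Nat.mod_lt _ hp
    have hdecomp : l = (l / p) * p + l % p := by
      have := Nat.div_add_mod l p
      rw [Nat.mul_comm] at this; omega
    have hluc := lucas_cast (k := k) p (l / p) i (l % p) s hr hsp
    rw [← hdecomp] at hluc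
    have h1 : ((l.choose (i * p + s) : ℕ) : k) ≠ 0 := fun h0 => hne (by rw [h0, zero_mul, zero_mul])
    have h2 : h.coeff l ≠ 0 := fun h0 => hne (by rw [h0, mul_zero, zero_mul])
    have h3 : ((l % p).choose s) ≠ 0 := by
      intro h0
      apply h1
      rw [hluc, h0, Nat.cast_zero, mul_zero]
    have h4 : s ≤ l % p := by
      by_contra hlt
      exact h3 (Nat.choose_eq_zero_of_lt (by omega))
    have h5 : l ≤ (g + 1) * (p - 1) := le_trans (le_natDegree_of_ne_zero h2) hdeg
    have hJ : p - 1 - l % p < g := by omega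
    refine ⟨hJ, ?_⟩
    by_contra hge
    have hge' : g ≤ l / p := by omega
    have h6 : g * p ≤ l := by
      calc g * p ≤ (l / p) * p := Nat.mul_le_mul_right _ hge'
        _ ≤ l := Nat.div_mul_le_self l p
    have h7 : (g + 1) * (p - 1) + (g + 1) = g * p + p := by
      obtain ⟨q, rfl⟩ : ∃ q, p = q + 1 := ⟨p - 1, by omega⟩
      simp only [Nat.add_sub_cancel]; ring
    have h8 : l / p = g := by
      have : l / p < g + 1 := by
        rw [Nat.div_lt_iff_lt_mul hp]; exact hl
      omega
    rw [h8] at hdecomp
    omega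
  refine Finset.sum_bij_ne_zero (fun l _ _ => (p - 1 - l % p, l / p)) ?_ ?_ ?_ ?_
  · intro l hl hne
    rw [Finset.mem_range] at hl
    obtain ⟨h1, h2⟩ := key l hl hne
    simp only [Finset.mem_product, Finset.mem_range]
    exact ⟨h1, h2⟩
  · intro l₁ hl₁ hne₁ l₂ hl₂ hne₂ heq
    simp only [Prod.mk.injEq] at heq
    have hr1 : l₁ % p < p := Nat.mod_lt _ hp
    have hr2 : l₂ % p < p := Nat.mod_lt _ hp
    have e1 : l₁ % p = l₂ % p := by omega
    have := Nat.div_add_mod l₁ p
    have := Nat.div_add_mod l₂ p
    rw [← Nat.div_add_mod l₁ p, ← Nat.div_add_mod l₂ p, e1, heq.2]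
  · rintro ⟨J, I⟩ hJI hne
    simp only [Finset.mem_product, Finset.mem_range] at hJI
    obtain ⟨hJ, hI⟩ := hJI
    have hJp : J < p := lt_of_lt_of_le hJ hg
    have hl : I * p + (p - 1 - J) < (g + 1) * p := by
      have : (I + 1) * p ≤ g * p := Nat.mul_le_mul_right _ (by omega)
      have : (I + 1) * p = I * p + p := by ring
      have : (g + 1) * p = g * p + p := by ring
      omega
    have e1 : (I * p + (p - 1 - J)) % p = p - 1 - J := by
      rw [Nat.add_comm, Nat.add_mul_mod_self_right, Nat.mod_eq_of_lt (by omega)]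
    have e2 : (I * p + (p - 1 - J)) / p = I := by
      rw [Nat.add_comm, Nat.add_mul_div_right _ _ hp, Nat.div_eq_of_lt (by omega), Nat.zero_add]
    have e3 : (I + 1) * p - (J + 1) = I * p + (p - 1 - J) := by
      have : (I + 1) * p = I * p + p := by ring
      omega
    have hluc := lucas_cast (k := k) p I i (p - 1 - J) s (by omega) hsp
    have e4 : p - (J + 1) = p - 1 - J := by omega
    have hval : ((((I * p + (p - 1 - J)).choose (i * p + s) : ℕ) : k)) *
        h.coeff (I * p + (p - 1 - J)) * α ^ (I * p + (p - 1 - J) - (i * p + s)) =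
        (((I.choose i : ℕ) : k) * α ^ ((I - i) * p)) * h.coeff ((I + 1) * p - (J + 1)) *
        ((((p - (J + 1)).choose s : ℕ) : k) * α ^ (j - J)) := by
      rw [hluc, e3, e4]
      by_cases hc : i ≤ I ∧ s ≤ p - 1 - J
      · obtain ⟨hc1, hc2⟩ := hc
        have : I * p + (p - 1 - J) - (i * p + s) = (I - i) * p + (j - J) := by
          have : (I - i) * p + i * p = I * p := by rw [← Nat.add_mul]; congr 1; omega
          omega
        rw [this, pow_add]; ring
      · have : I.choose i = 0 ∨ (p - 1 - J).choose s = 0 := by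
          rw [not_and_or] at hc
          rcases hc with hc | hc
          · left; exact Nat.choose_eq_zero_of_lt (by omega)
          · right; exact Nat.choose_eq_zero_of_lt (by omega)
        rcases this with h0 | h0 <;> simp [h0]
    refine ⟨I * p + (p - 1 - J), Finset.mem_range.mpr hl, ?_, ?_⟩
    · rw [hval]; exact hne
    · simp only [e1, e2, Prod.mk.injEq, and_true]
      omega
  · intro l hl hne
    rw [Finset.mem_range] at hl
    obtain ⟨hJ, hI⟩ := key l hl hne
    have hr : l % p < p := Nat.mod_lt _ hp
    have hdecomp : l = (l / p) * p + l % p := by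
      have := Nat.div_add_mod l p
      rw [Nat.mul_comm] at this; omega
    have hluc := lucas_cast (k := k) p (l / p) i (l % p) s hr hsp
    rw [← hdecomp] at hluc
    simp only
    have e3 : (l / p + 1) * p - (p - 1 - l % p + 1) = l := by
      have : (l / p + 1) * p = (l / p) * p + p := by ring
      omega
    have e4 : p - (p - 1 - l % p + 1) = l % p := by omega
    rw [hluc, e3, e4]
    by_cases hc : i ≤ l / p ∧ s ≤ l % p
    · obtain ⟨hc1, hc2⟩ := hc
      have : l - (i * p + s) = (l / p - i) * p + (j - (p - 1 - l % p)) := by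
        have : (l / p - i) * p + i * p = (l / p) * p := by rw [← Nat.add_mul]; congr 1; omega
        omega
      rw [this, pow_add]; ring
    · have : (l / p).choose i = 0 ∨ (l % p).choose s = 0 := by
        rw [not_and_or] at hc
        rcases hc with hc | hc
        · left; exact Nat.choose_eq_zero_of_lt (by omega)
        · right; exact Nat.choose_eq_zero_of_lt (by omega)
      rcases this with h0 | h0 <;> simp [h0]

end Groth.Agent.H82
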