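import Groth.Agent.H82.KLFam
import Groth.Agent.H82.TorusHom
import Groth.Agent.H40.CoverGen
import Groth.Prelude.Def_SGA3x
import Mathlib

/-! A family of automorphisms of a group of multiplicative type, parametrized by a scheme with
connected fibres and trivial at the unit section, is trivial. Part 1: local analysis. -/

set_option autoImplicit false
set_option linter.unusedSectionVars false
universe u

open CategoryTheory MonoidalCategory CartesianMonoidalCategory MonObj AlgebraicGeometry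
open CategoryTheory.Limits
open Groth.Agent.H42 Groth.Agent.H40 Magnet
open Groth.Agent.H82.AMonPts Groth.Agent.H82.GroupIso Groth.Agent.H82.KLFam

namespace Groth.Agent.H82.CentMT

section Triv

variable {S : Scheme.{u}} {K H : Over S} (c : K ⊗ H ⟶ H)

/-- the family `c` is trivial at the point `x`, universally -/
def TrivAt {T : Over S} (x : T ⟶ K) : Prop :=
  ∀ (T' : Over S) (t : T' ⟶ T) (h : T' ⟶ H), lift (t ≫ x) h ≫ c = h

theorem TrivAt.comp {T T₁ : Over S} {x : T ⟶ K} (hx : TrivAt c x) (e : T₁ ⟶ T) :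
    TrivAt c (e ≫ x) := by
  intro T' t h
  rw [← Category.assoc]
  exact hx T' (t ≫ e) h

theorem trivAt_of_epi {T T₁ : Over S} (x : T ⟶ K)
    (hepi : ∀ (T' : Over S) (t : T' ⟶ T), ∃ (T'' : Over S) (q : T'' ⟶ T') (t₁ : T'' ⟶ T₁)
      (e : T₁ ⟶ T), Epi q ∧ q ≫ t = t₁ ≫ e ∧ TrivAt c (e ≫ x)) : TrivAt c x := by
  intro T' t h
  obtain ⟨T'', q, t₁, e, hq, hqt, htr⟩ := hepi T' t
  rw [← cancel_epi q, ← Category.assoc, comp_lift, ← Category.assoc, hqt, Category.assoc]
  exact htr T'' t₁ (q ≫ h)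

end Triv

section BC

variable {S U : Scheme.{u}} (g : U ⟶ S) {K H : Over S} [GrpObj K] [GrpObj H] (c : K ⊗ H ⟶ H)

theorem bcPtM_comp {G : Over S} [MonObj G] {Y Y' : Over U} (t : Y' ⟶ Y) (y : Y ⟶ Red.bc g G) :
    bcPtM g G (t ≫ y) = (Over.map g).map t ≫ bcPtM g G y :=
  Adjunction.homEquiv_naturality_left_symm _ _ _

/-- base-changed family -/
noncomputable def cbc : Red.bc g K ⊗ Red.bc g H ⟶ Red.bc g H :=
  (bcPtM_surjective g H
    (lift (bcPtM g K (fst (Red.bc g K) (Red.bc g H))) (bcPtM g H (snd (Red.bc g K) (Red.bc g H))) ≫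
      c)).choose

theorem bcPtM_cbc : bcPtM g H (cbc g c) =
    lift (bcPtM g K (fst (Red.bc g K) (Red.bc g H))) (bcPtM g H (snd (Red.bc g K) (Red.bc g H))) ≫
      c :=
  (bcPtM_surjective g H _).choose_spec

theorem bcPtM_lift_cbc {Y : Over U} (y : Y ⟶ Red.bc g K) (h : Y ⟶ Red.bc g H) :
    bcPtM g H (lift y h ≫ cbc g c) = lift (bcPtM g K y) (bcPtM g H h) ≫ c := by
  rw [bcPtM_comp, bcPtM_cbc, ← Category.assoc, comp_lift, ← bcPtM_comp, ← bcPtM_comp, lift_fst,
    lift_snd]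

/-- triviality at a point of the base change -/
def TrivU {Y : Over U} (y : Y ⟶ Red.bc g K) : Prop :=
  ∀ (Y' : Over U) (t : Y' ⟶ Y) (h : Y' ⟶ Red.bc g H), lift (t ≫ y) h ≫ cbc g c = h

theorem trivU_iff {Y : Over U} (y : Y ⟶ Red.bc g K) :
    TrivU g c y ↔ TrivAt c (bcPtM g K y) := by
  constructor
  · intro hy T' t h
    let Y' : Over U := Over.mk (t.left ≫ Y.hom)
    let tU : Y' ⟶ Y := Over.homMk t.left rfl
    let q : (Over.map g).obj Y' ≅ T' := Over.isoMk (Iso.refl _) (by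
      have := Over.w t
      simp only [Over.map_obj_hom, Iso.refl_hom, Category.id_comp] at this ⊢
      rw [← this]
      exact (Category.assoc _ _ _).symm)
    have hq : q.hom ≫ t = (Over.map g).map tU := by
      apply Over.OverMorphism.ext
      simp [q, tU]
    obtain ⟨h₀, hh₀⟩ := bcPtM_surjective g H (q.hom ≫ h)
    rw [← cancel_epi q.hom, ← Category.assoc, comp_lift, ← Category.assoc, hq, ← bcPtM_comp, ← hh₀,
      ← bcPtM_lift_cbc, hy Y' tU h₀]
  · intro hy Y' t h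
    apply bcPtM_injective g H
    rw [bcPtM_lift_cbc, bcPtM_comp]
    exact hy _ _ _

end BC

section Loc

variable {S U : Scheme.{u}} (g : U ⟶ S) {K H : Over S} [GrpObj K] [GrpObj H] (c : K ⊗ H ⟶ H)
  {M : Type} [AddCommGroup M] (e : Red.bc g H ≅ AMonS U M) [IsMonHom e.hom]
  (hc1 : ∀ (T : Over S) (x : T ⟶ K) (h h' : T ⟶ H),
    lift x (h * h') ≫ c = (lift x h ≫ c) * (lift x h' ≫ c))

/-- the family of endomorphisms of `D(M)` -/
noncomputable def cD : Red.bc g K ⊗ AMonS U M ⟶ AMonS U M :=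
  (Red.bc g K ◁ e.inv) ≫ cbc g c ≫ e.hom

theorem lift_cD {Y : Over U} (y : Y ⟶ Red.bc g K) (h : Y ⟶ AMonS U M) :
    lift y h ≫ cD g c e = (lift y (h ≫ e.inv) ≫ cbc g c) ≫ e.hom := by
  unfold cD
  rw [← Category.assoc, lift_whiskerLeft, Category.assoc]

include hc1 in
theorem cbc_mul {Y : Over U} (y : Y ⟶ Red.bc g K) (h h' : Y ⟶ Red.bc g H) :
    lift y (h * h') ≫ cbc g c = (lift y h ≫ cbc g c) * (lift y h' ≫ cbc g c) := by
  apply bcPtM_injective g H
  rw [bcPtM_mul, bcPtM_lift_cbc, bcPtM_lift_cbc, bcPtM_lift_cbc, bcPtM_mul]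
  exact hc1 _ _ _ _

include hc1 in
theorem cD_mul {Y : Over U} (y : Y ⟶ Red.bc g K) (h h' : Y ⟶ AMonS U M) :
    lift y (h * h') ≫ cD g c e = (lift y h ≫ cD g c e) * (lift y h' ≫ cD g c e) := by
  rw [lift_cD, lift_cD, lift_cD, MonObj.mul_comp, cbc_mul g c hc1, MonObj.mul_comp]

include hc1 in
theorem exists_local (hM : AddGroup.FG M) (x₀ : (Red.bc g K).left) :
    ∃ (V : (Red.bc g K).left.Opens) (φ : M →+ M), x₀ ∈ V ∧
      ∀ (Y : Over U) (y : Y ⟶ Red.bc g K) (h : Y ⟶ Red.bc g H), (∀ z, y.left z ∈ V) →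
        (lift y h ≫ cbc g c) ≫ e.hom = (h ≫ e.hom) ≫ AMonS.map U φ := by
  obtain ⟨V, φ, hx, Hf⟩ := KLFam.exists_local (Red.bc g K) (cD g c e)
    (fun T x h h' => cD_mul g c e hc1 x h h') hM x₀
  refine ⟨V, φ, hx, fun Y y h hy => ?_⟩
  have h1 := Hf Y y (h ≫ e.hom) hy
  rw [lift_cD, Category.assoc h, e.hom_inv_id, Category.comp_id] at h1
  exact h1

theorem comp_map_id {Y : Over U} (h : Y ⟶ AMonS U M) :
    h ≫ AMonS.map U (AddMonoidHom.id M) = h := by
  apply amFn_ext
  intro m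
  rw [amFn_map]
  rfl

theorem pt_comp_apply {X : Over U} (x : X.left) {Y : Over U} (t : Y ⟶ KLFam.Pt X x) (z : Y.left) :
    (t ≫ KLFam.pt X x).left z = x := by
  rw [Over.comp_left, KLFam.pt_left, Scheme.Hom.comp_apply]
  exact Scheme.fromSpecResidueField_apply _ _

/-- the locus of triviality in the base change -/
def W : Set (Red.bc g K).left := {x | TrivU g c (KLFam.pt (Red.bc g K) x)}

include hc1 e in
theorem exists_open_W (hM : AddGroup.FG M) (x₀ : (Red.bc g K).left) :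
    ∃ V : (Red.bc g K).left.Opens, x₀ ∈ V ∧
      (((∀ (Y : Over U) (y : Y ⟶ Red.bc g K) (h : Y ⟶ Red.bc g H), (∀ z, y.left z ∈ V) →
        lift y h ≫ cbc g c = h) ∧ (V : Set _) ⊆ W g c) ∨ (V : Set _) ⊆ (W g c)ᶜ) := by
  obtain ⟨V, φ, hx, Hf⟩ := exists_local g c e hc1 hM x₀
  refine ⟨V, hx, ?_⟩
  by_cases hφ : φ = AddMonoidHom.id M
  · left
    have key : ∀ (Y : Over U) (y : Y ⟶ Red.bc g K) (h : Y ⟶ Red.bc g H), (∀ z, y.left z ∈ V) →
        lift y h ≫ cbc g c = h := by
      intro Y y h hy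
      have h1 := Hf Y y h hy
      rw [hφ, comp_map_id] at h1
      exact (cancel_mono e.hom).mp h1
    refine ⟨key, ?_⟩
    intro x' hx' Y' t h
    apply key
    intro z
    rw [pt_comp_apply]
    exact hx'
  · right
    intro x' hx' hW
    apply hφ
    -- universal point over the residue field of x'
    let Y' : Over U := KLFam.Pt (Red.bc g K) x' ⊗ AMonS U M
    have h1 := Hf Y' (fst _ _ ≫ KLFam.pt (Red.bc g K) x') (snd _ _ ≫ e.inv)
      (fun z => by rw [pt_comp_apply]; exact hx')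
    rw [hW Y' (fst _ _) (snd _ _ ≫ e.inv), Category.assoc, e.inv_hom_id, Category.comp_id] at h1
    ext m
    have h2 := congrArg (fun f => amFn f (Multiplicative.ofAdd m)) h1
    beta_reduce at h2
    rw [amFn_map] at h2
    have h3 := KLFam.amFn_snd_injective (M := M) (KLFam.Pt (Red.bc g K) x') h2
    exact (congrArg Multiplicative.toAdd h3).symm

include hc1 e in
theorem isClopen_W (hM : AddGroup.FG M) : IsClopen (W g c) := by
  constructor
  · rw [← isOpen_compl_iff, isOpen_iff_forall_mem_open]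
    intro x hx
    obtain ⟨V, hxV, hV⟩ := exists_open_W g c e hc1 hM x
    rcases hV with ⟨-, hV⟩ | hV
    · exact absurd (hV hxV) hx
    · exact ⟨V, hV, V.2, hxV⟩
  · rw [isOpen_iff_forall_mem_open]
    intro x hx
    obtain ⟨V, hxV, hV⟩ := exists_open_W g c e hc1 hM x
    rcases hV with ⟨-, hV⟩ | hV
    · exact ⟨V, hV, V.2, hxV⟩
    · exact absurd hx (hV hxV)

include hc1 e in
theorem exists_open_triv (hM : AddGroup.FG M) (x₀ : (Red.bc g K).left) (hx₀ : x₀ ∈ W g c) :
    ∃ V : (Red.bc g K).left.Opens, x₀ ∈ V ∧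
      ∀ (Y : Over U) (y : Y ⟶ Red.bc g K) (h : Y ⟶ Red.bc g H), (∀ z, y.left z ∈ V) →
        lift y h ≫ cbc g c = h := by
  obtain ⟨V, hxV, hV⟩ := exists_open_W g c e hc1 hM x₀
  rcases hV with ⟨hV, -⟩ | hV
  · exact ⟨V, hxV, hV⟩
  · exact absurd hx₀ (hV hxV)

end Loc

section Field

theorem flat_surj_SpecMap_of_field {κ : Type u} [Field κ] {L : Type u} [Field L]
    (φ : CommRingCat.of κ ⟶ CommRingCat.of L) : Flat (Spec.map φ) ∧ Surjective (Spec.map φ) := by
  constructor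
  · rw [HasRingHomProperty.Spec_iff (P := @Flat)]
    letI := φ.hom.toAlgebra
    change Module.Flat κ L
    infer_instance
  · exact ⟨fun x => ⟨default, Subsingleton.elim _ _⟩⟩

theorem epi_fst_of_field {κ : Type u} [Field κ] {L : Type u} [Field L]
    (φ : CommRingCat.of κ ⟶ CommRingCat.of L) {T : Scheme.{u}} (t : T ⟶ Spec (CommRingCat.of κ)) :
    Epi (pullback.fst t (Spec.map φ)) := by
  obtain ⟨h1, h2⟩ := flat_surj_SpecMap_of_field φ
  infer_instance

variable {S : Scheme.{u}} {K H : Over S} (c : K ⊗ H ⟶ H)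

/-- the locus of triviality -/
def Z : Set K.left := {p | TrivAt c (KLFam.pt K p)}

theorem trivAt_iff_Z {T : Over S} (y : T ⟶ K) {L : Type u} [Field L]
    (a : Spec (CommRingCat.of L) ⟶ T.left) [IsIso a] :
    TrivAt c y ↔ (a ≫ y.left) (IsLocalRing.closedPoint L) ∈ Z c := by
  set f : Spec (CommRingCat.of L) ⟶ K.left := a ≫ y.left with hf
  set p := f (IsLocalRing.closedPoint L) with hp
  let φ : K.left.residueField p ⟶ CommRingCat.of L :=
    Scheme.descResidueField (Scheme.stalkClosedPointTo f)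
  have hφ : Spec.map φ ≫ K.left.fromSpecResidueField p = f :=
    Scheme.descResidueField_stalkClosedPointTo_fromSpecResidueField L K.left f
  let e₁ : T ⟶ KLFam.Pt K p := Over.homMk (inv a ≫ Spec.map φ) (by
    change (inv a ≫ Spec.map φ) ≫ K.left.fromSpecResidueField p ≫ K.hom = T.hom
    rw [Category.assoc, ← Category.assoc (Spec.map φ), hφ, hf, Category.assoc,
      IsIso.inv_hom_id_assoc, Over.w])
  have he₁ : e₁ ≫ KLFam.pt K p = y := by
    apply Over.OverMorphism.ext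
    change (inv a ≫ Spec.map φ) ≫ K.left.fromSpecResidueField p = y.left
    rw [Category.assoc, hφ, hf, IsIso.inv_hom_id_assoc]
  constructor
  · intro hy
    change TrivAt c (KLFam.pt K p)
    apply trivAt_of_epi c (T₁ := T)
    intro T' t
    let T'' : Over S := Over.mk (pullback.fst t.left (Spec.map φ) ≫ T'.hom)
    let q : T'' ⟶ T' := Over.homMk (pullback.fst t.left (Spec.map φ)) rfl
    let t₁ : T'' ⟶ T := Over.homMk (pullback.snd t.left (Spec.map φ) ≫ a) (by
      change (pullback.snd t.left (Spec.map φ) ≫ a) ≫ T.hom =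
        pullback.fst t.left (Spec.map φ) ≫ T'.hom
      rw [← Over.w y, ← Over.w t, Category.assoc, ← Category.assoc a, ← hf, ← hφ]
      change _ = pullback.fst t.left (Spec.map φ) ≫ t.left ≫
        K.left.fromSpecResidueField p ≫ K.hom
      rw [← Category.assoc (pullback.fst _ _), pullback.condition, Category.assoc, Category.assoc])
    refine ⟨T'', q, t₁, e₁, ?_, ?_, ?_⟩
    · have : Epi ((Over.forget S).map q) := epi_fst_of_field φ t.left
      exact (Over.forget S).epi_of_epi_map this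
    · apply Over.OverMorphism.ext
      change pullback.fst t.left (Spec.map φ) ≫ t.left =
        (pullback.snd t.left (Spec.map φ) ≫ a) ≫ inv a ≫ Spec.map φ
      rw [Category.assoc, IsIso.hom_inv_id_assoc, pullback.condition]
    · rw [he₁]
      exact hy
  · intro hZ
    rw [← he₁]
    exact TrivAt.comp c hZ e₁

end Field

section Fibre

variable {S U : Scheme.{u}} (g : U ⟶ S) {K H : Over S} [GrpObj K] [GrpObj H] (c : K ⊗ H ⟶ H)
  {M : Type} [AddCommGroup M] (e : Red.bc g H ≅ AMonS U M) [IsMonHom e.hom]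
  (hc1 : ∀ (T : Over S) (x : T ⟶ K) (h h' : T ⟶ H),
    lift x (h * h') ≫ c = (lift x h ≫ c) * (lift x h' ≫ c))
  (hc2 : ∀ (T : Over S) (h : T ⟶ H), lift 1 h ≫ c = h)

theorem mem_W_iff (x : (Red.bc g K).left) :
    x ∈ W g c ↔ (pullback.fst K.hom g) x ∈ Z c := by
  change TrivU g c _ ↔ _
  rw [trivU_iff]
  have h0 := trivAt_iff_Z c (bcPtM g K (KLFam.pt (Red.bc g K) x))
    (L := (Red.bc g K).left.residueField x) (a := 𝟙 _)
  have h1 : ∀ (l : Spec (CommRingCat.of ↑((Red.bc g K).left.residueField x)) ⟶ K.left),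
      (𝟙 _ ≫ l) (IsLocalRing.closedPoint ((Red.bc g K).left.residueField x)) =
        l (IsLocalRing.closedPoint ((Red.bc g K).left.residueField x)) := fun l => by
    rw [Category.id_comp]
  have h2 : (bcPtM g K (KLFam.pt (Red.bc g K) x)).left
      (IsLocalRing.closedPoint ((Red.bc g K).left.residueField x)) = (pullback.fst K.hom g) x := by
    rw [bcPtM_left, KLFam.pt_left, Scheme.Hom.comp_apply]
    congr 1
    exact Scheme.fromSpecResidueField_apply _ _
  refine h0.trans (Eq.to_iff (congrArg (· ∈ Z c) ?_))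
  exact (h1 _).trans h2

include hc2 in
theorem exists_mem_Z (s : S) :
    ∃ z : ↥(pullback K.hom (S.fromSpecResidueField s)),
      (pullback.fst K.hom (S.fromSpecResidueField s)) z ∈ Z c := by
  let T₀ : Over S := Over.mk (S.fromSpecResidueField s)
  let y₀ : T₀ ⟶ K := 1
  have htriv : TrivAt c y₀ := by
    intro T' t h
    have : t ≫ y₀ = 1 := MonObj.comp_one t
    rw [this]
    exact hc2 T' h
  have hZ := (trivAt_iff_Z c y₀ (L := S.residueField s) (a := 𝟙 _)).mp htriv
  rw [Category.id_comp] at hZ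
  obtain ⟨z, hz, -⟩ := Scheme.Pullback.exists_preimage_pullback (f := K.hom)
    (g := S.fromSpecResidueField s) (y₀.left (IsLocalRing.closedPoint (S.residueField s)))
    (IsLocalRing.closedPoint (S.residueField s)) (by
      rw [← Scheme.Hom.comp_apply, Over.w y₀]
      rfl)
  exact ⟨z, by rw [hz]; exact hZ⟩

include hc1 hc2 e in
theorem fibre_subset_Z (hM : AddGroup.FG M) (u : U)
    [hconn : ConnectedSpace ↥(pullback K.hom (S.fromSpecResidueField (g u)))]
    (z : ↥(pullback K.hom (S.fromSpecResidueField (g u)))) :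
    (pullback.fst K.hom (S.fromSpecResidueField (g u))) z ∈ Z c := by
  set ιs := pullback.fst K.hom (S.fromSpecResidueField (g u)) with hιs
  set σ := pullback.snd K.hom (S.fromSpecResidueField (g u)) with hσ
  let ρ : Spec (U.residueField u) ⟶ Spec (S.residueField (g u)) := Spec.map (g.residueFieldMap u)
  obtain ⟨hρ1, hρ2⟩ := flat_surj_SpecMap_of_field (κ := S.residueField (g u))
    (L := U.residueField u) (g.residueFieldMap u)
  have hρ1' : Flat ρ := hρ1
  have hρ2' : Surjective ρ := hρ2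
  let π := pullback.fst σ ρ
  have hw : (π ≫ ιs) ≫ K.hom = (pullback.snd σ ρ ≫ U.fromSpecResidueField u) ≫ g := by
    rw [Category.assoc, hιs, pullback.condition, ← Category.assoc, pullback.condition,
      Category.assoc, Category.assoc]
    congr 1
    exact Scheme.Hom.SpecMap_residueFieldMap_fromSpecResidueField g u
  let q : pullback σ ρ ⟶ (Red.bc g K).left := pullback.lift _ _ hw
  have hq : q ≫ pullback.fst K.hom g = π ≫ ιs := pullback.lift_fst _ _ _
  have hπ : Topology.IsQuotientMap π := Flat.isQuotientMap_of_surjective π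
  have hpre : π ⁻¹' (ιs ⁻¹' (Z c)) = q ⁻¹' (W g c) := by
    ext a
    simp only [Set.mem_preimage]
    rw [mem_W_iff, ← Scheme.Hom.comp_apply, ← Scheme.Hom.comp_apply, hq]
  have hclopen : IsClopen (ιs ⁻¹' (Z c)) := by
    rw [← hπ.isClopen_preimage, hpre]
    exact (isClopen_W g c e hc1 hM).preimage q.continuous
  rcases isClopen_iff.mp hclopen with h0 | h1
  · obtain ⟨z₀, hz₀⟩ := exists_mem_Z c hc2 (g u)
    have : z₀ ∈ ιs ⁻¹' (Z c) := hz₀
    rw [h0] at this
    exact absurd this (Set.notMem_empty _)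
  · have : z ∈ ιs ⁻¹' (Z c) := by rw [h1]; trivial
    exact this

end Fibre

section Main

theorem hom_ext_of_forall_open {P Q : Scheme.{u}} (a b : P ⟶ Q)
    (h : ∀ z : P, ∃ (O : Scheme.{u}) (j : O ⟶ P), IsOpenImmersion j ∧ z ∈ Set.range j ∧
      j ≫ a = j ≫ b) : a = b := by
  choose O j hj hz hab using h
  have hU : TopologicalSpace.IsOpenCover (fun z => (j z).opensRange) :=
    eq_top_iff.mpr (fun z _ => TopologicalSpace.Opens.mem_iSup.mpr ⟨z, hz z⟩)
  refine (P.openCoverOfIsOpenCover _ hU).hom_ext a b (fun z => ?_)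
  change (j z).opensRange.ι ≫ a = (j z).opensRange.ι ≫ b
  rw [← Scheme.Hom.isoOpensRange_inv_comp, Category.assoc, Category.assoc, hab]

variable {S : Scheme.{u}} (K H : Over S) [GrpObj K] [GrpObj H]

theorem main (hconn : ∀ s : S, ConnectedSpace ↥(pullback K.hom (S.fromSpecResidueField s)))
    (hH : SGA3x.IsMultTypeFT H) (c : K ⊗ H ⟶ H)
    (hc1 : ∀ (T : Over S) (x : T ⟶ K) (h h' : T ⟶ H),
      lift x (h * h') ≫ c = (lift x h ≫ c) * (lift x h' ≫ c))
    (hc2 : ∀ (T : Over S) (h : T ⟶ H), lift 1 h ≫ c = h) : c = snd K H := by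
  obtain ⟨S', f, hflat, hsurj, hqc, htriv⟩ := hH
  have hloc : ∀ u' : S', ∃ (U : S'.Opens) (_ : u' ∈ U) (M : Type) (_ : AddCommGroup M)
      (_ : AddGroup.FG M) (e : Red.bc (U.ι ≫ f) H ≅ AMonS (U : Scheme.{u}) M),
      IsMonHom e.hom := by
    intro u'
    obtain ⟨U, hu, M, iM, hM, hθ⟩ := htriv u'
    obtain ⟨e, he⟩ := TorusHom.exists_iso_of_grpIso hθ
    exact ⟨U, hu, M, iM, hM, e, he⟩
  have hZ : ∀ p : K.left, p ∈ Z c := by
    intro p
    obtain ⟨u', hu'⟩ := hsurj.surj (K.hom p)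
    obtain ⟨U, hu, M, iM, hM, e, he⟩ := hloc u'
    let u : U := ⟨u', hu⟩
    have hgu : (U.ι ≫ f) u = K.hom p := by
      rw [Scheme.Hom.comp_apply]
      exact hu'
    obtain ⟨z, hz, -⟩ := Scheme.Pullback.exists_preimage_pullback (f := K.hom)
      (g := S.fromSpecResidueField ((U.ι ≫ f) u)) p
      (IsLocalRing.closedPoint (S.residueField ((U.ι ≫ f) u))) (by
        rw [hgu]
        exact (Scheme.fromSpecResidueField_apply _ _).symm)
    haveI := hconn ((U.ι ≫ f) u)
    have h1 := fibre_subset_Z (U.ι ≫ f) c e hc1 hc2 hM u z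
    rwa [hz] at h1
  have key : ∀ (T' : Over S) (t : T' ⟶ K) (h : T' ⟶ H), lift t h ≫ c = h := by
    intro T' t h
    apply Over.OverMorphism.ext
    have hcov : Presieve.singleton f ∈ Scheme.fpqcPrecoverage S :=
      Groth.Agent.H40.CD.singleton_mem_fpqcPrecoverage_of_image f hsurj hflat hqc
    have hcov' := Groth.Agent.H40.CD.singleton_mem_fpqcPrecoverage_of_isPullback hcov
      (IsPullback.of_hasPullback T'.hom f)
    haveI := Groth.Agent.H40.effectiveEpi_of_mem_fpqcPrecoverage _ hcov'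
    rw [← cancel_epi (pullback.fst T'.hom f)]
    apply hom_ext_of_forall_open
    intro z
    obtain ⟨U, hu, M, iM, hM, e, he⟩ := hloc ((pullback.snd T'.hom f) z)
    let O₁ : (pullback T'.hom f).Opens := (pullback.snd T'.hom f) ⁻¹ᵁ U
    have hzO₁ : z ∈ O₁ := hu
    let r₁ : (O₁ : Scheme.{u}) ⟶ (U : Scheme.{u}) :=
      IsOpenImmersion.lift U.ι (O₁.ι ≫ pullback.snd T'.hom f) (by
        rintro _ ⟨w, rfl⟩
        rw [Scheme.Opens.range_ι]
        exact w.2)
    have hr₁ : r₁ ≫ U.ι = O₁.ι ≫ pullback.snd T'.hom f := IsOpenImmersion.lift_fac _ _ _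
    let Y₁ : Over (U : Scheme.{u}) := Over.mk r₁
    let q₁ : (Over.map (U.ι ≫ f)).obj Y₁ ⟶ T' := Over.homMk (O₁.ι ≫ pullback.fst T'.hom f) (by
      change (O₁.ι ≫ pullback.fst T'.hom f) ≫ T'.hom = r₁ ≫ U.ι ≫ f
      rw [← Category.assoc r₁, hr₁, Category.assoc, Category.assoc, pullback.condition])
    obtain ⟨y₁, hy₁⟩ := bcPtM_surjective (U.ι ≫ f) K (q₁ ≫ t)
    obtain ⟨h₁, hh₁⟩ := bcPtM_surjective (U.ι ≫ f) H (q₁ ≫ h)
    let x : (Red.bc (U.ι ≫ f) K).left := y₁.left ⟨z, hzO₁⟩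
    have hxW : x ∈ W (U.ι ≫ f) c := (mem_W_iff (U.ι ≫ f) c x).mpr (hZ _)
    obtain ⟨V, hxV, HV⟩ := exists_open_triv (U.ι ≫ f) c e hc1 hM x hxW
    let O₂ : Y₁.left.Opens := y₁.left ⁻¹ᵁ V
    have hzO₂ : (⟨z, hzO₁⟩ : Y₁.left) ∈ O₂ := hxV
    let Y₂ : Over (U : Scheme.{u}) := Over.mk (O₂.ι ≫ r₁)
    let j₂ : Y₂ ⟶ Y₁ := Over.homMk O₂.ι rfl
    have hland : ∀ w, (j₂ ≫ y₁).left w ∈ V := by
      intro w
      rw [Over.comp_left, Scheme.Hom.comp_apply]
      exact w.2
    have h3 := HV Y₂ (j₂ ≫ y₁) (j₂ ≫ h₁) hland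
    have h4 := congrArg (bcPtM (U.ι ≫ f) H) h3
    rw [bcPtM_lift_cbc, bcPtM_comp, bcPtM_comp, hy₁, hh₁, ← Category.assoc, ← Category.assoc,
      ← comp_lift, Category.assoc] at h4
    refine ⟨O₂, O₂.ι ≫ O₁.ι, inferInstance, ⟨⟨⟨z, hzO₁⟩, hzO₂⟩, rfl⟩, ?_⟩
    have h5 := congrArg (fun m => m.left) h4
    have hj₂ : j₂.left = O₂.ι := rfl
    have hq₁ : q₁.left = O₁.ι ≫ pullback.fst T'.hom f := rfl
    simp only [Over.comp_left, Over.map_map_left, Category.assoc] at h5
    rw [hj₂, hq₁] at h5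
    simpa using h5
  have h0 := key (K ⊗ H) (fst K H) (snd K H)
  rwa [lift_fst_snd, Category.id_comp] at h0

end Main

end Groth.Agent.H82.CentMT
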