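import Groth.Agent.H82.AMonPts
import Groth.Agent.H40.GrpPts
import Mathlib

/-! Transport of a trivialization `bc g H ≅ D_U(M)` along a morphism `w : W ⟶ U`. -/

set_option autoImplicit false
set_option linter.unusedSectionVars false
universe u

open CategoryTheory MonoidalCategory CartesianMonoidalCategory MonObj AlgebraicGeometry
open CategoryTheory.Limits
open Groth.Agent.H42 Groth.Agent.H40 Magnet
open Groth.Agent.H82.AMonPts

namespace Groth.Agent.H82.ChartComp

variable {S U W : Scheme.{u}} (g : U ⟶ S) (w : W ⟶ U)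

/-- `Y` over `W`, seen over `S` in two ways -/
noncomputable def assocIso (Y : Over W) :
    (Over.map g).obj ((Over.map w).obj Y) ≅ (Over.map (w ≫ g)).obj Y :=
  Over.isoMk (Iso.refl _) (by simp)

theorem assocIso_hom_left (Y : Over W) : (assocIso g w Y).hom.left = 𝟙 _ := rfl

theorem assocIso_natural {Y Y' : Over W} (t : Y' ⟶ Y) :
    (assocIso g w Y').hom ≫ (Over.map (w ≫ g)).map t =
      (Over.map g).map ((Over.map w).map t) ≫ (assocIso g w Y).hom := by
  apply Over.OverMorphism.ext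
  simp [assocIso]

variable (H : Over S) [GrpObj H]

/-- points of `bc (w ≫ g) H` over `Y` as points of `bc g H` over `Y` seen over `U` -/
noncomputable def ptEquiv (Y : Over W) :
    (Y ⟶ Red.bc (w ≫ g) H) ≃ ((Over.map w).obj Y ⟶ Red.bc g H) where
  toFun h := ((Over.mapPullbackAdj g).homEquiv _ H) ((assocIso g w Y).hom ≫ bcPtM (w ≫ g) H h)
  invFun h' := ((Over.mapPullbackAdj (w ≫ g)).homEquiv Y H) ((assocIso g w Y).inv ≫ bcPtM g H h')
  left_inv h := by
    change ((Over.mapPullbackAdj (w ≫ g)).homEquiv Y H) ((assocIso g w Y).inv ≫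
      ((Over.mapPullbackAdj g).homEquiv _ H).symm
        (((Over.mapPullbackAdj g).homEquiv _ H) ((assocIso g w Y).hom ≫ bcPtM (w ≫ g) H h))) = h
    rw [Equiv.symm_apply_apply, Iso.inv_hom_id_assoc]
    exact Equiv.apply_symm_apply _ _
  right_inv h' := by
    change ((Over.mapPullbackAdj g).homEquiv _ H) ((assocIso g w Y).hom ≫
      ((Over.mapPullbackAdj (w ≫ g)).homEquiv Y H).symm
        (((Over.mapPullbackAdj (w ≫ g)).homEquiv Y H) ((assocIso g w Y).inv ≫ bcPtM g H h'))) = h'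
    rw [Equiv.symm_apply_apply, Iso.hom_inv_id_assoc]
    exact Equiv.apply_symm_apply _ _

theorem bcPtM_ptEquiv (Y : Over W) (h : Y ⟶ Red.bc (w ≫ g) H) :
    bcPtM g H (ptEquiv g w H Y h) = (assocIso g w Y).hom ≫ bcPtM (w ≫ g) H h :=
  Equiv.symm_apply_apply _ _

theorem ptEquiv_mul (Y : Over W) (h h' : Y ⟶ Red.bc (w ≫ g) H) :
    ptEquiv g w H Y (h * h') = ptEquiv g w H Y h * ptEquiv g w H Y h' := by
  apply bcPtM_injective g H
  rw [bcPtM_mul, bcPtM_ptEquiv, bcPtM_ptEquiv, bcPtM_ptEquiv, bcPtM_mul, MonObj.comp_mul]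

theorem ptEquiv_comp {Y Y' : Over W} (t : Y' ⟶ Y) (h : Y ⟶ Red.bc (w ≫ g) H) :
    ptEquiv g w H Y' (t ≫ h) = (Over.map w).map t ≫ ptEquiv g w H Y h := by
  apply bcPtM_injective g H
  have e1 : bcPtM (w ≫ g) H (t ≫ h) = (Over.map (w ≫ g)).map t ≫ bcPtM (w ≫ g) H h :=
    Adjunction.homEquiv_naturality_left_symm _ _ _
  have e2 : bcPtM g H ((Over.map w).map t ≫ ptEquiv g w H Y h) =
      (Over.map g).map ((Over.map w).map t) ≫ bcPtM g H (ptEquiv g w H Y h) :=
    Adjunction.homEquiv_naturality_left_symm _ _ _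
  rw [bcPtM_ptEquiv, e1, e2, bcPtM_ptEquiv, ← Category.assoc, assocIso_natural, Category.assoc]

section Chart

variable {M : Type} [AddCommGroup M] (e : Red.bc g H ≅ AMonS U M) [IsMonHom e.hom]

/-- characters of a point of `bc (w ≫ g) H`, computed through the chart `e` over `U` -/
noncomputable def chr (Y : Over W) (h : Y ⟶ Red.bc (w ≫ g) H) :
    Multiplicative M →* Γ(Y.left, ⊤) :=
  amFn (S := U) (X := (Over.map w).obj Y) (ptEquiv g w H Y h ≫ e.hom)

theorem chr_mul (Y : Over W) (h h' : Y ⟶ Red.bc (w ≫ g) H) (m : Multiplicative M) :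
    chr g w H e Y (h * h') m = chr g w H e Y h m * chr g w H e Y h' m := by
  unfold chr
  rw [ptEquiv_mul, MonObj.mul_comp, amFn_mul]

theorem chr_comp {Y Y' : Over W} (t : Y' ⟶ Y) (h : Y ⟶ Red.bc (w ≫ g) H) (m : Multiplicative M) :
    chr g w H e Y' (t ≫ h) m = t.left.appTop (chr g w H e Y h m) := by
  unfold chr
  rw [ptEquiv_comp, Category.assoc, amFn_comp]
  rfl

/-- forward map on points -/
noncomputable def fwd (Y : Over W) (h : Y ⟶ Red.bc (w ≫ g) H) : Y ⟶ AMonS W M :=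
  (amFn_surjective (chr g w H e Y h)).choose

theorem amFn_fwd (Y : Over W) (h : Y ⟶ Red.bc (w ≫ g) H) :
    amFn (fwd g w H e Y h) = chr g w H e Y h :=
  (amFn_surjective (chr g w H e Y h)).choose_spec

/-- a point of `D_W(M)` over `Y`, seen as a point of `D_U(M)` -/
noncomputable def toU (Y : Over W) (x : Y ⟶ AMonS W M) : (Over.map w).obj Y ⟶ AMonS U M :=
  (amFn_surjective (S := U) (X := (Over.map w).obj Y) (amFn (S := W) (X := Y) x)).choose

theorem amFn_toU (Y : Over W) (x : Y ⟶ AMonS W M) :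
    amFn (toU w Y x) = amFn x :=
  (amFn_surjective (S := U) (X := (Over.map w).obj Y) (amFn (S := W) (X := Y) x)).choose_spec

/-- backward map on points -/
noncomputable def bwd (Y : Over W) (x : Y ⟶ AMonS W M) : Y ⟶ Red.bc (w ≫ g) H :=
  (ptEquiv g w H Y).symm (toU w Y x ≫ e.inv)

theorem fwd_bwd (Y : Over W) (x : Y ⟶ AMonS W M) : fwd g w H e Y (bwd g w H e Y x) = x := by
  apply amFn_injective
  rw [amFn_fwd]
  unfold chr bwd
  rw [Equiv.apply_symm_apply, Category.assoc, e.inv_hom_id, Category.comp_id, amFn_toU]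

theorem bwd_fwd (Y : Over W) (h : Y ⟶ Red.bc (w ≫ g) H) : bwd g w H e Y (fwd g w H e Y h) = h := by
  unfold bwd
  rw [Equiv.symm_apply_eq]
  have h1 : toU w Y (fwd g w H e Y h) = ptEquiv g w H Y h ≫ e.hom := by
    apply amFn_injective
    rw [amFn_toU, amFn_fwd]
    rfl
  rw [h1, Category.assoc, e.hom_inv_id, Category.comp_id]

theorem fwd_comp {Y Y' : Over W} (t : Y' ⟶ Y) (h : Y ⟶ Red.bc (w ≫ g) H) :
    fwd g w H e Y' (t ≫ h) = t ≫ fwd g w H e Y h := by
  apply amFn_ext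
  intro m
  rw [amFn_fwd, chr_comp, amFn_comp, amFn_fwd]

theorem fwd_mul (Y : Over W) (h h' : Y ⟶ Red.bc (w ≫ g) H) :
    fwd g w H e Y (h * h') = fwd g w H e Y h * fwd g w H e Y h' := by
  apply amFn_ext
  intro m
  rw [amFn_mul, amFn_fwd, amFn_fwd, amFn_fwd, chr_mul]

/-- the transported chart -/
theorem exists_chart_comp :
    ∃ e' : Red.bc (w ≫ g) H ≅ AMonS W M, IsMonHom e'.hom ∧
      ∀ (Y : Over W) (h : Y ⟶ Red.bc (w ≫ g) H), amFn (h ≫ e'.hom) = chr g w H e Y h := by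
  let e' : Red.bc (w ≫ g) H ≅ AMonS W M :=
    Yoneda.ext _ _ (fun {Y} h => fwd g w H e Y h) (fun {Y} x => bwd g w H e Y x)
      (fun {Y} h => bwd_fwd g w H e Y h) (fun {Y} x => fwd_bwd g w H e Y x)
      (fun {Y Y'} t h => fwd_comp g w H e t h)
  have he' : ∀ (Y : Over W) (h : Y ⟶ Red.bc (w ≫ g) H), h ≫ e'.hom = fwd g w H e Y h := by
    intro Y h
    have h1 : e'.hom = fwd g w H e _ (𝟙 _) := rfl
    rw [h1, ← fwd_comp, Category.comp_id]
  refine ⟨e', ?_, fun Y h => ?_⟩
  · apply isMonHom_of_points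
    · rw [he']
      apply amFn_ext
      intro m
      have h2 := congrArg (fun f => amFn f m)
        (fwd_mul g w H e _ (1 : 𝟙_ (Over W) ⟶ Red.bc (w ≫ g) H) 1)
      beta_reduce at h2
      rw [_root_.mul_one, amFn_mul] at h2
      have hu : IsUnit (amFn (fwd g w H e _ (1 : 𝟙_ (Over W) ⟶ Red.bc (w ≫ g) H)) m) :=
        (Group.isUnit m).map _
      rw [amFn_one]
      exact hu.mul_left_cancel (by rw [← h2, _root_.mul_one])
    · intro T a b
      rw [he', he', he', fwd_mul]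
  · rw [he', amFn_fwd]

end Chart

end Groth.Agent.H82.ChartComp
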