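import Groth.Agent.H82.LocMono
import Mathlib

/-! Mono/iso of a base change to a field can be tested after a field extension. -/

set_option autoImplicit false
set_option linter.unusedSectionVars false
universe u

open CategoryTheory MonoidalCategory CartesianMonoidalCategory MonObj AlgebraicGeometry
open CategoryTheory.Limits
open Groth.Agent.H42 Groth.Agent.H40 Magnet
open Groth.Agent.H82.AMonPts Groth.Agent.H82.CentMT

namespace Groth.Agent.H82.FieldDesc

theorem mono_map_iff_of_natIso {C D : Type*} [Category C] [Category D] {F G : C ⥤ D} (α : F ≅ G)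
    {X Y : C} (f : X ⟶ Y) : Mono (F.map f) ↔ Mono (G.map f) := by
  constructor
  · intro h
    have h1 : G.map f = α.inv.app X ≫ F.map f ≫ α.hom.app Y := by simp
    rw [h1]
    infer_instance
  · intro h
    have h1 : F.map f = α.hom.app X ≫ G.map f ≫ α.inv.app Y := by simp
    rw [h1]
    infer_instance

variable {S W V : Scheme.{u}}

theorem mono_pullbackComp_iff (ρ : W ⟶ V) (σ : V ⟶ S) {A B : Over S} (u : A ⟶ B) :
    Mono ((Over.pullback (ρ ≫ σ)).map u) ↔ Mono ((Over.pullback ρ).map ((Over.pullback σ).map u)) :=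
  mono_map_iff_of_natIso (Over.pullbackComp ρ σ) u

theorem isIso_pullbackComp_iff (ρ : W ⟶ V) (σ : V ⟶ S) {A B : Over S} (u : A ⟶ B) :
    IsIso ((Over.pullback (ρ ≫ σ)).map u) ↔
      IsIso ((Over.pullback ρ).map ((Over.pullback σ).map u)) :=
  NatIso.isIso_map_iff (Over.pullbackComp ρ σ) u

section Field

variable {k L : Type u} [Field k] [Field L] (ρ : Spec (CommRingCat.of L) ⟶ Spec (CommRingCat.of k))
  (σ : Spec (CommRingCat.of k) ⟶ S) {A B : Over S} (u : A ⟶ B)

theorem singleton_mem_of_field : Presieve.singleton ρ ∈ Scheme.fpqcPrecoverage (Spec (CommRingCat.of k)) := by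
  obtain ⟨φ, rfl⟩ := Spec.map_surjective ρ
  obtain ⟨h1, h2⟩ := flat_surj_SpecMap_of_field φ
  exact Scheme.Hom.singleton_mem_fpqcPrecoverage (Spec.map φ)

theorem mono_bc_field_iff :
    Mono ((Over.pullback σ).map u) ↔ Mono ((Over.pullback (ρ ≫ σ)).map u) := by
  rw [mono_pullbackComp_iff]
  constructor
  · intro h
    infer_instance
  · intro h
    apply LocMono.mono_of_locally_mono ρ (singleton_mem_of_field ρ)
    intro z
    refine ⟨_, 𝟙 _, inferInstance, ⟨z, rfl⟩, ?_⟩
    rw [Category.id_comp]
    exact h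

theorem isIso_bc_field_iff :
    IsIso ((Over.pullback σ).map u) ↔ IsIso ((Over.pullback (ρ ≫ σ)).map u) := by
  rw [isIso_pullbackComp_iff]
  constructor
  · intro h
    infer_instance
  · intro h
    haveI : Mono ((Over.pullback σ).map u) := by
      rw [mono_bc_field_iff ρ σ u, mono_pullbackComp_iff]
      infer_instance
    apply LocIso.isIso_of_locally_iso ρ (singleton_mem_of_field ρ)
    intro z
    refine ⟨_, 𝟙 _, inferInstance, ⟨z, rfl⟩, ?_⟩
    rw [Category.id_comp]
    exact h

end Field

end Groth.Agent.H82.FieldDesc
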