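import Groth.Agent.H82.ClopenLocus
import Groth.Agent.H82.FieldDesc
import Groth.Agent.H40.FpqcFam
import Groth.Agent.H26.UEE2
import Mathlib

/-! Properties of morphisms of schemes (local at the target, stable under base change, satisfying
fpqc descent) for base changes `(Over.pullback t).map v`. -/

set_option autoImplicit false
set_option linter.unusedSectionVars false
universe u

open CategoryTheory MonoidalCategory CartesianMonoidalCategory MonObj AlgebraicGeometry
open CategoryTheory.Limits
open Groth.Agent.H40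

namespace Groth.Agent.H82.PLocal

variable (P : MorphismProperty Scheme.{u}) [IsZariskiLocalAtTarget P] [P.IsStableUnderBaseChange]

variable {S T : Scheme.{u}}

theorem P_left_natIso {F F' : Over S ⥤ Over T} (α : F ≅ F') {A B : Over S} (v : A ⟶ B) :
    P (F.map v).left ↔ P (F'.map v).left := by
  have h1 : (F.map v).left = (α.hom.app A).left ≫ (F'.map v).left ≫ (α.inv.app B).left := by
    rw [← Over.comp_left, ← Over.comp_left]
    congr 1
    simp
  rw [h1]
  haveI : IsIso (α.hom.app A).left :=
    inferInstanceAs (IsIso ((Over.forget T).map (α.hom.app A)))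
  haveI : IsIso (α.inv.app B).left :=
    inferInstanceAs (IsIso ((Over.forget T).map (α.inv.app B)))
  rw [P.cancel_left_of_respectsIso, P.cancel_right_of_respectsIso]

theorem P_bc (r : T ⟶ S) {A B : Over S} (v : A ⟶ B) (h : P v.left) :
    P ((Over.pullback r).map v).left :=
  MorphismProperty.of_isPullback (Groth.Agent.H26.isPullback_overPullback_map r v).flip h

theorem of_forall_exists_isPullback {X Y : Scheme.{u}} (f : X ⟶ Y)
    (H : ∀ y : Y, ∃ (O XO : Scheme.{u}) (o : O ⟶ Y) (iX : XO ⟶ X) (f' : XO ⟶ O),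
      IsOpenImmersion o ∧ y ∈ Set.range o ∧ IsPullback iX f' f o ∧ P f') : P f := by
  apply IsZariskiLocalAtTarget.of_forall_exists_morphismRestrict
  intro y
  obtain ⟨O, XO, o, iX, f', ho, hy, hpb, hf'⟩ := H y
  refine ⟨o.opensRange, hy, ?_⟩
  rw [P.arrow_mk_iso_iff (morphismRestrictOpensRange f o)]
  have e := hpb.isoPullback_hom_snd
  rw [← P.cancel_left_of_respectsIso hpb.isoPullback.hom, e]
  exact hf'

variable (hP : P.DescendsAlong (@Surjective ⊓ @Flat ⊓ @QuasiCompact : MorphismProperty Scheme.{u}))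

include hP in
theorem P_of_locally {S'' : Scheme.{u}} (π : S'' ⟶ S)
    (hπ : Presieve.singleton π ∈ Scheme.fpqcPrecoverage S) {A B : Over S} (v : A ⟶ B)
    (hloc : ∀ z : S'', ∃ (V : Scheme.{u}) (j : V ⟶ S''), IsOpenImmersion j ∧ z ∈ Set.range j ∧
      P ((Over.pullback (j ≫ π)).map v).left) : P v.left := by
  have h1 : P ((Over.pullback π).map v).left := by
    apply of_forall_exists_isPullback
    intro y
    obtain ⟨V, j, hj, ⟨v0, hv0⟩, hPj⟩ := hloc (((Over.pullback π).obj B).hom y)
    obtain ⟨yO, hyO, -⟩ := Scheme.Pullback.exists_preimage_pullback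
      (f := ((Over.pullback π).obj B).hom) (g := j) y v0 hv0.symm
    refine ⟨_, _, pullback.fst ((Over.pullback π).obj B).hom j,
      pullback.fst ((Over.pullback π).obj A).hom j,
      ((Over.pullback j).map ((Over.pullback π).map v)).left, inferInstance, ⟨yO, hyO⟩,
      (Groth.Agent.H26.isPullback_overPullback_map j _).flip, ?_⟩
    exact (P_left_natIso P (Over.pullbackComp j π) v).mp hPj
  have hcov := Groth.Agent.H40.CD.singleton_mem_fpqcPrecoverage_of_isPullback hπ
    (IsPullback.of_hasPullback B.hom π)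
  apply prop_of_fpqcPresieve P hP v.left hcov
  intro U g hg
  cases hg
  have sq := (Groth.Agent.H26.isPullback_overPullback_map π v).flip
  have e := sq.isoPullback_inv_snd
  rw [← e]
  exact (P.cancel_left_of_respectsIso _ _).mpr h1

include hP in
theorem P_field {k L : Type u} [Field k] [Field L]
    (ρ : Spec (CommRingCat.of L) ⟶ Spec (CommRingCat.of k))
    {A B : Over (Spec (CommRingCat.of k))} (v : A ⟶ B)
    (h : P ((Over.pullback ρ).map v).left) : P v.left := by
  haveI := hP
  have sq := Groth.Agent.H26.isPullback_overPullback_map ρ v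
  refine MorphismProperty.of_isPullback_of_descendsAlong
    (Q := (@Surjective ⊓ @Flat ⊓ @QuasiCompact : MorphismProperty Scheme.{u})) sq ?_ h
  obtain ⟨φ, rfl⟩ := Spec.map_surjective ρ
  obtain ⟨h1, h2⟩ := Groth.Agent.H82.CentMT.flat_surj_SpecMap_of_field φ
  exact ⟨⟨inferInstance, inferInstance⟩, inferInstance⟩

section Q

variable {G H : Over S} (u : G ⟶ H)

/-- the property "the base change of `u` satisfies `P`" -/
def QP (T : Scheme.{u}) (t : T ⟶ S) : Prop := P ((Over.pullback t).map u).left

theorem QP_bc (T T' : Scheme.{u}) (r : T' ⟶ T) (t : T ⟶ S) (h : QP P u T t) :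
    QP P u T' (r ≫ t) :=
  (P_left_natIso P (Over.pullbackComp r t) u).mpr (P_bc P r _ h)

include hP in
theorem QP_field (k L : Type u) [Field k] [Field L]
    (ρ : Spec (CommRingCat.of L) ⟶ Spec (CommRingCat.of k))
    (σ : Spec (CommRingCat.of k) ⟶ S) (h : QP P u _ (ρ ≫ σ)) : QP P u _ σ :=
  P_field P hP ρ _ ((P_left_natIso P (Over.pullbackComp ρ σ) u).mp h)

variable {P' : Scheme.{u}} (π : P' ⟶ S) (hπ : Presieve.singleton π ∈ Scheme.fpqcPrecoverage S)

include hP hπ in
theorem QP_local (U : S.Opens) (hloc : ∀ z : ↥(pullback π U.ι), ∃ (V' : Scheme.{u})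
    (j' : V' ⟶ pullback π U.ι) (t' : V' ⟶ S), IsOpenImmersion j' ∧ z ∈ Set.range j' ∧
      t' = j' ≫ pullback.fst π U.ι ≫ π ∧ QP P u V' t') : QP P u U U.ι := by
  have hcov : Presieve.singleton (pullback.snd π U.ι) ∈ Scheme.fpqcPrecoverage U :=
    Groth.Agent.H40.CD.singleton_mem_fpqcPrecoverage_of_isPullback hπ
      (IsPullback.of_hasPullback π U.ι).flip
  apply P_of_locally P hP (pullback.snd π U.ι) hcov
  intro z
  obtain ⟨V', j', t', hj', hz', ht', hq⟩ := hloc z
  refine ⟨V', j', hj', hz', ?_⟩
  have h1 : t' = (j' ≫ pullback.snd π U.ι) ≫ U.ι := by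
    rw [ht', Category.assoc, ← pullback.condition]
  subst h1
  exact (P_left_natIso P (Over.pullbackComp (j' ≫ pullback.snd π U.ι) U.ι) u).mp hq

end Q

end Groth.Agent.H82.PLocal
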