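import Groth.Agent.H82.HomLoc
import Groth.Agent.H82.FieldDesc
import Mathlib

/-! Converse statements for homomorphisms in charts: mono/iso after base change to a field point
determines surjectivity/bijectivity of the map on character groups. -/

set_option autoImplicit false
set_option linter.unusedSectionVars false
universe u

open CategoryTheory MonoidalCategory CartesianMonoidalCategory MonObj AlgebraicGeometry
open CategoryTheory.Limits
open Groth.Agent.H42 Groth.Agent.H40 Magnet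
open Groth.Agent.H82.AMonPts Groth.Agent.H82.GroupIso Groth.Agent.H82.ChartComp

namespace Groth.Agent.H82.HomLoc2

section BC

variable {S V₀ V : Scheme.{u}} (gV : V₀ ⟶ S) (j : V ⟶ V₀) {A B : Over S} [GrpObj A] [GrpObj B]
  (u : A ⟶ B)

theorem comp_map_eq (Y : Over V) (x : Y ⟶ Red.bc (j ≫ gV) A) :
    x ≫ (Over.pullback (j ≫ gV)).map u =
      (ptEquiv gV j B Y).symm (ptEquiv gV j A Y x ≫ (Over.pullback gV).map u) := by
  rw [Equiv.eq_symm_apply]
  exact LocIso.ptEquiv_map gV j u Y x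

theorem mono_bc_of_injective
    (hinj : ∀ Y : Over V, Function.Injective
      (fun h : (Over.map j).obj Y ⟶ Red.bc gV A => h ≫ (Over.pullback gV).map u)) :
    Mono ((Over.pullback (j ≫ gV)).map u) := by
  constructor
  intro Y a b hab
  have h1 : a ≫ (Over.pullback (j ≫ gV)).map u = b ≫ (Over.pullback (j ≫ gV)).map u := hab
  rw [comp_map_eq, comp_map_eq] at h1
  exact (ptEquiv gV j A Y).injective (hinj Y ((ptEquiv gV j B Y).symm.injective h1))

theorem injective_of_mono_bc (hm : Mono ((Over.pullback (j ≫ gV)).map u)) (Y : Over V) :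
    Function.Injective
      (fun h : (Over.map j).obj Y ⟶ Red.bc gV A => h ≫ (Over.pullback gV).map u) := by
  intro h h' hh
  beta_reduce at hh
  obtain ⟨x, rfl⟩ := (ptEquiv gV j A Y).surjective h
  obtain ⟨x', rfl⟩ := (ptEquiv gV j A Y).surjective h'
  rw [← LocIso.ptEquiv_map, ← LocIso.ptEquiv_map] at hh
  have h2 := (ptEquiv gV j B Y).injective hh
  rw [(cancel_mono _).mp h2]

theorem bijective_of_isIso_bc (hm : IsIso ((Over.pullback (j ≫ gV)).map u)) (Y : Over V) :
    Function.Bijective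
      (fun h : (Over.map j).obj Y ⟶ Red.bc gV A => h ≫ (Over.pullback gV).map u) := by
  refine ⟨injective_of_mono_bc gV j u inferInstance Y, ?_⟩
  intro y
  obtain ⟨x, rfl⟩ := (ptEquiv gV j B Y).surjective y
  refine ⟨ptEquiv gV j A Y (x ≫ inv ((Over.pullback (j ≫ gV)).map u)), ?_⟩
  beta_reduce
  rw [← LocIso.ptEquiv_map, Category.assoc, IsIso.inv_hom_id, Category.comp_id]

/-- transport along an object over `V₀` whose structure map factors through `j` -/
noncomputable def facIso (Y₀ : Over V₀) (t : Y₀.left ⟶ V) (ht : t ≫ j = Y₀.hom) :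
    (Over.map j).obj (Over.mk t) ≅ Y₀ :=
  Over.isoMk (Iso.refl _) (by simp [ht])

theorem injective_of_mono_bc' (hm : Mono ((Over.pullback (j ≫ gV)).map u)) (Y₀ : Over V₀)
    (t : Y₀.left ⟶ V) (ht : t ≫ j = Y₀.hom) :
    Function.Injective (fun h : Y₀ ⟶ Red.bc gV A => h ≫ (Over.pullback gV).map u) := by
  intro h h' hh
  beta_reduce at hh
  have h1 := injective_of_mono_bc gV j u hm (Over.mk t)
    (a₁ := (facIso j Y₀ t ht).hom ≫ h) (a₂ := (facIso j Y₀ t ht).hom ≫ h') (by
      beta_reduce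
      rw [Category.assoc, Category.assoc, hh])
  exact (cancel_epi _).mp h1

theorem surjective_of_isIso_bc' (hm : IsIso ((Over.pullback (j ≫ gV)).map u)) (Y₀ : Over V₀)
    (t : Y₀.left ⟶ V) (ht : t ≫ j = Y₀.hom) :
    Function.Surjective (fun h : Y₀ ⟶ Red.bc gV A => h ≫ (Over.pullback gV).map u) := by
  intro y
  obtain ⟨x, hx⟩ := (bijective_of_isIso_bc gV j u hm (Over.mk t)).2 ((facIso j Y₀ t ht).hom ≫ y)
  beta_reduce at hx
  refine ⟨(facIso j Y₀ t ht).inv ≫ x, ?_⟩
  beta_reduce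
  rw [Category.assoc, hx, Iso.inv_hom_id_assoc]

end BC

section Props

variable {S B : Scheme.{u}} (g : B ⟶ S) {H₁ H₂ : Over S} [GrpObj H₁] [GrpObj H₂]
  (u : H₁ ⟶ H₂) [IsMonHom u]
  {M₁ M₂ : Type} [AddCommGroup M₁] [AddCommGroup M₂]
  (e₁ : Red.bc g H₁ ≅ AMonS B M₁) [IsMonHom e₁.hom]
  (e₂ : Red.bc g H₂ ≅ AMonS B M₂) [IsMonHom e₂.hom]
  (V : B.Opens) (φ : M₂ →+ M₁)
  (hV : ∀ (T : Over B) (h : T ⟶ AMonS B M₁), (∀ z, T.hom z ∈ V) →
    h ≫ HomLoc.cH g u e₁ e₂ = h ≫ AMonS.map B φ)

include hV in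
theorem injective_comp_of_surjective (hφ : Function.Surjective φ) (Y₀ : Over B)
    (hY : ∀ z, Y₀.hom z ∈ V) :
    Function.Injective (fun h : Y₀ ⟶ Red.bc g H₁ => h ≫ (Over.pullback g).map u) := by
  intro h h' hh
  beta_reduce at hh
  rw [HomLoc.comp_bc_eq g u e₁ e₂, HomLoc.comp_bc_eq g u e₁ e₂, hV Y₀ _ hY, hV Y₀ _ hY] at hh
  have h1 := (cancel_mono _).mp hh
  have h2 : h ≫ e₁.hom = h' ≫ e₁.hom := by
    apply amFn_ext
    intro m
    obtain ⟨m₂, rfl⟩ : ∃ m₂ : Multiplicative M₂, AddMonoidHom.toMultiplicative φ m₂ = m := by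
      obtain ⟨n, hn⟩ := hφ (Multiplicative.toAdd m)
      exact ⟨Multiplicative.ofAdd n, congrArg Multiplicative.ofAdd hn⟩
    have h3 := congrArg (fun f => amFn f m₂) h1
    beta_reduce at h3
    rwa [amFn_map, amFn_map] at h3
  exact (cancel_mono _).mp h2

include hV in
/-- if the map of character groups is surjective, the homomorphism is a monomorphism over `V` -/
theorem mono_of_surjective (hφ : Function.Surjective φ) :
    Mono ((Over.pullback (V.ι ≫ g)).map u) := by
  apply mono_bc_of_injective g V.ι u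
  intro Y
  apply injective_comp_of_surjective g u e₁ e₂ V φ hV hφ
  intro z
  change (Y.hom ≫ V.ι) z ∈ V
  rw [Scheme.Hom.comp_apply]
  exact (Y.hom z).2

include hV in
/-- injectivity on enough points forces surjectivity on character groups -/
theorem surjective_of_injective_pts (P : Over B) [IsAffine P.left] [Nontrivial Γ(P.left, ⊤)]
    (hP : ∀ z, P.hom z ∈ V)
    (hinj : Function.Injective
      (fun h : P ⊗ AMonS B (M₁ ⧸ φ.range) ⟶ Red.bc g H₁ => h ≫ (Over.pullback g).map u)) :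
    Function.Surjective φ := by
  let q : M₁ →+ M₁ ⧸ φ.range := QuotientAddGroup.mk' φ.range
  let Y₀ : Over B := P ⊗ AMonS B (M₁ ⧸ φ.range)
  have hland : ∀ z, Y₀.hom z ∈ V := by
    intro z
    have h1 : Y₀.hom = (fst P (AMonS B (M₁ ⧸ φ.range))).left ≫ P.hom :=
      (Over.w (fst P (AMonS B (M₁ ⧸ φ.range)))).symm
    rw [h1, Scheme.Hom.comp_apply]
    exact hP _
  let x₁ : Y₀ ⟶ AMonS B M₁ := snd P (AMonS B (M₁ ⧸ φ.range)) ≫ AMonS.map B q
  have hq : q.comp φ = 0 := by
    ext n
    change (QuotientAddGroup.mk' φ.range) (φ n) = 0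
    rw [QuotientAddGroup.mk'_apply, QuotientAddGroup.eq_zero_iff]
    exact ⟨n, rfl⟩
  have h2 : x₁ ≫ HomLoc.cH g u e₁ e₂ = (1 : Y₀ ⟶ AMonS B M₁) ≫ HomLoc.cH g u e₁ e₂ := by
    rw [hV Y₀ x₁ hland, MonObj.one_comp, Category.assoc, ← AMonS.map_comp, hq]
    apply amFn_ext
    intro m
    rw [amFn_map, amFn_one]
    exact map_one _
  have h3 : x₁ = 1 := by
    have h4 : (x₁ ≫ e₁.inv) ≫ (Over.pullback g).map u =
        ((1 : Y₀ ⟶ AMonS B M₁) ≫ e₁.inv) ≫ (Over.pullback g).map u := by
      have h5 := congrArg (fun f => f ≫ e₂.inv) h2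
      beta_reduce at h5
      unfold HomLoc.cH at h5
      simpa only [Category.assoc, Iso.hom_inv_id, Category.comp_id] using h5
    exact (cancel_mono _).mp (hinj h4)
  intro m
  have h4 := congrArg (fun f => amFn f (Multiplicative.ofAdd m)) h3
  beta_reduce at h4
  rw [amFn_map, amFn_one] at h4
  have h5 : amFn (snd P (AMonS B (M₁ ⧸ φ.range)))
      (AddMonoidHom.toMultiplicative q (Multiplicative.ofAdd m)) =
      amFn (snd P (AMonS B (M₁ ⧸ φ.range))) 1 := by rw [h4, map_one]
  have h6 := KLFam.amFn_snd_injective (M := M₁ ⧸ φ.range) P h5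
  have h7 : q m = 0 := congrArg Multiplicative.toAdd h6
  have h8 : m ∈ φ.range := by
    rw [← QuotientAddGroup.eq_zero_iff]
    exact h7
  exact h8

include hV in
/-- surjectivity on enough points forces injectivity on character groups -/
theorem injective_of_surjective_pts (P : Over B) [IsAffine P.left] [Nontrivial Γ(P.left, ⊤)]
    (hP : ∀ z, P.hom z ∈ V)
    (hsurj : Function.Surjective
      (fun h : P ⊗ AMonS B M₂ ⟶ Red.bc g H₁ => h ≫ (Over.pullback g).map u)) :
    Function.Injective φ := by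
  let Y₀ : Over B := P ⊗ AMonS B M₂
  have hland : ∀ z, Y₀.hom z ∈ V := by
    intro z
    have h1 : Y₀.hom = (fst P (AMonS B M₂)).left ≫ P.hom :=
      (Over.w (fst P (AMonS B M₂))).symm
    rw [h1, Scheme.Hom.comp_apply]
    exact hP _
  obtain ⟨h, hh⟩ := hsurj (snd P (AMonS B M₂) ≫ e₂.inv)
  beta_reduce at hh
  rw [HomLoc.comp_bc_eq g u e₁ e₂, hV Y₀ _ hland] at hh
  have h1 : (h ≫ e₁.hom) ≫ AMonS.map B φ = snd P (AMonS B M₂) := (cancel_mono _).mp hh
  intro m m' hmm
  have h2 : ∀ n : M₂, amFn (snd P (AMonS B M₂)) (Multiplicative.ofAdd n) =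
      amFn (h ≫ e₁.hom) (Multiplicative.ofAdd (φ n)) := by
    intro n
    rw [← h1, amFn_map]
    rfl
  have h3 : amFn (snd P (AMonS B M₂)) (Multiplicative.ofAdd m) =
      amFn (snd P (AMonS B M₂)) (Multiplicative.ofAdd m') := by
    rw [h2, h2, hmm]
  exact congrArg Multiplicative.toAdd (KLFam.amFn_snd_injective (M := M₂) P h3)

section FieldPt

variable {κ : Type u} [Field κ] (w : Spec (CommRingCat.of κ) ⟶ B) (hw : ∀ z, w z ∈ V)
  (t : Spec (CommRingCat.of κ) ⟶ S) (ht : w ≫ g = t)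

instance instAffMk : IsAffine (Over.mk w).left :=
  inferInstanceAs (IsAffine (Spec (CommRingCat.of κ)))

instance instNontrivMk : Nontrivial Γ((Over.mk w).left, ⊤) :=
  RingHom.domain_nontrivial (Scheme.ΓSpecIso (CommRingCat.of κ)).hom.hom

include hV hw ht in
theorem surjective_of_mono_field (hm : Mono ((Over.pullback t).map u)) :
    Function.Surjective φ := by
  subst ht
  apply surjective_of_injective_pts g u e₁ e₂ V φ hV (Over.mk w) hw
  exact injective_of_mono_bc' g w u hm _ (fst (Over.mk w) _).left (Over.w _)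

include hV hw ht in
theorem bijective_of_isIso_field (hm : IsIso ((Over.pullback t).map u)) :
    Function.Bijective φ := by
  subst ht
  refine ⟨?_, surjective_of_mono_field g u e₁ e₂ V φ hV w hw _ rfl inferInstance⟩
  apply injective_of_surjective_pts g u e₁ e₂ V φ hV (Over.mk w) hw
  exact surjective_of_isIso_bc' g w u hm _ (fst (Over.mk w) _).left (Over.w _)

end FieldPt

end Props

end Groth.Agent.H82.HomLoc2
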