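import Groth.Agent.H82.ClopenLocus
import Groth.Agent.H82.HomLoc2
import Groth.Agent.H82.ChartRank
import Groth.Agent.H82.TorusHom
import Mathlib

/-! Clopen loci for homomorphisms of groups of multiplicative type: mono and iso. -/

set_option autoImplicit false
set_option linter.unusedSectionVars false
universe u

open CategoryTheory MonoidalCategory CartesianMonoidalCategory MonObj AlgebraicGeometry
open CategoryTheory.Limits
open Groth.Agent.H42 Groth.Agent.H40 Magnet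
open Groth.Agent.H82.AMonPts Groth.Agent.H82.GroupIso Groth.Agent.H82.ChartComp

namespace Groth.Agent.H82.MonoLocus

variable {S : Scheme.{u}} {G H : Over S} [GrpObj G] [GrpObj H]

/-- common trivialisation of two groups of multiplicative type and a homomorphism between them:
locally on a singleton fpqc cover the homomorphism is given by a homomorphism of character groups. -/
theorem exists_local_prop (hG : SGA3x.IsMultTypeFT G) (hH : SGA3x.IsMultTypeFT H) (u : G ⟶ H)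
    [IsMonHom u] (Q : ∀ (T : Scheme.{u}), (T ⟶ S) → Prop)
    (hQ : ∀ (B : Scheme.{u}) (g : B ⟶ S) (M₁ M₂ : Type) [AddCommGroup M₁] [AddCommGroup M₂]
      (e₁ : Red.bc g G ≅ AMonS B M₁) [IsMonHom e₁.hom] (e₂ : Red.bc g H ≅ AMonS B M₂)
      [IsMonHom e₂.hom] (V : B.Opens) (φ : M₂ →+ M₁)
      (_ : ∀ (T : Over B) (h : T ⟶ AMonS B M₁), (∀ z, T.hom z ∈ V) →
        h ≫ HomLoc.cH g u e₁ e₂ = h ≫ AMonS.map B φ),
      ∃ p : Prop, (p → Q V (V.ι ≫ g)) ∧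
        ∀ (κ : Type u) [Field κ] (σ : Spec (CommRingCat.of κ) ⟶ V), Q _ (σ ≫ V.ι ≫ g) → p) :
    ∃ (P : Scheme.{u}) (π : P ⟶ S), Presieve.singleton π ∈ Scheme.fpqcPrecoverage S ∧
      ∀ z : P, ∃ (V : Scheme.{u}) (j : V ⟶ P) (t : V ⟶ S), IsOpenImmersion j ∧ j ≫ π = t ∧
        z ∈ Set.range j ∧ ∃ p : Prop, (p → Q V t) ∧
          (∀ (κ : Type u) [Field κ] (σ : Spec (CommRingCat.of κ) ⟶ V), Q _ (σ ≫ t) → p) := by
  obtain ⟨S₁, f₁, hflat₁, hsurj₁, hqc₁, htriv₁⟩ := hG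
  obtain ⟨S₂, f₂, hflat₂, hsurj₂, hqc₂, htriv₂⟩ := hH
  have h₁ : Presieve.singleton f₁ ∈ Scheme.fpqcPrecoverage S :=
    Groth.Agent.H40.CD.singleton_mem_fpqcPrecoverage_of_image f₁ hsurj₁ hflat₁ hqc₁
  have h₂ : Presieve.singleton f₂ ∈ Scheme.fpqcPrecoverage S :=
    Groth.Agent.H40.CD.singleton_mem_fpqcPrecoverage_of_image f₂ hsurj₂ hflat₂ hqc₂
  let π : Limits.pullback f₁ f₂ ⟶ S := Limits.pullback.fst f₁ f₂ ≫ f₁
  have hπ : Presieve.singleton π ∈ Scheme.fpqcPrecoverage S :=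
    Groth.Agent.H40.singleton_comp_mem_fpqcPrecoverage _ _
      (Groth.Agent.H40.CD.singleton_mem_fpqcPrecoverage_of_isPullback h₂
        (IsPullback.of_hasPullback f₁ f₂)) h₁
  refine ⟨_, π, hπ, fun z => ?_⟩
  obtain ⟨U₁, hz₁, M₁, iM₁, hfg₁, hs₁⟩ := htriv₁ (Limits.pullback.fst f₁ f₂ z)
  obtain ⟨U₂, hz₂, M₂, iM₂, hfg₂, hs₂⟩ := htriv₂ (Limits.pullback.snd f₁ f₂ z)
  obtain ⟨e₁, he₁⟩ := Groth.Agent.H82.TorusHom.exists_iso_of_grpIso hs₁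
  obtain ⟨e₂, he₂⟩ := Groth.Agent.H82.TorusHom.exists_iso_of_grpIso hs₂
  let V₀ : (Limits.pullback f₁ f₂).Opens :=
    (Limits.pullback.fst f₁ f₂) ⁻¹ᵁ U₁ ⊓ (Limits.pullback.snd f₁ f₂) ⁻¹ᵁ U₂
  have hzV₀ : z ∈ V₀ := ⟨hz₁, hz₂⟩
  let w₁ : (V₀ : Scheme.{u}) ⟶ (U₁ : Scheme.{u}) :=
    IsOpenImmersion.lift U₁.ι (V₀.ι ≫ Limits.pullback.fst f₁ f₂) (by
      rintro _ ⟨w, rfl⟩
      rw [Scheme.Opens.range_ι]
      exact w.2.1)
  let w₂ : (V₀ : Scheme.{u}) ⟶ (U₂ : Scheme.{u}) :=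
    IsOpenImmersion.lift U₂.ι (V₀.ι ≫ Limits.pullback.snd f₁ f₂) (by
      rintro _ ⟨w, rfl⟩
      rw [Scheme.Opens.range_ι]
      exact w.2.2)
  have hw₁ : w₁ ≫ U₁.ι = V₀.ι ≫ Limits.pullback.fst f₁ f₂ := IsOpenImmersion.lift_fac _ _ _
  have hw₂ : w₂ ≫ U₂.ι = V₀.ι ≫ Limits.pullback.snd f₁ f₂ := IsOpenImmersion.lift_fac _ _ _
  have hg₁ : w₁ ≫ (U₁.ι ≫ f₁) = V₀.ι ≫ π := by
    rw [← Category.assoc, hw₁, Category.assoc]
  have hg₂ : w₂ ≫ (U₂.ι ≫ f₂) = V₀.ι ≫ π := by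
    rw [← Category.assoc, hw₂, Category.assoc, ← Limits.pullback.condition]
  obtain ⟨e₁', he₁', -⟩ := Groth.Agent.H82.ChartComp.exists_chart_comp (U₁.ι ≫ f₁) w₁ G e₁
  obtain ⟨e₁'', he₁''⟩ := Groth.Agent.H82.ChartRank.chart_congr hg₁ G e₁'
  obtain ⟨e₂', he₂', -⟩ := Groth.Agent.H82.ChartComp.exists_chart_comp (U₂.ι ≫ f₂) w₂ H e₂
  obtain ⟨e₂'', he₂''⟩ := Groth.Agent.H82.ChartRank.chart_congr hg₂ H e₂'
  obtain ⟨V, φ, hzV, hV⟩ := Groth.Agent.H82.HomLoc.exists_local_hom (V₀.ι ≫ π) u e₁'' e₂'' hfg₂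
    ⟨z, hzV₀⟩
  obtain ⟨p, hp1, hp2⟩ := hQ V₀ (V₀.ι ≫ π) M₁ M₂ e₁'' e₂'' V φ hV
  exact ⟨V, V.ι ≫ V₀.ι, V.ι ≫ V₀.ι ≫ π, inferInstance, Category.assoc _ _ _,
    ⟨⟨⟨z, hzV₀⟩, hzV⟩, rfl⟩, p, hp1, hp2⟩

theorem Q_congr {Q : ∀ (T : Scheme.{u}), (T ⟶ S) → Prop} {T : Scheme.{u}} {t t' : T ⟶ S}
    (h : t = t') (hq : Q T t) : Q T t' := h ▸ hq

section Mono

variable (u : G ⟶ H) [IsMonHom u]

/-- the property "the base change of `u` is a monomorphism" -/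
def QM (T : Scheme.{u}) (t : T ⟶ S) : Prop := Mono ((Over.pullback t).map u)

/-- the property "the base change of `u` is an isomorphism" -/
def QI (T : Scheme.{u}) (t : T ⟶ S) : Prop := IsIso ((Over.pullback t).map u)

theorem QM_bc (T T' : Scheme.{u}) (r : T' ⟶ T) (t : T ⟶ S) (h : QM u T t) : QM u T' (r ≫ t) := by
  unfold QM at h ⊢
  rw [FieldDesc.mono_pullbackComp_iff]
  infer_instance

theorem QI_bc (T T' : Scheme.{u}) (r : T' ⟶ T) (t : T ⟶ S) (h : QI u T t) : QI u T' (r ≫ t) := by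
  unfold QI at h ⊢
  rw [FieldDesc.isIso_pullbackComp_iff]
  infer_instance

theorem QM_field (k L : Type u) [Field k] [Field L]
    (ρ : Spec (CommRingCat.of L) ⟶ Spec (CommRingCat.of k))
    (σ : Spec (CommRingCat.of k) ⟶ S) (h : QM u _ (ρ ≫ σ)) : QM u _ σ :=
  (FieldDesc.mono_bc_field_iff ρ σ u).mpr h

theorem QI_field (k L : Type u) [Field k] [Field L]
    (ρ : Spec (CommRingCat.of L) ⟶ Spec (CommRingCat.of k))
    (σ : Spec (CommRingCat.of k) ⟶ S) (h : QI u _ (ρ ≫ σ)) : QI u _ σ :=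
  (FieldDesc.isIso_bc_field_iff ρ σ u).mpr h

theorem QM_chart (B : Scheme.{u}) (g : B ⟶ S) (M₁ M₂ : Type) [AddCommGroup M₁] [AddCommGroup M₂]
    (e₁ : Red.bc g G ≅ AMonS B M₁) [IsMonHom e₁.hom] (e₂ : Red.bc g H ≅ AMonS B M₂)
    [IsMonHom e₂.hom] (V : B.Opens) (φ : M₂ →+ M₁)
    (hV : ∀ (T : Over B) (h : T ⟶ AMonS B M₁), (∀ z, T.hom z ∈ V) →
      h ≫ HomLoc.cH g u e₁ e₂ = h ≫ AMonS.map B φ) :
    ∃ p : Prop, (p → QM u V (V.ι ≫ g)) ∧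
      ∀ (κ : Type u) [Field κ] (σ : Spec (CommRingCat.of κ) ⟶ V), QM u _ (σ ≫ V.ι ≫ g) → p := by
  refine ⟨Function.Surjective φ, fun hp => HomLoc2.mono_of_surjective g u e₁ e₂ V φ hV hp,
    fun κ _ σ hq => ?_⟩
  refine HomLoc2.surjective_of_mono_field g u e₁ e₂ V φ hV (σ ≫ V.ι) (fun z => ?_) (σ ≫ V.ι ≫ g)
    (Category.assoc _ _ _) hq
  rw [Scheme.Hom.comp_apply]
  exact (σ z).2

theorem QI_chart (B : Scheme.{u}) (g : B ⟶ S) (M₁ M₂ : Type) [AddCommGroup M₁] [AddCommGroup M₂]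
    (e₁ : Red.bc g G ≅ AMonS B M₁) [IsMonHom e₁.hom] (e₂ : Red.bc g H ≅ AMonS B M₂)
    [IsMonHom e₂.hom] (V : B.Opens) (φ : M₂ →+ M₁)
    (hV : ∀ (T : Over B) (h : T ⟶ AMonS B M₁), (∀ z, T.hom z ∈ V) →
      h ≫ HomLoc.cH g u e₁ e₂ = h ≫ AMonS.map B φ) :
    ∃ p : Prop, (p → QI u V (V.ι ≫ g)) ∧
      ∀ (κ : Type u) [Field κ] (σ : Spec (CommRingCat.of κ) ⟶ V), QI u _ (σ ≫ V.ι ≫ g) → p := by
  refine ⟨Function.Bijective φ, fun hp => HomLoc.isIso_of_bijective g u e₁ e₂ V φ hV hp,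
    fun κ _ σ hq => ?_⟩
  refine HomLoc2.bijective_of_isIso_field g u e₁ e₂ V φ hV (σ ≫ V.ι) (fun z => ?_) (σ ≫ V.ι ≫ g)
    (Category.assoc _ _ _) hq
  rw [Scheme.Hom.comp_apply]
  exact (σ z).2

variable {P : Scheme.{u}} (π : P ⟶ S) (hπ : Presieve.singleton π ∈ Scheme.fpqcPrecoverage S)

include hπ in
theorem QM_local (U : S.Opens) (hloc : ∀ z : ↥(pullback π U.ι), ∃ (V' : Scheme.{u})
    (j' : V' ⟶ pullback π U.ι) (t' : V' ⟶ S), IsOpenImmersion j' ∧ z ∈ Set.range j' ∧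
      t' = j' ≫ pullback.fst π U.ι ≫ π ∧ QM u V' t') : QM u U U.ι := by
  have hcov : Presieve.singleton (pullback.snd π U.ι) ∈ Scheme.fpqcPrecoverage U :=
    Groth.Agent.H40.CD.singleton_mem_fpqcPrecoverage_of_isPullback hπ
      (IsPullback.of_hasPullback π U.ι).flip
  apply LocMono.mono_of_locally_mono (pullback.snd π U.ι) hcov
  intro z
  obtain ⟨V', j', t', hj', hz', ht', hq⟩ := hloc z
  refine ⟨V', j', hj', hz', ?_⟩
  rw [← FieldDesc.mono_pullbackComp_iff]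
  have h1 : t' = (j' ≫ pullback.snd π U.ι) ≫ U.ι := by
    rw [ht', Category.assoc, ← pullback.condition]
  exact Q_congr (Q := QM u) h1 hq

include hπ in
theorem QI_local (U : S.Opens) (hloc : ∀ z : ↥(pullback π U.ι), ∃ (V' : Scheme.{u})
    (j' : V' ⟶ pullback π U.ι) (t' : V' ⟶ S), IsOpenImmersion j' ∧ z ∈ Set.range j' ∧
      t' = j' ≫ pullback.fst π U.ι ≫ π ∧ QI u V' t') : QI u U U.ι := by
  have hcov : Presieve.singleton (pullback.snd π U.ι) ∈ Scheme.fpqcPrecoverage U :=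
    Groth.Agent.H40.CD.singleton_mem_fpqcPrecoverage_of_isPullback hπ
      (IsPullback.of_hasPullback π U.ι).flip
  haveI : Mono ((Over.pullback U.ι).map u) := by
    apply QM_local u π hπ U
    intro z
    obtain ⟨V', j', t', hj', hz', ht', hq⟩ := hloc z
    refine ⟨V', j', t', hj', hz', ht', ?_⟩
    unfold QI at hq
    unfold QM
    infer_instance
  apply LocIso.isIso_of_locally_iso (pullback.snd π U.ι) hcov
  intro z
  obtain ⟨V', j', t', hj', hz', ht', hq⟩ := hloc z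
  refine ⟨V', j', hj', hz', ?_⟩
  rw [← FieldDesc.isIso_pullbackComp_iff]
  have h1 : t' = (j' ≫ pullback.snd π U.ι) ≫ U.ι := by
    rw [ht', Category.assoc, ← pullback.condition]
  exact Q_congr (Q := QI u) h1 hq

end Mono

theorem mono_locus (hG : SGA3x.IsMultTypeFT G) (hH : SGA3x.IsMultTypeFT H) (u : G ⟶ H)
    [IsMonHom u] :
    ∃ U : S.Opens, IsClosed (U : Set S) ∧
      (∀ s : S, s ∈ U ↔ Mono ((Over.pullback (S.fromSpecResidueField s)).map u)) ∧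
      Mono ((Over.pullback U.ι).map u) := by
  obtain ⟨P, π, hπ, h3⟩ := exists_local_prop hG hH u (QM u) (QM_chart u)
  exact ClopenLocus.clopen_locus (QM u) (QM_bc u) (QM_field u) π hπ h3 (QM_local u π hπ)

theorem iso_locus (hG : SGA3x.IsMultTypeFT G) (hH : SGA3x.IsMultTypeFT H) (u : G ⟶ H)
    [IsMonHom u] :
    ∃ U : S.Opens, IsClosed (U : Set S) ∧
      (∀ s : S, s ∈ U ↔ IsIso ((Over.pullback (S.fromSpecResidueField s)).map u)) ∧
      IsIso ((Over.pullback U.ι).map u) := by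
  obtain ⟨P, π, hπ, h3⟩ := exists_local_prop hG hH u (QI u) (QI_chart u)
  exact ClopenLocus.clopen_locus (QI u) (QI_bc u) (QI_field u) π hπ h3 (QI_local u π hπ)

end Groth.Agent.H82.MonoLocus
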