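import Groth.Agent.H82.PLocal
import Groth.Agent.H82.MonoLocus
import Groth.Agent.H82.AttrFix
import Groth.Agent.H40.FpqcTors
import Mathlib

/-! Clopen locus where a homomorphism of groups of multiplicative type is faithfully flat. -/

set_option autoImplicit false
set_option linter.unusedSectionVars false
universe u

open CategoryTheory MonoidalCategory CartesianMonoidalCategory MonObj AlgebraicGeometry
open CategoryTheory.Limits
open Groth.Agent.H42 Groth.Agent.H40 Magnet
open Groth.Agent.H82.AMonPts Groth.Agent.H82.GroupIso Groth.Agent.H82.ChartComp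
open Groth.Agent.H82.PLocal

namespace Groth.Agent.H82.FFLocus

section General

variable (P : MorphismProperty Scheme.{u}) [IsZariskiLocalAtTarget P] [P.IsStableUnderBaseChange]
  (hP : P.DescendsAlong (@Surjective ⊓ @Flat ⊓ @QuasiCompact : MorphismProperty Scheme.{u}))

variable {S : Scheme.{u}} {G H : Over S} [GrpObj G] [GrpObj H]

include hP in
/-- clopen locus for a property `P` of morphisms, given the criterion in charts -/
theorem P_locus (hG : SGA3x.IsMultTypeFT G) (hH : SGA3x.IsMultTypeFT H) (u : G ⟶ H) [IsMonHom u]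
    (hchart : ∀ (B : Scheme.{u}) (g : B ⟶ S) (M₁ M₂ : Type) [AddCommGroup M₁] [AddCommGroup M₂]
      (e₁ : Red.bc g G ≅ AMonS B M₁) [IsMonHom e₁.hom] (e₂ : Red.bc g H ≅ AMonS B M₂)
      [IsMonHom e₂.hom] (V : B.Opens) (φ : M₂ →+ M₁)
      (_ : ∀ (T : Over B) (h : T ⟶ AMonS B M₁), (∀ z, T.hom z ∈ V) →
        h ≫ HomLoc.cH g u e₁ e₂ = h ≫ AMonS.map B φ),
      ∃ p : Prop, (p → QP P u V (V.ι ≫ g)) ∧
        ∀ (κ : Type u) [Field κ] (σ : Spec (CommRingCat.of κ) ⟶ V), QP P u _ (σ ≫ V.ι ≫ g) → p) :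
    ∃ U : S.Opens, IsClosed (U : Set S) ∧
      (∀ s : S, s ∈ U ↔ P ((Over.pullback (S.fromSpecResidueField s)).map u).left) ∧
      P ((Over.pullback U.ι).map u).left := by
  obtain ⟨P', π, hπ, h3⟩ := MonoLocus.exists_local_prop hG hH u (QP P u) hchart
  exact ClopenLocus.clopen_locus (QP P u) (QP_bc P u) (QP_field P hP u) π hπ h3
    (QP_local P hP u π hπ)

end General

section Chart

variable {S B : Scheme.{u}} (g : B ⟶ S) {H₁ H₂ : Over S} [GrpObj H₁] [GrpObj H₂]
  (u : H₁ ⟶ H₂) [IsMonHom u]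
  {M₁ M₂ : Type} [AddCommGroup M₁] [AddCommGroup M₂]
  (e₁ : Red.bc g H₁ ≅ AMonS B M₁) [IsMonHom e₁.hom]
  (e₂ : Red.bc g H₂ ≅ AMonS B M₂) [IsMonHom e₂.hom]
  (V : B.Opens) (φ : M₂ →+ M₁)
  (hV : ∀ (T : Over B) (h : T ⟶ AMonS B M₁), (∀ z, T.hom z ∈ V) →
    h ≫ HomLoc.cH g u e₁ e₂ = h ≫ AMonS.map B φ)

include hV in
theorem map_eq_of_land {W : Scheme.{u}} (w : W ⟶ B) (hw : ∀ z, w z ∈ V) :
    (Over.pullback w).map (HomLoc.cH g u e₁ e₂) = (Over.pullback w).map (AMonS.map B φ) := by
  let X' := (Over.pullback w).obj (AMonS B M₁)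
  let ε : (Over.map w).obj X' ⟶ AMonS B M₁ :=
    ((Over.mapPullbackAdj w).homEquiv X' (AMonS B M₁)).symm (𝟙 X')
  have key : ∀ c : AMonS B M₁ ⟶ AMonS B M₂,
      (Over.pullback w).map c = ((Over.mapPullbackAdj w).homEquiv X' (AMonS B M₂)) (ε ≫ c) := by
    intro c
    rw [Adjunction.homEquiv_naturality_right, Equiv.apply_symm_apply, Category.id_comp]
  have hland : ∀ z, ((Over.map w).obj X').hom z ∈ V := by
    intro z
    change (X'.hom ≫ w) z ∈ V
    rw [Scheme.Hom.comp_apply]
    exact hw _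
  rw [key, key, hV _ ε hland]

theorem eq_of_map_eq {W : Scheme.{u}} (w : W ⟶ B) {Z Z' : Over B} (a b : Z ⟶ Z')
    (hab : (Over.pullback w).map a = (Over.pullback w).map b) (Y₀ : Over B) (t : Y₀.left ⟶ W)
    (ht : t ≫ w = Y₀.hom) (x₀ : Y₀ ⟶ Z) : x₀ ≫ a = x₀ ≫ b := by
  let i := HomLoc2.facIso w Y₀ t ht
  have h1 : ((Over.mapPullbackAdj w).homEquiv (Over.mk t) Z') ((i.hom ≫ x₀) ≫ a) =
      ((Over.mapPullbackAdj w).homEquiv (Over.mk t) Z') ((i.hom ≫ x₀) ≫ b) := by
    rw [Adjunction.homEquiv_naturality_right _ (i.hom ≫ x₀) a,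
      Adjunction.homEquiv_naturality_right _ (i.hom ≫ x₀) b, hab]
  have h2 := ((Over.mapPullbackAdj w).homEquiv (Over.mk t) Z').injective h1
  rw [Category.assoc, Category.assoc] at h2
  exact (cancel_epi _).mp h2

include hV in
/-- transfer of a property of `D(φ)` to the base change of `u` over `V` -/
theorem QP_chart_of (P : MorphismProperty Scheme.{u}) [IsZariskiLocalAtTarget P]
    [P.IsStableUnderBaseChange] (hPφ : P (AMonS.map B φ).left) : QP P u V (V.ι ≫ g) := by
  have h1 : P ((Over.pullback V.ι).map (AMonS.map B φ)).left := P_bc P V.ι _ hPφ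
  rw [← map_eq_of_land g u e₁ e₂ V φ hV V.ι (fun z => z.2)] at h1
  have h2 : ((Over.pullback V.ι).map (HomLoc.cH g u e₁ e₂)).left =
      ((Over.pullback V.ι).map e₁.inv).left ≫
        ((Over.pullback V.ι).map ((Over.pullback g).map u)).left ≫
          ((Over.pullback V.ι).map e₂.hom).left := by
    unfold HomLoc.cH
    rw [Functor.map_comp, Functor.map_comp, Over.comp_left, Over.comp_left]
  rw [h2] at h1
  haveI : IsIso ((Over.pullback V.ι).map e₁.inv).left :=
    inferInstanceAs (IsIso ((Over.forget _).map ((Over.pullback V.ι).map e₁.inv)))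
  haveI : IsIso ((Over.pullback V.ι).map e₂.hom).left :=
    inferInstanceAs (IsIso ((Over.forget _).map ((Over.pullback V.ι).map e₂.hom)))
  rw [P.cancel_left_of_respectsIso, P.cancel_right_of_respectsIso] at h1
  exact (P_left_natIso P (Over.pullbackComp V.ι g) u).mpr h1

include hV in
/-- faithful flatness at a field point forces injectivity on character groups -/
theorem injective_of_ff_field {κ : Type u} [Field κ] (w : Spec (CommRingCat.of κ) ⟶ B)
    (hw : ∀ z, w z ∈ V) (t : Spec (CommRingCat.of κ) ⟶ S) (ht : w ≫ g = t)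
    (hf : Flat ((Over.pullback t).map u).left) (hs : Surjective ((Over.pullback t).map u).left) :
    Function.Injective φ := by
  subst ht
  haveI : Epi ((Over.pullback (w ≫ g)).map u).left := Flat.epi_of_flat_of_surjective _
  have hepi0 : Epi ((Over.pullback (w ≫ g)).map u) := Over.epi_of_epi_left _
  have hepi1 : Epi ((Over.pullback w).map ((Over.pullback g).map u)) := by
    have h1 : (Over.pullback w).map ((Over.pullback g).map u) =
        (Over.pullbackComp w g).inv.app H₁ ≫ (Over.pullback (w ≫ g)).map u ≫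
          (Over.pullbackComp w g).hom.app H₂ := by
      simp
    rw [h1]
    infer_instance
  have hepi2 : Epi ((Over.pullback w).map (AMonS.map B φ)) := by
    rw [← map_eq_of_land g u e₁ e₂ V φ hV w hw]
    unfold HomLoc.cH
    rw [Functor.map_comp, Functor.map_comp]
    infer_instance
  rw [injective_iff_map_eq_zero]
  intro m hm
  let ψ : ℤ →+ M₂ := zmultiplesHom M₂ m
  have hψ : φ.comp ψ = φ.comp (0 : ℤ →+ M₂) := by
    ext
    simp [ψ, hm]
  have h3 : (Over.pullback w).map (AMonS.map B ψ) = (Over.pullback w).map (AMonS.map B 0) := by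
    rw [← cancel_epi ((Over.pullback w).map (AMonS.map B φ)), ← Functor.map_comp,
      ← Functor.map_comp, ← AMonS.map_comp, ← AMonS.map_comp, hψ]
  have h4 := eq_of_map_eq w _ _ h3 (Over.mk w ⊗ AMonS B M₂) (fst (Over.mk w) _).left (Over.w _)
    (snd (Over.mk w) (AMonS B M₂))
  have h5 := congrArg (fun f => amFn f (Multiplicative.ofAdd (1 : ℤ))) h4
  beta_reduce at h5
  rw [amFn_map, amFn_map] at h5
  have h6 := KLFam.amFn_snd_injective (M := M₂) (Over.mk w) h5
  have h7 : ψ 1 = (0 : ℤ →+ M₂) 1 := congrArg Multiplicative.toAdd h6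
  simpa [ψ] using h7

end Chart

section Main

variable {S : Scheme.{u}} {G H : Over S} [GrpObj G] [GrpObj H]

/-- the faithfully flat locus of a homomorphism of groups of multiplicative type is clopen -/
theorem ff_locus (hG : SGA3x.IsMultTypeFT G) (hH : SGA3x.IsMultTypeFT H) (u : G ⟶ H)
    [IsMonHom u] :
    ∃ U : S.Opens, IsClosed (U : Set S) ∧
      (∀ s : S, s ∈ U ↔ (Flat ((Over.pullback (S.fromSpecResidueField s)).map u).left ∧
        Surjective ((Over.pullback (S.fromSpecResidueField s)).map u).left)) ∧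
      (Flat ((Over.pullback U.ι).map u).left ∧ Surjective ((Over.pullback U.ι).map u).left) := by
  haveI hflat := flat_descendsAlong.{u}
  have hP : (@Flat ⊓ @Surjective : MorphismProperty Scheme.{u}).DescendsAlong
      (@Surjective ⊓ @Flat ⊓ @QuasiCompact : MorphismProperty Scheme.{u}) := inferInstance
  refine P_locus (@Flat ⊓ @Surjective : MorphismProperty Scheme.{u}) hP hG hH u
    (fun B g M₁ M₂ _ _ e₁ _ e₂ _ V φ hV => ⟨Function.Injective φ, fun hφ => ?_, fun κ _ σ hq => ?_⟩)
  · have hc := Groth.Agent.H82.AttrFix.cov_DSmap (S := B) φ hφ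
    exact QP_chart_of g u e₁ e₂ V φ hV _ ⟨hc.1, hc.2.1⟩
  · refine injective_of_ff_field g u e₁ e₂ V φ hV (σ ≫ V.ι) (fun z => ?_) (σ ≫ V.ι ≫ g)
      (Category.assoc _ _ _) hq.1 hq.2
    rw [Scheme.Hom.comp_apply]
    exact (σ z).2

end Main

end Groth.Agent.H82.FFLocus
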