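import Groth.Agent.H82.LocDiag
import Groth.Agent.H82.FFLocus

/-! The locus where two homomorphisms of groups of multiplicative type agree is open and closed. -/

set_option autoImplicit false
set_option linter.unusedSectionVars false
universe u

open CategoryTheory MonoidalCategory CartesianMonoidalCategory MonObj AlgebraicGeometry
open CategoryTheory.Limits
open Groth.Agent.H42 Groth.Agent.H40 Magnet
open Groth.Agent.H82.AMonPts Groth.Agent.H82.GroupIso Groth.Agent.H82.ChartComp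
open Groth.Agent.H82.LocDiag

namespace Groth.Agent.H82.EqLocus

variable {S : Scheme.{u}}

/-- common honest charts for two homomorphisms of two locally diagonalizable groups -/
theorem exists_local_chart₂ {G H : Over S} [GrpObj G] [GrpObj H]
    {PP₁ PP₂ : ∀ (M : Type) [AddCommGroup M], Prop}
    (hG : IsLocDiag PP₁ G) (hH : IsLocDiag PP₂ H)
    (hfg : ∀ (M : Type) [AddCommGroup M], PP₂ M → AddGroup.FG M)
    (u v : G ⟶ H) [IsMonHom u] [IsMonHom v] :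
    ∃ (P : Scheme.{u}) (π : P ⟶ S), Presieve.singleton π ∈ Scheme.fpqcPrecoverage S ∧
      ∀ z : P, ∃ (V : Scheme.{u}) (j : V ⟶ P) (t : V ⟶ S), IsOpenImmersion j ∧ j ≫ π = t ∧
        z ∈ Set.range j ∧ ∃ (M₁ M₂ : Type) (_ : AddCommGroup M₁) (_ : AddCommGroup M₂),
          PP₁ M₁ ∧ PP₂ M₂ ∧ ∃ (e₁ : Red.bc t G ≅ AMonS V M₁) (e₂ : Red.bc t H ≅ AMonS V M₂)
            (φ ψ : M₂ →+ M₁), IsMonHom e₁.hom ∧ IsMonHom e₂.hom ∧
              e₁.inv ≫ (Over.pullback t).map u ≫ e₂.hom = AMonS.map V φ ∧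
              e₁.inv ≫ (Over.pullback t).map v ≫ e₂.hom = AMonS.map V ψ := by
  obtain ⟨S₁, f₁, hflat₁, hsurj₁, hqc₁, htriv₁⟩ := hG
  obtain ⟨S₂, f₂, hflat₂, hsurj₂, hqc₂, htriv₂⟩ := hH
  have h₁ : Presieve.singleton f₁ ∈ Scheme.fpqcPrecoverage S :=
    Groth.Agent.H40.CD.singleton_mem_fpqcPrecoverage_of_image f₁ hsurj₁ hflat₁ hqc₁
  have h₂ : Presieve.singleton f₂ ∈ Scheme.fpqcPrecoverage S :=
    Groth.Agent.H40.CD.singleton_mem_fpqcPrecoverage_of_image f₂ hsurj₂ hflat₂ hqc₂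
  let π : Limits.pullback f₁ f₂ ⟶ S := Limits.pullback.fst f₁ f₂ ≫ f₁
  have hπ : Presieve.singleton π ∈ Scheme.fpqcPrecoverage S :=
    Groth.Agent.H40.singleton_comp_mem_fpqcPrecoverage _ _
      (Groth.Agent.H40.CD.singleton_mem_fpqcPrecoverage_of_isPullback h₂
        (IsPullback.of_hasPullback f₁ f₂)) h₁
  refine ⟨_, π, hπ, fun z => ?_⟩
  obtain ⟨U₁, hz₁, M₁, iM₁, hP₁, hs₁⟩ := htriv₁ (Limits.pullback.fst f₁ f₂ z)
  obtain ⟨U₂, hz₂, M₂, iM₂, hP₂, hs₂⟩ := htriv₂ (Limits.pullback.snd f₁ f₂ z)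
  obtain ⟨e₁, he₁⟩ := Groth.Agent.H82.TorusHom.exists_iso_of_grpIso hs₁
  obtain ⟨e₂, he₂⟩ := Groth.Agent.H82.TorusHom.exists_iso_of_grpIso hs₂
  let V₀ : (Limits.pullback f₁ f₂).Opens :=
    (Limits.pullback.fst f₁ f₂) ⁻¹ᵁ U₁ ⊓ (Limits.pullback.snd f₁ f₂) ⁻¹ᵁ U₂
  have hzV₀ : z ∈ V₀ := ⟨hz₁, hz₂⟩
  let w₁ : (V₀ : Scheme.{u}) ⟶ (U₁ : Scheme.{u}) :=
    IsOpenImmersion.lift U₁.ι (V₀.ι ≫ Limits.pullback.fst f₁ f₂) (by
      rintro _ ⟨w, rfl⟩
      rw [Scheme.Opens.range_ι]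
      exact w.2.1)
  let w₂ : (V₀ : Scheme.{u}) ⟶ (U₂ : Scheme.{u}) :=
    IsOpenImmersion.lift U₂.ι (V₀.ι ≫ Limits.pullback.snd f₁ f₂) (by
      rintro _ ⟨w, rfl⟩
      rw [Scheme.Opens.range_ι]
      exact w.2.2)
  have hw₁ : w₁ ≫ U₁.ι = V₀.ι ≫ Limits.pullback.fst f₁ f₂ := IsOpenImmersion.lift_fac _ _ _
  have hw₂ : w₂ ≫ U₂.ι = V₀.ι ≫ Limits.pullback.snd f₁ f₂ := IsOpenImmersion.lift_fac _ _ _
  have hg₁ : w₁ ≫ (U₁.ι ≫ f₁) = V₀.ι ≫ π := by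
    rw [← Category.assoc, hw₁, Category.assoc]
  have hg₂ : w₂ ≫ (U₂.ι ≫ f₂) = V₀.ι ≫ π := by
    rw [← Category.assoc, hw₂, Category.assoc, ← Limits.pullback.condition]
  obtain ⟨e₁', he₁', -⟩ := Groth.Agent.H82.ChartComp.exists_chart_comp (U₁.ι ≫ f₁) w₁ G e₁
  obtain ⟨e₁'', he₁''⟩ := Groth.Agent.H82.ChartRank.chart_congr hg₁ G e₁'
  obtain ⟨e₂', he₂', -⟩ := Groth.Agent.H82.ChartComp.exists_chart_comp (U₂.ι ≫ f₂) w₂ H e₂
  obtain ⟨e₂'', he₂''⟩ := Groth.Agent.H82.ChartRank.chart_congr hg₂ H e₂'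
  obtain ⟨Vu, φ, hzVu, hVu⟩ := Groth.Agent.H82.HomLoc.exists_local_hom (V₀.ι ≫ π) u e₁'' e₂''
    (hfg M₂ hP₂) ⟨z, hzV₀⟩
  obtain ⟨Vv, ψ, hzVv, hVv⟩ := Groth.Agent.H82.HomLoc.exists_local_hom (V₀.ι ≫ π) v e₁'' e₂''
    (hfg M₂ hP₂) ⟨z, hzV₀⟩
  let V : (V₀ : Scheme.{u}).Opens := Vu ⊓ Vv
  obtain ⟨a₁, ha₁, hc₁⟩ := Groth.Agent.H82.ChartComp.exists_chart_comp (V₀.ι ≫ π) V.ι G e₁''
  obtain ⟨a₂, ha₂, hc₂⟩ := Groth.Agent.H82.ChartComp.exists_chart_comp (V₀.ι ≫ π) V.ι H e₂''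
  have hresu := cH_restrict (V₀.ι ≫ π) u e₁'' e₂'' V φ
    (fun T h hT => hVu T h (fun z => (hT z).1)) a₁ hc₁ a₂ hc₂
  have hresv := cH_restrict (V₀.ι ≫ π) v e₁'' e₂'' V ψ
    (fun T h hT => hVv T h (fun z => (hT z).2)) a₁ hc₁ a₂ hc₂
  exact ⟨V, V.ι ≫ V₀.ι, V.ι ≫ V₀.ι ≫ π, inferInstance, Category.assoc _ _ _,
    ⟨⟨⟨z, hzV₀⟩, ⟨hzVu, hzVv⟩⟩, rfl⟩, M₁, M₂, iM₁, iM₂, hP₁, hP₂, a₁, a₂, φ, ψ, ha₁, ha₂,
    hresu, hresv⟩


theorem map_eq_iff_of_natIso {C D : Type*} [Category C] [Category D] {F F' : C ⥤ D} (α : F ≅ F')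
    {X Y : C} (f g : X ⟶ Y) : F.map f = F.map g ↔ F'.map f = F'.map g := by
  constructor
  · intro h
    have h1 : ∀ k : X ⟶ Y, F'.map k = α.inv.app X ≫ F.map k ≫ α.hom.app Y := by intro k; simp
    rw [h1, h1, h]
  · intro h
    have h1 : ∀ k : X ⟶ Y, F.map k = α.hom.app X ≫ F'.map k ≫ α.inv.app Y := by intro k; simp
    rw [h1, h1, h]

section QE

variable {G H : Over S} (u v : G ⟶ H)

/-- the property "the base changes of `u` and `v` agree" -/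
def QE (T : Scheme.{u}) (t : T ⟶ S) : Prop := (Over.pullback t).map u = (Over.pullback t).map v

theorem QE_comp_iff {T T' : Scheme.{u}} (r : T' ⟶ T) (t : T ⟶ S) :
    QE u v T' (r ≫ t) ↔
      (Over.pullback r).map ((Over.pullback t).map u) =
        (Over.pullback r).map ((Over.pullback t).map v) :=
  map_eq_iff_of_natIso (Over.pullbackComp r t) u v

theorem QE_bc (T T' : Scheme.{u}) (r : T' ⟶ T) (t : T ⟶ S) (h : QE u v T t) :
    QE u v T' (r ≫ t) := by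
  rw [QE_comp_iff]
  unfold QE at h
  rw [h]

theorem QE_field (k L : Type u) [Field k] [Field L]
    (ρ : Spec (CommRingCat.of L) ⟶ Spec (CommRingCat.of k))
    (σ : Spec (CommRingCat.of k) ⟶ S) (h : QE u v _ (ρ ≫ σ)) : QE u v _ σ := by
  rw [QE_comp_iff] at h
  unfold QE
  apply LocMono.hom_ext_of_cover' ρ (FieldDesc.singleton_mem_of_field ρ)
  intro z
  refine ⟨_, 𝟙 _, inferInstance, ⟨z, rfl⟩, fun Y q => ?_⟩
  exact FFLocus.eq_of_map_eq ρ _ _ h _ Y.hom (by simp) q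

variable {P : Scheme.{u}} (π : P ⟶ S) (hπ : Presieve.singleton π ∈ Scheme.fpqcPrecoverage S)

include hπ in
theorem QE_local (U : S.Opens) (hloc : ∀ z : ↥(pullback π U.ι), ∃ (V' : Scheme.{u})
    (j' : V' ⟶ pullback π U.ι) (t' : V' ⟶ S), IsOpenImmersion j' ∧ z ∈ Set.range j' ∧
      t' = j' ≫ pullback.fst π U.ι ≫ π ∧ QE u v V' t') : QE u v U U.ι := by
  have hcov : Presieve.singleton (pullback.snd π U.ι) ∈ Scheme.fpqcPrecoverage U :=
    Groth.Agent.H40.CD.singleton_mem_fpqcPrecoverage_of_isPullback hπ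
      (IsPullback.of_hasPullback π U.ι).flip
  unfold QE
  apply LocMono.hom_ext_of_cover' (pullback.snd π U.ι) hcov
  intro z
  obtain ⟨V', j', t', hj', hz', ht', hq⟩ := hloc z
  refine ⟨V', j', hj', hz', fun Y q => ?_⟩
  have h1 : t' = (j' ≫ pullback.snd π U.ι) ≫ U.ι := by
    rw [ht', Category.assoc, ← pullback.condition]
  have hq' := MonoLocus.Q_congr (Q := QE u v) h1 hq
  rw [QE_comp_iff] at hq'
  exact FFLocus.eq_of_map_eq (j' ≫ pullback.snd π U.ι) _ _ hq' _ Y.hom rfl q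

end QE


section Chart

variable {G H : Over S} [GrpObj G] [GrpObj H] (u v : G ⟶ H) [IsMonHom u] [IsMonHom v]
  {V : Scheme.{u}} (t : V ⟶ S) {M₁ M₂ : Type} [AddCommGroup M₁] [AddCommGroup M₂]
  (e₁ : Red.bc t G ≅ AMonS V M₁) (e₂ : Red.bc t H ≅ AMonS V M₂) (φ ψ : M₂ →+ M₁)
  (hu : e₁.inv ≫ (Over.pullback t).map u ≫ e₂.hom = AMonS.map V φ)
  (hv : e₁.inv ≫ (Over.pullback t).map v ≫ e₂.hom = AMonS.map V ψ)

include hu hv in
theorem QE_of_eq (h : φ = ψ) : QE u v V t := by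
  unfold QE
  have h1 : ∀ (k : G ⟶ H), (Over.pullback t).map k =
      e₁.hom ≫ (e₁.inv ≫ (Over.pullback t).map k ≫ e₂.hom) ≫ e₂.inv := by
    intro k
    simp
  rw [h1 u, h1 v, hu, hv, h]

include hu hv in
theorem eq_of_QE_field (κ : Type u) [Field κ] (σ : Spec (CommRingCat.of κ) ⟶ V)
    (h : QE u v _ (σ ≫ t)) : φ = ψ := by
  rw [QE_comp_iff] at h
  let P : Over V := Over.mk σ
  have : IsAffine P.left := inferInstanceAs (IsAffine (Spec (CommRingCat.of κ)))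
  have : Nontrivial Γ(P.left, ⊤) :=
    RingHom.domain_nontrivial (Scheme.ΓSpecIso (CommRingCat.of κ)).hom.hom
  let Y₀ : Over V := P ⊗ AMonS V M₁
  have ht : (fst P (AMonS V M₁)).left ≫ σ = Y₀.hom := Over.w (fst P (AMonS V M₁))
  have h2 := FFLocus.eq_of_map_eq σ _ _ h Y₀ (fst P (AMonS V M₁)).left ht
    (snd P (AMonS V M₁) ≫ e₁.inv)
  have h3 : snd P (AMonS V M₁) ≫ AMonS.map V φ = snd P (AMonS V M₁) ≫ AMonS.map V ψ := by
    rw [← hu, ← hv]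
    have h4 := congrArg (fun k => k ≫ e₂.hom) h2
    simpa using h4
  ext m
  have h5 := congrArg (fun k => amFn k (Multiplicative.ofAdd m)) h3
  beta_reduce at h5
  rw [amFn_map, amFn_map] at h5
  have h6 := KLFam.amFn_snd_injective (M := M₁) P h5
  exact congrArg Multiplicative.toAdd h6

end Chart

/-- the locus where two homomorphisms of groups of multiplicative type agree is open and closed -/
theorem eq_locus {G H : Over S} [GrpObj G] [GrpObj H] (hG : SGA3x.IsMultTypeFT G)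
    (hH : SGA3x.IsMultTypeFT H) (u v : G ⟶ H) [IsMonHom u] [IsMonHom v] :
    ∃ U : S.Opens, IsClosed (U : Set S) ∧
      (∀ s : S, s ∈ U ↔ QE u v _ (S.fromSpecResidueField s)) ∧ QE u v U U.ι := by
  obtain ⟨P, π, hπ, hloc⟩ := exists_local_chart₂ (isLocDiag_of_isMultTypeFT hG)
    (isLocDiag_of_isMultTypeFT hH) (fun M _ h => h) u v
  refine ClopenLocus.clopen_locus (QE u v) (QE_bc u v) (QE_field u v) π hπ ?_ (QE_local u v π hπ)
  intro z
  obtain ⟨V, j, t, hj, hjt, hz, M₁, M₂, iM₁, iM₂, -, -, e₁, e₂, φ, ψ, he₁, he₂, hu, hv⟩ := hloc z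
  exact ⟨V, j, t, hj, hjt, hz, φ = ψ, QE_of_eq u v t e₁ e₂ φ ψ hu hv,
    fun κ _ σ h => eq_of_QE_field u v t e₁ e₂ φ ψ hu hv κ σ h⟩

/-- over a connected base, two homomorphisms of groups of multiplicative type which agree after
some base change with non-empty source are equal -/
theorem eq_of_connected [ConnectedSpace S] {G H : Over S} [GrpObj G] [GrpObj H]
    (hG : SGA3x.IsMultTypeFT G) (hH : SGA3x.IsMultTypeFT H) (u v : G ⟶ H) [IsMonHom u]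
    [IsMonHom v] {V : Scheme.{u}} (t : V ⟶ S) (v₀ : V) (h : QE u v V t) : u = v := by
  obtain ⟨U, hUc, hU, hUU⟩ := eq_locus hG hH u v
  let σ : Spec (V.residueField v₀) ⟶ S := V.fromSpecResidueField v₀ ≫ t
  have h1 : QE u v _ σ := QE_bc u v _ _ _ _ h
  let s₀ : S := σ (IsLocalRing.closedPoint (V.residueField v₀))
  have hσ := Scheme.descResidueField_stalkClosedPointTo_fromSpecResidueField
    (V.residueField v₀) S σ
  have h2 : QE u v _ (S.fromSpecResidueField s₀) := by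
    rw [← hσ] at h1
    exact QE_field u v _ _ _ _ h1
  have hs₀ : s₀ ∈ U := (hU s₀).mpr h2
  have hclopen : IsClopen (U : Set S) := ⟨hUc, U.isOpen⟩
  have huniv : (U : Set S) = Set.univ := hclopen.eq_univ ⟨s₀, hs₀⟩
  have htop : ∀ x : G.left, G.hom x ∈ U := fun x => by
    change G.hom x ∈ (U : Set S)
    rw [huniv]
    trivial
  let l : G.left ⟶ (U : Scheme.{u}) := IsOpenImmersion.lift U.ι G.hom (by
    rintro _ ⟨x, rfl⟩
    rw [Scheme.Opens.range_ι]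
    exact htop x)
  have hl : l ≫ U.ι = G.hom := IsOpenImmersion.lift_fac _ _ _
  have := FFLocus.eq_of_map_eq U.ι u v hUU G l hl (𝟙 G)
  rwa [Category.id_comp, Category.id_comp] at this

end Groth.Agent.H82.EqLocus
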