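import Groth.Agent.H82.LocIso
import Mathlib

/-! Local structure of a homomorphism between two groups with diagonalizable charts over the same
base. -/

set_option autoImplicit false
set_option linter.unusedSectionVars false
universe u

open CategoryTheory MonoidalCategory CartesianMonoidalCategory MonObj AlgebraicGeometry
open CategoryTheory.Limits
open Groth.Agent.H42 Groth.Agent.H40 Magnet
open Groth.Agent.H82.AMonPts Groth.Agent.H82.GroupIso

namespace Groth.Agent.H82.HomLoc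

variable {S B : Scheme.{u}} (g : B ⟶ S) {H₁ H₂ : Over S} [GrpObj H₁] [GrpObj H₂]
  (u : H₁ ⟶ H₂) [IsMonHom u]
  {M₁ M₂ : Type} [AddCommGroup M₁] [AddCommGroup M₂]
  (e₁ : Red.bc g H₁ ≅ AMonS B M₁) [IsMonHom e₁.hom]
  (e₂ : Red.bc g H₂ ≅ AMonS B M₂) [IsMonHom e₂.hom]

/-- the homomorphism in charts -/
noncomputable def cH : AMonS B M₁ ⟶ AMonS B M₂ := e₁.inv ≫ (Over.pullback g).map u ≫ e₂.hom

instance : IsMonHom (cH g u e₁ e₂) := by
  unfold cH
  infer_instance

theorem comp_bc_eq {Y : Over B} (h : Y ⟶ Red.bc g H₁) :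
    h ≫ (Over.pullback g).map u = ((h ≫ e₁.hom) ≫ cH g u e₁ e₂) ≫ e₂.inv := by
  unfold cH
  simp only [Category.assoc, Iso.hom_inv_id, Category.comp_id, Iso.hom_inv_id_assoc]

theorem exists_local_hom (hM₂ : AddGroup.FG M₂) (b : B) :
    ∃ (V : B.Opens) (φ : M₂ →+ M₁), b ∈ V ∧ ∀ (T : Over B) (h : T ⟶ AMonS B M₁),
      (∀ z, T.hom z ∈ V) → h ≫ cH g u e₁ e₂ = h ≫ AMonS.map B φ := by
  obtain ⟨V, φ, hb, Hf⟩ := KLFam.exists_local (Over.mk (𝟙 B))
    (snd (Over.mk (𝟙 B)) (AMonS B M₁) ≫ cH g u e₁ e₂) (fun T x h h' => by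
      rw [← Category.assoc, ← Category.assoc, ← Category.assoc, lift_snd, lift_snd, lift_snd,
        MonObj.mul_comp]) hM₂ b
  refine ⟨V, φ, hb, fun T h hT => ?_⟩
  have h1 := Hf T (Over.homMk T.hom (by simp)) h hT
  rwa [← Category.assoc, lift_snd] at h1

section Props

variable (V : B.Opens) (φ : M₂ →+ M₁)
  (hV : ∀ (T : Over B) (h : T ⟶ AMonS B M₁), (∀ z, T.hom z ∈ V) →
    h ≫ cH g u e₁ e₂ = h ≫ AMonS.map B φ)

theorem comp_map_id' {Y : Over B} (h : Y ⟶ AMonS B M₁) :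
    h ≫ AMonS.map B (AddMonoidHom.id M₁) = h := by
  apply amFn_ext
  intro m
  rw [amFn_map]
  rfl

include hV in
/-- a monomorphism is, in charts, induced by a surjection of character groups -/
theorem surjective_of_mono [Mono u] (b : B) (hb : b ∈ V) : Function.Surjective φ := by
  haveI : Mono (cH g u e₁ e₂) := by
    unfold cH
    infer_instance
  let q : M₁ →+ M₁ ⧸ φ.range := QuotientAddGroup.mk' φ.range
  let P := KLFam.Pt (Over.mk (𝟙 B)) b
  let Y₀ : Over B := P ⊗ AMonS B (M₁ ⧸ φ.range)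
  have hland : ∀ z, Y₀.hom z ∈ V := by
    intro z
    have h1 : Y₀.hom = (fst P (AMonS B (M₁ ⧸ φ.range)) ≫ KLFam.pt (Over.mk (𝟙 B)) b).left := by
      have h0 := Over.w (fst P (AMonS B (M₁ ⧸ φ.range)) ≫ KLFam.pt (Over.mk (𝟙 B)) b)
      exact h0.symm.trans (Category.comp_id _)
    rw [h1, CentMT.pt_comp_apply]
    exact hb
  let x₁ : Y₀ ⟶ AMonS B M₁ := snd P (AMonS B (M₁ ⧸ φ.range)) ≫ AMonS.map B q
  have hq : q.comp φ = 0 := by
    ext n
    change (QuotientAddGroup.mk' φ.range) (φ n) = 0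
    rw [QuotientAddGroup.mk'_apply, QuotientAddGroup.eq_zero_iff]
    exact ⟨n, rfl⟩
  have h2 : x₁ ≫ cH g u e₁ e₂ = (1 : Y₀ ⟶ AMonS B M₁) ≫ cH g u e₁ e₂ := by
    rw [hV Y₀ x₁ hland, MonObj.one_comp, Category.assoc, ← AMonS.map_comp, hq]
    apply amFn_ext
    intro m
    rw [amFn_map, amFn_one]
    exact map_one _
  have h3 : x₁ = 1 := (cancel_mono _).mp h2
  intro m
  have h4 := congrArg (fun f => amFn f (Multiplicative.ofAdd m)) h3
  beta_reduce at h4
  rw [amFn_map, amFn_one] at h4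
  have h5 : amFn (snd P (AMonS B (M₁ ⧸ φ.range)))
      (AddMonoidHom.toMultiplicative q (Multiplicative.ofAdd m)) =
      amFn (snd P (AMonS B (M₁ ⧸ φ.range))) 1 := by rw [h4, map_one]
  have h6 := KLFam.amFn_snd_injective (M := M₁ ⧸ φ.range) P h5
  have h7 : q m = 0 := congrArg Multiplicative.toAdd h6
  have h8 : m ∈ φ.range := by
    rw [← QuotientAddGroup.eq_zero_iff]
    exact h7
  exact h8

include hV in
theorem bijective_comp_of_bijective (hφ : Function.Bijective φ) (Y₀ : Over B)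
    (hY : ∀ z, Y₀.hom z ∈ V) :
    Function.Bijective (fun h : Y₀ ⟶ Red.bc g H₁ => h ≫ (Over.pullback g).map u) := by
  let Φ : M₂ ≃+ M₁ := AddEquiv.ofBijective φ hφ
  have hΦ1 : φ.comp Φ.symm.toAddMonoidHom = AddMonoidHom.id M₁ := by
    ext m
    exact Φ.apply_symm_apply m
  have hΦ2 : Φ.symm.toAddMonoidHom.comp φ = AddMonoidHom.id M₂ := by
    ext m
    exact Φ.symm_apply_apply m
  have hfun : (fun h : Y₀ ⟶ Red.bc g H₁ => h ≫ (Over.pullback g).map u) =
      (fun x : Y₀ ⟶ AMonS B M₂ => x ≫ e₂.inv) ∘ (fun x : Y₀ ⟶ AMonS B M₁ => x ≫ AMonS.map B φ) ∘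
        (fun h : Y₀ ⟶ Red.bc g H₁ => h ≫ e₁.hom) := by
    funext h
    simp only [Function.comp_apply]
    rw [comp_bc_eq g u e₁ e₂, hV Y₀ _ hY]
  rw [hfun]
  refine Function.Bijective.comp ?_ (Function.Bijective.comp ?_ ?_)
  · exact (Iso.homToEquiv e₂.symm).bijective
  · refine Function.bijective_iff_has_inverse.mpr
      ⟨fun x => x ≫ AMonS.map B Φ.symm.toAddMonoidHom, fun x => ?_, fun x => ?_⟩
    · change (x ≫ AMonS.map B φ) ≫ AMonS.map B Φ.symm.toAddMonoidHom = x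
      rw [Category.assoc, ← AMonS.map_comp, hΦ1, comp_map_id']
    · change (x ≫ AMonS.map B Φ.symm.toAddMonoidHom) ≫ AMonS.map B φ = x
      rw [Category.assoc, ← AMonS.map_comp, hΦ2]
      apply amFn_ext
      intro m
      rw [amFn_map]
      rfl
  · exact (Iso.homToEquiv e₁).bijective

include hV in
/-- if the map of character groups is bijective, the homomorphism is an isomorphism over `V` -/
theorem isIso_of_bijective (hφ : Function.Bijective φ) :
    IsIso ((Over.pullback (V.ι ≫ g)).map u) := by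
  apply LocIso.isIso_bc_of_bijective g V.ι u
  intro Y
  apply bijective_comp_of_bijective g u e₁ e₂ V φ hV hφ
  intro z
  change (Y.hom ≫ V.ι) z ∈ V
  rw [Scheme.Hom.comp_apply]
  exact (Y.hom z).2

end Props

end Groth.Agent.H82.HomLoc
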