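import Groth.Agent.H82.ChartComp
import Groth.Agent.H82.CentMT
import Mathlib

/-! A monomorphism of `S`-schemes which is an isomorphism fpqc-locally on `S` is an isomorphism. -/

set_option autoImplicit false
set_option linter.unusedSectionVars false
universe u

open CategoryTheory MonoidalCategory CartesianMonoidalCategory MonObj AlgebraicGeometry
open CategoryTheory.Limits
open Groth.Agent.H42 Groth.Agent.H40 Magnet
open Groth.Agent.H82.AMonPts

namespace Groth.Agent.H82.LocIso

/-- lifts through a monomorphism can be constructed Zariski-locally -/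
theorem exists_lift_of_mono_of_forall_open {P A B : Scheme.{u}} (m : A ⟶ B) [Mono m] (b : P ⟶ B)
    (h : ∀ z : P, ∃ (O : Scheme.{u}) (j : O ⟶ P), IsOpenImmersion j ∧ z ∈ Set.range j ∧
      ∃ a : O ⟶ A, a ≫ m = j ≫ b) : ∃ a : P ⟶ A, a ≫ m = b := by
  choose O j hj hz a ha using h
  have hU : TopologicalSpace.IsOpenCover (fun z => (j z).opensRange) :=
    eq_top_iff.mpr (fun z _ => TopologicalSpace.Opens.mem_iSup.mpr ⟨z, hz z⟩)
  let 𝒰 := P.openCoverOfIsOpenCover _ hU
  obtain ⟨a', ha'⟩ : ∃ a' : ∀ z, 𝒰.X z ⟶ A, ∀ z, a' z ≫ m = 𝒰.f z ≫ b := by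
    refine ⟨fun z => (j z).isoOpensRange.inv ≫ a z, fun z => ?_⟩
    change ((j z).isoOpensRange.inv ≫ a z) ≫ m = (j z).opensRange.ι ≫ b
    rw [Category.assoc, ha, ← Category.assoc, Scheme.Hom.isoOpensRange_inv_comp]
  refine ⟨𝒰.glueMorphisms a' (fun x y => ?_), ?_⟩
  · rw [← cancel_mono m, Category.assoc, Category.assoc, ha', ha', ← Category.assoc,
      ← Category.assoc, pullback.condition]
  · apply 𝒰.hom_ext
    intro z
    rw [← Category.assoc, Scheme.Cover.ι_glueMorphisms, ha']

variable {S S'' : Scheme.{u}}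

/-- fpqc-local isomorphisms which are monomorphisms are isomorphisms -/
theorem isIso_of_locally_iso (π : S'' ⟶ S) (hπ : Presieve.singleton π ∈ Scheme.fpqcPrecoverage S)
    {A B : Over S} (u : A ⟶ B) [Mono u]
    (hloc : ∀ z : S'', ∃ (V : Scheme.{u}) (j : V ⟶ S''), IsOpenImmersion j ∧ z ∈ Set.range j ∧
      IsIso ((Over.pullback (j ≫ π)).map u)) : IsIso u := by
  -- the covering of `B`
  let P := pullback B.hom π
  let T' : Over S := Over.mk (pullback.fst B.hom π ≫ B.hom)
  let c : T' ⟶ B := Over.homMk (pullback.fst B.hom π) rfl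
  have hc : IsFpqcCov c := ⟨_, pullback.fst B.hom π, 𝟙 _, Category.id_comp _,
    Groth.Agent.H40.CD.singleton_mem_fpqcPrecoverage_of_isPullback hπ
      (IsPullback.of_hasPullback B.hom π)⟩
  haveI : Mono u.left := inferInstance
  -- local sections
  obtain ⟨e₀, he₀⟩ := exists_lift_of_mono_of_forall_open u.left (pullback.fst B.hom π) (by
    intro z
    obtain ⟨V, j, hj, hzj, hiso⟩ := hloc ((pullback.snd B.hom π) z)
    -- the open piece of `P` over `V`
    let O := pullback (pullback.snd B.hom π) j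
    let jO : O ⟶ P := pullback.fst (pullback.snd B.hom π) j
    obtain ⟨v, hv⟩ := hzj
    obtain ⟨zO, hzO, -⟩ := Scheme.Pullback.exists_preimage_pullback (f := pullback.snd B.hom π)
      (g := j) z v hv.symm
    refine ⟨O, jO, inferInstance, ⟨zO, hzO⟩, ?_⟩
    let Y : Over V := Over.mk (pullback.snd (pullback.snd B.hom π) j)
    let q : (Over.map (j ≫ π)).obj Y ⟶ B := Over.homMk (jO ≫ pullback.fst B.hom π) (by
      change (jO ≫ pullback.fst B.hom π) ≫ B.hom =
        pullback.snd (pullback.snd B.hom π) j ≫ j ≫ π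
      rw [Category.assoc, pullback.condition, ← Category.assoc, pullback.condition,
        Category.assoc])
    let b₁ : Y ⟶ (Over.pullback (j ≫ π)).obj B := ((Over.mapPullbackAdj (j ≫ π)).homEquiv Y B) q
    let a₁ : Y ⟶ (Over.pullback (j ≫ π)).obj A := b₁ ≫ inv ((Over.pullback (j ≫ π)).map u)
    refine ⟨(((Over.mapPullbackAdj (j ≫ π)).homEquiv Y A).symm a₁).left, ?_⟩
    have h1 : ((Over.mapPullbackAdj (j ≫ π)).homEquiv Y A).symm a₁ ≫ u = q := by
      rw [← Adjunction.homEquiv_naturality_right_symm, Category.assoc, IsIso.inv_hom_id,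
        Category.comp_id]
      exact Equiv.symm_apply_apply _ _
    exact congrArg (fun t => t.left) h1)
  let e : T' ⟶ A := Over.homMk e₀ (by
    change e₀ ≫ A.hom = pullback.fst B.hom π ≫ B.hom
    rw [← he₀, Category.assoc, Over.w])
  have he : e ≫ u = c := by
    apply Over.OverMorphism.ext
    exact he₀
  obtain ⟨v, hv⟩ := hc.exists_desc e (fun Z g₁ g₂ hg => by
    rw [← cancel_mono u, Category.assoc, Category.assoc, he, hg])
  haveI := hc.epi
  refine ⟨v, ?_, ?_⟩
  · rw [← cancel_mono u, Category.assoc, Category.id_comp]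
    have : v ≫ u = 𝟙 B := by
      rw [← cancel_epi c, ← Category.assoc, hv, he, Category.comp_id]
    rw [this, Category.comp_id]
  · rw [← cancel_epi c, ← Category.assoc, hv, he, Category.comp_id]

section BC

open Groth.Agent.H82.ChartComp

variable {S V₀ V : Scheme.{u}} (gV : V₀ ⟶ S) (j : V ⟶ V₀) {A B : Over S} [GrpObj A] [GrpObj B]
  (u : A ⟶ B)

theorem ptEquiv_map (Y : Over V) (x : Y ⟶ Red.bc (j ≫ gV) A) :
    ptEquiv gV j B Y (x ≫ (Over.pullback (j ≫ gV)).map u) =
      ptEquiv gV j A Y x ≫ (Over.pullback gV).map u := by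
  apply bcPtM_injective gV B
  rw [bcPtM_ptEquiv, bcPtM_map, bcPtM_map, bcPtM_ptEquiv, Category.assoc]

theorem isIso_bc_of_bijective
    (hbij : ∀ Y : Over V, Function.Bijective
      (fun h : (Over.map j).obj Y ⟶ Red.bc gV A => h ≫ (Over.pullback gV).map u)) :
    IsIso ((Over.pullback (j ≫ gV)).map u) := by
  apply isIso_of_yoneda_map_bijective
  intro Y
  have h1 : (fun x : Y ⟶ (Over.pullback (j ≫ gV)).obj A => x ≫ (Over.pullback (j ≫ gV)).map u) =
      (ptEquiv gV j B Y).symm ∘
        (fun h : (Over.map j).obj Y ⟶ Red.bc gV A => h ≫ (Over.pullback gV).map u) ∘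
        (ptEquiv gV j A Y) := by
    funext x
    simp only [Function.comp_apply]
    rw [Equiv.eq_symm_apply]
    exact ptEquiv_map gV j u Y x
  rw [h1]
  exact (ptEquiv gV j B Y).symm.bijective.comp ((hbij Y).comp (ptEquiv gV j A Y).bijective)

end BC

end Groth.Agent.H82.LocIso
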