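import Groth.Agent.H82.ChartBC
import Groth.Agent.H82.HomLoc
import Groth.Agent.H82.LocIso
import Groth.Prelude.Def_SGA3x
import Mathlib

/-! Existence of a maximal split subtorus in a group of multiplicative type and of finite type. -/

set_option autoImplicit false
set_option linter.unusedSectionVars false
universe u

open CategoryTheory MonoidalCategory CartesianMonoidalCategory MonObj AlgebraicGeometry
open CategoryTheory.Limits
open Groth.Agent.H42 Groth.Agent.H40 Magnet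
open Groth.Agent.H82.AMonPts Groth.Agent.H82.ChartComp

namespace Groth.Agent.H82.MaxSplit

variable {S : Scheme.{u}} {G : Over S} [GrpObj G]

/-- a morphism whose composite with a monic homomorphism is a homomorphism is a homomorphism -/
theorem isMonHom_of_comp_mono {T T' : Over S} [GrpObj T] [GrpObj T'] (g : T ⟶ T') (j' : T' ⟶ G)
    [IsMonHom j'] [Mono j'] (j : T ⟶ G) [IsMonHom j] (h : g ≫ j' = j) : IsMonHom g := by
  apply isMonHom_of_points
  · rw [← cancel_mono j', Category.assoc, h, MonObj.one_comp, MonObj.one_comp]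
  · intro Y a b
    rw [← cancel_mono j', Category.assoc, h, MonObj.mul_comp, MonObj.mul_comp, Category.assoc,
      Category.assoc, h]

theorem surj_rank_le {N r : ℕ} {M : Type} [AddCommGroup M] (p : (Fin N → ℤ) →+ M)
    (hp : Function.Surjective p) (φ : M →+ (Fin r → ℤ)) (hφ : Function.Surjective φ) : r ≤ N := by
  have h1 := LinearMap.finrank_le_finrank_of_surjective (R := ℤ)
    (f := (φ.comp p).toIntLinearMap) (hφ.comp hp)
  rwa [Module.finrank_fin_fun, Module.finrank_fin_fun] at h1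

/-- the ranks of split subtori are bounded, if the base is non-empty -/
theorem exists_rank_bound (hG : SGA3x.IsMultTypeFT G) (hS : Nonempty S) :
    ∃ N : ℕ, ∀ (T : Over S) [GrpObj T] (j : T ⟶ G) [IsMonHom j] [Mono j] (r : ℕ),
      Red.IsSplitTorusWith (Fin r → ℤ) T → r ≤ N := by
  obtain ⟨S₁, f₁, hflat₁, hsurj₁, hqc₁, htriv₁⟩ := hG
  obtain ⟨s⟩ := hS
  obtain ⟨z, hz⟩ := hsurj₁.surj s
  obtain ⟨U, hzU, M, iM, hfg, hs⟩ := htriv₁ z
  obtain ⟨e₂, he₂⟩ := TorusHom.exists_iso_of_grpIso hs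
  haveI : Module.Finite ℤ M := Module.Finite.iff_addGroup_fg.mpr hfg
  obtain ⟨N, p, hp⟩ := Module.Finite.exists_fin' ℤ M
  refine ⟨N, fun T _ j _ _ r hT => ?_⟩
  obtain ⟨e₁, he₁⟩ := ChartBC.exists_chart_of_split (U.ι ≫ f₁) T hT
  obtain ⟨V, φ, hzV, hV⟩ := HomLoc.exists_local_hom (U.ι ≫ f₁) j e₁ e₂ hfg ⟨z, hzU⟩
  have hsurj := HomLoc.surjective_of_mono (U.ι ≫ f₁) j e₁ e₂ V φ hV ⟨z, hzU⟩ hzV
  exact surj_rank_le p.toAddMonoidHom hp φ hsurj

/-- the trivial torus -/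
theorem trivial_split (G : Over S) [GrpObj G] :
    ∃ (T : Over S) (_ : GrpObj T) (j : T ⟶ G), IsMonHom j ∧ Mono j ∧
      Red.IsSplitTorusWith (Fin 0 → ℤ) T := by
  refine ⟨Red.DS S (Fin 0 → ℤ), inferInstance, 1, ?_, ?_, ⟨Iso.refl _⟩⟩
  · apply isMonHom_of_points
    · rw [MonObj.comp_one]
    · intro Y a b
      rw [MonObj.comp_one, MonObj.comp_one, MonObj.comp_one, _root_.mul_one]
  · constructor
    intro Y a b _
    apply amFn_ext (S := S) (N := Fin 0 → ℤ)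
    intro m
    have hm : m = 1 := Subsingleton.elim _ _
    rw [hm, map_one, map_one]

theorem exists_max_split (hG : SGA3x.IsMultTypeFT G) :
    ∃ (T : Over S) (_ : GrpObj T) (j : T ⟶ G) (r : ℕ), IsMonHom j ∧ Mono j ∧
      Red.IsSplitTorusWith (Fin r → ℤ) T ∧
      ∀ (T' : Over S) [GrpObj T'] (j' : T' ⟶ G) [IsMonHom j'] [Mono j'] (r' : ℕ) (g : T ⟶ T'),
        Red.IsSplitTorusWith (Fin r' → ℤ) T' → g ≫ j' = j → IsIso g := by
  let ranks : Set ℕ := {r | ∃ (T : Over S) (_ : GrpObj T) (j : T ⟶ G), IsMonHom j ∧ Mono j ∧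
    Red.IsSplitTorusWith (Fin r → ℤ) T}
  have h0 : (0 : ℕ) ∈ ranks := trivial_split G
  -- choose a rank which is maximal when the base is non-empty
  obtain ⟨r₀, hr₀, hmax⟩ : ∃ r₀ ∈ ranks, Nonempty S → ∀ r' ∈ ranks, r' ≤ r₀ := by
    by_cases hS : Nonempty S
    · obtain ⟨N, hN⟩ := exists_rank_bound hG hS
      have hbdd : BddAbove ranks := ⟨N, fun r ⟨T, iT, j, hj1, hj2, hT⟩ => hN T j r hT⟩
      exact ⟨sSup ranks, Nat.sSup_mem ⟨0, h0⟩ hbdd, fun _ r' hr' => le_csSup hbdd hr'⟩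
    · exact ⟨0, h0, fun h => absurd h hS⟩
  obtain ⟨T, iT, j, hj1, hj2, hT⟩ := hr₀
  refine ⟨T, iT, j, r₀, hj1, hj2, hT, fun T' _ j' _ _ r' g hT' hg => ?_⟩
  haveI : IsMonHom g := isMonHom_of_comp_mono g j' j hg
  haveI : Mono g := by
    haveI : Mono (g ≫ j') := by rw [hg]; exact hj2
    exact mono_of_mono g j'
  have hπ : Presieve.singleton (𝟙 S) ∈ Scheme.fpqcPrecoverage S :=
    Scheme.Hom.singleton_mem_fpqcPrecoverage (𝟙 S)
  apply LocIso.isIso_of_locally_iso (𝟙 S) hπ g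
  intro z
  obtain ⟨e₁, he₁⟩ := ChartBC.exists_chart_of_split (𝟙 S) T hT
  obtain ⟨e₂, he₂⟩ := ChartBC.exists_chart_of_split (𝟙 S) T' hT'
  have hr' : r' ≤ r₀ := hmax ⟨z⟩ r' ⟨T', inferInstance, j', inferInstance, inferInstance, hT'⟩
  have hfg : AddGroup.FG (Fin r' → ℤ) := Module.Finite.iff_addGroup_fg.mp inferInstance
  obtain ⟨V, φ, hzV, hV⟩ := HomLoc.exists_local_hom (𝟙 S) g e₁ e₂ hfg z
  have hsurj := HomLoc.surjective_of_mono (𝟙 S) g e₁ e₂ V φ hV z hzV
  have hr'' : r₀ ≤ r' := surj_rank_le (AddMonoidHom.id _) Function.surjective_id φ hsurj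
  have hrr : r' = r₀ := le_antisymm hr' hr''
  subst hrr
  have hinj : Function.Injective φ :=
    OrzechProperty.injective_of_surjective_endomorphism φ.toIntLinearMap hsurj
  have hiso := HomLoc.isIso_of_bijective (𝟙 S) g e₁ e₂ V φ hV ⟨hinj, hsurj⟩
  exact ⟨V, V.ι, inferInstance, ⟨⟨z, hzV⟩, rfl⟩, hiso⟩

end Groth.Agent.H82.MaxSplit
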