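import Groth.Agent.H82.LocIso
import Mathlib

/-! Monomorphisms can be detected fpqc-locally. -/

set_option autoImplicit false
set_option linter.unusedSectionVars false
universe u

open CategoryTheory MonoidalCategory CartesianMonoidalCategory MonObj AlgebraicGeometry
open CategoryTheory.Limits
open Groth.Agent.H42 Groth.Agent.H40 Magnet
open Groth.Agent.H82.AMonPts Groth.Agent.H82.CentMT

namespace Groth.Agent.H82.LocMono

variable {S S'' : Scheme.{u}}

/-- compare morphisms locally on a singleton fpqc cover refined by open immersions -/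
theorem hom_ext_of_cover' (π : S'' ⟶ S) (hπ : Presieve.singleton π ∈ Scheme.fpqcPrecoverage S)
    {T' X : Over S} (a b : T' ⟶ X)
    (h : ∀ z : S'', ∃ (V : Scheme.{u}) (j : V ⟶ S''), IsOpenImmersion j ∧ z ∈ Set.range j ∧
      ∀ (Y : Over V) (q : (Over.map (j ≫ π)).obj Y ⟶ T'), q ≫ a = q ≫ b) : a = b := by
  apply Over.OverMorphism.ext
  have hcov' := Groth.Agent.H40.CD.singleton_mem_fpqcPrecoverage_of_isPullback hπ
    (IsPullback.of_hasPullback T'.hom π)
  haveI := Groth.Agent.H40.effectiveEpi_of_mem_fpqcPrecoverage _ hcov'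
  rw [← cancel_epi (pullback.fst T'.hom π)]
  apply hom_ext_of_forall_open
  intro z
  obtain ⟨V, j, hj, hzj, hV⟩ := h ((pullback.snd T'.hom π) z)
  let O := pullback (pullback.snd T'.hom π) j
  let jO : O ⟶ pullback T'.hom π := pullback.fst (pullback.snd T'.hom π) j
  obtain ⟨v, hv⟩ := hzj
  obtain ⟨zO, hzO, -⟩ := Scheme.Pullback.exists_preimage_pullback (f := pullback.snd T'.hom π)
    (g := j) z v hv.symm
  refine ⟨O, jO, inferInstance, ⟨zO, hzO⟩, ?_⟩
  let Y : Over V := Over.mk (pullback.snd (pullback.snd T'.hom π) j)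
  let q : (Over.map (j ≫ π)).obj Y ⟶ T' := Over.homMk (jO ≫ pullback.fst T'.hom π) (by
    change (jO ≫ pullback.fst T'.hom π) ≫ T'.hom =
      pullback.snd (pullback.snd T'.hom π) j ≫ j ≫ π
    rw [Category.assoc, pullback.condition, ← Category.assoc, pullback.condition,
      Category.assoc])
  have h5 := congrArg (fun m => m.left) (hV Y q)
  have hq : q.left = jO ≫ pullback.fst T'.hom π := rfl
  simp only [Over.comp_left] at h5
  rw [hq] at h5
  simpa using h5

/-- a morphism which is a monomorphism fpqc-locally is a monomorphism -/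
theorem mono_of_locally_mono (π : S'' ⟶ S) (hπ : Presieve.singleton π ∈ Scheme.fpqcPrecoverage S)
    {A B : Over S} (u : A ⟶ B)
    (hloc : ∀ z : S'', ∃ (V : Scheme.{u}) (j : V ⟶ S''), IsOpenImmersion j ∧ z ∈ Set.range j ∧
      Mono ((Over.pullback (j ≫ π)).map u)) : Mono u := by
  constructor
  intro T a b hab
  apply hom_ext_of_cover' π hπ
  intro z
  obtain ⟨V, j, hj, hzj, hmono⟩ := hloc z
  refine ⟨V, j, hj, hzj, fun Y q => ?_⟩
  apply ((Over.mapPullbackAdj (j ≫ π)).homEquiv Y A).injective
  rw [← cancel_mono ((Over.pullback (j ≫ π)).map u), ← Adjunction.homEquiv_naturality_right,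
    ← Adjunction.homEquiv_naturality_right, Category.assoc, Category.assoc, hab]

end Groth.Agent.H82.LocMono
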