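import Groth.Agent.H82.NilAct2
import Groth.Agent.H82.LocMono
import Groth.Agent.H82.TorusHom
import Groth.Agent.H40.ActPts
import Groth.Agent.H40.CD.FpqcImm
import Groth.Prelude.Def_TwC
import Mathlib

/-! An action of a group of multiplicative type which is trivial modulo a locally nilpotent ideal of
the base is trivial. -/

set_option autoImplicit false
set_option linter.unusedSectionVars false
set_option linter.unusedVariables false
universe u

open CategoryTheory MonoidalCategory CartesianMonoidalCategory MonObj AlgebraicGeometry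
open CategoryTheory.Limits
open Groth.Agent.H42 Groth.Agent.H40 Magnet
open Groth.Agent.H82.AMonPts Groth.Agent.H82.GroupIso Groth.Agent.H82.KLAlg Groth.Agent.H82.KLFam

namespace Groth.Agent.H82.NilGlobal

variable {S : Scheme.{u}} {G X : Over S} [GrpObj G] (a : AlgGrp.Action G X)

section Chart

variable {B : Scheme.{u}} (w : B ⟶ S) {M : Type} [AddCommGroup M]
  (e : Red.bc w G ≅ AMonS B M) [IsMonHom e.hom]

/-- the action of `D_B(M)` on the base change of `X` -/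
noncomputable def cB : Red.bc w X ⊗ AMonS B M ⟶ Red.bc w X :=
  (Over.mapPullbackAdj w).homEquiv _ X
    (psmul a (bcPtM w G (snd (Red.bc w X) (AMonS B M) ≫ e.inv))
      (((Over.mapPullbackAdj w).homEquiv _ X).symm (fst (Red.bc w X) (AMonS B M))))

theorem comp_cB {T : Over B} (τ : T ⟶ Red.bc w X ⊗ AMonS B M) :
    τ ≫ cB a w e = (Over.mapPullbackAdj w).homEquiv _ X
      (psmul a (bcPtM w G (τ ≫ snd (Red.bc w X) (AMonS B M) ≫ e.inv))
        (((Over.mapPullbackAdj w).homEquiv _ X).symm (τ ≫ fst (Red.bc w X) (AMonS B M)))) := by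
  unfold cB
  rw [← Adjunction.homEquiv_naturality_left, comp_psmul]
  have h1 : (Over.map w).map τ ≫ bcPtM w G (snd (Red.bc w X) (AMonS B M) ≫ e.inv) =
      bcPtM w G (τ ≫ snd (Red.bc w X) (AMonS B M) ≫ e.inv) := by
    unfold bcPtM
    exact (Adjunction.homEquiv_naturality_left_symm (Over.mapPullbackAdj w) τ
      (snd (Red.bc w X) (AMonS B M) ≫ e.inv)).symm
  have h2 : (Over.map w).map τ ≫
      ((Over.mapPullbackAdj w).homEquiv (Red.bc w X ⊗ AMonS B M) X).symm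
        (fst (Red.bc w X) (AMonS B M)) =
      ((Over.mapPullbackAdj w).homEquiv T X).symm (τ ≫ fst (Red.bc w X) (AMonS B M)) := by
    exact (Adjunction.homEquiv_naturality_left_symm (Over.mapPullbackAdj w) τ
      (fst (Red.bc w X) (AMonS B M))).symm
  rw [h1, h2]

theorem lift_cB {T : Over B} (x : T ⟶ Red.bc w X) (g : T ⟶ AMonS B M) :
    lift x g ≫ cB a w e = (Over.mapPullbackAdj w).homEquiv _ X
      (psmul a (bcPtM w G (g ≫ e.inv)) (((Over.mapPullbackAdj w).homEquiv _ X).symm x)) := by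
  rw [comp_cB, lift_snd_assoc, lift_fst]

theorem bcPtM_one {T : Over B} : bcPtM w G (1 : T ⟶ Red.bc w G) = 1 := by
  have h := bcPtM_mul w G (1 : T ⟶ Red.bc w G) 1
  rw [_root_.mul_one] at h
  exact mul_left_cancel (a := bcPtM w G (1 : T ⟶ Red.bc w G)) (by rw [← h, _root_.mul_one])

theorem A1 (T : Over B) (x : T ⟶ Red.bc w X) :
    lift x (1 : T ⟶ AMonS B M) ≫ cB a w e = x := by
  rw [lift_cB, MonObj.one_comp, bcPtM_one, one_psmul, Equiv.apply_symm_apply]

theorem A2 (T : Over B) (x : T ⟶ Red.bc w X) (g h : T ⟶ AMonS B M) :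
    lift x (g * h) ≫ cB a w e = lift (lift x g ≫ cB a w e) h ≫ cB a w e := by
  have hcomm : g * h = h * g :=
    amFn_ext (fun m => by rw [amFn_mul, amFn_mul, mul_comm])
  rw [hcomm, lift_cB, lift_cB, lift_cB, Equiv.symm_apply_apply, MonObj.mul_comp, bcPtM_mul,
    mul_psmul]

variable {S₀ : Scheme.{u}} (i₀ : S₀ ⟶ S)
  (h0 : ∀ (Y : Over S) (p : Y ⟶ Over.mk i₀) (g : Y ⟶ G) (x : Y ⟶ X), lift g x ≫ a.act = x)

include h0 in
theorem H0 (T : Over B) (p : T.left ⟶ S₀) (hp : p ≫ i₀ = T.hom ≫ w)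
    (τ : T ⟶ Red.bc w X ⊗ AMonS B M) :
    τ ≫ cB a w e = τ ≫ fst (Red.bc w X) (AMonS B M) := by
  rw [comp_cB]
  have h := h0 ((Over.map w).obj T) (Over.homMk p hp)
    (bcPtM w G (τ ≫ snd (Red.bc w X) (AMonS B M) ≫ e.inv))
    (((Over.mapPullbackAdj w).homEquiv _ X).symm (τ ≫ fst (Red.bc w X) (AMonS B M)))
  rw [psmul_def, h, Equiv.apply_symm_apply]

include h0 e in
theorem chart_trivial [IsClosedImmersion i₀]
    (hnil : ∀ x : S, ∃ U : S.affineOpens, x ∈ (U : S.Opens) ∧ IsNilpotent (i₀.ker.ideal U))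
    (Y' : Over B) (gg : (Over.map w).obj Y' ⟶ G) (xx : (Over.map w).obj Y' ⟶ X) :
    psmul a gg xx = xx := by
  have hc : cB a w e = fst _ _ :=
    NilAct2.main i₀ hnil w (Red.bc w X) (cB a w e) (A1 a w e) (A2 a w e) (H0 a w e i₀ h0)
  have h1 := lift_cB a w e ((Over.mapPullbackAdj w).homEquiv _ _ xx)
    ((Over.mapPullbackAdj w).homEquiv _ _ gg ≫ e.hom)
  rw [hc, lift_fst, Category.assoc, e.hom_inv_id, Category.comp_id] at h1
  unfold bcPtM at h1
  rw [Equiv.symm_apply_apply, Equiv.symm_apply_apply] at h1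
  exact (((Over.mapPullbackAdj w).homEquiv _ _).injective h1).symm

end Chart

theorem main {S₀ : Scheme.{u}} (i₀ : S₀ ⟶ S) [IsClosedImmersion i₀]
    (hnil : ∀ x : S, ∃ U : S.affineOpens, x ∈ (U : S.Opens) ∧ IsNilpotent (i₀.ker.ideal U))
    (hG : TwC.Locally S TwC.Topology.fpqc (fun S' f => ∃ (M : Type) (_ : AddCommGroup M),
      Nonempty (Grp.mk (Red.bc f G) ≅ Grp.mk (Red.DS S' M))))
    (h0 : ∀ (Y : Over S) (p : Y ⟶ Over.mk i₀) (g : Y ⟶ G) (x : Y ⟶ X), lift g x ≫ a.act = x) :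
    ∀ (Y : Over S) (g : Y ⟶ G) (x : Y ⟶ X), lift g x ≫ a.act = x := by
  intro Y g x
  obtain ⟨S₁, f₁, hflat₁, hsurj₁, hqc₁, htriv₁⟩ := hG
  have h₁ : Presieve.singleton f₁ ∈ Scheme.fpqcPrecoverage S :=
    Groth.Agent.H40.CD.singleton_mem_fpqcPrecoverage_of_image f₁ hsurj₁ hflat₁ hqc₁
  apply LocMono.hom_ext_of_cover' f₁ h₁
  intro z
  obtain ⟨U₁, hz₁, M₁, iM₁, hs₁⟩ := htriv₁ z
  obtain ⟨e₁, he₁⟩ := TorusHom.exists_iso_of_grpIso hs₁
  refine ⟨U₁, U₁.ι, inferInstance, by rw [Scheme.Opens.range_ι]; exact hz₁, fun Y' q => ?_⟩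
  have h := chart_trivial a (U₁.ι ≫ f₁) e₁ i₀ h0 hnil Y' (q ≫ g) (q ≫ x)
  rw [psmul_def] at h
  rw [← Category.assoc, comp_lift, h]

end Groth.Agent.H82.NilGlobal
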