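import Groth.Agent.H82.QuotDS
import Groth.Agent.H82.PLocal
import Groth.Agent.H82.NilGlobal
import Groth.Agent.H40.CoverMonFP

/-! fppf quotients of group schemes (`RedSub.IsQuotient`): criterion on points, transport along
isomorphisms, uniqueness, base change. -/

set_option autoImplicit false
set_option linter.unusedSectionVars false
universe u

open CategoryTheory MonoidalCategory CartesianMonoidalCategory MonObj GrpObj AlgebraicGeometry
open CategoryTheory.Limits
open Groth.Agent.H82.AMonPts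

namespace Groth.Agent.H82.QuotUniq

variable {S : Scheme.{u}}

section Points

variable {G H Q : Over S} [GrpObj G] (i : H ⟶ G) (q : G ⟶ Q)

/-- the cartesian square of a quotient, from its properties on points -/
theorem isPullback_of_pts [Mono i]
    (h1 : ∀ (W : Over S) (g : W ⟶ G) (h : W ⟶ H), (g * (h ≫ i)) ≫ q = g ≫ q)
    (h2 : ∀ (W : Over S) (a b : W ⟶ G), a ≫ q = b ≫ q → ∃ h : W ⟶ H, b = a * (h ≫ i)) :
    IsPullback (fst G H) ((G ◁ i) ≫ μ[G]) q q := by
  apply QuotDS.isPullback_of_points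
  · have := h1 _ (fst G H) (snd G H)
    rw [← QuotDS.act_eq] at this
    exact this.symm
  · intro W a b hab
    obtain ⟨h, hh⟩ := h2 W a b hab
    refine ⟨lift a h, lift_fst _ _, ?_⟩
    rw [QuotDS.comp_act, lift_fst, lift_snd, hh]
  · intro W c c' hf hg
    rw [QuotDS.comp_act, QuotDS.comp_act, hf] at hg
    have h3 : (c ≫ snd _ _) ≫ i = (c' ≫ snd _ _) ≫ i := by
      have h5 := congrArg (fun t => (c' ≫ fst G H)⁻¹ * t) hg
      simpa using h5
    exact CartesianMonoidalCategory.hom_ext _ _ hf ((cancel_mono _).mp h3)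

end Points

section Transport

variable {G H Q G' H' : Over S} [GrpObj G] [GrpObj H] [GrpObj G'] [GrpObj H']

/-- transport of a quotient along isomorphisms of the group and the subgroup -/
theorem isQuotient_of_iso (j : H' ⟶ G') (p : G' ⟶ Q) (hq : RedSub.IsQuotient j p)
    (eH : H ≅ H') (eG : G ≅ G') [IsMonHom eG.hom] (i : H ⟶ G) [Mono i]
    (hi : i ≫ eG.hom = eH.hom ≫ j) : RedSub.IsQuotient i (eG.hom ≫ p) := by
  obtain ⟨h1, h2, h3, sq⟩ := hq
  have : IsIso eG.hom.left := inferInstanceAs (IsIso ((Over.forget _).map eG.hom))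
  refine ⟨?_, ?_, ?_, ?_⟩
  · rw [Over.comp_left]; infer_instance
  · rw [Over.comp_left]; infer_instance
  · rw [Over.comp_left]; infer_instance
  · apply isPullback_of_pts
    · intro W g h
      rw [← Category.assoc, MonObj.mul_comp, Category.assoc h, hi, ← Category.assoc h,
        Groth.Agent.H40.mul_comp_quot j p sq, Category.assoc]
    · intro W a b hab
      rw [← Category.assoc, ← Category.assoc] at hab
      obtain ⟨h', hh'⟩ := Groth.Agent.H40.exists_mul_of_comp_eq j p sq _ _ hab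
      refine ⟨h' ≫ eH.inv, ?_⟩
      rw [← cancel_mono eG.hom, hh', MonObj.mul_comp, Category.assoc, Category.assoc, hi,
        Iso.inv_hom_id_assoc]

end Transport

section Uniq

variable {G H Q Q' : Over S} [GrpObj G] [GrpObj H] [GrpObj Q] [GrpObj Q']

theorem comp_eq_one (i : H ⟶ G) (q : G ⟶ Q) [IsMonHom q] (hq : RedSub.IsQuotient i q) :
    i ≫ q = 1 := by
  obtain ⟨-, -, -, sq⟩ := hq
  have := Groth.Agent.H40.mul_comp_quot i q sq (1 : H ⟶ G) (𝟙 H)
  rwa [_root_.one_mul, Category.id_comp, MonObj.one_comp] at this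

/-- two quotients of a group by the same subgroup are isomorphic as groups -/
theorem exists_iso_of_isQuotient (i : H ⟶ G) (q : G ⟶ Q) [IsMonHom q]
    (hq : RedSub.IsQuotient i q) (q' : G ⟶ Q') [IsMonHom q'] (hq' : RedSub.IsQuotient i q') :
    ∃ e : Q ≅ Q', IsMonHom e.hom ∧ q ≫ e.hom = q' := by
  have hcov : Groth.Agent.H40.IsCovFP q := ⟨hq.2.1, hq.1, hq.2.2.1⟩
  have hcov' : Groth.Agent.H40.IsCovFP q' := ⟨hq'.2.1, hq'.1, hq'.2.2.1⟩
  obtain ⟨a, ha, hqa⟩ := Groth.Agent.H40.exists_desc_hom_of_quotient i q hcov hq.2.2.2 q'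
    (comp_eq_one i q' hq')
  obtain ⟨b, hb, hqb⟩ := Groth.Agent.H40.exists_desc_hom_of_quotient i q' hcov' hq'.2.2.2 q
    (comp_eq_one i q hq)
  have := hcov.epi
  have := hcov'.epi
  refine ⟨⟨a, b, ?_, ?_⟩, ha, hqa⟩
  · rw [← cancel_epi q, ← Category.assoc, hqa, hqb, Category.comp_id]
  · rw [← cancel_epi q', ← Category.assoc, hqb, hqa, Category.comp_id]

end Uniq

section BC

variable {V : Scheme.{u}} (g : V ⟶ S) {G H Q : Over S} [GrpObj G] [GrpObj H] [GrpObj Q]

/-- base change of a quotient -/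
theorem isQuotient_bc (i : H ⟶ G) [Mono i] (q : G ⟶ Q) (hq : RedSub.IsQuotient i q) :
    RedSub.IsQuotient ((Over.pullback g).map i) ((Over.pullback g).map q) := by
  obtain ⟨h1, h2, h3, sq⟩ := hq
  refine ⟨PLocal.P_bc @Surjective g q h1, PLocal.P_bc @Flat g q h2,
    PLocal.P_bc @LocallyOfFinitePresentation g q h3, ?_⟩
  have : Mono ((Over.pullback g).map i) := inferInstance
  apply isPullback_of_pts
  · intro W a h
    apply bcPtM_injective g Q
    rw [bcPtM_map, bcPtM_map, bcPtM_mul, bcPtM_map, Groth.Agent.H40.mul_comp_quot i q sq]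
  · intro W a b hab
    have h4 : bcPtM g G a ≫ q = bcPtM g G b ≫ q := by
      rw [← bcPtM_map, ← bcPtM_map, hab]
    obtain ⟨h, hh⟩ := Groth.Agent.H40.exists_mul_of_comp_eq i q sq _ _ h4
    obtain ⟨h', rfl⟩ := bcPtM_surjective g H h
    refine ⟨h', ?_⟩
    apply bcPtM_injective g G
    rw [hh, bcPtM_mul, bcPtM_map]

end BC

end Groth.Agent.H82.QuotUniq
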