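import Groth.Agent.H82.LocDiag
import Groth.Agent.H82.QuotUniq

/-! The quotient of a torus by a subgroup of multiplicative type is a torus. -/

set_option autoImplicit false
set_option linter.unusedSectionVars false
universe u

open CategoryTheory MonoidalCategory CartesianMonoidalCategory MonObj GrpObj AlgebraicGeometry
open CategoryTheory.Limits
open Groth.Agent.H42 Groth.Agent.H40 Magnet
open Groth.Agent.H82.AMonPts Groth.Agent.H82.GroupIso Groth.Agent.H82.ChartComp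

namespace Groth.Agent.H82.TorusQuot

theorem map_id (V : Scheme.{u}) (A : Type) [AddCommGroup A] :
    AMonS.map V (AddMonoidHom.id A) = 𝟙 (AMonS V A) := by
  have := HomLoc.comp_map_id' (B := V) (M₁ := A) (𝟙 (AMonS V A))
  rwa [Category.id_comp] at this

/-- the isomorphism `D(B) ≅ D(A)` induced by `A ≃+ B` -/
noncomputable def mapIso (V : Scheme.{u}) {A B : Type} [AddCommGroup A] [AddCommGroup B]
    (ψ : A ≃+ B) : AMonS V B ≅ AMonS V A where
  hom := AMonS.map V ψ.toAddMonoidHom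
  inv := AMonS.map V ψ.symm.toAddMonoidHom
  hom_inv_id := by
    rw [← AMonS.map_comp]
    have : ψ.toAddMonoidHom.comp ψ.symm.toAddMonoidHom = AddMonoidHom.id B := by
      ext b
      exact ψ.apply_symm_apply b
    rw [this, map_id]
  inv_hom_id := by
    rw [← AMonS.map_comp]
    have : ψ.symm.toAddMonoidHom.comp ψ.toAddMonoidHom = AddMonoidHom.id A := by
      ext a
      exact ψ.symm_apply_apply a
    rw [this, map_id]

instance (V : Scheme.{u}) {A B : Type} [AddCommGroup A] [AddCommGroup B] (ψ : A ≃+ B) :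
    IsMonHom (mapIso V ψ).hom := by
  change IsMonHom (AMonS.map V ψ.toAddMonoidHom)
  infer_instance

/-- a subgroup of a free group of rank `r` is free of rank at most `r` -/
theorem exists_rank_le {N : Type} [AddCommGroup N] {r : ℕ} (e : N ≃+ (Fin r → ℤ))
    (K : AddSubgroup N) : ∃ r' : ℕ, r' ≤ r ∧ Nonempty (K ≃+ (Fin r' → ℤ)) := by
  let b : Module.Basis (Fin r) ℤ N := (Pi.basisFun ℤ (Fin r)).map e.symm.toIntLinearEquiv
  obtain ⟨n, ⟨b'⟩⟩ := Submodule.nonempty_basis_of_pid b (AddSubgroup.toIntSubmodule K)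
  have h1 : Module.finrank ℤ (AddSubgroup.toIntSubmodule K) = n := by
    rw [Module.finrank_eq_card_basis b', Fintype.card_fin]
  have h2 : Module.finrank ℤ N = r := by
    rw [Module.finrank_eq_card_basis b, Fintype.card_fin]
  have : Module.Finite ℤ N := Module.Finite.of_basis b
  have h3 := Submodule.finrank_le (AddSubgroup.toIntSubmodule K)
  rw [h1, h2] at h3
  refine ⟨n, h3, ⟨?_⟩⟩
  exact b'.equivFun.toAddEquiv


section Local

variable {S V : Scheme.{u}} (t : V ⟶ S) {T H Q : Over S} [GrpObj T] [GrpObj H] [GrpObj Q]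
  (i : H ⟶ T) [IsMonHom i] [Mono i] (q : T ⟶ Q) [IsMonHom q] (hq : RedSub.IsQuotient i q)
  {M N : Type} [AddCommGroup M] [AddCommGroup N]
  (e₁ : Red.bc t H ≅ AMonS V M) [IsMonHom e₁.hom]
  (e₂ : Red.bc t T ≅ AMonS V N) [IsMonHom e₂.hom] (φ : N →+ M)
  (hφ : e₁.inv ≫ (Over.pullback t).map i ≫ e₂.hom = AMonS.map V φ)

include hφ in
theorem surjective_of_chart (v : V) : Function.Surjective φ := by
  refine HomLoc.surjective_of_mono t i e₁ e₂ ⊤ φ (fun T' h _ => ?_) v trivial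
  unfold HomLoc.cH
  rw [hφ]

include hq hφ in
/-- in a chart where the inclusion of the subgroup is `D(φ)`, the quotient is `D(ker φ)` -/
theorem exists_chart_quot (hN : AddGroup.FG N) (v : V) :
    ∃ e : Red.bc t Q ≅ AMonS V φ.ker, IsMonHom e.hom ∧
      (Over.pullback t).map q ≫ e.hom = e₂.hom ≫ AMonS.map V φ.ker.subtype := by
  have hsurj := surjective_of_chart t i e₁ e₂ φ hφ v
  let φbar : N ⧸ φ.ker ≃+ M := QuotientAddGroup.quotientKerEquivOfSurjective φ hsurj
  let eH : Red.bc t H ≅ AMonS V (N ⧸ φ.ker) := e₁ ≪≫ mapIso V φbar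
  have hcomp : φbar.toAddMonoidHom.comp (QuotientAddGroup.mk' φ.ker) = φ := by
    ext n
    rfl
  have hi : (Over.pullback t).map i ≫ e₂.hom = eH.hom ≫ AMonS.map V (QuotientAddGroup.mk' φ.ker) := by
    change _ = (e₁.hom ≫ AMonS.map V φbar.toAddMonoidHom) ≫ _
    rw [Category.assoc, ← AMonS.map_comp, hcomp, ← hφ, Iso.hom_inv_id_assoc]
  have hQ1 : RedSub.IsQuotient (Red.DSmap V (QuotientAddGroup.mk' φ.ker))
      (Red.DSmap V φ.ker.subtype) := QuotDS.isQuotient_DSmap φ.ker hN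
  have hQ2 : RedSub.IsQuotient ((Over.pullback t).map i) (e₂.hom ≫ AMonS.map V φ.ker.subtype) :=
    QuotUniq.isQuotient_of_iso (AMonS.map V (QuotientAddGroup.mk' φ.ker))
      (AMonS.map V φ.ker.subtype) hQ1 eH e₂ ((Over.pullback t).map i) hi
  have hQ3 : RedSub.IsQuotient ((Over.pullback t).map i) ((Over.pullback t).map q) :=
    QuotUniq.isQuotient_bc t i q hq
  obtain ⟨e, he, hqe⟩ := QuotUniq.exists_iso_of_isQuotient _ _ hQ3 _ hQ2
  exact ⟨e, he, hqe⟩

end Local


/-- transport of a chart over `V ⟶ P` (an open immersion) to the open `j.opensRange` -/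
theorem exists_chart_opensRange {S P V : Scheme.{u}} (π : P ⟶ S) (j : V ⟶ P) [IsOpenImmersion j]
    (t : V ⟶ S) (hjt : j ≫ π = t) (Q : Over S) [GrpObj Q] {A : Type} [AddCommGroup A]
    (e : Red.bc t Q ≅ AMonS V A) [IsMonHom e.hom] :
    ∃ e' : Red.bc (j.opensRange.ι ≫ π) Q ≅ AMonS (j.opensRange : Scheme.{u}) A,
      IsMonHom e'.hom := by
  let w : (j.opensRange : Scheme.{u}) ⟶ V := j.isoOpensRange.inv
  have hw : w ≫ j = j.opensRange.ι := Scheme.Hom.isoOpensRange_inv_comp j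
  obtain ⟨e'', he'', -⟩ := ChartComp.exists_chart_comp t w Q e
  have hg : w ≫ t = j.opensRange.ι ≫ π := by rw [← hjt, ← Category.assoc, hw]
  exact ChartRank.chart_congr hg Q e''

/-- the quotient of a torus by a subgroup of multiplicative type is a torus -/
theorem isTorus_quotient {S : Scheme.{u}} {T H Q : Over S} [GrpObj T] [GrpObj H] [GrpObj Q]
    (hT : Red.IsTorus T) (i : H ⟶ T) [IsMonHom i] [Mono i] (hH : SGA3x.IsMultTypeFT H)
    (q : T ⟶ Q) [IsMonHom q] (hq : RedSub.IsQuotient i q) : Red.IsTorus Q := by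
  obtain ⟨P, π, hπ, hloc⟩ := LocDiag.exists_local_chart (LocDiag.isLocDiag_of_isMultTypeFT hH)
    (LocDiag.isLocDiag_of_isTorus hT) LocDiag.fg_of_freeFin i
  obtain ⟨hflat, hsurj, hqc⟩ := LocDiag.image_of_singleton_mem_fpqcPrecoverage π hπ
  refine ⟨P, π, hflat, hsurj, hqc, fun z => ?_⟩
  obtain ⟨V, j, t, hj, hjt, ⟨v, hv⟩, M, N, iM, iN, hM, hN, e₁, e₂, φ, he₁, he₂, hφ⟩ := hloc z
  obtain ⟨r, ⟨eN⟩⟩ := hN
  obtain ⟨e, he, -⟩ := exists_chart_quot t i q hq e₁ e₂ φ hφ
    (LocDiag.fg_of_freeFin N ⟨r, ⟨eN⟩⟩) v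
  obtain ⟨r', -, ⟨eK⟩⟩ := exists_rank_le eN φ.ker
  let e' : Red.bc t Q ≅ AMonS V (Fin r' → ℤ) := e ≪≫ mapIso V eK.symm
  have : IsMonHom e'.hom := by
    change IsMonHom (e.hom ≫ (mapIso V eK.symm).hom)
    infer_instance
  obtain ⟨e'', he''⟩ := exists_chart_opensRange π j t hjt Q e'
  exact ⟨j.opensRange, ⟨v, hv⟩, r', ⟨Grp.mkIso' e''⟩⟩

end Groth.Agent.H82.TorusQuot
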