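import Groth.Agent.H82.EqLocus
import Groth.Agent.H82.TorusQuot
import Groth.Agent.H82.MaxSplit

/-! Quotients of split tori by subgroups of multiplicative type. -/

set_option autoImplicit false
set_option linter.unusedSectionVars false
universe u

open CategoryTheory MonoidalCategory CartesianMonoidalCategory MonObj GrpObj AlgebraicGeometry
open CategoryTheory.Limits
open Groth.Agent.H42 Groth.Agent.H40 Magnet
open Groth.Agent.H82.AMonPts Groth.Agent.H82.GroupIso Groth.Agent.H82.ChartComp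

namespace Groth.Agent.H82.SplitQuot

variable {S : Scheme.{u}}

/-- the canonical chart of a split group after base change -/
theorem exists_canon_chart {B : Scheme.{u}} (g : B ⟶ S) (A : Type) [AddCommGroup A] :
    ∃ c : Red.bc g (AMonS S A) ≅ AMonS B A, IsMonHom c.hom ∧
      ∀ (Y : Over B) (h : Y ⟶ Red.bc g (AMonS S A)) (a : Multiplicative A),
        amFn (h ≫ c.hom) a = amFn (bcPtM g (AMonS S A) h) a := by
  have : IsMonHom (Iso.refl (AMonS S A)).hom := by
    change IsMonHom (𝟙 (AMonS S A))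
    infer_instance
  obtain ⟨c, hc, hc'⟩ := ChartBC.exists_chart_bc g (AMonS S A) (M := A) (Iso.refl _)
  refine ⟨c, hc, fun Y h a => ?_⟩
  rw [hc']
  unfold ChartBC.chr
  rw [Iso.refl_hom, Category.comp_id]

/-- a universal point over a point of the base -/
theorem exists_univ_pt {B : Scheme.{u}} (M : Type) [AddCommGroup M] (V : B.Opens) (b : B)
    (hb : b ∈ V) : ∃ (Y₀ : Over B) (x₀ : Y₀ ⟶ AMonS B M), (∀ z, Y₀.hom z ∈ V) ∧
      Function.Injective (fun m : Multiplicative M => amFn x₀ m) := by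
  let P := KLFam.Pt (Over.mk (𝟙 B)) b
  refine ⟨P ⊗ AMonS B M, snd P (AMonS B M), fun z => ?_, KLFam.amFn_snd_injective (M := M) P⟩
  have h1 : (P ⊗ AMonS B M).hom = (fst P (AMonS B M) ≫ KLFam.pt (Over.mk (𝟙 B)) b).left := by
    have h0 := Over.w (fst P (AMonS B M) ≫ KLFam.pt (Over.mk (𝟙 B)) b)
    exact h0.symm.trans (Category.comp_id _)
  rw [h1, CentMT.pt_comp_apply]
  exact hb

section PtFormula

variable {B : Scheme.{u}} (g : B ⟶ S) {G : Over S} [GrpObj G] {M A : Type} [AddCommGroup M]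
  [AddCommGroup A] (e₁ : Red.bc g G ≅ AMonS B M) [IsMonHom e₁.hom]
  (u : G ⟶ AMonS S A) [IsMonHom u]
  (c : Red.bc g (AMonS S A) ≅ AMonS B A) [IsMonHom c.hom]
  (hc : ∀ (Y : Over B) (h : Y ⟶ Red.bc g (AMonS S A)) (a : Multiplicative A),
    amFn (h ≫ c.hom) a = amFn (bcPtM g (AMonS S A) h) a)
  (V : B.Opens) (φ : A →+ M)
  (hV : ∀ (T : Over B) (h : T ⟶ AMonS B M), (∀ z, T.hom z ∈ V) →
    h ≫ HomLoc.cH g u e₁ c = h ≫ AMonS.map B φ)

include hc hV in
/-- the characters of the image of a point, computed in the chart -/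
theorem pt_formula (Y : Over B) (y : Y ⟶ Red.bc g G) (hY : ∀ z, Y.hom z ∈ V)
    (a : Multiplicative A) :
    amFn (bcPtM g G y ≫ u) a = amFn (y ≫ e₁.hom) (AddMonoidHom.toMultiplicative φ a) := by
  rw [← bcPtM_map, ← hc, ← amFn_map, ← hV Y _ hY]
  unfold HomLoc.cH
  simp only [Category.assoc, Iso.hom_inv_id_assoc]

end PtFormula


section Core

variable {T H : Over S} [GrpObj T] [GrpObj H] {N : Type} [AddCommGroup N]
  (eT : T ≅ AMonS S N) [IsMonHom eT.hom] (i : H ⟶ T) [IsMonHom i] [Mono i]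
  (hN : AddGroup.FG N) (K : AddSubgroup N)
  (A1 : ∀ n ∈ K, amFn (i ≫ eT.hom) (Multiplicative.ofAdd n) = 1)
  (A2 : ∀ n : N, (∃ (V : Scheme.{u}) (t : V ⟶ S), Nonempty V ∧
    ∀ (Y : Over V) (h : (Over.map t).obj Y ⟶ H),
      amFn (h ≫ i ≫ eT.hom) (Multiplicative.ofAdd n) = 1) → n ∈ K)

include A1 in
theorem comp_subtype_eq_one : (i ≫ eT.hom) ≫ AMonS.map S K.subtype = 1 := by
  apply amFn_ext
  intro m
  rw [amFn_map, amFn_one]
  exact A1 _ (Multiplicative.toAdd m).2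

include hN A1 A2 in
theorem isIso_local {B : Scheme.{u}} (g : B ⟶ S) {M : Type} [AddCommGroup M]
    (e₁ : Red.bc g H ≅ AMonS B M) [IsMonHom e₁.hom] (b : B)
    (k : H ⟶ AMonS S (N ⧸ K)) [IsMonHom k]
    (hk : k ≫ AMonS.map S (QuotientAddGroup.mk' K) = i ≫ eT.hom) :
    ∃ V : B.Opens, b ∈ V ∧ IsIso ((Over.pullback (V.ι ≫ g)).map k) := by
  obtain ⟨cN, hcN1, hcN⟩ := exists_canon_chart g N
  obtain ⟨cQ, hcQ1, hcQ⟩ := exists_canon_chart g (N ⧸ K)
  have hfgQ : AddGroup.FG (N ⧸ K) := by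
    have := hN
    exact AddGroup.fg_of_surjective (QuotientAddGroup.mk'_surjective K)
  obtain ⟨V₁, φ, hb₁, hV₁⟩ := HomLoc.exists_local_hom g (i ≫ eT.hom) e₁ cN hN b
  obtain ⟨V₂, ψ, hb₂, hV₂⟩ := HomLoc.exists_local_hom g k e₁ cQ hfgQ b
  obtain ⟨Y₀, x₀, hland, hinj⟩ := exists_univ_pt M (V₁ ⊓ V₂) b ⟨hb₁, hb₂⟩
  let y₀ : Y₀ ⟶ Red.bc g H := x₀ ≫ e₁.inv
  have hy₀ : y₀ ≫ e₁.hom = x₀ := by
    change (x₀ ≫ e₁.inv) ≫ e₁.hom = x₀
    rw [Category.assoc, Iso.inv_hom_id, Category.comp_id]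
  have hf1 := fun a => pt_formula g e₁ (i ≫ eT.hom) cN hcN V₁ φ hV₁ Y₀ y₀ (fun z => (hland z).1) a
  have hf2 := fun a => pt_formula g e₁ k cQ hcQ V₂ ψ hV₂ Y₀ y₀ (fun z => (hland z).2) a
  -- `φ = ψ ∘ mk'`
  have hcomp : ∀ n : N, φ n = ψ (QuotientAddGroup.mk' K n) := by
    intro n
    have h1 := hf1 (Multiplicative.ofAdd n)
    have h2 := hf2 (Multiplicative.ofAdd (QuotientAddGroup.mk' K n))
    rw [← hk, ← Category.assoc, amFn_map] at h1
    have h3 : AddMonoidHom.toMultiplicative (QuotientAddGroup.mk' K) (Multiplicative.ofAdd n) =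
        Multiplicative.ofAdd (QuotientAddGroup.mk' K n) := rfl
    rw [h3, h2, hy₀] at h1
    have h4 := hinj h1
    exact (congrArg Multiplicative.toAdd h4).symm
  have hφs : Function.Surjective φ :=
    HomLoc.surjective_of_mono g (i ≫ eT.hom) e₁ cN V₁ φ hV₁ b hb₁
  -- `ker φ ≤ K`
  have hker : ∀ n : N, φ n = 0 → n ∈ K := by
    intro n hn
    apply A2
    refine ⟨V₁, V₁.ι ≫ g, ⟨⟨b, hb₁⟩⟩, fun Y h => ?_⟩
    obtain ⟨y', rfl⟩ := bcPtM_surjective (V₁.ι ≫ g) H h
    have hl : ∀ z, ((Over.map V₁.ι).obj Y).hom z ∈ V₁ := by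
      intro z
      change (Y.hom ≫ V₁.ι) z ∈ V₁
      rw [Scheme.Hom.comp_apply]
      exact (Y.hom z).2
    have h1 := pt_formula g e₁ (i ≫ eT.hom) cN hcN V₁ φ hV₁ ((Over.map V₁.ι).obj Y)
      (ptEquiv g V₁.ι H Y y') hl (Multiplicative.ofAdd n)
    have h2 : AddMonoidHom.toMultiplicative φ (Multiplicative.ofAdd n) = 1 := by
      change Multiplicative.ofAdd (φ n) = 1
      rw [hn]
      rfl
    rw [bcPtM_ptEquiv, h2, map_one, Category.assoc, amFn_comp, assocIso_hom_left] at h1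
    simpa using h1
  -- `K ≤ ker φ`
  have hker' : ∀ n ∈ K, φ n = 0 := by
    intro n hn
    have h1 := hf1 (Multiplicative.ofAdd n)
    rw [amFn_comp, A1 n hn, map_one, hy₀] at h1
    have h2 : amFn x₀ (AddMonoidHom.toMultiplicative φ (Multiplicative.ofAdd n)) = amFn x₀ 1 := by
      rw [← h1, map_one]
    exact congrArg Multiplicative.toAdd (hinj h2)
  have hbij : Function.Bijective ψ := by
    constructor
    · rw [injective_iff_map_eq_zero]
      intro q hq
      obtain ⟨n, rfl⟩ := QuotientAddGroup.mk'_surjective K q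
      rw [← hcomp] at hq
      rw [QuotientAddGroup.mk'_apply, QuotientAddGroup.eq_zero_iff]
      exact hker n hq
    · intro m
      obtain ⟨n, rfl⟩ := hφs m
      exact ⟨QuotientAddGroup.mk' K n, (hcomp n).symm⟩
  exact ⟨V₂, hb₂, HomLoc.isIso_of_bijective g k e₁ cQ V₂ ψ hV₂ hbij⟩

include hN A1 A2 in
/-- the subgroup is the kernel `D(N/K)` of `D(N) ⟶ D(K)` -/
theorem exists_iso_sub (hH : SGA3x.IsMultTypeFT H) :
    ∃ eH : H ≅ AMonS S (N ⧸ K),
      i ≫ eT.hom = eH.hom ≫ AMonS.map S (QuotientAddGroup.mk' K) := by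
  obtain ⟨k, hk⟩ := AttrFix.exists_lift_subgroup K (i ≫ eT.hom) (comp_subtype_eq_one eT i K A1)
  have hk' : k ≫ AMonS.map S (QuotientAddGroup.mk' K) = i ≫ eT.hom := hk
  have hmono : Mono (AMonS.map S (QuotientAddGroup.mk' K)) :=
    ⟨fun z z' h => TorusHom.DSmap_mono_of_surjective _ (QuotientAddGroup.mk'_surjective K) z z' h⟩
  have : IsMonHom k := MaxSplit.isMonHom_of_comp_mono k (AMonS.map S (QuotientAddGroup.mk' K))
    (i ≫ eT.hom) hk'
  have : Mono k := by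
    have : Mono (k ≫ AMonS.map S (QuotientAddGroup.mk' K)) := by
      rw [hk']
      infer_instance
    exact mono_of_mono k (AMonS.map S (QuotientAddGroup.mk' K))
  obtain ⟨S₁, f₁, hflat₁, hsurj₁, hqc₁, htriv₁⟩ := hH
  have h₁ : Presieve.singleton f₁ ∈ Scheme.fpqcPrecoverage S :=
    Groth.Agent.H40.CD.singleton_mem_fpqcPrecoverage_of_image f₁ hsurj₁ hflat₁ hqc₁
  have hiso : IsIso k := by
    apply LocIso.isIso_of_locally_iso f₁ h₁ k
    intro z
    obtain ⟨U₁, hz₁, M₁, iM₁, hfg₁, hs₁⟩ := htriv₁ z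
    obtain ⟨e₁, he₁⟩ := TorusHom.exists_iso_of_grpIso hs₁
    obtain ⟨V, hV, hVi⟩ := isIso_local eT i hN K A1 A2 (U₁.ι ≫ f₁) e₁ ⟨z, hz₁⟩ k hk'
    refine ⟨V, V.ι ≫ U₁.ι, inferInstance, ⟨⟨⟨z, hz₁⟩, hV⟩, rfl⟩, ?_⟩
    exact MonoLocus.Q_congr (Q := fun (T' : Scheme.{u}) (t : T' ⟶ S) =>
      IsIso ((Over.pullback t).map k)) (Category.assoc _ _ _).symm hVi
  exact ⟨asIso k, hk'.symm⟩

include hN A1 A2 in
/-- the quotient is `D(K)` -/
theorem exists_iso_quot (hH : SGA3x.IsMultTypeFT H) {Q : Over S} [GrpObj Q] (q : T ⟶ Q)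
    [IsMonHom q] (hq : RedSub.IsQuotient i q) : ∃ e : Q ≅ AMonS S K, IsMonHom e.hom := by
  obtain ⟨eH, heH⟩ := exists_iso_sub eT i hN K A1 A2 hH
  have hQ1 : RedSub.IsQuotient (Red.DSmap S (QuotientAddGroup.mk' K)) (Red.DSmap S K.subtype) :=
    QuotDS.isQuotient_DSmap K hN
  have hQ2 : RedSub.IsQuotient i (eT.hom ≫ AMonS.map S K.subtype) :=
    QuotUniq.isQuotient_of_iso (AMonS.map S (QuotientAddGroup.mk' K)) (AMonS.map S K.subtype)
      hQ1 eH eT i heH
  obtain ⟨e, he, -⟩ := QuotUniq.exists_iso_of_isQuotient i q hq _ hQ2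
  exact ⟨e, he⟩

end Core


/-- a split group with finitely generated character group is of multiplicative type -/
theorem isMultTypeFT_AMonS (A : Type) [AddCommGroup A] (hA : AddGroup.FG A) :
    SGA3x.IsMultTypeFT (AMonS S A) := by
  refine ⟨S, 𝟙 S, inferInstance, inferInstance, fun V hV => ⟨V, hV.isCompact, ?_⟩, fun s => ?_⟩
  · simp
  · obtain ⟨c, hc, -⟩ := exists_canon_chart ((⊤ : S.Opens).ι ≫ 𝟙 S) A
    exact ⟨⊤, trivial, A, inferInstance, hA, ⟨Grp.mkIso' c⟩⟩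

theorem isMonHom_one {G H : Over S} [GrpObj G] [GrpObj H] : IsMonHom (1 : G ⟶ H) := by
  apply isMonHom_of_points
  · rw [MonObj.comp_one]
  · intro Y a b
    rw [MonObj.comp_one, MonObj.comp_one, MonObj.comp_one, _root_.mul_one]

section Connected

variable [ConnectedSpace S] {T H : Over S} [GrpObj T] [GrpObj H] {N : Type} [AddCommGroup N]
  (eT : T ≅ AMonS S N) [IsMonHom eT.hom] (i : H ⟶ T) [IsMonHom i] [Mono i]

/-- the characters of the split torus which are trivial on the subgroup -/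
noncomputable def annih : AddSubgroup N where
  carrier := {n | amFn (i ≫ eT.hom) (Multiplicative.ofAdd n) = 1}
  zero_mem' := by
    change amFn (i ≫ eT.hom) (Multiplicative.ofAdd 0) = 1
    rw [ofAdd_zero, map_one]
  add_mem' := by
    intro a b ha hb
    change amFn (i ≫ eT.hom) (Multiplicative.ofAdd (a + b)) = 1
    rw [ofAdd_add, map_mul, ha, hb, _root_.mul_one]
  neg_mem' := by
    intro a ha
    change amFn (i ≫ eT.hom) (Multiplicative.ofAdd (-a)) = 1
    have h1 : amFn (i ≫ eT.hom) (Multiplicative.ofAdd (-a)) * amFn (i ≫ eT.hom) (Multiplicative.ofAdd a) = 1 := by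
      rw [← map_mul, ← ofAdd_add, neg_add_cancel, ofAdd_zero, map_one]
    rwa [ha, _root_.mul_one] at h1

theorem mem_annih (n : N) : n ∈ annih eT i ↔ amFn (i ≫ eT.hom) (Multiplicative.ofAdd n) = 1 :=
  Iff.rfl

/-- a character which is trivial on the points of the subgroup over some non-empty scheme is
trivial on the subgroup, when the base is connected -/
theorem mem_annih_of_local (hH : SGA3x.IsMultTypeFT H) (n : N) {V : Scheme.{u}} (t : V ⟶ S)
    (v₀ : V) (h : ∀ (Y : Over V) (h : (Over.map t).obj Y ⟶ H),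
      amFn (h ≫ i ≫ eT.hom) (Multiplicative.ofAdd n) = 1) : n ∈ annih eT i := by
  let χ : AMonS S N ⟶ AMonS S ℤ := AMonS.map S (zmultiplesHom N n)
  let u : H ⟶ AMonS S ℤ := (i ≫ eT.hom) ≫ χ
  have hχ : ∀ {X : Over S} (x : X ⟶ AMonS S N), amFn (x ≫ χ) (Multiplicative.ofAdd (1 : ℤ)) =
      amFn x (Multiplicative.ofAdd n) := by
    intro X x
    rw [amFn_map]
    congr 1
    change Multiplicative.ofAdd ((zmultiplesHom N n) 1) = _
    rw [zmultiplesHom_apply, one_zsmul]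
  have h1 : IsMonHom (1 : H ⟶ AMonS S ℤ) := isMonHom_one
  have hQE : EqLocus.QE u 1 V t := by
    unfold EqLocus.QE
    have key : ∀ (Y : Over V) (y' : Y ⟶ Red.bc t H),
        y' ≫ (Over.pullback t).map u = y' ≫ (Over.pullback t).map 1 := by
      intro Y y'
      apply bcPtM_injective t (AMonS S ℤ)
      rw [bcPtM_map, bcPtM_map, MonObj.comp_one]
      apply amFn_injective
      apply MonoidHom.ext_mint
      rw [amFn_one]
      change amFn ((bcPtM t H y' ≫ i ≫ eT.hom) ≫ χ) _ = 1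
      rw [hχ]
      exact h Y _
    have := key _ (𝟙 _)
    rwa [Category.id_comp, Category.id_comp] at this
  have h2 : u = 1 := EqLocus.eq_of_connected hH
    (isMultTypeFT_AMonS ℤ (Module.Finite.iff_addGroup_fg.mp inferInstance)) u 1 t v₀ hQE
  have h3 := hχ (i ≫ eT.hom)
  rw [mem_annih, ← h3]
  change amFn u _ = 1
  rw [h2, amFn_one]

/-- over a connected base, the quotient of a split torus by a subgroup of multiplicative type is
a split torus of smaller rank -/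
theorem split_quotient_of_connected {Q : Over S} [GrpObj Q] (r : ℕ)
    (hT : Red.IsSplitTorusWith (Fin r → ℤ) T) (j : H ⟶ T) [IsMonHom j] [Mono j]
    (hH : SGA3x.IsMultTypeFT H) (q : T ⟶ Q) [IsMonHom q] (hq : RedSub.IsQuotient j q) :
    ∃ r' : ℕ, r' ≤ r ∧ Red.IsSplitTorusWith (Fin r' → ℤ) Q := by
  obtain ⟨e, he⟩ := TorusHom.exists_iso_of_grpIso hT
  have hN : AddGroup.FG (Fin r → ℤ) := Module.Finite.iff_addGroup_fg.mp inferInstance
  obtain ⟨eQ, heQ⟩ := exists_iso_quot e j hN (annih e j) (fun n hn => hn)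
    (fun n ⟨V, t, ⟨v₀⟩, h⟩ => mem_annih_of_local e j hH n t v₀ h) hH q hq
  obtain ⟨r', hr', ⟨eK⟩⟩ := TorusQuot.exists_rank_le (AddEquiv.refl (Fin r → ℤ)) (annih e j)
  let e' : Q ≅ AMonS S (Fin r' → ℤ) := eQ ≪≫ TorusQuot.mapIso S eK.symm
  have : IsMonHom e'.hom := by
    change IsMonHom (eQ.hom ≫ (TorusQuot.mapIso S eK.symm).hom)
    infer_instance
  exact ⟨r', hr', ⟨Grp.mkIso' e'⟩⟩

end Connected

end Groth.Agent.H82.SplitQuot
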