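import Groth.Agent.H82.FFLocus
import Groth.Agent.H82.EqLocus
import Groth.Agent.H82.SplitQuot
import Groth.Agent.H82.LocDiag
import Groth.Agent.H82.TorusHom
import Mathlib

/-! Characters of tori: a character is faithfully flat iff it is non-trivial on every geometric
fibre. -/

set_option autoImplicit false
set_option linter.unusedSectionVars false
set_option linter.style.haveILetI false
universe u

open CategoryTheory MonoidalCategory CartesianMonoidalCategory MonObj AlgebraicGeometry
open CategoryTheory.Limits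
open Magnet
open Groth.Agent.H82.LocDiag Groth.Agent.H82.PLocal Groth.Agent.H82.EqLocus

namespace Groth.Agent.H82.CharFF

variable {S : Scheme.{u}}

theorem isLocDiag_Gm : IsLocDiag (fun M _ => Nonempty (M ≃+ ℤ)) (Red.Gm S) := by
  refine ⟨S, 𝟙 S, inferInstance, inferInstance, fun V hV => ⟨V, hV.isCompact, by simp⟩,
    fun s => ?_⟩
  obtain ⟨c, hc, -⟩ := SplitQuot.exists_canon_chart ((⊤ : S.Opens).ι ≫ 𝟙 S) ℤ
  exact ⟨⊤, trivial, ℤ, inferInstance, ⟨AddEquiv.refl ℤ⟩, ⟨Grp.mkIso' c⟩⟩

theorem id_ne_one {K : Type u} [Field K] (g : Spec (CommRingCat.of K) ⟶ S) :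
    𝟙 (Red.bc g (Red.Gm S)) ≠ 1 := by
  intro h
  obtain ⟨c, hc, -⟩ := SplitQuot.exists_canon_chart g ℤ
  have := hc
  have h1 : 𝟙 (AMonS (Spec (CommRingCat.of K)) ℤ) = 1 := by
    calc 𝟙 (AMonS (Spec (CommRingCat.of K)) ℤ) = c.inv ≫ 𝟙 _ ≫ c.hom := by simp
      _ = c.inv ≫ 1 ≫ c.hom := by rw [h]
      _ = 1 := by rw [MonObj.one_comp, MonObj.comp_one]
  have h2 := TorusHom.DSmap_injective K (AddMonoidHom.id ℤ) 0
    (by rw [TorusHom.DSmap_id, TorusHom.DSmap_zero]; exact h1)
  have h3 := DFunLike.congr_fun h2 1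
  simp at h3


abbrev FS : MorphismProperty Scheme.{u} := (@Flat ⊓ @Surjective : MorphismProperty Scheme.{u})

theorem hFS : (FS.{u}).DescendsAlong
    (@Surjective ⊓ @Flat ⊓ @QuasiCompact : MorphismProperty Scheme.{u}) := by
  haveI hflat := Groth.Agent.H40.flat_descendsAlong.{u}
  infer_instance

theorem Q_pt (Q : ∀ (T : Scheme.{u}), (T ⟶ S) → Prop) {x y : S} (h : x = y)
    (hq : Q _ (S.fromSpecResidueField x)) : Q _ (S.fromSpecResidueField y) := by
  subst h
  exact hq

section QEg

variable {G H : Over S} (u v : G ⟶ H)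

theorem QE_geomPt_of_QE {S' : Scheme.{u}} (g : S' ⟶ S) (x : S') (h : QE u v S' g) :
    QE u v _ (Red.geomPt (g x)) := by
  let σ : Spec (S'.residueField x) ⟶ S := S'.fromSpecResidueField x ≫ g
  have h1 : QE u v _ σ := QE_bc u v _ _ _ _ h
  have hσ := Scheme.descResidueField_stalkClosedPointTo_fromSpecResidueField
    (S'.residueField x) S σ
  have h2 : QE u v _ (S.fromSpecResidueField (σ (IsLocalRing.closedPoint (S'.residueField x)))) := by
    rw [← hσ] at h1
    exact QE_field u v _ _ _ _ h1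
  have hpt : σ (IsLocalRing.closedPoint (S'.residueField x)) = g x := by
    rw [Scheme.Hom.comp_apply, Scheme.fromSpecResidueField_apply]
  have h3 := Q_pt (QE u v) hpt h2
  exact QE_bc u v _ _ _ _ h3

end QEg

section Main

variable {T : Over S} [GrpObj T] (α : T ⟶ Red.Gm S) [IsMonHom α]

theorem map_one' {S' : Scheme.{u}} (g : S' ⟶ S) :
    (Over.pullback g).map (1 : T ⟶ Red.Gm S) = 1 :=
  Functor.map_one _

theorem not_both {K : Type u} [Field K] (g : Spec (CommRingCat.of K) ⟶ S)
    (h1 : FS ((Over.pullback g).map α).left) (h2 : (Over.pullback g).map α = 1) : False := by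
  haveI : Flat ((Over.pullback g).map α).left := h1.1
  haveI : Surjective ((Over.pullback g).map α).left := h1.2
  haveI : Epi ((Over.pullback g).map α).left := Flat.epi_of_flat_of_surjective _
  have hepi : Epi ((Over.pullback g).map α) := Over.epi_of_epi_left _
  apply id_ne_one (S := S) g
  rw [← cancel_epi ((Over.pullback g).map α), Category.comp_id, h2, MonObj.comp_one]


/-- in a chart, a character which is not trivial at a geometric point is faithfully flat -/
theorem chart_FS (hne : ∀ s : S, (Over.pullback (Red.geomPt s)).map α ≠ 1)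
    {V : Scheme.{u}} (t : V ⟶ S) (v : V) {M₁ M₂ : Type} [AddCommGroup M₁] [AddCommGroup M₂]
    (hM₁ : FreeFin M₁) (eZ : M₂ ≃+ ℤ)
    (e₁ : Red.bc t T ≅ AMonS V M₁) (e₂ : Red.bc t (Red.Gm S) ≅ AMonS V M₂) (φ : M₂ →+ M₁)
    [IsMonHom e₁.hom] [IsMonHom e₂.hom]
    (hu : e₁.inv ≫ (Over.pullback t).map α ≫ e₂.hom = AMonS.map V φ) :
    FS ((Over.pullback t).map α).left := by
  have hα : (Over.pullback t).map α = e₁.hom ≫ AMonS.map V φ ≫ e₂.inv := by
    rw [← hu]
    simp
  have hφ : Function.Injective φ := by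
    by_contra hφ
    have hφ0 : φ = 0 := by
      obtain ⟨r, ⟨eF⟩⟩ := hM₁
      rw [injective_iff_map_eq_zero] at hφ
      simp only [not_forall] at hφ
      obtain ⟨m, hm, hm0⟩ := hφ
      -- generator
      have hg : ∀ x : M₂, x = (eZ x) • eZ.symm 1 := by
        intro x
        apply eZ.injective
        rw [map_zsmul, AddEquiv.apply_symm_apply]
        simp
      have h1 : (eZ m) • φ (eZ.symm 1) = 0 := by
        rw [← map_zsmul, ← hg m, hm]
      have hne0 : eZ m ≠ 0 := by
        intro h0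
        apply hm0
        rw [hg m, h0, zero_smul]
      have h2 : φ (eZ.symm 1) = 0 := by
        have h3 : eF ((eZ m) • φ (eZ.symm 1)) = 0 := by rw [h1, map_zero]
        rw [map_zsmul] at h3
        have h4 : eF (φ (eZ.symm 1)) = 0 := by
          rcases smul_eq_zero.mp h3 with h | h
          · exact absurd h hne0
          · exact h
        exact eF.injective (by rw [h4, map_zero])
      ext x
      rw [hg x, map_zsmul, h2, smul_zero]
      rfl
    have hQ : QE α 1 V t := by
      unfold QE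
      rw [hα, hφ0, map_one' t]
      have hz : AMonS.map V (0 : M₂ →+ M₁) = 1 := TorusHom.DSmap_zero
      rw [hz, MonObj.one_comp, MonObj.comp_one]
    have h5 := QE_geomPt_of_QE α 1 t v hQ
    unfold QE at h5
    rw [map_one'] at h5
    exact hne _ h5
  rw [hα, Over.comp_left, Over.comp_left]
  haveI : IsIso e₁.hom.left := inferInstanceAs (IsIso ((Over.forget _).map e₁.hom))
  haveI : IsIso e₂.inv.left := inferInstanceAs (IsIso ((Over.forget _).map e₂.inv))
  rw [(FS.{u}).cancel_left_of_respectsIso, (FS.{u}).cancel_right_of_respectsIso]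
  have hc := Groth.Agent.H82.AttrFix.cov_DSmap (S := V) φ hφ
  exact ⟨hc.1, hc.2.1⟩


theorem main (hT : Red.IsTorus T) :
    ((∀ s : S, (Over.pullback (Red.geomPt s)).map α ≠ 1) ↔
      (∀ (S' : Scheme.{u}) (g : S' ⟶ S), Nonempty ↥S' → (Over.pullback g).map α ≠ 1)) ∧
    ((∀ s : S, (Over.pullback (Red.geomPt s)).map α ≠ 1) ↔
      (Flat α.left ∧ Surjective α.left)) := by
  refine ⟨⟨fun h S' g hx hg => ?_, fun h s => h _ (Red.geomPt s) inferInstance⟩,
    ⟨fun h => ?_, fun h s hs => ?_⟩⟩
  · obtain ⟨x⟩ := hx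
    have hQ : QE α 1 S' g := by
      unfold QE
      rw [hg, map_one']
    have h5 := QE_geomPt_of_QE α 1 g x hQ
    unfold QE at h5
    rw [map_one'] at h5
    exact h _ h5
  · have hfg : ∀ (M : Type) [AddCommGroup M], Nonempty (M ≃+ ℤ) → AddGroup.FG M := by
      intro M _ ⟨e⟩
      have h2 : Module.Finite ℤ M := Module.Finite.equiv e.symm.toIntLinearEquiv
      exact Module.Finite.iff_addGroup_fg.mp h2
    obtain ⟨P, π, hπ, hloc⟩ := exists_local_chart (isLocDiag_of_isTorus hT) isLocDiag_Gm hfg α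
    have hmain : FS α.left := by
      refine P_of_locally FS hFS π hπ α (fun z => ?_)
      obtain ⟨V, j, t, hj, rfl, ⟨v, rfl⟩, M₁, M₂, _, _, hM₁, ⟨eZ⟩, e₁, e₂, φ, he₁, he₂, hu⟩ :=
        hloc z
      exact ⟨V, j, hj, ⟨v, rfl⟩, chart_FS α h (j ≫ π) v hM₁ eZ e₁ e₂ φ hu⟩
    exact hmain
  · exact not_both α (Red.geomPt s) (P_bc FS (Red.geomPt s) α h) hs

end Main

end Groth.Agent.H82.CharFF
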