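import Groth.Agent.H82.Chev
import Groth.Agent.H82.StabTens
import Groth.Prelude.Def_GLin2
import Groth.Prelude.Def_ComodTens

set_option autoImplicit false
universe u

open TensorProduct HopfRep

namespace Groth.Agent.H82.ChevTriv

open Groth.Agent.H82.StabTens

section eigen

variable {k : Type u} [Field k] {V : Type u} [AddCommGroup V] [Module k V]

lemma tmul_left_cancel {M : Type*} [AddCommGroup M] [Module k M] (v : V) (hv : v ≠ 0) (x y : M)
    (h : v ⊗ₜ[k] x = v ⊗ₜ[k] y) : x = y := by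
  obtain ⟨φ, hφ⟩ := Module.Projective.exists_dual_eq_one k hv
  have h1 := congrArg (fun t => TensorProduct.lid k M (φ.rTensor M t)) h
  simpa [hφ] using h1

lemma tmul_ne_zero' {V' : Type u} [AddCommGroup V'] [Module k V'] (v : V) (hv : v ≠ 0) (v' : V')
    (hv' : v' ≠ 0) : v ⊗ₜ[k] v' ≠ 0 := by
  intro h
  apply hv'
  apply tmul_left_cancel (k := k) v hv v' 0
  rw [h, TensorProduct.tmul_zero]

variable {B : Type u} [CommRing B] [Bialgebra k B]

theorem isGroupLike_of_eigen (c : HopfRep.Comod k B V) (v : V) (hv : v ≠ 0) (χ : B)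
    (h : c.coact v = v ⊗ₜ[k] χ) : IsGroupLikeElem k χ := by
  constructor
  · have h1 := LinearMap.congr_fun c.counit_comp v
    simp only [LinearMap.comp_apply, LinearMap.flip_apply, TensorProduct.mk_apply] at h1
    rw [h, LinearMap.lTensor_tmul] at h1
    exact tmul_left_cancel v hv _ _ h1
  · have h1 := LinearMap.congr_fun c.coassoc v
    simp only [LinearMap.comp_apply, LinearEquiv.coe_coe] at h1
    rw [h, LinearMap.rTensor_tmul, h, TensorProduct.assoc_tmul, LinearMap.lTensor_tmul] at h1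
    exact (tmul_left_cancel v hv _ _ h1).symm

end eigen

section main

variable {k A B : Type u} [Field k] [CommRing A] [HopfAlgebra k A] [CommRing B] [HopfAlgebra k B]
  (π : A →ₐc[k] B)

/-- `π` as an algebra map. -/
abbrev πa : A →ₐ[k] B := (π : A →ₐ[k] B)

lemma πa_toLinearMap : (πa π).toLinearMap = π.toLinearMap := rfl

variable {V : Type u} [AddCommGroup V] [Module k V] (c : HopfRep.Comod k A V)
  {V' : Type u} [AddCommGroup V'] [Module k V'] (c' : HopfRep.Comod k A V')

/-- the tensor product of eigenvectors is an eigenvector for the product character. -/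
lemma tensor_eigen (v : V) (v' : V') (χ χ' : B)
    (h : LinearMap.lTensor V π.toLinearMap (c.coact v) = v ⊗ₜ[k] χ)
    (h' : LinearMap.lTensor V' π.toLinearMap (c'.coact v') = v' ⊗ₜ[k] χ') :
    LinearMap.lTensor (V ⊗[k] V') π.toLinearMap
      ((ComodTens.Comod.tensor c c').coact (v ⊗ₜ[k] v')) = (v ⊗ₜ[k] v') ⊗ₜ[k] (χ * χ') := by
  have h1 := tensor_act c c' (πa π) v v'
  rw [πa_toLinearMap, h, h', mu_tmul] at h1
  exact h1

/-- if `g` stabilizes the line through `v ⊗ v'` (with `v' ≠ 0`) then it stabilizes the line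
through `v`. -/
lemma stab_left {R : Type u} [CommRing R] [Algebra k R] (g : A →ₐ[k] R) (v : V) (v' : V')
    (hv' : v' ≠ 0)
    (h : ∃ r : R, LinearMap.lTensor (V ⊗[k] V') g.toLinearMap
      ((ComodTens.Comod.tensor c c').coact (v ⊗ₜ[k] v')) = (v ⊗ₜ[k] v') ⊗ₜ[k] r) :
    ∃ r : R, LinearMap.lTensor V g.toLinearMap (c.coact v) = v ⊗ₜ[k] r := by
  obtain ⟨r, hr⟩ := h
  obtain ⟨φ, hφ⟩ := Module.Projective.exists_dual_eq_one k hv'
  rw [tensor_act] at hr
  have h2 := contrR_mu_apply (M := V) (theta c' φ g)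
    (g.toLinearMap.lTensor V (c.coact v))
    (g.toLinearMap.lTensor V' (c'.coact v')) (by rw [U_theta, hφ, map_one])
  rw [hr, contrR_tmul] at h2
  exact ⟨_, h2.symm⟩

/-- tensoring `n` copies of an eigenvector for `χ` with an eigenvector for `ψ`. -/
theorem exists_pow_eigen [Module.Finite k V] (v : V) (hv : v ≠ 0) (χ : B)
    (hχ : LinearMap.lTensor V π.toLinearMap (c.coact v) = v ⊗ₜ[k] χ)
    [Module.Finite k V'] (v' : V') (hv' : v' ≠ 0) (ψ : B)
    (hψ : LinearMap.lTensor V' π.toLinearMap (c'.coact v') = v' ⊗ₜ[k] ψ) (n : ℕ) :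
    ∃ (U : Type u) (_ : AddCommGroup U) (_ : Module k U) (cU : HopfRep.Comod k A U)
      (_ : Module.Finite k U) (u : U), u ≠ 0 ∧
      LinearMap.lTensor U π.toLinearMap (cU.coact u) = u ⊗ₜ[k] (ψ * χ ^ n) := by
  induction n with
  | zero =>
    refine ⟨V', inferInstance, inferInstance, c', inferInstance, v', hv', ?_⟩
    rw [pow_zero, mul_one]
    exact hψ
  | succ n ih =>
    obtain ⟨U, _, _, cU, _, u, hu, hU⟩ := ih
    refine ⟨V ⊗[k] U, inferInstance, inferInstance, ComodTens.Comod.tensor c cU, inferInstance,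
      v ⊗ₜ[k] u, tmul_ne_zero' v hv u hu, ?_⟩
    rw [tensor_eigen π c cU v u χ (ψ * χ ^ n) hχ hU]
    congr 1
    ring

end main

section final

variable (k A B : Type u) [Field k] [CommRing A]
    [HopfAlgebra k A] [Algebra.FiniteType k A] [CommRing B] [HopfAlgebra k B] (π : A →ₐc[k] B)

omit [Algebra.FiniteType k A] in
lemma ker_coideal (hπ : Function.Surjective π) :
    (∀ x ∈ RingHom.ker (π : A →+* B), Coalgebra.counit (R := k) x = 0) ∧
    (∀ x ∈ RingHom.ker (π : A →+* B), Coalgebra.comul (R := k) x ∈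
      LinearMap.range (LinearMap.lTensor A ((RingHom.ker (π : A →+* B)).restrictScalars k).subtype) ⊔
      LinearMap.range (LinearMap.rTensor A
        ((RingHom.ker (π : A →+* B)).restrictScalars k).subtype)) := by
  constructor
  · intro x hx
    have hx' : π x = 0 := hx
    rw [← CoalgHomClass.counit_comp_apply π x, hx', map_zero]
  · intro x hx
    have hx' : π x = 0 := hx
    have hex : Function.Exact ((RingHom.ker (π : A →+* B)).restrictScalars k).subtype
        π.toLinearMap := by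
      intro y
      constructor
      · intro hy
        exact ⟨⟨y, hy⟩, rfl⟩
      · rintro ⟨z, rfl⟩
        exact z.2
    have hsurj : Function.Surjective π.toLinearMap := hπ
    rw [← TensorProduct.map_ker hex hsurj hex hsurj, LinearMap.mem_ker]
    have h1 := CoalgHomClass.map_comp_comul_apply π x
    rw [hx', map_zero] at h1
    exact h1

theorem main (hπ : Function.Surjective π)
    (hocc : ∀ χ : B, IsGroupLikeElem k χ →
      (∃ (V : Type u) (_ : AddCommGroup V) (_ : Module k V) (_ : HopfRep.Comod k A V)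
          (_ : Module.Finite k V) (v : V),
          v ≠ 0 ∧ LinearMap.lTensor V π.toLinearMap (HopfRep.Comod.coact (k := k) (A := A) v) =
            v ⊗ₜ[k] χ) →
      ∃ m : ℕ, 0 < m ∧ ∃ ψ : B, IsGroupLikeElem k ψ ∧ ψ * χ ^ m = 1 ∧
        ∃ (V : Type u) (_ : AddCommGroup V) (_ : Module k V) (_ : HopfRep.Comod k A V)
          (_ : Module.Finite k V) (v : V),
          v ≠ 0 ∧ LinearMap.lTensor V π.toLinearMap (HopfRep.Comod.coact (k := k) (A := A) v) =
            v ⊗ₜ[k] ψ) :
    ∃ (V : Type u) (_ : AddCommGroup V) (_ : Module k V) (_ : HopfRep.Comod k A V)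
      (_ : Module.Finite k V) (v : V),
      v ≠ 0 ∧ Dyn.Represents k A (RingHom.ker (π : A →+* B))
        (fun R _ _ g => SGA3.StabilizesLine k A v R g) ∧
      LinearMap.lTensor V π.toLinearMap (HopfRep.Comod.coact (k := k) (A := A) v) =
        v ⊗ₜ[k] (1 : B) := by
  obtain ⟨hε, hΔ⟩ := ker_coideal k A B π hπ
  obtain ⟨V, iV1, iV2, cV, iV3, v, hv, hrep⟩ := Chev.chevalley (RingHom.ker (π : A →+* B)) hε hΔ
  -- the character through which `H` acts on the line
  have hst : SGA3.StabilizesLine k A v B (πa π) := (hrep B (πa π)).1 (fun a ha => ha)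
  obtain ⟨χ, hχ⟩ := hst
  have hχ' : LinearMap.lTensor V π.toLinearMap (cV.coact v) = v ⊗ₜ[k] χ := hχ
  have hgl : IsGroupLikeElem k χ := isGroupLike_of_eigen (GLin.comodAlong π cV) v hv χ hχ'
  obtain ⟨m, hm, ψ, hψgl, hψχ, V', _, _, cV', _, v', hv', hψ⟩ :=
    hocc χ hgl ⟨V, iV1, iV2, cV, iV3, v, hv, hχ'⟩
  obtain ⟨n, rfl⟩ : ∃ n, m = n + 1 := ⟨m - 1, by omega⟩
  obtain ⟨U, _, _, cU, _, u, hu, hU⟩ := exists_pow_eigen π cV cV' v hv χ hχ' v' hv' ψ hψ n
  have heig := tensor_eigen π cV cU v u χ (ψ * χ ^ n) hχ' hU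
  have hone : χ * (ψ * χ ^ n) = 1 := by
    rw [← hψχ]; ring
  rw [hone] at heig
  refine ⟨V ⊗[k] U, inferInstance, inferInstance, ComodTens.Comod.tensor cV cU, inferInstance,
    v ⊗ₜ u, tmul_ne_zero' v hv u hu, ?_, heig⟩
  intro R _ _ g
  constructor
  · intro hg
    -- `g` factors through `π` linearly
    obtain ⟨s, hs⟩ := LinearMap.exists_rightInverse_of_surjective π.toLinearMap
      (LinearMap.range_eq_top.2 hπ)
    have hfac : (g.toLinearMap ∘ₗ s) ∘ₗ π.toLinearMap = g.toLinearMap := by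
      ext a
      simp only [LinearMap.comp_apply, AlgHom.toLinearMap_apply]
      have h1 : s (π.toLinearMap a) - a ∈ RingHom.ker (π : A →+* B) := by
        have h2 := LinearMap.congr_fun hs (π.toLinearMap a)
        simp only [LinearMap.comp_apply, LinearMap.id_apply] at h2
        change π (s (π.toLinearMap a) - a) = 0
        rw [map_sub]
        exact sub_eq_zero.2 h2
      have h3 := hg _ h1
      rw [map_sub, sub_eq_zero] at h3
      exact h3
    refine ⟨(g.toLinearMap ∘ₗ s) 1, ?_⟩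
    have h4 : ∀ X : (V ⊗[k] U) ⊗[k] A, LinearMap.lTensor (V ⊗[k] U) g.toLinearMap X =
        LinearMap.lTensor (V ⊗[k] U) (g.toLinearMap ∘ₗ s)
          (LinearMap.lTensor (V ⊗[k] U) π.toLinearMap X) := by
      intro X
      rw [← LinearMap.comp_apply, ← LinearMap.lTensor_comp, hfac]
    rw [h4]
    erw [heig]
    rw [LinearMap.lTensor_tmul]
  · intro hst
    exact (hrep R g).2 (stab_left cV cU g v u hu hst)

end final

end Groth.Agent.H82.ChevTriv
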