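import Groth.Agent.H82.LocMono
import Groth.Agent.H40.DescOpen
import Mathlib

/-! An abstract clopen-locus theorem: a property of base changes which is locally constant on an fpqc
cover, stable under base change and descends along field extensions, holds exactly over a clopen
subset. -/

set_option autoImplicit false
set_option linter.unusedSectionVars false
universe u

open CategoryTheory AlgebraicGeometry
open CategoryTheory.Limits

namespace Groth.Agent.H82.ClopenLocus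

variable {S P : Scheme.{u}}

theorem clopen_locus (Q : ∀ (T : Scheme.{u}), (T ⟶ S) → Prop)
    (h1 : ∀ (T T' : Scheme.{u}) (r : T' ⟶ T) (t : T ⟶ S), Q T t → Q T' (r ≫ t))
    (h2 : ∀ (k L : Type u) [Field k] [Field L]
      (ρ : Spec (CommRingCat.of L) ⟶ Spec (CommRingCat.of k))
      (σ : Spec (CommRingCat.of k) ⟶ S), Q _ (ρ ≫ σ) → Q _ σ)
    (π : P ⟶ S) (hπ : Presieve.singleton π ∈ Scheme.fpqcPrecoverage S)
    (h3 : ∀ z : P, ∃ (V : Scheme.{u}) (j : V ⟶ P) (t : V ⟶ S), IsOpenImmersion j ∧ j ≫ π = t ∧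
      z ∈ Set.range j ∧ ∃ p : Prop, (p → Q V t) ∧
        (∀ (κ : Type u) [Field κ] (σ : Spec (CommRingCat.of κ) ⟶ V), Q _ (σ ≫ t) → p))
    (h4 : ∀ (U : S.Opens), (∀ z : ↥(pullback π U.ι), ∃ (V' : Scheme.{u}) (j' : V' ⟶ pullback π U.ι)
      (t' : V' ⟶ S), IsOpenImmersion j' ∧ z ∈ Set.range j' ∧ t' = j' ≫ pullback.fst π U.ι ≫ π ∧
        Q V' t') → Q U U.ι) :
    ∃ U : S.Opens, IsClosed (U : Set S) ∧ (∀ s : S, s ∈ U ↔ Q _ (S.fromSpecResidueField s)) ∧
      Q U U.ι := by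
  let U₀ : Set S := {s | Q _ (S.fromSpecResidueField s)}
  -- fibre criterion
  have hF : ∀ (κ : Type u) [Field κ] (σ : Spec (CommRingCat.of κ) ⟶ S),
      Q _ σ ↔ σ (IsLocalRing.closedPoint κ) ∈ U₀ := by
    intro κ _ σ
    have hσ := Scheme.descResidueField_stalkClosedPointTo_fromSpecResidueField κ S σ
    constructor
    · intro hq
      rw [← hσ] at hq
      exact h2 (S.residueField (σ (IsLocalRing.closedPoint κ))) κ _ _ hq
    · intro hs
      rw [← hσ]
      exact h1 _ _ _ _ hs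
  -- local constancy
  have key : ∀ z : P, ∃ (V : Scheme.{u}) (j : V ⟶ P), IsOpenImmersion j ∧ z ∈ Set.range j ∧
      ((Q V (j ≫ π) ∧ Set.range j ⊆ π ⁻¹' U₀) ∨ Set.range j ⊆ π ⁻¹' U₀ᶜ) := by
    intro z
    obtain ⟨V, j, t, hj, rfl, hz, p, hp1, hp2⟩ := h3 z
    refine ⟨V, j, hj, hz, ?_⟩
    have hpt : ∀ v : V, (V.fromSpecResidueField v ≫ j ≫ π)
        (IsLocalRing.closedPoint (V.residueField v)) = π (j v) := by
      intro v
      rw [Scheme.Hom.comp_apply, Scheme.Hom.comp_apply, Scheme.fromSpecResidueField_apply]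
    by_cases hp : p
    · left
      refine ⟨hp1 hp, ?_⟩
      rintro _ ⟨v, rfl⟩
      change π (j v) ∈ U₀
      rw [← hpt v, ← hF (V.residueField v)]
      exact h1 _ _ _ _ (hp1 hp)
    · right
      rintro _ ⟨v, rfl⟩ hv
      apply hp
      apply hp2 (V.residueField v) (V.fromSpecResidueField v)
      rw [hF (V.residueField v), hpt v]
      exact hv
  have hopen1 : IsOpen (π ⁻¹' U₀) := by
    rw [isOpen_iff_forall_mem_open]
    intro z hz
    obtain ⟨V, j, hj, hzj, hcase⟩ := key z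
    refine ⟨Set.range j, ?_, hj.base_open.isOpen_range, hzj⟩
    rcases hcase with ⟨-, h⟩ | h
    · exact h
    · exact absurd hz (h hzj)
  have hopen2 : IsOpen (π ⁻¹' U₀ᶜ) := by
    rw [isOpen_iff_forall_mem_open]
    intro z hz
    obtain ⟨V, j, hj, hzj, hcase⟩ := key z
    refine ⟨Set.range j, ?_, hj.base_open.isOpen_range, hzj⟩
    rcases hcase with ⟨-, h⟩ | h
    · exact absurd (h hzj) hz
    · exact h
  have hcov : Presieve.ofArrows (fun _ : PUnit.{u + 1} => P) (fun _ => π) ∈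
      Scheme.fpqcPrecoverage S := by
    rw [Presieve.ofArrows_pUnit]
    exact hπ
  have hU₀ : IsOpen U₀ := Groth.Agent.H40.isOpen_of_fpqc_family _ hcov U₀ (fun _ => hopen1)
  have hU₀c : IsOpen U₀ᶜ := Groth.Agent.H40.isOpen_of_fpqc_family _ hcov U₀ᶜ (fun _ => hopen2)
  refine ⟨⟨U₀, hU₀⟩, isOpen_compl_iff.mp hU₀c, fun s => Iff.rfl, ?_⟩
  apply h4
  intro z'
  obtain ⟨V, j, hj, hzj, hcase⟩ := key (pullback.fst π (Scheme.Opens.ι ⟨U₀, hU₀⟩) z')
  have hz'U : π (pullback.fst π (Scheme.Opens.ι ⟨U₀, hU₀⟩) z') ∈ U₀ := by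
    rw [← Scheme.Hom.comp_apply, pullback.condition, Scheme.Hom.comp_apply]
    exact (pullback.snd π (Scheme.Opens.ι ⟨U₀, hU₀⟩) z').2
  have hQ : Q V (j ≫ π) := by
    rcases hcase with ⟨h, -⟩ | h
    · exact h
    · exact absurd hz'U (h hzj)
  obtain ⟨v, hv⟩ := hzj
  obtain ⟨zO, hzO, -⟩ := Scheme.Pullback.exists_preimage_pullback
    (f := pullback.fst π (Scheme.Opens.ι ⟨U₀, hU₀⟩)) (g := j) z' v hv.symm
  refine ⟨pullback (pullback.fst π (Scheme.Opens.ι ⟨U₀, hU₀⟩)) j, pullback.fst _ _, _,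
    inferInstance, ⟨zO, hzO⟩, rfl, ?_⟩
  have h5 : pullback.fst (pullback.fst π (Scheme.Opens.ι ⟨U₀, hU₀⟩)) j ≫
      pullback.fst π (Scheme.Opens.ι ⟨U₀, hU₀⟩) ≫ π =
      pullback.snd (pullback.fst π (Scheme.Opens.ι ⟨U₀, hU₀⟩)) j ≫ j ≫ π := by
    rw [← Category.assoc, pullback.condition, Category.assoc]
  rw [h5]
  exact h1 _ _ _ _ hQ

end Groth.Agent.H82.ClopenLocus
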