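import Groth.Agent.H40.ActPts
import Mathlib

/-! The action of `G` on `H` by conjugation through a homomorphism `u : G ⟶ H`. -/

set_option autoImplicit false
set_option linter.unusedSectionVars false
universe u

open CategoryTheory MonoidalCategory CartesianMonoidalCategory MonObj AlgebraicGeometry

namespace Groth.Agent.H82.ConjAct

variable {S : Scheme.{u}} {G X : Over S} [GrpObj G]

/-- An action from its description on points. -/
noncomputable def actionOfPoints (act : G ⊗ X ⟶ X)
    (h1 : ∀ (T : Over S) (x : T ⟶ X), lift (1 : T ⟶ G) x ≫ act = x)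
    (hmul : ∀ (T : Over S) (g h : T ⟶ G) (x : T ⟶ X),
      lift (g * h) x ≫ act = lift g (lift h x ≫ act) ≫ act) :
    AlgGrp.Action G X where
  act := act
  one_act := by
    have e : (η[G] ▷ X) = lift (1 : 𝟙_ (Over S) ⊗ X ⟶ G) (snd _ X) := by
      apply CartesianMonoidalCategory.hom_ext
      · rw [whiskerRight_fst, lift_fst, Hom.one_def]
        congr 1
      · rw [whiskerRight_snd, lift_snd]
    rw [e, h1]
    exact (leftUnitor_hom X).symm
  mul_act := by
    have e1 : (μ[G] ▷ X) =
        lift ((fst (G ⊗ G) X ≫ fst G G) * (fst (G ⊗ G) X ≫ snd G G)) (snd _ X) := by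
      apply CartesianMonoidalCategory.hom_ext <;> simp [Hom.mul_def]
    have e2 : (α_ G G X).hom ≫ (G ◁ act) = lift (fst (G ⊗ G) X ≫ fst G G)
        (lift (fst (G ⊗ G) X ≫ snd G G) (snd _ X) ≫ act) := by
      apply CartesianMonoidalCategory.hom_ext
      · simp
      · simp only [Category.assoc, whiskerLeft_snd, lift_snd]
        rw [← Category.assoc]
        congr 1
        apply CartesianMonoidalCategory.hom_ext <;> simp
    rw [e1, hmul, ← e2, Category.assoc]

variable {H : Over S} [GrpObj H] (u : G ⟶ H) [IsMonHom u]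

/-- conjugation through `u` -/
noncomputable def conjAct : AlgGrp.Action G H :=
  actionOfPoints ((fst G H ≫ u) * snd G H * (fst G H ≫ u)⁻¹)
    (by
      intro T x
      rw [MonObj.comp_mul, MonObj.comp_mul, GrpObj.comp_inv, lift_fst_assoc, lift_snd,
        MonObj.one_comp]
      simp)
    (by
      intro T g h x
      simp only [MonObj.comp_mul, GrpObj.comp_inv, lift_fst_assoc, lift_snd, MonObj.mul_comp]
      rw [_root_.mul_inv_rev]
      simp only [_root_.mul_assoc])

theorem comp_conjAct {T : Over S} (g : T ⟶ G) (x : T ⟶ H) :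
    lift g x ≫ (conjAct u).act = (g ≫ u) * x * (g ≫ u)⁻¹ := by
  change lift g x ≫ ((fst G H ≫ u) * snd G H * (fst G H ≫ u)⁻¹) = _
  rw [MonObj.comp_mul, MonObj.comp_mul, GrpObj.comp_inv, lift_fst_assoc, lift_snd]

end Groth.Agent.H82.ConjAct
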