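import Groth.Prelude.Def_ChGrp
import Mathlib

set_option autoImplicit false
universe u
open CategoryTheory CategoryTheory.Limits MonoidalCategory CartesianMonoidalCategory MonObj GrpObj AlgebraicGeometry Opposite

namespace Groth.Agent.H82.CoreHomog

/-- an fppf covering family is jointly epimorphic -/
theorem hom_ext_of_fppf {X Y : Scheme.{u}} (R : Presieve X) (hR : R ∈ Scheme.fppfPrecoverage X)
    (f g : X ⟶ Y) (h : ∀ ⦃Z : Scheme.{u}⦄ (w : Z ⟶ X), R w → w ≫ f = w ≫ g) : f = g := by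
  have hsheaf : Presieve.IsSheaf Scheme.fppfTopology (yoneda.obj Y) :=
    GrothendieckTopology.Subcanonical.isSheaf_of_isRepresentable _
  have h1 := (hsheaf (Sieve.generate R) (Precoverage.generate_mem_toGrothendieck hR)).isSeparatedFor
  rw [← Presieve.isSeparatedFor_iff_generate] at h1
  exact h1.ext (t₁ := f) (t₂ := g) (fun Z w hw => h w hw)

section Main

variable {S : Scheme.{u}} {G H Q N : Over S} [GrpObj G] [GrpObj H] [GrpObj N]

theorem isNormal_kernel (aQ : AlgGrp.Action G Q) (n : N ⟶ G)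
    (hN : ∀ (T : Over S) (g : T ⟶ G),
      (∃ g' : T ⟶ N, g' ≫ n = g) ↔
        ∀ (T' : Over S) (v : T' ⟶ T) (q : T' ⟶ Q), lift (v ≫ g) q ≫ aQ.act = q) :
    AlgGrp.IsNormalHom n := by
  intro T g x
  have hx := (hN T (x ≫ n)).1 ⟨x, rfl⟩
  obtain ⟨y, hy⟩ := (hN T (g * (x ≫ n) * g⁻¹)).2 (by
    intro T' v q
    rw [MonObj.comp_mul, MonObj.comp_mul, AlgGrp.Action.lift_mul_act, AlgGrp.Action.lift_mul_act,
      hx T' v, GrpObj.comp_inv, ← AlgGrp.Action.lift_mul_act, mul_inv_cancel,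
      AlgGrp.Action.lift_one_act])
  exact ⟨y, hy.symm⟩

theorem act_base_of_le (i : H ⟶ G) (aQ : AlgGrp.Action G Q) (q₀ : 𝟙_ (Over S) ⟶ Q)
    (hsq : IsPullback (fst G H) ((G ◁ i) ≫ μ[G]) (aQ.orbitMap q₀) (aQ.orbitMap q₀))
    {W : Over S} (h : W ⟶ H) :
    lift (h ≫ i) (toUnit W ≫ q₀) ≫ aQ.act = toUnit W ≫ q₀ := by
  have h0 : lift (1 : W ⟶ G) h ≫ (G ◁ i) ≫ μ[G] = h ≫ i := by
    rw [← Category.assoc, lift_whiskerLeft, ← Hom.mul_def, _root_.one_mul]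
  have := congrArg (lift (1 : W ⟶ G) h ≫ ·) hsq.w
  simp only [← Category.assoc, lift_fst] at this
  rw [Category.assoc (lift 1 h), h0,
    AlgGrp.Action.comp_orbitMap, AlgGrp.Action.comp_orbitMap, AlgGrp.Action.lift_one_act] at this
  exact this.symm

theorem le_stabilizer (i : H ⟶ G) (aQ : AlgGrp.Action G Q) (q₀ : 𝟙_ (Over S) ⟶ Q)
    (hsq : IsPullback (fst G H) ((G ◁ i) ≫ μ[G]) (aQ.orbitMap q₀) (aQ.orbitMap q₀))
    (n : N ⟶ G)
    (hN : ∀ (T : Over S) (g : T ⟶ G),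
      (∃ g' : T ⟶ N, g' ≫ n = g) ↔
        ∀ (T' : Over S) (v : T' ⟶ T) (q : T' ⟶ Q), lift (v ≫ g) q ≫ aQ.act = q) :
    ∃ m : N ⟶ H, m ≫ i = n := by
  have hn := (hN N n).1 ⟨𝟙 N, Category.id_comp _⟩ N (𝟙 N) (toUnit N ≫ q₀)
  rw [Category.id_comp] at hn
  have hcond : (1 : N ⟶ G) ≫ aQ.orbitMap q₀ = n ≫ aQ.orbitMap q₀ := by
    rw [AlgGrp.Action.comp_orbitMap, AlgGrp.Action.comp_orbitMap, AlgGrp.Action.lift_one_act, hn]
  obtain ⟨p, hp1, hp2⟩ := hsq.exists_lift (1 : N ⟶ G) n hcond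
  refine ⟨p ≫ snd G H, ?_⟩
  have hp : p = lift 1 (p ≫ snd G H) := by
    apply CartesianMonoidalCategory.hom_ext <;> simp [hp1]
  rw [hp, ← Category.assoc, lift_whiskerLeft, ← Hom.mul_def, _root_.one_mul] at hp2
  rw [← hp2]

theorem le_kernel_of_normal (i : H ⟶ G) (aQ : AlgGrp.Action G Q) (q₀ : 𝟙_ (Over S) ⟶ Q)
    (hQ : ChGrp.IsHomog Scheme.fppfPrecoverage i aQ q₀)
    {N' : Over S} [GrpObj N'] (n' : N' ⟶ G) (hnorm : AlgGrp.IsNormalHom n')
    (m' : N' ⟶ H) (hm' : m' ≫ i = n')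
    (T' : Over S) (v : T' ⟶ N') (q : T' ⟶ Q) : lift (v ≫ n') q ≫ aQ.act = q := by
  obtain ⟨-, hsq, R, hR, hsec⟩ := hQ
  ext
  refine hom_ext_of_fppf (R.pullbackArrows q.left) (Precoverage.pullbackArrows_mem q.left hR) _ _ ?_
  rintro Z _ ⟨Z₀, f, hf⟩
  obtain ⟨s, hs⟩ := hsec f hf
  change s ≫ (aQ.orbitMap q₀).left = f at hs
  -- the test object
  let W : Over S := Over.mk (pullback.snd f q.left ≫ T'.hom)
  let w : W ⟶ T' := Over.homMk (pullback.snd f q.left) rfl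
  have hgm : (pullback.fst f q.left ≫ s) ≫ G.hom = W.hom := by
    change _ = pullback.snd f q.left ≫ T'.hom
    rw [← Over.w (aQ.orbitMap q₀), Category.assoc, ← Category.assoc s, hs, ← Over.w q,
      ← Category.assoc, ← Category.assoc, pullback.condition]
  let gm : W ⟶ G := Over.homMk (pullback.fst f q.left ≫ s) hgm
  have hgmq : gm ≫ aQ.orbitMap q₀ = w ≫ q := by
    ext
    change (pullback.fst f q.left ≫ s) ≫ (aQ.orbitMap q₀).left = pullback.snd f q.left ≫ q.left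
    rw [Category.assoc, hs, pullback.condition]
  -- normality
  obtain ⟨y, hy⟩ := hnorm W gm⁻¹ (w ≫ v)
  have hmul : (w ≫ v ≫ n') * gm = gm * (y ≫ n') := by
    rw [← hy, _root_.inv_inv, Category.assoc]
    group
  have key : w ≫ (lift (v ≫ n') q ≫ aQ.act) = w ≫ q := by
    rw [← Category.assoc, comp_lift, ← hgmq, AlgGrp.Action.comp_orbitMap,
      ← AlgGrp.Action.lift_mul_act, hmul, AlgGrp.Action.lift_mul_act, ← hm', ← Category.assoc y,
      act_base_of_le i aQ q₀ hsq]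
  exact congrArg (fun t => t.left) key

theorem main (i : H ⟶ G) [IsMonHom i] (aQ : AlgGrp.Action G Q) (q₀ : 𝟙_ (Over S) ⟶ Q)
    (hQ : ChGrp.IsHomog Scheme.fppfPrecoverage i aQ q₀) (n : N ⟶ G)
    (hN : ∀ (T : Over S) (g : T ⟶ G),
      (∃ g' : T ⟶ N, g' ≫ n = g) ↔
        ∀ (T' : Over S) (v : T' ⟶ T) (q : T' ⟶ Q), lift (v ≫ g) q ≫ aQ.act = q) :
    AlgGrp.IsNormalHom n ∧ (∃ m : N ⟶ H, m ≫ i = n) ∧
      ∀ (N' : Over S) [GrpObj N'] (n' : N' ⟶ G) [IsMonHom n'] [IsClosedImmersion n'.left],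
        AlgGrp.IsNormalHom n' → (∃ m' : N' ⟶ H, m' ≫ i = n') → ∃ r : N' ⟶ N, r ≫ n = n' := by
  refine ⟨isNormal_kernel aQ n hN, le_stabilizer i aQ q₀ hQ.2.1 n hN, ?_⟩
  intro N' _ n' _ _ hnorm ⟨m', hm'⟩
  refine (hN N' n').2 ?_
  intro T' v q
  exact le_kernel_of_normal i aQ q₀ hQ n' hnorm m' hm' T' v q

end Main

end Groth.Agent.H82.CoreHomog
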