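import Groth.Agent.H82.AMonPts
import Groth.Agent.H40.GrpPts
import Groth.Agent.H42.GaGm2
import Mathlib

/-! Comparison of the two models of the diagonalizable group over an affine base:
`Red.diag R M = Spec R[M]` and `AMonS (Spec R) M = Spec ℤ[M] × Spec R`. -/

set_option autoImplicit false
set_option linter.unusedSectionVars false
universe u

open CategoryTheory MonoidalCategory CartesianMonoidalCategory MonObj AlgebraicGeometry
open CategoryTheory.Limits
open Groth.Agent.H42 Groth.Agent.H40 Magnet
open Groth.Agent.H82.AMonPts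

namespace Groth.Agent.H82.DiagIso

variable {R : Type u} [CommRing R] {M : Type} [AddCommGroup M]

section Pts

variable {Y : Over (Spec (CommRingCat.of R))}

/-- The character values of a point of `D(M) = Spec R[M]`. -/
noncomputable def diagFnR (c : Y ⟶ Red.diag R M) : Multiplicative M →* Γ(Y.left, ⊤) :=
  ((pb (ptL c) : MonoidAlgebra R (Multiplicative M) →+* Γ(Y.left, ⊤)) :
    MonoidAlgebra R (Multiplicative M) →* Γ(Y.left, ⊤)).comp
    (MonoidAlgebra.of R (Multiplicative M))

theorem diagFnR_apply (c : Y ⟶ Red.diag R M) (m : Multiplicative M) :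
    diagFnR c m = pb (ptL c) (MonoidAlgebra.single m (1 : R)) := rfl

theorem diagFnR_mul (c d : Y ⟶ Red.diag R M) (m : Multiplicative M) :
    diagFnR (c * d) m = diagFnR c m * diagFnR d m :=
  pb_ptL_mul_single' c d m

theorem diagFnR_comp {Y' : Over (Spec (CommRingCat.of R))} (h : Y' ⟶ Y)
    (c : Y ⟶ Red.diag R M) (m : Multiplicative M) :
    diagFnR (h ≫ c) m = h.left.appTop (diagFnR c m) := by
  rw [diagFnR_apply, diagFnR_apply, ptL_comp, pb_comp]

theorem pb_ptL_algebraMap (c : Y ⟶ Red.diag R M) (r : R) :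
    pb (ptL c) (MonoidAlgebra.single 1 r) = pb Y.hom r := by
  rw [← ptL_w c, pb_comp_specMap]
  rfl

theorem diagFnR_injective : Function.Injective (diagFnR (Y := Y) (M := M)) := by
  intro c d h
  apply ptL_injective
  apply pb_injective
  apply MonoidAlgebra.ringHom_ext
  · intro r
    rw [pb_ptL_algebraMap, pb_ptL_algebraMap]
  · intro m
    exact DFunLike.congr_fun h m

theorem diagFnR_surjective : Function.Surjective (diagFnR (Y := Y) (M := M)) := by
  intro χ
  let φ : MonoidAlgebra R (Multiplicative M) →+* Γ(Y.left, ⊤) :=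
    MonoidAlgebra.liftNCRingHom (pb Y.hom) χ (fun _ _ => Commute.all _ _)
  obtain ⟨g, hg⟩ := pb_surjective (A := MonoidAlgebra R (Multiplicative M)) (Y := Y.left) φ
  have hw : g ≫ Spec.map (CommRingCat.ofHom (algebraMap R (MonoidAlgebra R (Multiplicative M)))) =
      Y.hom := by
    apply pb_injective
    ext r
    rw [pb_comp_specMap, hg]
    change MonoidAlgebra.liftNCRingHom _ _ _ (MonoidAlgebra.single 1 r) = _
    rw [MonoidAlgebra.liftNCRingHom_single, map_one, _root_.mul_one]
  refine ⟨Over.homMk g hw, MonoidHom.ext fun m => ?_⟩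
  rw [diagFnR_apply]
  change pb g _ = _
  rw [hg]
  change MonoidAlgebra.liftNCRingHom _ _ _ (MonoidAlgebra.single m 1) = _
  rw [MonoidAlgebra.liftNCRingHom_single, map_one, _root_.one_mul]

end Pts

section Iso

variable (R M)

/-- `Spec R[M] → Spec ℤ[M] × Spec R` -/
noncomputable def toS : Red.diag R M ⟶ AMonS (Spec (CommRingCat.of R)) M :=
  (amFn_surjective (S := Spec (CommRingCat.of R)) (X := Red.diag R M)
    (diagFnR (𝟙 (Red.diag R M)))).choose

theorem amFn_toS : amFn (toS R M) = diagFnR (𝟙 (Red.diag R M)) :=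
  (amFn_surjective (S := Spec (CommRingCat.of R)) (X := Red.diag R M)
    (diagFnR (𝟙 (Red.diag R M)))).choose_spec

/-- `Spec ℤ[M] × Spec R → Spec R[M]` -/
noncomputable def ofS : AMonS (Spec (CommRingCat.of R)) M ⟶ Red.diag R M :=
  (diagFnR_surjective (Y := AMonS (Spec (CommRingCat.of R)) M)
    (amFn (𝟙 (AMonS (Spec (CommRingCat.of R)) M)))).choose

theorem diagFnR_ofS : diagFnR (ofS R M) = amFn (𝟙 (AMonS (Spec (CommRingCat.of R)) M)) :=
  (diagFnR_surjective (Y := AMonS (Spec (CommRingCat.of R)) M)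
    (amFn (𝟙 (AMonS (Spec (CommRingCat.of R)) M)))).choose_spec

theorem amFn_comp_toS {Y : Over (Spec (CommRingCat.of R))} (c : Y ⟶ Red.diag R M)
    (m : Multiplicative M) : amFn (c ≫ toS R M) m = diagFnR c m := by
  rw [amFn_comp, amFn_toS, ← diagFnR_comp, Category.comp_id]

theorem diagFnR_comp_ofS {Y : Over (Spec (CommRingCat.of R))}
    (c : Y ⟶ AMonS (Spec (CommRingCat.of R)) M) (m : Multiplicative M) :
    diagFnR (c ≫ ofS R M) m = amFn c m := by
  rw [diagFnR_comp, diagFnR_ofS, ← amFn_comp, Category.comp_id]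

/-- the comparison isomorphism -/
noncomputable def iso : Red.diag R M ≅ AMonS (Spec (CommRingCat.of R)) M where
  hom := toS R M
  inv := ofS R M
  hom_inv_id := by
    apply diagFnR_injective
    refine MonoidHom.ext fun m => ?_
    rw [diagFnR_comp_ofS, amFn_toS]
  inv_hom_id := by
    apply amFn_ext
    intro m
    rw [amFn_comp_toS, diagFnR_ofS]

instance : IsMonHom (iso R M).hom := by
  change IsMonHom (toS R M)
  apply isMonHom_of_points
  · apply amFn_ext
    intro m
    rw [amFn_comp_toS, amFn_one]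
    have h := diagFnR_mul (1 : 𝟙_ (Over (Spec (CommRingCat.of R))) ⟶ Red.diag R M) 1 m
    rw [_root_.mul_one] at h
    have hu : IsUnit (diagFnR (1 : 𝟙_ (Over (Spec (CommRingCat.of R))) ⟶ Red.diag R M) m) :=
      (Group.isUnit m).map _
    exact (hu.mul_left_cancel (by rw [← h, _root_.mul_one]))
  · intro T g g'
    apply amFn_ext
    intro m
    rw [amFn_comp_toS, amFn_mul, amFn_comp_toS, amFn_comp_toS, diagFnR_mul]

end Iso

end Groth.Agent.H82.DiagIso
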