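import Groth.Agent.H82.DiagIso
import Groth.Agent.H82.NilGlobal
import Mathlib

/-! A homomorphism from a diagonalizable group `Spec R[M]` to any group scheme which is trivial
modulo a nilpotent ideal is trivial. -/

set_option autoImplicit false
set_option linter.unusedSectionVars false
set_option linter.unusedVariables false
universe u

open CategoryTheory MonoidalCategory CartesianMonoidalCategory MonObj AlgebraicGeometry
open CategoryTheory.Limits
open Groth.Agent.H42 Groth.Agent.H40 Magnet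
open Groth.Agent.H82.AMonPts

namespace Groth.Agent.H82.DiagNil

theorem isNilpotent_ker {R : Type u} [CommRing R] (I : Ideal R) (hI : IsNilpotent I) :
    IsNilpotent ((Spec.map (CommRingCat.ofHom (Ideal.Quotient.mk I))).ker.ideal
      ⟨⊤, isAffineOpen_top (Spec (CommRingCat.of R))⟩) := by
  rw [Scheme.Hom.ker_apply]
  obtain ⟨n, hn⟩ := hI
  let e := (Scheme.ΓSpecIso (CommRingCat.of R)).commRingCatIsoToRingEquiv
  have hle : RingHom.ker ((Spec.map (CommRingCat.ofHom (Ideal.Quotient.mk I))).app ⊤).hom ≤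
      I.map (e.symm : R →+* Γ(Spec (CommRingCat.of R), ⊤)) := by
    intro a ha
    rw [RingHom.mem_ker] at ha
    have h1 : (Scheme.ΓSpecIso (CommRingCat.of (R ⧸ I))).hom
        ((Spec.map (CommRingCat.ofHom (Ideal.Quotient.mk I))).appTop a) =
        Ideal.Quotient.mk I ((Scheme.ΓSpecIso (CommRingCat.of R)).hom a) :=
      ConcreteCategory.congr_hom
        (Scheme.ΓSpecIso_naturality (CommRingCat.ofHom (Ideal.Quotient.mk I))) a
    have ha' : (Spec.map (CommRingCat.ofHom (Ideal.Quotient.mk I))).appTop a = 0 := ha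
    rw [ha', map_zero] at h1
    have h2 : e a ∈ I := Ideal.Quotient.eq_zero_iff_mem.mp h1.symm
    have h3 : a = e.symm (e a) := (e.symm_apply_apply a).symm
    rw [h3]
    exact Ideal.mem_map_of_mem _ h2
  refine ⟨n, ?_⟩
  rw [Ideal.zero_eq_bot, eq_bot_iff]
  refine (Ideal.pow_right_mono hle n).trans ?_
  rw [← Ideal.map_pow, hn, Ideal.zero_eq_bot, Ideal.map_bot]

section Act

variable {S : Scheme.{u}} {M : Type} [AddCommGroup M] {X : Over S} [GrpObj X]
  (φ : AMonS S M ⟶ X) [IsMonHom φ]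

/-- translation action through `φ`, in the form `X × D → X` -/
noncomputable def cT : X ⊗ AMonS S M ⟶ X := (snd X (AMonS S M) ≫ φ) * fst X (AMonS S M)

theorem comp_cT {T : Over S} (τ : T ⟶ X ⊗ AMonS S M) :
    τ ≫ cT φ = ((τ ≫ snd X (AMonS S M)) ≫ φ) * (τ ≫ fst X (AMonS S M)) := by
  unfold cT
  rw [MonObj.comp_mul, Category.assoc]

theorem lift_cT {T : Over S} (x : T ⟶ X) (g : T ⟶ AMonS S M) :
    lift x g ≫ cT φ = (g ≫ φ) * x := by
  rw [comp_cT, lift_snd, lift_fst]

theorem A1 (T : Over S) (x : T ⟶ X) : lift x (1 : T ⟶ AMonS S M) ≫ cT φ = x := by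
  rw [lift_cT, MonObj.one_comp, _root_.one_mul]

theorem A2 (T : Over S) (x : T ⟶ X) (g h : T ⟶ AMonS S M) :
    lift x (g * h) ≫ cT φ = lift (lift x g ≫ cT φ) h ≫ cT φ := by
  have hcomm : g * h = h * g :=
    amFn_ext (fun m => by rw [amFn_mul, amFn_mul, mul_comm])
  rw [hcomm, lift_cT, lift_cT, lift_cT, MonObj.mul_comp, _root_.mul_assoc]

end Act

theorem main (R : Type u) [CommRing R] (I : Ideal R) (hI : IsNilpotent I)
    (M : Type) [AddCommGroup M] (X : Over (Spec (CommRingCat.of R))) [GrpObj X]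
    (f : Red.diag R M ⟶ X) [IsMonHom f]
    (h : (Over.pullback (Spec.map (CommRingCat.ofHom (Ideal.Quotient.mk I)))).map f = 1) :
    f = 1 := by
  let i₀ := Spec.map (CommRingCat.ofHom (Ideal.Quotient.mk I))
  have : IsClosedImmersion i₀ :=
    IsClosedImmersion.spec_of_surjective _ Ideal.Quotient.mk_surjective
  let e := DiagIso.iso R M
  let φ : AMonS (Spec (CommRingCat.of R)) M ⟶ X := e.inv ≫ f
  have hnil : ∀ x : Spec (CommRingCat.of R), ∃ U : (Spec (CommRingCat.of R)).affineOpens,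
      x ∈ (U : (Spec (CommRingCat.of R)).Opens) ∧ IsNilpotent (i₀.ker.ideal U) :=
    fun x => ⟨⟨⊤, isAffineOpen_top _⟩, trivial, isNilpotent_ker I hI⟩
  have H0 : ∀ (T : Over (Spec (CommRingCat.of R))) (p : T.left ⟶ Spec (CommRingCat.of (R ⧸ I))),
      p ≫ i₀ = T.hom ≫ 𝟙 _ → ∀ τ : T ⟶ X ⊗ AMonS (Spec (CommRingCat.of R)) M,
        τ ≫ cT φ = τ ≫ fst X _ := by
    intro T p hp τ
    rw [comp_cT]
    let T₀ : Over (Spec (CommRingCat.of (R ⧸ I))) := Over.mk p
    have hp' : p ≫ i₀ = T.hom := by rw [hp, Category.comp_id]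
    let j : (Over.map i₀).obj T₀ ⟶ T := Over.homMk (𝟙 T.left) (by
      change 𝟙 T.left ≫ T.hom = p ≫ i₀
      rw [Category.id_comp, hp'])
    let j' : T ⟶ (Over.map i₀).obj T₀ := Over.homMk (𝟙 T.left) (by
      change 𝟙 T.left ≫ p ≫ i₀ = T.hom
      rw [Category.id_comp, hp'])
    have hjj : j' ≫ j = 𝟙 T := by
      apply Over.OverMorphism.ext
      change 𝟙 T.left ≫ 𝟙 T.left = 𝟙 T.left
      rw [Category.comp_id]
    let g : T ⟶ Red.diag R M := (τ ≫ snd X _) ≫ e.inv
    have h1 : (j ≫ g) ≫ f = 1 := by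
      have h2 := Adjunction.homEquiv_naturality_right_symm (Over.mapPullbackAdj i₀)
        ((Over.mapPullbackAdj i₀).homEquiv _ _ (j ≫ g)) f
      rw [Equiv.symm_apply_apply] at h2
      rw [← h2, h, MonObj.comp_one]
      exact NilGlobal.bcPtM_one i₀
    have h3 : g ≫ f = 1 := by
      calc g ≫ f = (j' ≫ j) ≫ g ≫ f := by rw [hjj, Category.id_comp]
        _ = j' ≫ ((j ≫ g) ≫ f) := by simp only [Category.assoc]
        _ = 1 := by rw [h1, MonObj.comp_one]
    have h4 : (τ ≫ snd X _) ≫ φ = 1 := by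
      change (τ ≫ snd X _) ≫ e.inv ≫ f = 1
      rw [← Category.assoc]
      exact h3
    rw [h4, _root_.one_mul]
  have hc := NilAct2.main i₀ hnil (𝟙 _) X (cT φ) (A1 φ) (A2 φ) H0
  have h5 := congrArg (fun c => lift (1 : AMonS (Spec (CommRingCat.of R)) M ⟶ X) (𝟙 _) ≫ c) hc
  beta_reduce at h5
  rw [lift_cT, lift_fst, Category.id_comp, _root_.mul_one] at h5
  have h6 : f = e.hom ≫ φ := by
    change f = e.hom ≫ e.inv ≫ f
    rw [e.hom_inv_id_assoc]
  rw [h6, h5, MonObj.comp_one]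

end Groth.Agent.H82.DiagNil
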