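import Groth.Prelude.Def_Disp2
import Mathlib.RingTheory.Flat.FaithfullyFlat.Algebra
import Mathlib.RingTheory.WittVector.Domain
import Mathlib.RingTheory.WittVector.Teichmuller
import Mathlib.Algebra.Module.Torsion.Basic
import Mathlib.Tactic

set_option autoImplicit false
set_option linter.style.haveILetI false
universe u v

namespace Groth.Agent.H82.DispFF

open TensorProduct

/-- If `π : A → S` is surjective, `S → R` is faithfully flat, and the `A`-module `M` is killed by
`ker π`, then `y ↦ 1 ⊗ y : M → R ⊗_A M` is injective. -/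
lemma tmul_one_injective {A S R : Type u} [CommRing A] [CommRing S] [CommRing R] [Algebra S R]
    [Module.FaithfullyFlat S R]
    (π : A →+* S) (hπ : Function.Surjective π) (g₀ : A →+* R)
    (hg₀ : ∀ a, g₀ a = algebraMap S R (π a))
    (M : Type v) [AddCommGroup M] [Module A M] (hM : ∀ a, π a = 0 → ∀ y : M, a • y = 0) (y : M)
    (hy : Dieu.BC.tmul g₀ (1 : R) y = 0) : y = 0 := by
  have htors : Module.IsTorsionBySet A M (RingHom.ker π : Set A) := by
    intro y a
    exact hM a.1 a.2 y
  letI m1 : Module (A ⧸ RingHom.ker π) M := htors.module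
  let e : (A ⧸ RingHom.ker π) ≃+* S := RingHom.quotientKerEquivOfSurjective hπ
  letI m2 : Module S M := Module.compHom M (e.symm : S →+* A ⧸ RingHom.ker π)
  have hsmul : ∀ (a : A) (y : M), (π a) • y = a • y := by
    intro a y
    change (e.symm (π a)) • y = a • y
    have : e.symm (π a) = Ideal.Quotient.mk _ a := by
      rw [RingEquiv.symm_apply_eq]; rfl
    rw [this]
    exact Module.IsTorsionBySet.mk_smul htors a y
  -- the comparison map
  let Φ : (Dieu.Res g₀ ⊗[A] M) →+ (R ⊗[S] M) :=
    TensorProduct.liftAddHom
      (AddMonoidHom.mk' (fun r : Dieu.Res g₀ => ((TensorProduct.mk S R M) r.val).toAddMonoidHom)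
        (by intro r s; ext y; simp))
      (by
        intro a r y
        change (g₀ a * r.val) ⊗ₜ[S] y = r.val ⊗ₜ[S] (a • y)
        rw [hg₀, ← hsmul, ← Algebra.smul_def, TensorProduct.smul_tmul])
  have hΦ : Φ ((Dieu.Res.mk g₀ (1 : R)) ⊗ₜ[A] y) = (1 : R) ⊗ₜ[S] y := rfl
  have h0 : (1 : R) ⊗ₜ[S] y = 0 := by
    rw [← hΦ]
    have : (Dieu.Res.mk g₀ (1 : R)) ⊗ₜ[A] y = 0 := hy
    rw [this, map_zero]
  exact Module.FaithfullyFlat.tensorProduct_mk_injective (A := S) (B := R) M (by simpa using h0)


theorem main (p : ℕ) [Fact p.Prime]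
    (S R : Type u) [CommRing S] [CommRing R] [Algebra S R] [Module.FaithfullyFlat S R]
    (P : Type v) [AddCommGroup P] [Module (WittVector p S) P] (D : W4c1extbt610.Display3n p S P)
    (DR : W4c1extbt610.Display3n p R (Dieu.BC (WittVector.map (algebraMap S R) :
      WittVector p S →+* WittVector p R) P))
    (hDR : Dieu.IsDispBaseChange (algebraMap S R) D DR) (x : P) :
    x ∈ D.Q ↔ Dieu.BC.ι (WittVector.map (algebraMap S R) :
      WittVector p S →+* WittVector p R) P x ∈ DR.Q := by
  rw [hDR.Q_eq, LinearMap.mem_ker, Dieu.BC.ι_apply, Dieu.bcQuotMap_tmul, map_one]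
  constructor
  · intro hx
    have h0 : D.Q.mkQ x = 0 := by
      rw [Submodule.mkQ_apply]; exact (Submodule.Quotient.mk_eq_zero D.Q).2 hx
    rw [h0]
    exact Dieu.BC.tmul_zero _ _
  · intro h
    have hπ : Function.Surjective (WittVector.constantCoeff : WittVector p S →+* S) := by
      intro s
      exact ⟨WittVector.teichmuller p s, WittVector.teichmuller_coeff_zero p s⟩
    have hker : ∀ a : WittVector p S, (WittVector.constantCoeff : WittVector p S →+* S) a = 0 →
        ∀ y : P ⧸ D.Q, a • y = 0 := by
      intro a ha y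
      obtain ⟨z, rfl⟩ := Submodule.Quotient.mk_surjective _ y
      rw [← Submodule.Quotient.mk_smul, Submodule.Quotient.mk_eq_zero]
      apply D.IV_smul_le
      refine Submodule.smul_mem_smul ?_ Submodule.mem_top
      have ha' : a = WittVector.verschiebung (a.shift 1) := by
        have h1 := WittVector.verschiebung_shift a 0 (by
          intro i hi
          have : i = 0 := by omega
          subst this
          exact ha)
        rw [h1]
        ext i
        simp [WittVector.shift_coeff]
      rw [ha']
      exact W4c1extbt610.verschiebung_mem_IV p S _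
    have := tmul_one_injective (A := WittVector p S) (S := S) (R := R)
      (WittVector.constantCoeff : WittVector p S →+* S) hπ
      ((WittVector.constantCoeff : WittVector p R →+* R).comp
        (WittVector.map (algebraMap S R) : WittVector p S →+* WittVector p R))
      (by intro a; simp [WittVector.constantCoeff, WittVector.map_coeff])
      (P ⧸ D.Q) hker (D.Q.mkQ x) h
    exact (Submodule.Quotient.mk_eq_zero D.Q).1 this

end Groth.Agent.H82.DispFF
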