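import Groth.Prelude.Def_HopfRep
import Mathlib.RingTheory.Bialgebra.Basic
import Mathlib.RingTheory.TensorProduct.Maps
import Mathlib.LinearAlgebra.ExteriorAlgebra.Basis
import Mathlib.Tactic

set_option autoImplicit false
universe u v

namespace Groth.Agent.H82.ExtComod

open TensorProduct

section

variable {k : Type u} [CommRing k] {A : Type u} [CommRing A] [Bialgebra k A]
  {V : Type u} [AddCommGroup V] [Module k V]

local notation "E" => ExteriorAlgebra k V

/-- `ι ⊗ id : V ⊗ B → E ⊗ B`. -/
noncomputable abbrev ιT (B : Type u) [CommRing B] [Algebra k B] :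
    V ⊗[k] B →ₗ[k] ExteriorAlgebra k V ⊗[k] B :=
  (ExteriorAlgebra.ι k).rTensor B

lemma ιT_mul_swap (B : Type u) [CommRing B] [Algebra k B] (t t' : V ⊗[k] B) :
    ιT B t * ιT B t' + ιT B t' * ιT B t = 0 := by
  induction t using TensorProduct.induction_on with
  | zero => simp
  | add x y hx hy =>
    rw [map_add, add_mul, mul_add]
    calc ιT B x * ιT B t' + ιT B y * ιT B t' + (ιT B t' * ιT B x + ιT B t' * ιT B y)
        = (ιT B x * ιT B t' + ιT B t' * ιT B x) + (ιT B y * ιT B t' + ιT B t' * ιT B y) := by abel
      _ = 0 := by rw [hx, hy, add_zero]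
  | tmul x a =>
    induction t' using TensorProduct.induction_on with
    | zero => simp
    | add x' y' hx hy =>
      rw [map_add, add_mul, mul_add]
      calc ιT B (x ⊗ₜ a) * ιT B x' + ιT B (x ⊗ₜ a) * ιT B y' +
            (ιT B x' * ιT B (x ⊗ₜ a) + ιT B y' * ιT B (x ⊗ₜ a))
          = (ιT B (x ⊗ₜ a) * ιT B x' + ιT B x' * ιT B (x ⊗ₜ a)) +
            (ιT B (x ⊗ₜ a) * ιT B y' + ιT B y' * ιT B (x ⊗ₜ a)) := by abel
        _ = 0 := by rw [hx, hy, add_zero]
    | tmul y b =>
      simp only [LinearMap.rTensor_tmul, Algebra.TensorProduct.tmul_mul_tmul]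
      rw [mul_comm b a, ← TensorProduct.add_tmul, ExteriorAlgebra.ι_add_mul_swap,
        TensorProduct.zero_tmul]

lemma ιT_sq (B : Type u) [CommRing B] [Algebra k B] (t : V ⊗[k] B) :
    ιT B t * ιT B t = 0 := by
  induction t using TensorProduct.induction_on with
  | zero => simp
  | tmul x a =>
    simp only [LinearMap.rTensor_tmul, Algebra.TensorProduct.tmul_mul_tmul,
      ExteriorAlgebra.ι_sq_zero, TensorProduct.zero_tmul]
  | add x y hx hy =>
    rw [map_add, add_mul, mul_add, mul_add, hx, hy]
    have := ιT_mul_swap B x y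
    rw [zero_add, add_zero]
    exact this

variable [HopfRep.Comod k A V]

/-- the coaction on generators. -/
noncomputable def rho1 : V →ₗ[k] ExteriorAlgebra k V ⊗[k] A :=
  ιT A ∘ₗ HopfRep.Comod.coact (k := k) (A := A)

/-- the coaction on the exterior algebra, as an algebra map. -/
noncomputable def rhoE : ExteriorAlgebra k V →ₐ[k] ExteriorAlgebra k V ⊗[k] A :=
  ExteriorAlgebra.lift k ⟨rho1, fun v => ιT_sq A _⟩

lemma rhoE_ι (v : V) : rhoE (A := A) (ExteriorAlgebra.ι k v) =
    ιT A (HopfRep.Comod.coact (k := k) (A := A) v) :=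
  ExteriorAlgebra.lift_ι_apply _ _ _ _


/-- first composite for coassociativity. -/
noncomputable def F₁ : ExteriorAlgebra k V →ₐ[k] ExteriorAlgebra k V ⊗[k] (A ⊗[k] A) :=
  ((Algebra.TensorProduct.assoc k k k (ExteriorAlgebra k V) A A).toAlgHom).comp
    ((Algebra.TensorProduct.map (rhoE (A := A) (V := V)) (AlgHom.id k A)).comp rhoE)

/-- second composite for coassociativity. -/
noncomputable def F₂ : ExteriorAlgebra k V →ₐ[k] ExteriorAlgebra k V ⊗[k] (A ⊗[k] A) :=
  (Algebra.TensorProduct.map (AlgHom.id k (ExteriorAlgebra k V)) (Bialgebra.comulAlgHom k A)).comp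
    (rhoE (A := A) (V := V))

lemma F₁_aux (t : V ⊗[k] A) :
    (Algebra.TensorProduct.assoc k k k (ExteriorAlgebra k V) A A)
      ((Algebra.TensorProduct.map (rhoE (A := A) (V := V)) (AlgHom.id k A)) (ιT A t)) =
    ιT (A ⊗[k] A) ((TensorProduct.assoc k V A A)
      ((HopfRep.Comod.coact (k := k) (A := A)).rTensor A t)) := by
  induction t using TensorProduct.induction_on with
  | zero => simp
  | add x y hx hy => simp only [map_add, hx, hy]
  | tmul x a =>
    simp only [LinearMap.rTensor_tmul, Algebra.TensorProduct.map_tmul, AlgHom.id_apply, rhoE_ι]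
    generalize HopfRep.Comod.coact (k := k) (A := A) x = s
    induction s using TensorProduct.induction_on with
    | zero => simp
    | add x y hx hy => simp only [map_add, TensorProduct.add_tmul, hx, hy]
    | tmul y b =>
      simp only [LinearMap.rTensor_tmul, Algebra.TensorProduct.assoc_tmul,
        TensorProduct.assoc_tmul]

omit [HopfRep.Comod k A V] in
lemma F₂_aux (t : V ⊗[k] A) :
    (Algebra.TensorProduct.map (AlgHom.id k (ExteriorAlgebra k V)) (Bialgebra.comulAlgHom k A))
      (ιT A t) =
    ιT (A ⊗[k] A) ((CoalgebraStruct.comul (R := k) (A := A)).lTensor V t) := by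
  induction t using TensorProduct.induction_on with
  | zero => simp
  | add x y hx hy => simp only [map_add, hx, hy]
  | tmul x a =>
    simp only [LinearMap.rTensor_tmul, LinearMap.lTensor_tmul, Algebra.TensorProduct.map_tmul,
      AlgHom.id_apply, Bialgebra.comulAlgHom_apply]

lemma F₁_eq_F₂ : F₁ (k := k) (A := A) (V := V) = F₂ (k := k) (A := A) (V := V) := by
  apply ExteriorAlgebra.hom_ext
  ext v
  simp only [LinearMap.comp_apply, AlgHom.toLinearMap_apply]
  have e1 : F₁ (k := k) (A := A) (V := V) (ExteriorAlgebra.ι k v) =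
      ιT (A ⊗[k] A) ((TensorProduct.assoc k V A A)
        ((HopfRep.Comod.coact (k := k) (A := A)).rTensor A
          (HopfRep.Comod.coact (k := k) (A := A) v))) := by
    unfold F₁
    simp only [AlgHom.comp_apply, rhoE_ι]
    exact F₁_aux _
  have e2 : F₂ (k := k) (A := A) (V := V) (ExteriorAlgebra.ι k v) =
      ιT (A ⊗[k] A) ((CoalgebraStruct.comul (R := k) (A := A)).lTensor V
        (HopfRep.Comod.coact (k := k) (A := A) v)) := by
    unfold F₂
    simp only [AlgHom.comp_apply, rhoE_ι]
    exact F₂_aux _
  rw [e1, e2]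
  have h := LinearMap.congr_fun (HopfRep.Comod.coassoc (k := k) (A := A) (V := V)) v
  simp only [LinearMap.comp_apply, LinearEquiv.coe_coe] at h
  rw [h]

/-- counit composite. -/
noncomputable def G₁ : ExteriorAlgebra k V →ₐ[k] ExteriorAlgebra k V ⊗[k] k :=
  (Algebra.TensorProduct.map (AlgHom.id k (ExteriorAlgebra k V)) (Bialgebra.counitAlgHom k A)).comp
    (rhoE (A := A) (V := V))

omit [HopfRep.Comod k A V] in
lemma G₁_aux (t : V ⊗[k] A) :
    (Algebra.TensorProduct.map (AlgHom.id k (ExteriorAlgebra k V)) (Bialgebra.counitAlgHom k A))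
      (ιT A t) =
    ιT k ((CoalgebraStruct.counit (R := k) (A := A)).lTensor V t) := by
  induction t using TensorProduct.induction_on with
  | zero => simp
  | add x y hx hy => simp only [map_add, hx, hy]
  | tmul x a =>
    simp only [LinearMap.rTensor_tmul, LinearMap.lTensor_tmul, Algebra.TensorProduct.map_tmul,
      AlgHom.id_apply, Bialgebra.counitAlgHom_apply]

lemma G₁_eq : G₁ (k := k) (A := A) (V := V) = Algebra.TensorProduct.includeLeft := by
  apply ExteriorAlgebra.hom_ext
  ext v
  simp only [LinearMap.comp_apply, AlgHom.toLinearMap_apply]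
  have e1 : G₁ (k := k) (A := A) (V := V) (ExteriorAlgebra.ι k v) =
      ιT k ((CoalgebraStruct.counit (R := k) (A := A)).lTensor V
        (HopfRep.Comod.coact (k := k) (A := A) v)) := by
    unfold G₁
    simp only [AlgHom.comp_apply, rhoE_ι]
    exact G₁_aux _
  rw [e1]
  have h := LinearMap.congr_fun (HopfRep.Comod.counit_comp (k := k) (A := A) (V := V)) v
  simp only [LinearMap.comp_apply, LinearMap.flip_apply, TensorProduct.mk_apply] at h
  rw [h]
  simp

omit [HopfRep.Comod k A V] in
lemma bridge1 {B C : Type u} [CommRing B] [Algebra k B] [CommRing C] [Algebra k C]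
    (f : ExteriorAlgebra k V →ₐ[k] ExteriorAlgebra k V ⊗[k] B) (y : ExteriorAlgebra k V ⊗[k] C) :
    (TensorProduct.assoc k (ExteriorAlgebra k V) B C) (f.toLinearMap.rTensor C y) =
      (Algebra.TensorProduct.assoc k k k (ExteriorAlgebra k V) B C)
        (Algebra.TensorProduct.map f (AlgHom.id k C) y) := by
  induction y using TensorProduct.induction_on with
  | zero => simp
  | add x y hx hy => simp only [map_add, hx, hy]
  | tmul x a =>
    simp only [LinearMap.rTensor_tmul, Algebra.TensorProduct.map_tmul, AlgHom.id_apply,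
      AlgHom.toLinearMap_apply]
    generalize f x = s
    induction s using TensorProduct.induction_on with
    | zero => simp
    | add x y hx hy => simp only [map_add, TensorProduct.add_tmul, hx, hy]
    | tmul y b => simp

omit [HopfRep.Comod k A V] in
lemma bridge2 {B C : Type u} [CommRing B] [Algebra k B] [CommRing C] [Algebra k C]
    (g : B →ₐ[k] C) (y : ExteriorAlgebra k V ⊗[k] B) :
    g.toLinearMap.lTensor (ExteriorAlgebra k V) y =
      Algebra.TensorProduct.map (AlgHom.id k (ExteriorAlgebra k V)) g y := by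
  induction y using TensorProduct.induction_on with
  | zero => simp
  | add x y hx hy => simp only [map_add, hx, hy]
  | tmul x a => simp

/-- the exterior algebra of a comodule is a comodule. -/
@[reducible] noncomputable def extComod : HopfRep.Comod k A (ExteriorAlgebra k V) where
  coact := (rhoE (k := k) (A := A) (V := V)).toLinearMap
  coassoc := by
    apply LinearMap.ext
    intro x
    have h := congrArg (fun f => f x) (F₁_eq_F₂ (k := k) (A := A) (V := V))
    simp only [F₁, F₂, AlgHom.comp_apply] at h
    simp only [LinearMap.comp_apply, LinearEquiv.coe_coe, AlgHom.toLinearMap_apply]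
    rw [bridge1]
    have h2 := bridge2 (V := V) (Bialgebra.comulAlgHom k A) (rhoE (k := k) (A := A) (V := V) x)
    have h3 : (Bialgebra.comulAlgHom k A).toLinearMap = CoalgebraStruct.comul (R := k) (A := A) := rfl
    rw [h3] at h2
    rw [h2]
    exact h
  counit_comp := by
    apply LinearMap.ext
    intro x
    have h := congrArg (fun f => f x) (G₁_eq (k := k) (A := A) (V := V))
    simp only [G₁, AlgHom.comp_apply] at h
    simp only [LinearMap.comp_apply, AlgHom.toLinearMap_apply, LinearMap.flip_apply,
      TensorProduct.mk_apply]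
    have h2 := bridge2 (V := V) (Bialgebra.counitAlgHom k A) (rhoE (k := k) (A := A) (V := V) x)
    have h3 : (Bialgebra.counitAlgHom k A).toLinearMap =
        CoalgebraStruct.counit (R := k) (A := A) := rfl
    rw [h3] at h2
    rw [h2, h]
    rfl


omit [HopfRep.Comod k A V] [Bialgebra k A] in
lemma map_ιT {B C : Type u} [CommRing B] [Algebra k B] [CommRing C] [Algebra k C]
    (g : B →ₐ[k] C) (t : V ⊗[k] B) :
    (Algebra.TensorProduct.map (AlgHom.id k (ExteriorAlgebra k V)) g) (ιT B t) =
      ιT C (g.toLinearMap.lTensor V t) := by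
  induction t using TensorProduct.induction_on with
  | zero => simp
  | add x y hx hy => simp only [map_add, hx, hy]
  | tmul x a => simp

/-- the action of an `R`-point on the exterior algebra, as an algebra map. -/
noncomputable def act {R : Type u} [CommRing R] [Algebra k R] (g : A →ₐ[k] R) :
    ExteriorAlgebra k V →ₐ[k] ExteriorAlgebra k V ⊗[k] R :=
  (Algebra.TensorProduct.map (AlgHom.id k (ExteriorAlgebra k V)) g).comp
    (rhoE (k := k) (A := A) (V := V))

lemma act_apply {R : Type u} [CommRing R] [Algebra k R] (g : A →ₐ[k] R)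
    (x : ExteriorAlgebra k V) :
    act g x = g.toLinearMap.lTensor (ExteriorAlgebra k V)
      ((extComod (k := k) (A := A) (V := V)).coact x) :=
  (bridge2 g (rhoE (k := k) (A := A) (V := V) x)).symm

lemma act_ι {R : Type u} [CommRing R] [Algebra k R] (g : A →ₐ[k] R) (v : V) :
    act g (ExteriorAlgebra.ι k v) =
      ιT R (g.toLinearMap.lTensor V (HopfRep.Comod.coact (k := k) (A := A) v)) := by
  unfold act
  rw [AlgHom.comp_apply, rhoE_ι, map_ιT]

end

end Groth.Agent.H82.ExtComod
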