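import Mathlib

set_option autoImplicit false
set_option linter.style.haveILetI false
universe u

namespace Groth.Agent.H82.FEL

open Polynomial IsLocalRing IntermediateField

section general

variable {A : Type u} [CommRing A] [IsLocalRing A] {l : Type u} [Field l]
  [Algebra (ResidueField A) l]

/-- polynomials whose reduction vanishes map into `m E`. -/
lemma mk_mem_map_of_map_eq_zero (f g : A[X]) (hg : g.map (algebraMap A (ResidueField A)) = 0) :
    AdjoinRoot.mk f g ∈ Ideal.map (AdjoinRoot.of f) (maximalIdeal A) := by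
  have h1 : g ∈ Ideal.map (C : A →+* A[X]) (maximalIdeal A) := by
    rw [Ideal.mem_map_C_iff]
    intro n
    have := congrArg (fun p => p.coeff n) hg
    simp only [coeff_map, coeff_zero] at this
    rw [ResidueField.algebraMap_eq, residue_eq_zero_iff] at this
    exact this
  have h2 : Ideal.map (AdjoinRoot.of f) (maximalIdeal A) =
      Ideal.map (AdjoinRoot.mk f) (Ideal.map (C : A →+* A[X]) (maximalIdeal A)) := by
    rw [Ideal.map_map]; rfl
  rw [h2]
  exact Ideal.mem_map_of_mem _ h1


/-- `m E` is contained in every maximal ideal of a finite `A`-algebra `E`. -/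
lemma map_le_of_isMaximal {E : Type u} [CommRing E] [Algebra A E] [Module.Finite A E]
    (M : Ideal E) [hM : M.IsMaximal] : Ideal.map (algebraMap A E) (maximalIdeal A) ≤ M := by
  haveI : Algebra.IsIntegral A E := Algebra.IsIntegral.of_finite A E
  have h1 : (M.comap (algebraMap A E)).IsMaximal :=
    Ideal.isMaximal_comap_of_isIntegral_of_isMaximal M
  have h2 : M.comap (algebraMap A E) = maximalIdeal A := IsLocalRing.eq_maximalIdeal h1
  rw [Ideal.map_le_iff_le_comap, h2]

end general


theorem main (A : Type u) [CommRing A] [IsLocalRing A] (l : Type u) [Field l]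
    [Algebra (ResidueField A) l] [FiniteDimensional (ResidueField A) l]
    [Algebra.IsSeparable (ResidueField A) l] :
    ∃ (E : Type u) (_ : CommRing E) (_ : IsLocalRing E) (_ : Algebra A E)
      (_ : IsLocalHom (algebraMap A E)),
      Module.Finite A E ∧ Algebra.Etale A E ∧
        Nonempty (ResidueField E ≃ₐ[ResidueField A] l) := by
  classical
  obtain ⟨α, hα⟩ := Field.exists_primitive_element (ResidueField A) l
  have hαint : IsIntegral (ResidueField A) α := Algebra.IsIntegral.isIntegral α
  have hfbar_monic : (minpoly (ResidueField A) α).Monic := minpoly.monic hαint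
  have hfbar_sep : (minpoly (ResidueField A) α).Separable :=
    Algebra.IsSeparable.isSeparable (ResidueField A) α
  have hres_surj : Function.Surjective (algebraMap A (ResidueField A)) :=
    IsLocalRing.residue_surjective
  obtain ⟨f, hfmap, -, hfmonic⟩ := Polynomial.lifts_and_natDegree_eq_and_monic
    ((Polynomial.mem_lifts _).2 (Polynomial.map_surjective _ hres_surj
      (minpoly (ResidueField A) α))) hfbar_monic
  letI : Algebra A l := ((algebraMap (ResidueField A) l).comp
    (algebraMap A (ResidueField A))).toAlgebra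
  haveI : IsScalarTower A (ResidueField A) l := IsScalarTower.of_algebraMap_eq (fun _ => rfl)
  have heval : ∀ g : A[X], Polynomial.eval₂ (algebraMap A l) α g =
      Polynomial.aeval α (g.map (algebraMap A (ResidueField A))) := by
    intro g
    rw [IsScalarTower.algebraMap_eq A (ResidueField A) l, ← Polynomial.eval₂_map,
      Polynomial.aeval_def]
  have hroot : Polynomial.eval₂ (Algebra.ofId A l) α f = 0 := by
    change Polynomial.eval₂ (algebraMap A l) α f = 0
    rw [heval, hfmap]; exact minpoly.aeval _ α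
  haveI : Module.Finite A (AdjoinRoot f) := hfmonic.finite_adjoinRoot
  let φ : AdjoinRoot f →ₐ[A] l := AdjoinRoot.liftAlgHom f (Algebra.ofId A l) α hroot
  have hφmk : ∀ g : A[X], φ (AdjoinRoot.mk f g) =
      Polynomial.aeval α (g.map (algebraMap A (ResidueField A))) := by
    intro g
    rw [← heval]
    exact AdjoinRoot.liftAlgHom_mk _ _ _ _ _
  have hφsurj : Function.Surjective φ := by
    intro y
    have hy : y ∈ (ResidueField A)⟮α⟯ := hα ▸ IntermediateField.mem_top
    rw [← IntermediateField.mem_toSubalgebra,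
      IntermediateField.adjoin_simple_toSubalgebra_of_isAlgebraic hαint.isAlgebraic,
      Algebra.adjoin_singleton_eq_range_aeval] at hy
    obtain ⟨gbar, rfl⟩ := hy
    obtain ⟨g, rfl⟩ := Polynomial.map_surjective _ hres_surj gbar
    exact ⟨AdjoinRoot.mk f g, hφmk g⟩
  have hker : RingHom.ker (φ : AdjoinRoot f →+* l) ≤
      Ideal.map (algebraMap A (AdjoinRoot f)) (maximalIdeal A) := by
    intro x hx
    obtain ⟨g, rfl⟩ := AdjoinRoot.mk_surjective x
    rw [RingHom.mem_ker] at hx
    have hx' : Polynomial.aeval α (g.map (algebraMap A (ResidueField A))) = 0 := by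
      rw [← hφmk]; exact hx
    obtain ⟨qbar, hq⟩ := minpoly.dvd (ResidueField A) α hx'
    obtain ⟨q, rfl⟩ := Polynomial.map_surjective _ hres_surj qbar
    have h0 : (g - f * q).map (algebraMap A (ResidueField A)) = 0 := by
      rw [Polynomial.map_sub, Polynomial.map_mul, hfmap, hq, sub_self]
    have h1 := mk_mem_map_of_map_eq_zero f (g - f * q) h0
    rw [map_sub, map_mul, AdjoinRoot.mk_self, zero_mul, sub_zero] at h1
    exact h1
  -- `E` is local
  have hmax : (RingHom.ker (φ : AdjoinRoot f →+* l)).IsMaximal :=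
    RingHom.ker_isMaximal_of_surjective _ hφsurj
  have huniq : ∀ M : Ideal (AdjoinRoot f), M.IsMaximal →
      M = RingHom.ker (φ : AdjoinRoot f →+* l) := by
    intro M hM
    have h1 : RingHom.ker (φ : AdjoinRoot f →+* l) ≤ M := hker.trans (map_le_of_isMaximal M)
    exact (hmax.eq_of_le hM.ne_top h1).symm
  haveI hloc : IsLocalRing (AdjoinRoot f) :=
    IsLocalRing.of_unique_max_ideal ⟨_, hmax, fun M hM => huniq M hM⟩
  have hmaxE : maximalIdeal (AdjoinRoot f) = RingHom.ker (φ : AdjoinRoot f →+* l) :=
    huniq _ (maximalIdeal.isMaximal _)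
  haveI hφloc : IsLocalHom (φ : AdjoinRoot f →+* l) := by
    constructor
    intro x hx
    by_contra hx'
    have hmem : x ∈ maximalIdeal (AdjoinRoot f) := (mem_maximalIdeal x).2 hx'
    rw [hmaxE, RingHom.mem_ker] at hmem
    rw [hmem] at hx; exact not_isUnit_zero hx
  haveI halg : IsLocalHom (algebraMap A (AdjoinRoot f)) := by
    constructor
    intro a ha
    have h1 : IsUnit (φ (algebraMap A (AdjoinRoot f) a)) := ha.map φ
    rw [AlgHom.commutes] at h1
    have h2 : algebraMap A l a =
        algebraMap (ResidueField A) l (algebraMap A (ResidueField A) a) := rfl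
    rw [h2] at h1
    have h3 : algebraMap A (ResidueField A) a ≠ 0 := by
      intro h0; rw [h0, map_zero] at h1; exact not_isUnit_zero h1
    rw [ResidueField.algebraMap_eq, Ne, residue_eq_zero_iff] at h3
    by_contra hna; exact h3 ((mem_maximalIdeal a).2 hna)
  -- residue field
  let ψ : ResidueField (AdjoinRoot f) →+* l := ResidueField.lift (φ : AdjoinRoot f →+* l)
  have hψres : ∀ x, ψ (residue _ x) = φ x := fun x => ResidueField.lift_residue_apply _ x
  have hψbij : Function.Bijective ψ :=
    ⟨ψ.injective, fun y => by obtain ⟨x, rfl⟩ := hφsurj y; exact ⟨residue _ x, hψres x⟩⟩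
  have hψalg : ∀ c : ResidueField A,
      ψ (algebraMap (ResidueField A) (ResidueField (AdjoinRoot f)) c) =
        algebraMap (ResidueField A) l c := by
    intro c
    obtain ⟨a, rfl⟩ := residue_surjective c
    rw [ResidueField.algebraMap_residue, hψres, AlgHom.commutes]
    rfl
  let e : ResidueField (AdjoinRoot f) ≃ₐ[ResidueField A] l :=
    AlgEquiv.ofBijective ⟨ψ, hψalg⟩ hψbij
  -- étale
  obtain ⟨abar, bbar, hab⟩ := hfbar_sep
  obtain ⟨a, rfl⟩ := Polynomial.map_surjective _ hres_surj abar
  obtain ⟨b, rfl⟩ := Polynomial.map_surjective _ hres_surj bbar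
  have hunit : IsUnit (AdjoinRoot.mk f (derivative f)) := by
    have h0 : (a * f + b * derivative f - 1).map (algebraMap A (ResidueField A)) = 0 := by
      rw [Polynomial.map_sub, Polynomial.map_add, Polynomial.map_mul, Polynomial.map_mul, hfmap,
        ← Polynomial.derivative_map, hfmap, hab, Polynomial.map_one, sub_self]
    have h1 := mk_mem_map_of_map_eq_zero f _ h0
    have h2 : AdjoinRoot.mk f (a * f + b * derivative f - 1) ∈ maximalIdeal (AdjoinRoot f) :=
      map_le_of_isMaximal (maximalIdeal _) h1
    rw [map_sub, map_add, map_mul, map_mul, AdjoinRoot.mk_self, mul_zero, zero_add, map_one] at h2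
    have h3 : IsUnit (AdjoinRoot.mk f b * AdjoinRoot.mk f (derivative f)) := by
      by_contra hnu
      have h4 : AdjoinRoot.mk f b * AdjoinRoot.mk f (derivative f) ∈ maximalIdeal _ :=
        (mem_maximalIdeal _).2 hnu
      have h5 := Ideal.sub_mem _ h4 h2
      rw [sub_sub_cancel] at h5
      exact (maximalIdeal.isMaximal _).ne_top ((Ideal.eq_top_iff_one _).2 h5)
    exact isUnit_of_mul_isUnit_right h3
  obtain ⟨u, hu⟩ := hunit.exists_right_inv
  obtain ⟨p₁, rfl⟩ := AdjoinRoot.mk_surjective u
  rw [← map_mul, ← map_one (AdjoinRoot.mk f), AdjoinRoot.mk_eq_mk] at hu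
  obtain ⟨p₂, hp₂⟩ := hu
  let P : StandardEtalePair A :=
    ⟨f, hfmonic, 1, ⟨p₁, -p₂, 0, by rw [pow_zero]; linear_combination hp₂⟩⟩
  have hmapE : P.HasMap (AdjoinRoot.root f) := by
    refine ⟨?_, ?_⟩
    · change aeval (AdjoinRoot.root f) f = 0
      rw [AdjoinRoot.aeval_eq, AdjoinRoot.mk_self]
    · change IsUnit (aeval (AdjoinRoot.root f) (1 : A[X]))
      rw [map_one]; exact isUnit_one
  let e₁ : P.Ring →ₐ[A] AdjoinRoot f := P.lift (AdjoinRoot.root f) hmapE
  have hX : Polynomial.eval₂ (Algebra.ofId A P.Ring) P.X f = 0 := (P.hasMap_X).1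
  let e₂ : AdjoinRoot f →ₐ[A] P.Ring := AdjoinRoot.liftAlgHom f (Algebra.ofId A P.Ring) P.X hX
  have h12 : e₁.comp e₂ = AlgHom.id A _ := by
    apply AdjoinRoot.algHom_ext
    simp [e₁, e₂]
  have h21 : e₂.comp e₁ = AlgHom.id A _ := by
    apply StandardEtalePair.hom_ext
    simp [e₁, e₂]
  haveI : Algebra.Etale A (AdjoinRoot f) := Algebra.Etale.of_equiv (AlgEquiv.ofAlgHom e₁ e₂ h12 h21)
  exact ⟨AdjoinRoot f, inferInstance, hloc, inferInstance, halg, inferInstance, inferInstance, ⟨e⟩⟩

end Groth.Agent.H82.FEL
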