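import Groth.Agent.H82.FFLocus
import Groth.Prelude.Def_TwC
import Mathlib

/-! Faithfully flat locus, source of multiplicative type but not necessarily of finite type. -/

set_option autoImplicit false
set_option linter.unusedSectionVars false
universe u

open CategoryTheory MonoidalCategory CartesianMonoidalCategory MonObj AlgebraicGeometry
open CategoryTheory.Limits
open Groth.Agent.H42 Groth.Agent.H40 Magnet
open Groth.Agent.H82.AMonPts Groth.Agent.H82.GroupIso Groth.Agent.H82.ChartComp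
open Groth.Agent.H82.PLocal Groth.Agent.H82.FFLocus

namespace Groth.Agent.H82.FFLocus2

variable {S : Scheme.{u}} {G H : Over S} [GrpObj G] [GrpObj H]

/-- common trivialisation of two groups of multiplicative type and a homomorphism between them:
locally on a singleton fpqc cover the homomorphism is given by a homomorphism of character groups. -/
theorem exists_local_prop' (hG : TwC.Locally S TwC.Topology.fpqc (fun S' g => ∃ (M : Type) (_ : AddCommGroup M),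
      Nonempty (Grp.mk (Red.bc g G) ≅ Grp.mk (Red.DS S' M))))
    (hH : SGA3x.IsMultTypeFT H) (u : G ⟶ H)
    [IsMonHom u] (Q : ∀ (T : Scheme.{u}), (T ⟶ S) → Prop)
    (hQ : ∀ (B : Scheme.{u}) (g : B ⟶ S) (M₁ M₂ : Type) [AddCommGroup M₁] [AddCommGroup M₂]
      (e₁ : Red.bc g G ≅ AMonS B M₁) [IsMonHom e₁.hom] (e₂ : Red.bc g H ≅ AMonS B M₂)
      [IsMonHom e₂.hom] (V : B.Opens) (φ : M₂ →+ M₁)
      (_ : ∀ (T : Over B) (h : T ⟶ AMonS B M₁), (∀ z, T.hom z ∈ V) →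
        h ≫ HomLoc.cH g u e₁ e₂ = h ≫ AMonS.map B φ),
      ∃ p : Prop, (p → Q V (V.ι ≫ g)) ∧
        ∀ (κ : Type u) [Field κ] (σ : Spec (CommRingCat.of κ) ⟶ V), Q _ (σ ≫ V.ι ≫ g) → p) :
    ∃ (P : Scheme.{u}) (π : P ⟶ S), Presieve.singleton π ∈ Scheme.fpqcPrecoverage S ∧
      ∀ z : P, ∃ (V : Scheme.{u}) (j : V ⟶ P) (t : V ⟶ S), IsOpenImmersion j ∧ j ≫ π = t ∧
        z ∈ Set.range j ∧ ∃ p : Prop, (p → Q V t) ∧
          (∀ (κ : Type u) [Field κ] (σ : Spec (CommRingCat.of κ) ⟶ V), Q _ (σ ≫ t) → p) := by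
  obtain ⟨S₁, f₁, hflat₁, hsurj₁, hqc₁, htriv₁⟩ := hG
  obtain ⟨S₂, f₂, hflat₂, hsurj₂, hqc₂, htriv₂⟩ := hH
  have h₁ : Presieve.singleton f₁ ∈ Scheme.fpqcPrecoverage S :=
    Groth.Agent.H40.CD.singleton_mem_fpqcPrecoverage_of_image f₁ hsurj₁ hflat₁ hqc₁
  have h₂ : Presieve.singleton f₂ ∈ Scheme.fpqcPrecoverage S :=
    Groth.Agent.H40.CD.singleton_mem_fpqcPrecoverage_of_image f₂ hsurj₂ hflat₂ hqc₂
  let π : Limits.pullback f₁ f₂ ⟶ S := Limits.pullback.fst f₁ f₂ ≫ f₁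
  have hπ : Presieve.singleton π ∈ Scheme.fpqcPrecoverage S :=
    Groth.Agent.H40.singleton_comp_mem_fpqcPrecoverage _ _
      (Groth.Agent.H40.CD.singleton_mem_fpqcPrecoverage_of_isPullback h₂
        (IsPullback.of_hasPullback f₁ f₂)) h₁
  refine ⟨_, π, hπ, fun z => ?_⟩
  obtain ⟨U₁, hz₁, M₁, iM₁, hs₁⟩ := htriv₁ (Limits.pullback.fst f₁ f₂ z)
  obtain ⟨U₂, hz₂, M₂, iM₂, hfg₂, hs₂⟩ := htriv₂ (Limits.pullback.snd f₁ f₂ z)
  obtain ⟨e₁, he₁⟩ := Groth.Agent.H82.TorusHom.exists_iso_of_grpIso hs₁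
  obtain ⟨e₂, he₂⟩ := Groth.Agent.H82.TorusHom.exists_iso_of_grpIso hs₂
  let V₀ : (Limits.pullback f₁ f₂).Opens :=
    (Limits.pullback.fst f₁ f₂) ⁻¹ᵁ U₁ ⊓ (Limits.pullback.snd f₁ f₂) ⁻¹ᵁ U₂
  have hzV₀ : z ∈ V₀ := ⟨hz₁, hz₂⟩
  let w₁ : (V₀ : Scheme.{u}) ⟶ (U₁ : Scheme.{u}) :=
    IsOpenImmersion.lift U₁.ι (V₀.ι ≫ Limits.pullback.fst f₁ f₂) (by
      rintro _ ⟨w, rfl⟩
      rw [Scheme.Opens.range_ι]
      exact w.2.1)
  let w₂ : (V₀ : Scheme.{u}) ⟶ (U₂ : Scheme.{u}) :=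
    IsOpenImmersion.lift U₂.ι (V₀.ι ≫ Limits.pullback.snd f₁ f₂) (by
      rintro _ ⟨w, rfl⟩
      rw [Scheme.Opens.range_ι]
      exact w.2.2)
  have hw₁ : w₁ ≫ U₁.ι = V₀.ι ≫ Limits.pullback.fst f₁ f₂ := IsOpenImmersion.lift_fac _ _ _
  have hw₂ : w₂ ≫ U₂.ι = V₀.ι ≫ Limits.pullback.snd f₁ f₂ := IsOpenImmersion.lift_fac _ _ _
  have hg₁ : w₁ ≫ (U₁.ι ≫ f₁) = V₀.ι ≫ π := by
    rw [← Category.assoc, hw₁, Category.assoc]
  have hg₂ : w₂ ≫ (U₂.ι ≫ f₂) = V₀.ι ≫ π := by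
    rw [← Category.assoc, hw₂, Category.assoc, ← Limits.pullback.condition]
  obtain ⟨e₁', he₁', -⟩ := Groth.Agent.H82.ChartComp.exists_chart_comp (U₁.ι ≫ f₁) w₁ G e₁
  obtain ⟨e₁'', he₁''⟩ := Groth.Agent.H82.ChartRank.chart_congr hg₁ G e₁'
  obtain ⟨e₂', he₂', -⟩ := Groth.Agent.H82.ChartComp.exists_chart_comp (U₂.ι ≫ f₂) w₂ H e₂
  obtain ⟨e₂'', he₂''⟩ := Groth.Agent.H82.ChartRank.chart_congr hg₂ H e₂'
  obtain ⟨V, φ, hzV, hV⟩ := Groth.Agent.H82.HomLoc.exists_local_hom (V₀.ι ≫ π) u e₁'' e₂'' hfg₂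
    ⟨z, hzV₀⟩
  obtain ⟨p, hp1, hp2⟩ := hQ V₀ (V₀.ι ≫ π) M₁ M₂ e₁'' e₂'' V φ hV
  exact ⟨V, V.ι ≫ V₀.ι, V.ι ≫ V₀.ι ≫ π, inferInstance, Category.assoc _ _ _,
    ⟨⟨⟨z, hzV₀⟩, hzV⟩, rfl⟩, p, hp1, hp2⟩


section General

variable (P : MorphismProperty Scheme.{u}) [IsZariskiLocalAtTarget P] [P.IsStableUnderBaseChange]
  (hP : P.DescendsAlong (@Surjective ⊓ @Flat ⊓ @QuasiCompact : MorphismProperty Scheme.{u}))

include hP in
theorem P_locus' (hG : TwC.Locally S TwC.Topology.fpqc (fun S' g => ∃ (M : Type) (_ : AddCommGroup M),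
      Nonempty (Grp.mk (Red.bc g G) ≅ Grp.mk (Red.DS S' M))))
    (hH : SGA3x.IsMultTypeFT H) (u : G ⟶ H) [IsMonHom u]
    (hchart : ∀ (B : Scheme.{u}) (g : B ⟶ S) (M₁ M₂ : Type) [AddCommGroup M₁] [AddCommGroup M₂]
      (e₁ : Red.bc g G ≅ AMonS B M₁) [IsMonHom e₁.hom] (e₂ : Red.bc g H ≅ AMonS B M₂)
      [IsMonHom e₂.hom] (V : B.Opens) (φ : M₂ →+ M₁)
      (_ : ∀ (T : Over B) (h : T ⟶ AMonS B M₁), (∀ z, T.hom z ∈ V) →
        h ≫ HomLoc.cH g u e₁ e₂ = h ≫ AMonS.map B φ),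
      ∃ p : Prop, (p → QP P u V (V.ι ≫ g)) ∧
        ∀ (κ : Type u) [Field κ] (σ : Spec (CommRingCat.of κ) ⟶ V), QP P u _ (σ ≫ V.ι ≫ g) → p) :
    ∃ U : S.Opens, IsClosed (U : Set S) ∧
      (∀ s : S, s ∈ U ↔ P ((Over.pullback (S.fromSpecResidueField s)).map u).left) ∧
      P ((Over.pullback U.ι).map u).left := by
  obtain ⟨P', π, hπ, h3⟩ := exists_local_prop' hG hH u (QP P u) hchart
  exact ClopenLocus.clopen_locus (QP P u) (QP_bc P u) (QP_field P hP u) π hπ h3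
    (QP_local P hP u π hπ)

end General

theorem ff_locus' (hG : TwC.Locally S TwC.Topology.fpqc (fun S' g => ∃ (M : Type) (_ : AddCommGroup M),
      Nonempty (Grp.mk (Red.bc g G) ≅ Grp.mk (Red.DS S' M))))
    (hH : SGA3x.IsMultTypeFT H) (u : G ⟶ H) [IsMonHom u] :
    ∃ U : S.Opens, IsClosed (U : Set S) ∧
      (∀ s : S, s ∈ U ↔ (Flat ((Over.pullback (S.fromSpecResidueField s)).map u).left ∧
        Surjective ((Over.pullback (S.fromSpecResidueField s)).map u).left)) ∧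
      (Flat ((Over.pullback U.ι).map u).left ∧ Surjective ((Over.pullback U.ι).map u).left) := by
  haveI hflat := flat_descendsAlong.{u}
  have hP : (@Flat ⊓ @Surjective : MorphismProperty Scheme.{u}).DescendsAlong
      (@Surjective ⊓ @Flat ⊓ @QuasiCompact : MorphismProperty Scheme.{u}) := inferInstance
  refine P_locus' (@Flat ⊓ @Surjective : MorphismProperty Scheme.{u}) hP hG hH u
    (fun B g M₁ M₂ _ _ e₁ _ e₂ _ V φ hV => ⟨Function.Injective φ, fun hφ => ?_, fun κ _ σ hq => ?_⟩)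
  · have hc := Groth.Agent.H82.AttrFix.cov_DSmap (S := B) φ hφ
    exact QP_chart_of g u e₁ e₂ V φ hV _ ⟨hc.1, hc.2.1⟩
  · refine injective_of_ff_field g u e₁ e₂ V φ hV (σ ≫ V.ι) (fun z => ?_) (σ ≫ V.ι ≫ g)
      (Category.assoc _ _ _) hq.1 hq.2
    rw [Scheme.Hom.comp_apply]
    exact (σ z).2

end Groth.Agent.H82.FFLocus2
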