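import Mathlib.Algebra.Module.Projective
import Mathlib.LinearAlgebra.Projection
import Mathlib.LinearAlgebra.TensorProduct.Tower
import Mathlib.RingTheory.TensorProduct.Basic
import Mathlib.LinearAlgebra.Quotient.Basic
import Mathlib.RingTheory.Ideal.Quotient.Defs
import Mathlib.LinearAlgebra.TensorProduct.Quotient
import Mathlib.Algebra.Exact.Basic
import Mathlib.Tactic

set_option autoImplicit false
set_option linter.style.haveILetI false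
universe u v

namespace Groth.Agent.H82.FiltLift

open Submodule LinearMap

section retract

variable {R : Type u} [CommRing R] {M : Type v} [AddCommGroup M] [Module R M]

/-- A submodule with projective quotient admits a retraction. -/
lemma exists_retraction (N : Submodule R M) [Module.Projective R (M ⧸ N)] :
    ∃ ρ : M →ₗ[R] M, (∀ x, ρ x ∈ N) ∧ ∀ x ∈ N, ρ x = x := by
  obtain ⟨σ, hσ⟩ := N.mkQ.exists_rightInverse_of_surjective (range_eq_top.2 N.mkQ_surjective)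
  refine ⟨LinearMap.id - σ ∘ₗ N.mkQ, fun x => ?_, fun x hx => ?_⟩
  · rw [← Submodule.Quotient.mk_eq_zero N]
    have := LinearMap.congr_fun hσ (N.mkQ x)
    simp only [LinearMap.comp_apply, LinearMap.id_apply, mkQ_apply] at this
    simp [Submodule.Quotient.mk_sub, this]
  · have : N.mkQ x = 0 := (Submodule.Quotient.mk_eq_zero N).2 hx
    simp [this]

/-- retractions commute with `𝔫 •`. -/
lemma mem_smul_of_retraction (N : Submodule R M) (ρ : M →ₗ[R] M) (hρ : ∀ x, ρ x ∈ N)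
    (hρ' : ∀ x ∈ N, ρ x = x) (𝔫 : Ideal R) {z : M} (hz : z ∈ N) (hz' : z ∈ 𝔫 • (⊤ : Submodule R M)) :
    z ∈ 𝔫 • N := by
  have h1 : ρ z ∈ Submodule.map ρ (𝔫 • (⊤ : Submodule R M)) := Submodule.mem_map_of_mem hz'
  rw [Submodule.map_smul''] at h1
  rw [hρ' z hz] at h1
  refine Submodule.smul_mono le_rfl ?_ h1
  rintro _ ⟨x, -, rfl⟩
  exact hρ x

end retract


section abstract

variable {R : Type u} [CommRing R] {H₁ H H₂ : Type v} [AddCommGroup H₁] [Module R H₁]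
  [AddCommGroup H] [Module R H] [AddCommGroup H₂] [Module R H₂]
  (f : H₁ →ₗ[R] H) (g : H →ₗ[R] H₂) (F₁ : Submodule R H₁) (F₂ : Submodule R H₂) (𝔫 : Ideal R)
  (Fq : Submodule R H)

/-- the tensor-free form of the hypotheses. -/
structure Hyp : Prop where
  hf : Function.Injective f
  hg : Function.Surjective g
  hfg : Function.Exact f g
  nH_le : 𝔫 • (⊤ : Submodule R H) ≤ Fq
  A1 : ∀ x₁, f x₁ ∈ Fq ↔ x₁ ∈ F₁ ⊔ 𝔫 • (⊤ : Submodule R H₁)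
  A2a : ∀ x ∈ Fq, g x ∈ F₂ ⊔ 𝔫 • (⊤ : Submodule R H₂)
  A2b : ∀ y ∈ F₂, ∃ x ∈ Fq, g x = y

/-- membership in the set `L` (without the direct summand condition). -/
def InL (F : Submodule R H) : Prop :=
  F ⊓ LinearMap.range f = Submodule.map f F₁ ∧ F ⊔ 𝔫 • (⊤ : Submodule R H) = Fq ∧
    Submodule.map g F = F₂

variable {f g F₁ F₂ 𝔫 Fq}

lemma Hyp.gf (h : Hyp f g F₁ F₂ 𝔫 Fq) (x : H₁) : g (f x) = 0 := h.hfg.apply_apply_eq_zero x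

lemma Hyp.exists_of_g_eq_zero (h : Hyp f g F₁ F₂ 𝔫 Fq) {x : H} (hx : g x = 0) :
    ∃ x₁, f x₁ = x := (h.hfg x).1 hx

lemma f_mem_smul {x₁ : H₁} (hx : x₁ ∈ 𝔫 • (⊤ : Submodule R H₁)) :
    f x₁ ∈ 𝔫 • (⊤ : Submodule R H) := by
  have h1 : f x₁ ∈ Submodule.map f (𝔫 • (⊤ : Submodule R H₁)) := Submodule.mem_map_of_mem hx
  rw [Submodule.map_smul''] at h1
  exact Submodule.smul_mono le_rfl le_top h1

lemma Hyp.exists_smul_lift (h : Hyp f g F₁ F₂ 𝔫 Fq) {y : H₂}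
    (hy : y ∈ 𝔫 • (⊤ : Submodule R H₂)) : ∃ n ∈ 𝔫 • (⊤ : Submodule R H), g n = y := by
  have h1 : (𝔫 • (⊤ : Submodule R H₂)) = Submodule.map g (𝔫 • (⊤ : Submodule R H)) := by
    rw [Submodule.map_smul'', Submodule.map_top, LinearMap.range_eq_top.2 h.hg]
  rw [h1] at hy
  obtain ⟨n, hn, rfl⟩ := hy
  exact ⟨n, hn, rfl⟩

lemma exists_section [Module.Projective R F₂] (G : Submodule R H)
    (hG : ∀ y ∈ F₂, ∃ x ∈ G, g x = y) :
    ∃ s : F₂ →ₗ[R] H, (∀ y, s y ∈ G) ∧ ∀ y, g (s y) = y := by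
  let G' : Submodule R H := G ⊓ F₂.comap g
  let g' : G' →ₗ[R] F₂ := (g.domRestrict G').codRestrict F₂ (fun x => x.2.2)
  have hsurj : Function.Surjective g' := by
    rintro ⟨y, hy⟩
    obtain ⟨x, hx, rfl⟩ := hG y hy
    exact ⟨⟨x, hx, hy⟩, rfl⟩
  obtain ⟨s', hs'⟩ := Module.projective_lifting_property g' LinearMap.id hsurj
  refine ⟨G'.subtype ∘ₗ s', fun y => (s' y).2.1, fun y => ?_⟩
  have := LinearMap.congr_fun hs' y
  exact congrArg Subtype.val this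

lemma InL.map_le {F : Submodule R H} (hF : InL f g F₁ F₂ 𝔫 Fq F) : Submodule.map f F₁ ≤ F := by
  rw [← hF.1]; exact inf_le_left

lemma InL.f_mem {F : Submodule R H} (hF : InL f g F₁ F₂ 𝔫 Fq F) {a : H₁} (ha : a ∈ F₁) :
    f a ∈ F := hF.map_le (Submodule.mem_map_of_mem ha)

lemma InL.g_mem {F : Submodule R H} (hF : InL f g F₁ F₂ 𝔫 Fq F) {x : H} (hx : x ∈ F) :
    g x ∈ F₂ := by
  rw [← hF.2.2]; exact Submodule.mem_map_of_mem hx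

lemma InL.mem_of_g_eq_zero (h : Hyp f g F₁ F₂ 𝔫 Fq) {F : Submodule R H}
    (hF : InL f g F₁ F₂ 𝔫 Fq F) {x : H} (hx : x ∈ F) (hgx : g x = 0) :
    ∃ a ∈ F₁, f a = x := by
  obtain ⟨x₁, rfl⟩ := h.exists_of_g_eq_zero hgx
  have : f x₁ ∈ F ⊓ LinearMap.range f := ⟨hx, x₁, rfl⟩
  rw [hF.1] at this
  obtain ⟨a, ha, hfa⟩ := this
  exact ⟨a, ha, hfa⟩

/-- two members of `L`, one inside the other, are equal. -/
lemma InL.eq_of_le (h : Hyp f g F₁ F₂ 𝔫 Fq) {F F' : Submodule R H}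
    (hF : InL f g F₁ F₂ 𝔫 Fq F) (hF' : InL f g F₁ F₂ 𝔫 Fq F') (hle : F ≤ F') : F = F' := by
  refine le_antisymm hle fun x' hx' => ?_
  have h1 : g x' ∈ Submodule.map g F := by rw [hF.2.2]; exact hF'.g_mem hx'
  obtain ⟨x, hx, hgx⟩ := h1
  obtain ⟨a, ha, hfa⟩ := hF'.mem_of_g_eq_zero h (F'.sub_mem hx' (hle hx))
    (by rw [map_sub, hgx, sub_self])
  have : x' = f a + x := by rw [hfa]; abel
  rw [this]
  exact F.add_mem (hF.f_mem ha) hx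

/-- the structure of a member of `L`. -/
lemma InL.eq_sup (h : Hyp f g F₁ F₂ 𝔫 Fq) {F : Submodule R H}
    (hF : InL f g F₁ F₂ 𝔫 Fq F) (s : F₂ →ₗ[R] H) (hs : ∀ y, s y ∈ F) (hgs : ∀ y, g (s y) = y) :
    F = Submodule.map f F₁ ⊔ LinearMap.range s := by
  refine le_antisymm (fun x hx => ?_) (sup_le hF.map_le ?_)
  · have hy := hF.g_mem hx
    obtain ⟨a, ha, hfa⟩ := hF.mem_of_g_eq_zero h (F.sub_mem hx (hs ⟨g x, hy⟩))
      (by rw [map_sub, hgs]; exact sub_self _)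
    have : x = f a + s ⟨g x, hy⟩ := by rw [hfa]; abel
    rw [this]
    exact Submodule.add_mem_sup (Submodule.mem_map_of_mem ha) ⟨_, rfl⟩
  · rintro _ ⟨y, rfl⟩
    exact hs y

/-- the construction: `f(F₁) + s(F₂)` lies in `L`. -/
lemma inL_sup (h : Hyp f g F₁ F₂ 𝔫 Fq) (s : F₂ →ₗ[R] H) (hs : ∀ y, s y ∈ Fq)
    (hgs : ∀ y, g (s y) = y) :
    InL f g F₁ F₂ 𝔫 Fq (Submodule.map f F₁ ⊔ LinearMap.range s) := by
  have hmem : ∀ x, x ∈ Submodule.map f F₁ ⊔ LinearMap.range s ↔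
      ∃ a ∈ F₁, ∃ y : F₂, f a + s y = x := by
    intro x
    rw [Submodule.mem_sup]
    constructor
    · rintro ⟨_, ⟨a, ha, rfl⟩, _, ⟨y, rfl⟩, rfl⟩
      exact ⟨a, ha, y, rfl⟩
    · rintro ⟨a, ha, y, rfl⟩
      exact ⟨f a, Submodule.mem_map_of_mem ha, s y, ⟨y, rfl⟩, rfl⟩
  refine ⟨?_, ?_, ?_⟩
  · refine le_antisymm ?_ (le_inf le_sup_left ?_)
    · rintro x ⟨hx, hx'⟩
      obtain ⟨a, ha, y, rfl⟩ := (hmem x).1 hx
      obtain ⟨x₁, hx₁⟩ := hx'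
      have : g (f a + s y) = 0 := by rw [← hx₁, h.gf]
      rw [map_add, h.gf, zero_add, hgs] at this
      have hy : y = 0 := Subtype.ext this
      rw [hy, map_zero, add_zero]
      exact Submodule.mem_map_of_mem ha
    · rintro _ ⟨a, -, rfl⟩
      exact ⟨a, rfl⟩
  · refine le_antisymm (sup_le (sup_le ?_ ?_) h.nH_le) ?_
    · rintro _ ⟨a, ha, rfl⟩
      exact (h.A1 a).2 (Submodule.mem_sup_left ha)
    · rintro _ ⟨y, rfl⟩
      exact hs y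
    · intro x hx
      obtain ⟨y, hy, n₂, hn₂, hyn⟩ := Submodule.mem_sup.1 (h.A2a x hx)
      obtain ⟨n, hn, rfl⟩ := h.exists_smul_lift hn₂
      have hx' : x - s ⟨y, hy⟩ - n ∈ Fq :=
        Fq.sub_mem (Fq.sub_mem hx (hs _)) (h.nH_le hn)
      have hg0 : g (x - s ⟨y, hy⟩ - n) = 0 := by
        rw [map_sub, map_sub, hgs, ← hyn]; simp
      obtain ⟨x₁, hx₁⟩ := h.exists_of_g_eq_zero hg0
      rw [← hx₁] at hx'
      obtain ⟨a, ha, n₁, hn₁, han⟩ := Submodule.mem_sup.1 ((h.A1 x₁).1 hx')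
      have hx_eq : x = (f a + s ⟨y, hy⟩) + (n + f n₁) := by
        have : f x₁ = f a + f n₁ := by rw [← han, map_add]
        rw [this] at hx₁
        have : x = (f a + f n₁) + s ⟨y, hy⟩ + n := by rw [hx₁]; abel
        rw [this]; abel
      rw [hx_eq]
      refine Submodule.add_mem_sup ((hmem _).2 ⟨a, ha, ⟨y, hy⟩, rfl⟩) ?_
      exact Submodule.add_mem _ hn (f_mem_smul hn₁)
  · refine le_antisymm ?_ ?_
    · rintro _ ⟨x, hx, rfl⟩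
      obtain ⟨a, ha, y, rfl⟩ := (hmem x).1 hx
      rw [map_add, h.gf, zero_add, hgs]
      exact y.2
    · intro y hy
      exact ⟨s ⟨y, hy⟩, Submodule.mem_sup_right ⟨_, rfl⟩, hgs _⟩

/-- `f(F₁) + s(F₂)` is a direct summand. -/
lemma exists_isCompl_sup (h : Hyp f g F₁ F₂ 𝔫 Fq) (s : F₂ →ₗ[R] H) (hgs : ∀ y, g (s y) = y)
    (ρ₁ : H₁ →ₗ[R] H₁) (hρ₁ : ∀ x, ρ₁ x ∈ F₁) (hρ₁' : ∀ x ∈ F₁, ρ₁ x = x)
    (ρ₂ : H₂ →ₗ[R] H₂) (hρ₂ : ∀ x, ρ₂ x ∈ F₂) (hρ₂' : ∀ x ∈ F₂, ρ₂ x = x)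
    (t₀ : H₂ →ₗ[R] H) (ht₀ : ∀ y, g (t₀ y) = y) :
    ∃ C : Submodule R H, IsCompl (Submodule.map f F₁ ⊔ LinearMap.range s) C := by
  refine ⟨Submodule.map f (LinearMap.ker ρ₁) ⊔ Submodule.map t₀ (LinearMap.ker ρ₂), ?_, ?_⟩
  · rw [Submodule.disjoint_def]
    intro x hx hx'
    obtain ⟨_, ⟨a, ha, rfl⟩, _, ⟨y, rfl⟩, rfl⟩ := Submodule.mem_sup.1 hx
    obtain ⟨_, ⟨c₁, hc₁, rfl⟩, _, ⟨c₂, hc₂, rfl⟩, hxc⟩ := Submodule.mem_sup.1 hx'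
    have hg := congrArg g hxc
    rw [map_add, map_add, h.gf, h.gf, zero_add, zero_add, ht₀, hgs] at hg
    have hy0 : (y : H₂) = 0 := by
      rw [← hρ₂' y y.2, ← hg]; exact hc₂
    have hy : y = 0 := Subtype.ext hy0
    have hc₂0 : c₂ = 0 := by rw [hg, hy0]
    rw [hy, hc₂0, map_zero, map_zero, add_zero, add_zero] at hxc
    have hac : c₁ = a := h.hf hxc
    have ha0 : a = 0 := by
      rw [← hρ₁' a ha, ← hac]; exact hc₁
    rw [ha0, hy, map_zero, map_zero, add_zero]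
  · rw [codisjoint_iff, eq_top_iff]
    intro x _
    have hy : ρ₂ (g x) ∈ F₂ := hρ₂ _
    have hc₂ : g x - ρ₂ (g x) ∈ LinearMap.ker ρ₂ := by
      rw [LinearMap.mem_ker, map_sub, hρ₂' _ hy, sub_self]
    have hg0 : g (x - s ⟨ρ₂ (g x), hy⟩ - t₀ (g x - ρ₂ (g x))) = 0 := by
      rw [map_sub, map_sub, hgs, ht₀]; abel
    obtain ⟨x₁, hx₁⟩ := h.exists_of_g_eq_zero hg0
    have hc₁ : x₁ - ρ₁ x₁ ∈ LinearMap.ker ρ₁ := by
      rw [LinearMap.mem_ker, map_sub, hρ₁' _ (hρ₁ x₁), sub_self]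
    have hx_eq : x = (f (ρ₁ x₁) + s ⟨ρ₂ (g x), hy⟩) +
        (f (x₁ - ρ₁ x₁) + t₀ (g x - ρ₂ (g x))) := by
      have : f (ρ₁ x₁) + f (x₁ - ρ₁ x₁) = f x₁ := by rw [← map_add]; congr 1; abel
      have h2 : x = f x₁ + s ⟨ρ₂ (g x), hy⟩ + t₀ (g x - ρ₂ (g x)) := by rw [hx₁]; abel
      refine h2.trans ?_
      rw [← this]; abel
    rw [hx_eq]
    refine Submodule.add_mem_sup (Submodule.add_mem_sup (Submodule.mem_map_of_mem (hρ₁ x₁))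
      ⟨_, rfl⟩) (Submodule.add_mem_sup (Submodule.mem_map_of_mem hc₁)
      (Submodule.mem_map_of_mem hc₂))

lemma projective_of_retraction [Module.Projective R H₂]
    (ρ₂ : H₂ →ₗ[R] H₂) (hρ₂ : ∀ x, ρ₂ x ∈ F₂) (hρ₂' : ∀ x ∈ F₂, ρ₂ x = x) :
    Module.Projective R F₂ :=
  Module.Projective.of_split F₂.subtype (ρ₂.codRestrict F₂ hρ₂)
    (by ext y; exact hρ₂' y y.2)

/-- the abstract form of the existence statement. -/
theorem exists_lift (h : Hyp f g F₁ F₂ 𝔫 Fq) [Module.Projective R H₂]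
    [Module.Projective R (H₁ ⧸ F₁)] [Module.Projective R (H₂ ⧸ F₂)] :
    ∃ F : Submodule R H, (∃ C : Submodule R H, IsCompl F C) ∧ InL f g F₁ F₂ 𝔫 Fq F := by
  obtain ⟨ρ₁, hρ₁, hρ₁'⟩ := exists_retraction F₁
  obtain ⟨ρ₂, hρ₂, hρ₂'⟩ := exists_retraction F₂
  haveI := projective_of_retraction ρ₂ hρ₂ hρ₂'
  obtain ⟨t₀, ht₀⟩ := g.exists_rightInverse_of_surjective (LinearMap.range_eq_top.2 h.hg)
  obtain ⟨s, hs, hgs⟩ := exists_section (g := g) (F₂ := F₂) Fq h.A2b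
  exact ⟨_, exists_isCompl_sup h s hgs ρ₁ hρ₁ hρ₁' ρ₂ hρ₂ hρ₂' t₀ (LinearMap.congr_fun ht₀),
    inL_sup h s hs hgs⟩

/-! ### the action of `u : H₂ → 𝔫 H₁` -/

/-- the automorphism `x ↦ x + f (u (g x))`. -/
abbrev phi (f : H₁ →ₗ[R] H) (g : H →ₗ[R] H₂) (u : H₂ →ₗ[R] H₁) : H →ₗ[R] H :=
  LinearMap.id + f ∘ₗ u ∘ₗ g

lemma phi_apply (u : H₂ →ₗ[R] H₁) (x : H) : phi f g u x = x + f (u (g x)) := rfl

lemma exists_isCompl_map (h : Hyp f g F₁ F₂ 𝔫 Fq) (u : H₂ →ₗ[R] H₁) {F : Submodule R H}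
    (hC : ∃ C : Submodule R H, IsCompl F C) :
    ∃ C : Submodule R H, IsCompl (Submodule.map (phi f g u) F) C := by
  obtain ⟨C, hC⟩ := hC
  let e : H ≃ₗ[R] H := LinearEquiv.ofLinearMap (phi f g u)
    (LinearMap.id - f ∘ₗ u ∘ₗ g)
    (by ext x; simp [h.gf])
    (by ext x; simp [h.gf])
  exact ⟨Submodule.map (e : H →ₗ[R] H) C, (Submodule.orderIsoMapComap e).isCompl hC⟩

theorem inL_map (h : Hyp f g F₁ F₂ 𝔫 Fq) (u : H₂ →ₗ[R] H₁)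
    (hu : ∀ y, u y ∈ 𝔫 • (⊤ : Submodule R H₁)) {F : Submodule R H}
    (hF : InL f g F₁ F₂ 𝔫 Fq F) :
    InL f g F₁ F₂ 𝔫 Fq (Submodule.map (phi f g u) F) := by
  have hg : ∀ x, g (phi f g u x) = g x := by
    intro x; rw [phi_apply, map_add, h.gf, add_zero]
  refine ⟨?_, ?_, ?_⟩
  · refine le_antisymm ?_ ?_
    · rintro _ ⟨⟨x, hx, rfl⟩, ⟨x₁, hx₁⟩⟩
      have hgx : g x = 0 := by rw [← hg, ← hx₁, h.gf]
      obtain ⟨a, ha, rfl⟩ := hF.mem_of_g_eq_zero h hx hgx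
      rw [phi_apply, h.gf, map_zero, map_zero, add_zero]
      exact Submodule.mem_map_of_mem ha
    · rintro _ ⟨a, ha, rfl⟩
      refine ⟨⟨f a, hF.f_mem ha, ?_⟩, a, rfl⟩
      rw [phi_apply, h.gf, map_zero, map_zero, add_zero]
  · rw [← hF.2.1]
    refine le_antisymm (sup_le ?_ le_sup_right) (sup_le ?_ le_sup_right)
    · rintro _ ⟨x, hx, rfl⟩
      rw [phi_apply]
      exact Submodule.add_mem_sup hx (f_mem_smul (hu _))
    · intro x hx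
      have : x = phi f g u x + (-f (u (g x))) := by rw [phi_apply]; abel
      rw [this]
      exact Submodule.add_mem_sup (Submodule.mem_map_of_mem hx)
        (Submodule.neg_mem _ (f_mem_smul (hu _)))
  · rw [← hF.2.2]
    ext y
    constructor
    · rintro ⟨_, ⟨x, hx, rfl⟩, rfl⟩
      exact ⟨x, hx, (hg x).symm⟩
    · rintro ⟨x, hx, rfl⟩
      exact ⟨_, Submodule.mem_map_of_mem hx, hg x⟩

theorem map_eq_iff (h : Hyp f g F₁ F₂ 𝔫 Fq) (ρ₁ : H₁ →ₗ[R] H₁) (hρ₁ : ∀ x, ρ₁ x ∈ F₁)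
    (hρ₁' : ∀ x ∈ F₁, ρ₁ x = x) (u : H₂ →ₗ[R] H₁)
    (hu : ∀ y, u y ∈ 𝔫 • (⊤ : Submodule R H₁)) {F : Submodule R H}
    (hF : InL f g F₁ F₂ 𝔫 Fq F) :
    Submodule.map (phi f g u) F = F ↔ ∀ y ∈ F₂, u y ∈ 𝔫 • F₁ := by
  constructor
  · intro heq y hy
    have hy' : y ∈ Submodule.map g F := by rw [hF.2.2]; exact hy
    obtain ⟨x, hx, rfl⟩ := hy'
    have h1 : phi f g u x ∈ F := by
      rw [← heq]; exact Submodule.mem_map_of_mem hx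
    rw [phi_apply] at h1
    have h2 : f (u (g x)) ∈ F := by
      have := F.sub_mem h1 hx
      rwa [add_sub_cancel_left] at this
    obtain ⟨a, ha, hfa⟩ := hF.mem_of_g_eq_zero h h2 (h.gf _)
    have : u (g x) = a := (h.hf hfa).symm
    exact mem_smul_of_retraction F₁ ρ₁ hρ₁ hρ₁' 𝔫 (this ▸ ha) (hu _)
  · intro hu'
    refine InL.eq_of_le h (inL_map h u hu hF) hF ?_
    rintro _ ⟨x, hx, rfl⟩
    rw [phi_apply]
    refine F.add_mem hx (hF.f_mem ?_)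
    exact Submodule.smul_le_right (hu' _ (hF.g_mem hx))

theorem exists_u (h : Hyp f g F₁ F₂ 𝔫 Fq) [Module.Projective R F₂]
    (ρ₂ : H₂ →ₗ[R] H₂) (hρ₂ : ∀ x, ρ₂ x ∈ F₂) (hρ₂' : ∀ x ∈ F₂, ρ₂ x = x)
    {F F' : Submodule R H} (hF : InL f g F₁ F₂ 𝔫 Fq F) (hF' : InL f g F₁ F₂ 𝔫 Fq F') :
    ∃ u : H₂ →ₗ[R] H₁, (∀ y, u y ∈ 𝔫 • (⊤ : Submodule R H₁)) ∧
      F' = Submodule.map (phi f g u) F := by
  have hsec : ∀ {G : Submodule R H}, InL f g F₁ F₂ 𝔫 Fq G → ∀ y ∈ F₂, ∃ x ∈ G, g x = y := by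
    intro G hG y hy
    have : y ∈ Submodule.map g G := by rw [hG.2.2]; exact hy
    obtain ⟨x, hx, rfl⟩ := this
    exact ⟨x, hx, rfl⟩
  obtain ⟨s, hs, hgs⟩ := exists_section (g := g) (F₂ := F₂) F (hsec hF)
  obtain ⟨s', hs', hgs'⟩ := exists_section (g := g) (F₂ := F₂) F' (hsec hF')
  have hFq : ∀ {G : Submodule R H}, InL f g F₁ F₂ 𝔫 Fq G → G ≤ Fq := by
    intro G hG; rw [← hG.2.1]; exact le_sup_left
  -- the map `(a, n) ↦ f (a + n)`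
  let Θ : (F₁ × ↥(𝔫 • (⊤ : Submodule R H₁))) →ₗ[R] H :=
    f ∘ₗ (F₁.subtype.coprod (𝔫 • (⊤ : Submodule R H₁)).subtype)
  have hΘ : ∀ z, Θ z = f ((z.1 : H₁) + (z.2 : H₁)) := fun z => rfl
  have hδ : ∀ y : F₂, (s' - s) y ∈ LinearMap.range Θ := by
    intro y
    have hg0 : g ((s' - s) y) = 0 := by
      rw [LinearMap.sub_apply, map_sub, hgs, hgs', sub_self]
    obtain ⟨x₁, hx₁⟩ := h.exists_of_g_eq_zero hg0
    have hmem : f x₁ ∈ Fq := by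
      rw [hx₁, LinearMap.sub_apply]
      exact Fq.sub_mem (hFq hF' (hs' y)) (hFq hF (hs y))
    obtain ⟨a, ha, n, hn, han⟩ := Submodule.mem_sup.1 ((h.A1 x₁).1 hmem)
    exact ⟨(⟨a, ha⟩, ⟨n, hn⟩), by rw [hΘ, ← hx₁]; exact congrArg f han⟩
  obtain ⟨an, han⟩ := Module.projective_lifting_property Θ.rangeRestrict
    ((s' - s).codRestrict (LinearMap.range Θ) hδ) (LinearMap.surjective_rangeRestrict Θ)
  have han' : ∀ y : F₂, f (((an y).1 : H₁) + ((an y).2 : H₁)) = s' y - s y := by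
    intro y
    have := congrArg Subtype.val (LinearMap.congr_fun han y)
    exact this
  let u : H₂ →ₗ[R] H₁ := (𝔫 • (⊤ : Submodule R H₁)).subtype ∘ₗ
    (LinearMap.snd R F₁ ↥(𝔫 • (⊤ : Submodule R H₁))) ∘ₗ an ∘ₗ (ρ₂.codRestrict F₂ hρ₂)
  have hu_apply : ∀ y : F₂, u (y : H₂) = ((an y).2 : H₁) := by
    intro y
    have : ρ₂.codRestrict F₂ hρ₂ (y : H₂) = y := Subtype.ext (hρ₂' y y.2)
    change (((an (ρ₂.codRestrict F₂ hρ₂ (y : H₂))).2 : H₁)) = _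
    rw [this]
  have hu : ∀ y, u y ∈ 𝔫 • (⊤ : Submodule R H₁) := fun y => Subtype.mem _
  refine ⟨u, hu, ?_⟩
  refine (InL.eq_of_le h (inL_map h u hu hF) hF' ?_).symm
  rintro _ ⟨x, hx, rfl⟩
  have hy := hF.g_mem hx
  obtain ⟨a₀, ha₀, hfa₀⟩ := hF.mem_of_g_eq_zero h (F.sub_mem hx (hs ⟨g x, hy⟩))
    (by rw [map_sub, hgs]; exact sub_self _)
  rw [phi_apply]
  have h1 := hu_apply ⟨g x, hy⟩
  have h2 := han' ⟨g x, hy⟩
  rw [map_add] at h2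
  have hx_eq : x + f (u (g x)) =
      f a₀ + s' ⟨g x, hy⟩ - f ((an ⟨g x, hy⟩).1 : H₁) := by
    change x + f (u ((⟨g x, hy⟩ : F₂) : H₂)) = _
    rw [h1]
    have h3 : x = f a₀ + s ⟨g x, hy⟩ := by rw [hfa₀]; abel
    have h4 : f ((an ⟨g x, hy⟩).2 : H₁) =
        s' ⟨g x, hy⟩ - s ⟨g x, hy⟩ - f ((an ⟨g x, hy⟩).1 : H₁) := by
      rw [← h2]; abel
    rw [h4]
    nth_rewrite 1 [h3]
    abel
  rw [hx_eq]
  exact F'.sub_mem (F'.add_mem (hF'.f_mem ha₀) (hs' _)) (hF'.f_mem (Subtype.mem _))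

end abstract


section translate

open TensorProduct

variable {R : Type u} [CommRing R] (𝔫 : Ideal R) {M : Type v} [AddCommGroup M] [Module R M]

/-- `x ↦ 1 ⊗ x`. -/
noncomputable abbrev q (M : Type v) [AddCommGroup M] [Module R M] : M →ₗ[R] (R ⧸ 𝔫) ⊗[R] M :=
  TensorProduct.mk R (R ⧸ 𝔫) M 1

lemma q_surjective : Function.Surjective (q 𝔫 M) :=
  TensorProduct.mk_surjective R M (R ⧸ 𝔫) Ideal.Quotient.mk_surjective

lemma q_eq_zero_iff (x : M) : q 𝔫 M x = 0 ↔ x ∈ 𝔫 • (⊤ : Submodule R M) := by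
  rw [← (quotTensorEquivQuotSMul M 𝔫).map_eq_zero_iff]
  change quotTensorEquivQuotSMul M 𝔫 (1 ⊗ₜ x) = 0 ↔ _
  rw [quotTensorEquivQuotSMul_mk_one_tmul, Submodule.Quotient.mk_eq_zero]

lemma q_eq_iff (x y : M) : q 𝔫 M x = q 𝔫 M y ↔ x - y ∈ 𝔫 • (⊤ : Submodule R M) := by
  rw [← q_eq_zero_iff, map_sub, sub_eq_zero]

lemma mem_baseChange_iff (N : Submodule R M) (y : (R ⧸ 𝔫) ⊗[R] M) :
    y ∈ N.baseChange (R ⧸ 𝔫) ↔ ∃ x ∈ N, q 𝔫 M x = y := by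
  constructor
  · intro hy
    obtain ⟨z, rfl⟩ := hy
    obtain ⟨x, rfl⟩ := q_surjective 𝔫 (M := N) z
    exact ⟨x.1, x.2, rfl⟩
  · rintro ⟨x, hx, rfl⟩
    exact Submodule.tmul_mem_baseChange_of_mem 1 hx

/-- the pullback of an `R ⧸ 𝔫`-submodule of `R ⧸ 𝔫 ⊗ M` to `M`. -/
noncomputable def pull (Fb : Submodule (R ⧸ 𝔫) ((R ⧸ 𝔫) ⊗[R] M)) : Submodule R M :=
  (Fb.restrictScalars R).comap (q 𝔫 M)

lemma mem_pull (Fb : Submodule (R ⧸ 𝔫) ((R ⧸ 𝔫) ⊗[R] M)) (x : M) :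
    x ∈ pull 𝔫 Fb ↔ q 𝔫 M x ∈ Fb := Iff.rfl

lemma smul_top_le_pull (Fb : Submodule (R ⧸ 𝔫) ((R ⧸ 𝔫) ⊗[R] M)) :
    𝔫 • (⊤ : Submodule R M) ≤ pull 𝔫 Fb := by
  intro x hx
  rw [mem_pull, (q_eq_zero_iff 𝔫 x).2 hx]
  exact Fb.zero_mem

lemma baseChange_eq_iff (F : Submodule R M) (Fb : Submodule (R ⧸ 𝔫) ((R ⧸ 𝔫) ⊗[R] M)) :
    F.baseChange (R ⧸ 𝔫) = Fb ↔ F ⊔ 𝔫 • (⊤ : Submodule R M) = pull 𝔫 Fb := by
  constructor
  · intro h
    refine le_antisymm (sup_le ?_ (smul_top_le_pull 𝔫 Fb)) ?_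
    · intro x hx
      rw [mem_pull, ← h]
      exact (mem_baseChange_iff 𝔫 F _).2 ⟨x, hx, rfl⟩
    · intro x hx
      rw [mem_pull, ← h, mem_baseChange_iff] at hx
      obtain ⟨a, ha, hax⟩ := hx
      have : x = a + (x - a) := by abel
      rw [this]
      refine Submodule.add_mem_sup ha ?_
      rw [← q_eq_iff, hax]
  · intro h
    ext y
    rw [mem_baseChange_iff]
    constructor
    · rintro ⟨x, hx, rfl⟩
      rw [← mem_pull, ← h]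
      exact Submodule.mem_sup_left hx
    · intro hy
      obtain ⟨x, rfl⟩ := q_surjective 𝔫 y
      rw [← mem_pull, ← h] at hy
      obtain ⟨a, ha, n, hn, rfl⟩ := Submodule.mem_sup.1 hy
      refine ⟨a, ha, ?_⟩
      rw [map_add, (q_eq_zero_iff 𝔫 n).2 hn, add_zero]

variable {H₁ H H₂ : Type v} [AddCommGroup H₁] [Module R H₁]
  [AddCommGroup H] [Module R H] [AddCommGroup H₂] [Module R H₂]

lemma baseChange_injective_of_split (f : H₁ →ₗ[R] H) (g : H →ₗ[R] H₂)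
    (hf : Function.Injective f) (hg : Function.Surjective g) (hfg : Function.Exact f g)
    [Module.Projective R H₂] : Function.Injective (f.baseChange (R ⧸ 𝔫)) := by
  obtain ⟨t₀, ht₀⟩ := g.exists_rightInverse_of_surjective (LinearMap.range_eq_top.2 hg)
  have hπ : ∀ x, (LinearMap.id - t₀ ∘ₗ g : H →ₗ[R] H) x ∈ LinearMap.range f := by
    intro x
    apply (hfg _).1
    have := LinearMap.congr_fun ht₀ (g x)
    simp only [LinearMap.comp_apply, LinearMap.id_apply] at this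
    simp [this]
  let r : H →ₗ[R] H₁ := (LinearEquiv.ofInjective f hf).symm.toLinearMap ∘ₗ
    (LinearMap.id - t₀ ∘ₗ g : H →ₗ[R] H).codRestrict (LinearMap.range f) hπ
  have hr : r ∘ₗ f = LinearMap.id := by
    ext x
    change (LinearEquiv.ofInjective f hf).symm _ = x
    rw [LinearEquiv.symm_apply_eq]
    apply Subtype.ext
    simp [hfg.apply_apply_eq_zero x]
  have hr' : (r.baseChange (R ⧸ 𝔫)) ∘ₗ (f.baseChange (R ⧸ 𝔫)) = LinearMap.id := by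
    rw [← LinearMap.baseChange_comp, hr, LinearMap.baseChange_id]
  exact Function.LeftInverse.injective (g := r.baseChange (R ⧸ 𝔫))
    (fun z => LinearMap.congr_fun hr' z)

theorem hyp_of (f : H₁ →ₗ[R] H) (g : H →ₗ[R] H₂)
    (hf : Function.Injective f) (hg : Function.Surjective g) (hfg : Function.Exact f g)
    [Module.Projective R H₂] (F₁ : Submodule R H₁) (F₂ : Submodule R H₂)
    (Fb : Submodule (R ⧸ 𝔫) ((R ⧸ 𝔫) ⊗[R] H))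
    (h1 : Fb ⊓ LinearMap.range (f.baseChange (R ⧸ 𝔫)) =
      Submodule.map (f.baseChange (R ⧸ 𝔫)) (F₁.baseChange (R ⧸ 𝔫)))
    (h2 : Submodule.map (g.baseChange (R ⧸ 𝔫)) Fb = F₂.baseChange (R ⧸ 𝔫)) :
    Hyp f g F₁ F₂ 𝔫 (pull 𝔫 Fb) := by
  have hfinj := baseChange_injective_of_split 𝔫 f g hf hg hfg
  have hqf : ∀ x, q 𝔫 H (f x) = f.baseChange (R ⧸ 𝔫) (q 𝔫 H₁ x) := fun x => rfl
  have hqg : ∀ x, q 𝔫 H₂ (g x) = g.baseChange (R ⧸ 𝔫) (q 𝔫 H x) := fun x => rfl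
  have hA1 : ∀ x₁, f x₁ ∈ pull 𝔫 Fb ↔ x₁ ∈ F₁ ⊔ 𝔫 • (⊤ : Submodule R H₁) := by
    intro x₁
    constructor
    · intro hx
      rw [mem_pull, hqf] at hx
      have h3 : f.baseChange (R ⧸ 𝔫) (q 𝔫 H₁ x₁) ∈
          Fb ⊓ LinearMap.range (f.baseChange (R ⧸ 𝔫)) := ⟨hx, _, rfl⟩
      rw [h1] at h3
      obtain ⟨z, hz, hzz⟩ := h3
      rw [SetLike.mem_coe, hfinj hzz, mem_baseChange_iff] at hz
      obtain ⟨a, ha, haq⟩ := hz
      have : x₁ = a + (x₁ - a) := by abel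
      rw [this]
      refine Submodule.add_mem_sup ha ?_
      rw [← q_eq_iff, haq]
    · intro hx
      obtain ⟨a, ha, n, hn, rfl⟩ := Submodule.mem_sup.1 hx
      rw [mem_pull, map_add, map_add, (q_eq_zero_iff 𝔫 (f n)).2 (f_mem_smul hn), add_zero, hqf]
      have : f.baseChange (R ⧸ 𝔫) (q 𝔫 H₁ a) ∈
          Submodule.map (f.baseChange (R ⧸ 𝔫)) (F₁.baseChange (R ⧸ 𝔫)) :=
        Submodule.mem_map_of_mem ((mem_baseChange_iff 𝔫 F₁ _).2 ⟨a, ha, rfl⟩)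
      rw [← h1] at this
      exact this.1
  have hsm : ∀ {y : H₂}, y ∈ 𝔫 • (⊤ : Submodule R H₂) →
      ∃ n ∈ 𝔫 • (⊤ : Submodule R H), g n = y := by
    intro y hy
    have h3 : (𝔫 • (⊤ : Submodule R H₂)) = Submodule.map g (𝔫 • (⊤ : Submodule R H)) := by
      rw [Submodule.map_smul'', Submodule.map_top, LinearMap.range_eq_top.2 hg]
    rw [h3] at hy
    obtain ⟨n, hn, rfl⟩ := hy
    exact ⟨n, hn, rfl⟩
  refine ⟨hf, hg, hfg, smul_top_le_pull 𝔫 Fb, hA1, ?_, ?_⟩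
  · intro x hx
    rw [mem_pull] at hx
    have h3 : g.baseChange (R ⧸ 𝔫) (q 𝔫 H x) ∈ Submodule.map (g.baseChange (R ⧸ 𝔫)) Fb :=
      Submodule.mem_map_of_mem hx
    rw [h2, ← hqg, mem_baseChange_iff] at h3
    obtain ⟨y, hy, hyq⟩ := h3
    have : g x = y + (g x - y) := by abel
    rw [this]
    refine Submodule.add_mem_sup hy ?_
    rw [← q_eq_iff, hyq]
  · intro y hy
    have h3 : q 𝔫 H₂ y ∈ F₂.baseChange (R ⧸ 𝔫) := (mem_baseChange_iff 𝔫 F₂ _).2 ⟨y, hy, rfl⟩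
    rw [← h2] at h3
    obtain ⟨z, hz, hzy⟩ := h3
    obtain ⟨x, rfl⟩ := q_surjective 𝔫 z
    rw [← hqg, q_eq_iff] at hzy
    obtain ⟨n, hn, hgn⟩ := hsm hzy
    refine ⟨x - n, (pull 𝔫 Fb).sub_mem hz (smul_top_le_pull 𝔫 Fb hn), ?_⟩
    rw [map_sub, hgn]; abel

lemma inL_iff (f : H₁ →ₗ[R] H) (g : H →ₗ[R] H₂) (F₁ : Submodule R H₁) (F₂ : Submodule R H₂)
    (Fb : Submodule (R ⧸ 𝔫) ((R ⧸ 𝔫) ⊗[R] H)) (F : Submodule R H) :
    (F ⊓ LinearMap.range f = Submodule.map f F₁ ∧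
      Submodule.baseChange (R ⧸ 𝔫) F = Fb ∧ Submodule.map g F = F₂) ↔
      InL f g F₁ F₂ 𝔫 (pull 𝔫 Fb) F := by
  unfold InL
  rw [baseChange_eq_iff]

theorem main_exists (f : H₁ →ₗ[R] H) (g : H →ₗ[R] H₂)
    (hf : Function.Injective f) (hg : Function.Surjective g) (hfg : Function.Exact f g)
    [Module.Projective R H₂] (F₁ : Submodule R H₁) (F₂ : Submodule R H₂)
    [Module.Projective R (H₁ ⧸ F₁)] [Module.Projective R (H₂ ⧸ F₂)]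
    (Fb : Submodule (R ⧸ 𝔫) ((R ⧸ 𝔫) ⊗[R] H))
    (h1 : Fb ⊓ LinearMap.range (f.baseChange (R ⧸ 𝔫)) =
      Submodule.map (f.baseChange (R ⧸ 𝔫)) (F₁.baseChange (R ⧸ 𝔫)))
    (h2 : Submodule.map (g.baseChange (R ⧸ 𝔫)) Fb = F₂.baseChange (R ⧸ 𝔫)) :
    ∃ F : Submodule R H, (∃ C : Submodule R H, IsCompl F C) ∧
      F ⊓ LinearMap.range f = Submodule.map f F₁ ∧
      F.baseChange (R ⧸ 𝔫) = Fb ∧ Submodule.map g F = F₂ := by
  have h := hyp_of 𝔫 f g hf hg hfg F₁ F₂ Fb h1 h2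
  obtain ⟨F, hC, hF⟩ := exists_lift h
  exact ⟨F, hC, (inL_iff 𝔫 f g F₁ F₂ Fb F).2 hF⟩

theorem main_torsor (f : H₁ →ₗ[R] H) (g : H →ₗ[R] H₂)
    (hf : Function.Injective f) (hg : Function.Surjective g) (hfg : Function.Exact f g)
    [Module.Projective R H₂] (F₁ : Submodule R H₁) (F₂ : Submodule R H₂)
    [Module.Projective R (H₁ ⧸ F₁)] [Module.Projective R (H₂ ⧸ F₂)]
    (Fb : Submodule (R ⧸ 𝔫) ((R ⧸ 𝔫) ⊗[R] H))
    (h1 : Fb ⊓ LinearMap.range (f.baseChange (R ⧸ 𝔫)) =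
      Submodule.map (f.baseChange (R ⧸ 𝔫)) (F₁.baseChange (R ⧸ 𝔫)))
    (h2 : Submodule.map (g.baseChange (R ⧸ 𝔫)) Fb = F₂.baseChange (R ⧸ 𝔫))
    (F F' : Submodule R H)
    (hF : (∃ C : Submodule R H, IsCompl (F) C) ∧
      (F) ⊓ LinearMap.range f = Submodule.map f F₁ ∧
      Submodule.baseChange (R ⧸ 𝔫) (F) = Fb ∧ Submodule.map g (F) = F₂)
    (hF' : (∃ C : Submodule R H, IsCompl (F') C) ∧
      (F') ⊓ LinearMap.range f = Submodule.map f F₁ ∧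
      Submodule.baseChange (R ⧸ 𝔫) (F') = Fb ∧ Submodule.map g (F') = F₂) :
    (∀ u : H₂ →ₗ[R] H₁, (∀ y : H₂, u y ∈ 𝔫 • (⊤ : Submodule R H₁)) →
      (∃ C : Submodule R H, IsCompl (Submodule.map (LinearMap.id + f ∘ₗ u ∘ₗ g) F) C) ∧
      (Submodule.map (LinearMap.id + f ∘ₗ u ∘ₗ g) F) ⊓ LinearMap.range f = Submodule.map f F₁ ∧
      Submodule.baseChange (R ⧸ 𝔫) (Submodule.map (LinearMap.id + f ∘ₗ u ∘ₗ g) F) = Fb ∧
        Submodule.map g (Submodule.map (LinearMap.id + f ∘ₗ u ∘ₗ g) F) = F₂) ∧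
    (∀ u : H₂ →ₗ[R] H₁, (∀ y : H₂, u y ∈ 𝔫 • (⊤ : Submodule R H₁)) →
      (Submodule.map (LinearMap.id + f ∘ₗ u ∘ₗ g) F = F ↔ ∀ y ∈ F₂, u y ∈ 𝔫 • F₁)) ∧
    (∃ u : H₂ →ₗ[R] H₁, (∀ y : H₂, u y ∈ 𝔫 • (⊤ : Submodule R H₁)) ∧
      F' = Submodule.map (LinearMap.id + f ∘ₗ u ∘ₗ g) F) := by
  have h := hyp_of 𝔫 f g hf hg hfg F₁ F₂ Fb h1 h2
  have hL := (inL_iff 𝔫 f g F₁ F₂ Fb F).1 hF.2
  have hL' := (inL_iff 𝔫 f g F₁ F₂ Fb F').1 hF'.2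
  obtain ⟨ρ₁, hρ₁, hρ₁'⟩ := exists_retraction F₁
  obtain ⟨ρ₂, hρ₂, hρ₂'⟩ := exists_retraction F₂
  haveI := projective_of_retraction ρ₂ hρ₂ hρ₂'
  refine ⟨fun u hu => ?_, fun u hu => ?_, ?_⟩
  · exact ⟨exists_isCompl_map h u hF.1,
      (inL_iff 𝔫 f g F₁ F₂ Fb _).2 (inL_map h u hu hL)⟩
  · exact map_eq_iff h ρ₁ hρ₁ hρ₁' u hu hL
  · exact exists_u h ρ₂ hρ₂ hρ₂' hL hL'

end translate

end Groth.Agent.H82.FiltLift
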