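import Groth.Prelude.Def_ActBC
import Mathlib

set_option autoImplicit false
universe u
open CategoryTheory CategoryTheory.Limits MonoidalCategory CartesianMonoidalCategory MonObj GrpObj AlgebraicGeometry

namespace Groth.Agent.H82.FinConnTors

section A

variable {S : Scheme.{u}} {G X : Over S} [GrpObj G]

/-- a point of a group with "one-point" unit section, from a reduced scheme, is the unit -/
theorem eq_one_of_isReduced [IsSeparated G.hom] (hsurj : Surjective (η[G]).left)
    {T : Over S} [IsReduced T.left] (g : T ⟶ G) : g = toUnit T ≫ η[G] := by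
  have hw : (η[G]).left ≫ G.hom = 𝟙 S := Over.w η[G]
  have : IsClosedImmersion ((η[G]).left ≫ G.hom) :=
    hw ▸ (inferInstance : IsClosedImmersion (𝟙 S))
  have hci : IsClosedImmersion (η[G]).left := IsClosedImmersion.of_comp (η[G]).left G.hom
  have h1 : IsClosedImmersion (pullback.fst g.left (η[G]).left) := inferInstance
  have h2 : Surjective (pullback.fst g.left (η[G]).left) := inferInstance
  have h3 : IsIso (pullback.fst g.left (η[G]).left) :=
    isIso_of_isClosedImmersion_of_surjective _
  ext
  have e1 : g.left = (inv (pullback.fst g.left (η[G]).left) ≫ pullback.snd g.left (η[G]).left) ≫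
      (η[G]).left := by
    rw [Category.assoc, ← pullback.condition, IsIso.inv_hom_id_assoc]
  have e2 : inv (pullback.fst g.left (η[G]).left) ≫ pullback.snd g.left (η[G]).left = T.hom := by
    have := congrArg (· ≫ G.hom) e1
    simp only [Category.assoc, hw, Over.w] at this
    exact this.symm
  rw [e1, e2, Over.comp_left]
  congr 1

/-- in a pseudo-torsor under such a group, two points from a reduced scheme coincide -/
theorem pts_subsingleton_of_isReduced [IsSeparated G.hom] (hsurj : Surjective (η[G]).left)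
    (a : AlgGrp.Action G X) (hps : NonAbH1.IsPseudoTorsorSch a)
    {T : Over S} [IsReduced T.left] (x₁ x₂ : T ⟶ X) : x₁ = x₂ := by
  have : IsIso (lift a.act (snd G X)) := hps
  set p : T ⟶ G ⊗ X := lift x₂ x₁ ≫ inv (lift a.act (snd G X)) with hp
  have hp' : p ≫ lift a.act (snd G X) = lift x₂ x₁ := by
    rw [hp, Category.assoc, IsIso.inv_hom_id, Category.comp_id]
  have h1 : p ≫ a.act = x₂ := by
    have := congrArg (· ≫ fst X X) hp'
    simpa using this
  have h2 : p ≫ snd G X = x₁ := by
    have := congrArg (· ≫ snd X X) hp'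
    simpa using this
  have h3 : p ≫ fst G X = toUnit T ≫ η[G] := eq_one_of_isReduced hsurj _
  have h4 : p = lift (toUnit T ≫ η[G]) x₁ := by
    apply CartesianMonoidalCategory.hom_ext <;> simp [h2, h3]
  rw [← h1, h4]
  have : lift (toUnit T ≫ η[G]) x₁ = lift (toUnit T) x₁ ≫ (η[G] ▷ X) := by
    apply CartesianMonoidalCategory.hom_ext <;> simp
  rw [this, Category.assoc, a.one_act]
  simp

end A

section M

variable {K : Type u} [Field K]

theorem subsingleton_of_finite_connected {Y : Scheme.{u}} (f : Y ⟶ Spec (CommRingCat.of K))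
    [IsFinite f] [ConnectedSpace Y] : Subsingleton Y := by
  have hsub : ∀ y : Spec (CommRingCat.of K), f ⁻¹' {y} = Set.univ := by
    intro y
    ext z
    simp only [Set.mem_preimage, Set.mem_singleton_iff, Set.mem_univ, iff_true]
    exact Subsingleton.elim _ _
  have y0 : Spec (CommRingCat.of K) := f (Classical.arbitrary Y)
  have h1 := f.isDiscrete_preimage_singleton y0
  rw [hsub, isDiscrete_univ_iff] at h1
  exact PreconnectedSpace.trivial_of_discrete

/-- descent of morphisms along a flat surjective quasi-compact morphism -/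
theorem exists_desc {S : Scheme.{u}} {P Q X : Over S} (q : P ⟶ Q) [Flat q.left] [Surjective q.left]
    [QuasiCompact q.left] (ψ : P ⟶ X)
    (h : ∀ (W : Over S) (g₁ g₂ : W ⟶ P), g₁ ≫ q = g₂ ≫ q → g₁ ≫ ψ = g₂ ≫ ψ) :
    ∃ φ : Q ⟶ X, q ≫ φ = ψ := by
  have : Epi q.left := Flat.epi_of_flat_of_surjective q.left
  have hE : EffectiveEpi q.left := inferInstance
  have hcoh : ∀ {Z : Scheme.{u}} (g₁ g₂ : Z ⟶ P.left), g₁ ≫ q.left = g₂ ≫ q.left →
      g₁ ≫ ψ.left = g₂ ≫ ψ.left := by
    intro Z g₁ g₂ hg
    have hw : g₂ ≫ P.hom = g₁ ≫ P.hom := by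
      rw [← Over.w q, ← Category.assoc, ← Category.assoc, hg]
    have := h (Over.mk (g₁ ≫ P.hom)) (Over.homMk g₁ rfl) (Over.homMk g₂ hw)
      (by ext; exact hg)
    exact congrArg (fun t => t.left) this
  let φ₀ : Q.left ⟶ X.left := EffectiveEpi.desc q.left ψ.left hcoh
  have hfac : q.left ≫ φ₀ = ψ.left := EffectiveEpi.fac q.left ψ.left hcoh
  have hw : φ₀ ≫ X.hom = Q.hom := by
    rw [← cancel_epi q.left, ← Category.assoc, hfac, Over.w ψ, Over.w q]
  exact ⟨Over.homMk φ₀ hw, by ext; exact hfac⟩

open TensorProduct in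
theorem isReduced_pullback_self (L : Type u) [Field L] [Algebra K L] [Module.Finite K L]
    [Algebra.FormallyUnramified K L] :
    IsReduced (pullback (Spec.map (CommRingCat.ofHom (algebraMap K L)))
      (Spec.map (CommRingCat.ofHom (algebraMap K L)))) := by
  have h1 : IsReduced (L ⊗[K] L) := Algebra.FormallyUnramified.isReduced_of_field L (L ⊗[K] L)
  have h2 : IsReduced (Spec (CommRingCat.of (L ⊗[K] L))) := inferInstance
  exact isReduced_of_isOpenImmersion (pullbackSpecIso K L L).hom

theorem main_M (G X : Over (Spec (CommRingCat.of K))) [GrpObj G] [IsFinite G.hom]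
    [ConnectedSpace G.left] (a : AlgGrp.Action G X) (hps : NonAbH1.IsPseudoTorsorSch a)
    (L : Type u) [Field L] [Algebra K L] [Module.Finite K L] [Algebra.FormallyUnramified K L]
    (x : Spec (CommRingCat.of L) ⟶ X.left)
    (hx : x ≫ X.hom = Spec.map (CommRingCat.ofHom (algebraMap K L))) :
    NonAbH1.HasSectionOver X (𝟙 (Spec (CommRingCat.of K))) := by
  set f := Spec.map (CommRingCat.ofHom (algebraMap K L)) with hf
  have hsub : Subsingleton G.left := subsingleton_of_finite_connected G.hom
  have hsurj : Surjective (η[G]).left := by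
    refine ⟨fun g => ?_⟩
    have y0 : Spec (CommRingCat.of K) := G.hom g
    exact ⟨y0, Subsingleton.elim _ _⟩
  have hred : IsReduced (pullback f f) := isReduced_pullback_self L
  -- the two pullbacks of x agree
  let TR : Over (Spec (CommRingCat.of K)) := Over.mk (pullback.fst f f ≫ f)
  have : IsReduced TR.left := hred
  let x₁ : TR ⟶ X := Over.homMk (pullback.fst f f ≫ x) (by
    simp only [Category.assoc, hx]; rfl)
  let x₂ : TR ⟶ X := Over.homMk (pullback.snd f f ≫ x) (by
    simp only [Category.assoc, hx]; exact pullback.condition.symm)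
  have h12 : x₁ = x₂ := pts_subsingleton_of_isReduced hsurj a hps x₁ x₂
  have h12' : pullback.fst f f ≫ x = pullback.snd f f ≫ x := congrArg (fun t => t.left) h12
  -- descent
  let P : Over (Spec (CommRingCat.of K)) := Over.mk f
  let Q : Over (Spec (CommRingCat.of K)) := Over.mk (𝟙 _)
  let q : P ⟶ Q := Over.homMk f (by simp [P, Q])
  let ψ : P ⟶ X := Over.homMk x hx
  have hflat : Flat q.left := by
    change Flat f
    rw [hf, HasRingHomProperty.Spec_iff (P := @Flat), CommRingCat.hom_ofHom,
      RingHom.flat_algebraMap_iff]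
    infer_instance
  have hsj : Surjective q.left := by
    change Surjective f
    refine ⟨fun y => ?_⟩
    have x0 : Spec (CommRingCat.of L) := Classical.arbitrary _
    exact ⟨x0, Subsingleton.elim _ _⟩
  have hqc : QuasiCompact q.left := by
    change QuasiCompact f
    infer_instance
  obtain ⟨φ, hφ⟩ := exists_desc q ψ (by
    intro W g₁ g₂ hg
    ext
    have hg' : g₁.left ≫ f = g₂.left ≫ f := congrArg (fun t => t.left) hg
    change g₁.left ≫ x = g₂.left ≫ x
    rw [← pullback.lift_fst g₁.left g₂.left hg', Category.assoc, h12', ← Category.assoc,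
      pullback.lift_snd])
  exact ⟨φ.left, Over.w φ⟩

end M

section B

variable {K : Type u} [Field K]

/-- a nonempty scheme locally of finite type over a field has a point with values in a finite
extension. -/
theorem exists_finite_point {T : Scheme.{u}} (u : T ⟶ Spec (CommRingCat.of K))
    [LocallyOfFiniteType u] [Nonempty T] :
    ∃ (C : Type u) (_ : CommRing C) (_ : Algebra K C) (_ : Algebra.FiniteType K C)
      (m : Ideal C) (_ : m.IsMaximal) (y : Spec (CommRingCat.of (C ⧸ m)) ⟶ T),
      y ≫ u = Spec.map (CommRingCat.ofHom (algebraMap K (C ⧸ m))) ∧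
      (AlgebraicGeometry.FormallyUnramified u → Algebra.FormallyUnramified K C) := by
  obtain ⟨t⟩ := ‹Nonempty T›
  obtain ⟨W, hW, htW, -⟩ := exists_isAffineOpen_mem_and_subset
    (TopologicalSpace.Opens.mem_top t)
  let ψ : CommRingCat.of K ⟶ Γ(T, W) := Spec.preimage (hW.fromSpec ≫ u)
  have hψ : Spec.map ψ = hW.fromSpec ≫ u := Spec.map_preimage _
  let _ : Algebra K Γ(T, W) := ψ.hom.toAlgebra
  have hft : Algebra.FiniteType K Γ(T, W) := by
    have : LocallyOfFiniteType (Spec.map ψ) := by rw [hψ]; infer_instance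
    have := (HasRingHomProperty.Spec_iff (P := @LocallyOfFiniteType)).1 this
    exact this
  have : Nonempty W := ⟨⟨t, htW⟩⟩
  have : Nontrivial Γ(T, W) := inferInstance
  obtain ⟨m, hm⟩ := Ideal.exists_maximal Γ(T, W)
  refine ⟨Γ(T, W), inferInstance, inferInstance, hft, m, hm,
    Spec.map (CommRingCat.ofHom (Ideal.Quotient.mk m)) ≫ hW.fromSpec, ?_, ?_⟩
  · rw [Category.assoc, ← hψ, ← Spec.map_comp]
    rfl
  · intro hu
    have h1 : AlgebraicGeometry.FormallyUnramified hW.fromSpec := inferInstance
    have : AlgebraicGeometry.FormallyUnramified (Spec.map ψ) := by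
      rw [hψ]
      exact MorphismProperty.comp_mem (W := @AlgebraicGeometry.FormallyUnramified) _ _ h1 hu
    have := (HasRingHomProperty.Spec_iff (P := @AlgebraicGeometry.FormallyUnramified)).1 this
    exact this

end B

section Main

variable {K : Type u} [Field K]

theorem main_core (G X : Over (Spec (CommRingCat.of K))) [GrpObj G] [IsFinite G.hom]
    [ConnectedSpace G.left] (a : AlgGrp.Action G X) (hps : NonAbH1.IsPseudoTorsorSch a)
    {T : Scheme.{u}} (u : T ⟶ Spec (CommRingCat.of K)) [LocallyOfFiniteType u] [Nonempty T]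
    (t : T ⟶ X.left) (ht : t ≫ X.hom = u)
    (hunr : AlgebraicGeometry.FormallyUnramified u ∨ PerfectField K) :
    NonAbH1.HasSectionOver X (𝟙 (Spec (CommRingCat.of K))) := by
  obtain ⟨C, _, _, hft, m, hm, y, hy, hC⟩ := exists_finite_point u
  let _ : Field (C ⧸ m) := Ideal.Quotient.field m
  have hft' : Algebra.FiniteType K (C ⧸ m) :=
    hft.of_surjective (Ideal.Quotient.mkₐ K m) (Ideal.Quotient.mkₐ_surjective K m)
  have hfin : Module.Finite K (C ⧸ m) := finite_of_finite_type_of_isJacobsonRing K (C ⧸ m)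
  have hunr' : Algebra.FormallyUnramified K (C ⧸ m) := by
    rcases hunr with h | h
    · have := hC h
      exact Algebra.FormallyUnramified.of_surjective (Ideal.Quotient.mkₐ K m)
        (Ideal.Quotient.mkₐ_surjective K m)
    · have : Algebra.IsSeparable K (C ⧸ m) := inferInstance
      exact Algebra.FormallyUnramified.of_isSeparable K (C ⧸ m)
  refine main_M G X a hps (C ⧸ m) (y ≫ t) ?_
  rw [Category.assoc, ht, hy]

theorem main_etale (K : Type u) [Field K]
    (G X : Over (Spec (CommRingCat.of K))) [GrpObj G] [IsFinite G.hom] [ConnectedSpace G.left]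
    (a : AlgGrp.Action G X) (h : NonAbH1.IsTorsorFor Scheme.etalePrecoverage a) :
    NonAbH1.HasSectionOver X (𝟙 (Spec (CommRingCat.of K))) := by
  obtain ⟨hps, R, hR, hsec⟩ := h
  obtain ⟨I, Y, g, rfl⟩ := Presieve.exists_eq_ofArrows R
  rw [Scheme.etalePrecoverage, Scheme.ofArrows_mem_precoverage_iff] at hR
  obtain ⟨i, y, -⟩ := hR.1 (Classical.arbitrary _)
  obtain ⟨t, ht⟩ := hsec (g i) ⟨i⟩
  have : Etale (g i) := hR.2 i
  have : Nonempty (Y i) := ⟨y⟩
  exact main_core G X a hps (g i) t ht (Or.inl inferInstance)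

theorem main_fppf (K : Type u) [Field K] [PerfectField K]
    (G X : Over (Spec (CommRingCat.of K))) [GrpObj G] [IsFinite G.hom] [ConnectedSpace G.left]
    (a : AlgGrp.Action G X) (h : NonAbH1.IsTorsorFor Scheme.fppfPrecoverage a) :
    NonAbH1.HasSectionOver X (𝟙 (Spec (CommRingCat.of K))) := by
  obtain ⟨hps, R, hR, hsec⟩ := h
  obtain ⟨I, Y, g, rfl⟩ := Presieve.exists_eq_ofArrows R
  rw [Scheme.fppfPrecoverage, Scheme.ofArrows_mem_precoverage_iff] at hR
  obtain ⟨i, y, -⟩ := hR.1 (Classical.arbitrary _)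
  obtain ⟨t, ht⟩ := hsec (g i) ⟨i⟩
  have : LocallyOfFinitePresentation (g i) := (hR.2 i).2
  have : Nonempty (Y i) := ⟨y⟩
  exact main_core G X a hps (g i) t ht (Or.inr inferInstance)

end Main

end Groth.Agent.H82.FinConnTors
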