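import Mathlib
import Groth.Agent.H93.TakeuchiCoinv

/-!
# The trace of a finite commutative Hopf algebra is an integral, and consequences
-/

set_option autoImplicit false
set_option linter.style.haveILetI false
universe u
open TensorProduct Coalgebra HopfAlgebra

namespace Groth.Agent.H82.HopfTrace

variable (k : Type u) [Field k] (A : Type u) [CommRing A] [HopfAlgebra k A]

/-- The shear map `a ⊗ c ↦ (a ⊗ 1) Δ(c)`, an `A`-algebra endomorphism of `A ⊗ A`. -/
noncomputable def shear : A ⊗[k] A →ₐ[A] A ⊗[k] A :=
  Algebra.TensorProduct.lift (Algebra.ofId A (A ⊗[k] A)) (Bialgebra.comulAlgHom k A)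
    (fun _ _ => Commute.all _ _)

lemma shear_tmul (a c : A) : shear k A (a ⊗ₜ[k] c) = (a ⊗ₜ[k] (1 : A)) * comul (R := k) c := by
  unfold shear
  rw [Algebra.TensorProduct.lift_tmul]
  rfl

/-- `u ⊗ y ↦ (S u ⊗ 1) y`. -/
noncomputable def phi : A ⊗[k] (A ⊗[k] A) →ₗ[k] A ⊗[k] A :=
  TensorProduct.lift
    ((LinearMap.mul k (A ⊗[k] A)).comp
      ((Algebra.TensorProduct.includeLeft : A →ₐ[k] A ⊗[k] A).toLinearMap.comp (antipode k)))

lemma phi_tmul (u : A) (y : A ⊗[k] A) :
    phi k A (u ⊗ₜ[k] y) = (antipode k u ⊗ₜ[k] (1 : A)) * y := rfl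

lemma phi_lTensor_comul (y : A ⊗[k] A) :
    phi k A ((comul (R := k) (A := A)).lTensor A y) =
      shear k A ((antipode k (A := A)).rTensor A y) := by
  induction y using TensorProduct.induction_on with
  | zero => simp
  | tmul u v =>
    rw [LinearMap.lTensor_tmul, phi_tmul, LinearMap.rTensor_tmul, shear_tmul]
  | add x y hx hy => simp only [map_add, hx, hy]

lemma phi_assoc_rTensor_comul (y : A ⊗[k] A) :
    phi k A (TensorProduct.assoc k A A A ((comul (R := k) (A := A)).rTensor A y)) =
      ((Algebra.linearMap k A).comp (counit (R := k) (A := A))).rTensor A y := by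
  induction y using TensorProduct.induction_on with
  | zero => simp
  | tmul x r =>
    rw [LinearMap.rTensor_tmul, LinearMap.rTensor_tmul, LinearMap.comp_apply,
      Algebra.linearMap_apply, ← mul_antipode_rTensor_comul_apply (R := k) x]
    generalize comul (R := k) x = z
    induction z using TensorProduct.induction_on with
    | zero => simp
    | tmul p q =>
      rw [TensorProduct.assoc_tmul, phi_tmul, LinearMap.rTensor_tmul, LinearMap.mul'_apply,
        Algebra.TensorProduct.tmul_mul_tmul, one_mul]
    | add z w hz hw => simp only [TensorProduct.add_tmul, map_add, hz, hw]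
  | add x y hx hy => simp only [map_add, hx, hy]

/-- `shear (Σ S(c₁) ⊗ c₂) = 1 ⊗ c`. -/
theorem shear_antipode (c : A) :
    shear k A ((antipode k (A := A)).rTensor A (comul (R := k) c)) = (1 : A) ⊗ₜ[k] c := by
  rw [← phi_lTensor_comul, ← Coalgebra.coassoc_apply, phi_assoc_rTensor_comul]
  have h := Coalgebra.rTensor_counit_comul (R := k) c
  have h2 : ((Algebra.linearMap k A).comp (counit (R := k) (A := A))).rTensor A =
      ((Algebra.linearMap k A).rTensor A).comp ((counit (R := k) (A := A)).rTensor A) :=
    LinearMap.rTensor_comp _ _ _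
  rw [h2, LinearMap.comp_apply, h, LinearMap.rTensor_tmul, Algebra.linearMap_apply, map_one]


theorem shear_surjective : Function.Surjective (shear k A) := by
  intro y
  induction y using TensorProduct.induction_on with
  | zero => exact ⟨0, map_zero _⟩
  | tmul a c =>
    refine ⟨a • ((antipode k (A := A)).rTensor A (comul (R := k) c)), ?_⟩
    rw [map_smul, shear_antipode, TensorProduct.smul_tmul', smul_eq_mul, mul_one]
  | add x y hx hy =>
    obtain ⟨x', rfl⟩ := hx
    obtain ⟨y', rfl⟩ := hy
    exact ⟨x' + y', map_add _ _ _⟩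

variable [Module.Finite k A]

theorem shear_bijective : Function.Bijective (shear k A) :=
  OrzechProperty.bijective_of_surjective_endomorphism (shear k A).toLinearMap
    (shear_surjective k A)

/-- The shear map as an `A`-algebra automorphism. -/
noncomputable def shearEquiv : (A ⊗[k] A) ≃ₐ[A] (A ⊗[k] A) :=
  AlgEquiv.ofBijective (shear k A) (shear_bijective k A)

lemma shearEquiv_one_tmul (b : A) : shearEquiv k A ((1 : A) ⊗ₜ[k] b) = comul (R := k) b := by
  have : shearEquiv k A ((1 : A) ⊗ₜ[k] b) = shear k A ((1 : A) ⊗ₜ[k] b) := rfl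
  rw [this, shear_tmul]
  exact one_mul _

/-- The trace over the left factor of `1 ⊗ b`. -/
theorem trace_one_tmul (b : A) :
    Algebra.trace A (A ⊗[k] A) ((1 : A) ⊗ₜ[k] b) = algebraMap k A (Algebra.trace k A b) := by
  rw [Algebra.trace_apply, Algebra.trace_apply, ← LinearMap.trace_baseChange]
  congr 1
  apply LinearMap.ext
  intro y
  induction y using TensorProduct.induction_on with
  | zero => simp
  | tmul u v => simp
  | add x y hx hy => simp only [map_add, hx, hy]

/-- The trace of a finite commutative Hopf algebra is a left integral, in the form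
`Tr_{A ⊗ A / A}(Δ b) = Tr_{A/k}(b)`. -/
theorem trace_comul (b : A) :
    Algebra.trace A (A ⊗[k] A) (comul (R := k) b) = algebraMap k A (Algebra.trace k A b) := by
  rw [← shearEquiv_one_tmul, Algebra.trace_eq_of_algEquiv, trace_one_tmul]


lemma trace_tmul (u v : A) :
    Algebra.trace A (A ⊗[k] A) (u ⊗ₜ[k] v) = Algebra.trace k A v • u := by
  have h : u ⊗ₜ[k] v = u • ((1 : A) ⊗ₜ[k] v) := by
    rw [TensorProduct.smul_tmul', smul_eq_mul, mul_one]
  rw [h, map_smul, trace_one_tmul, smul_eq_mul, Algebra.smul_def, mul_comm]

/-- The radical of the trace form. -/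
noncomputable def traceRad : Submodule k A := LinearMap.ker (Algebra.traceForm k A)

lemma mem_traceRad_iff (a : A) : a ∈ traceRad k A ↔ ∀ c, Algebra.trace k A (a * c) = 0 := by
  unfold traceRad
  rw [LinearMap.mem_ker]
  constructor
  · intro h c
    have := LinearMap.congr_fun h c
    simpa [Algebra.traceForm_apply] using this
  · intro h
    apply LinearMap.ext
    intro c
    simpa [Algebra.traceForm_apply] using h c

lemma mul_mem_traceRad (s : A) {a : A} (ha : a ∈ traceRad k A) : s * a ∈ traceRad k A := by
  rw [mem_traceRad_iff] at ha ⊢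
  intro c
  rw [mul_comm s a, mul_assoc]
  exact ha _

/-- If `a` is in the radical of the trace form, then `Δ a` is in the radical of the trace form of
`A ⊗ A` over `A`. -/
theorem trace_comul_mul_eq_zero {a : A} (ha : a ∈ traceRad k A) (x : A ⊗[k] A) :
    Algebra.trace A (A ⊗[k] A) (comul (R := k) a * x) = 0 := by
  obtain ⟨y, rfl⟩ := shear_surjective k A x
  induction y using TensorProduct.induction_on with
  | zero => simp
  | tmul u r =>
    rw [shear_tmul]
    have h1 : comul (R := k) a * (u ⊗ₜ[k] (1 : A) * comul (R := k) r) =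
        u • comul (R := k) (a * r) := by
      rw [Bialgebra.comul_mul, Algebra.smul_def, Algebra.TensorProduct.algebraMap_apply]
      simp only [Algebra.algebraMap_self, RingHom.id_apply]
      ring
    rw [h1, map_smul, trace_comul, (mem_traceRad_iff k A a).mp ha r, map_zero, smul_zero]
  | add x y hx hy => rw [map_add, mul_add, map_add, hx, hy, add_zero]

/-- The radical of the trace form is a left coideal. -/
theorem slice_comul_mem_traceRad {a : A} (ha : a ∈ traceRad k A) (φ : A →ₗ[k] k) :
    TensorProduct.lid k A (φ.rTensor A (comul (R := k) a)) ∈ traceRad k A := by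
  rw [mem_traceRad_iff]
  intro c
  have key : ∀ x : A ⊗[k] A, Algebra.trace k A (TensorProduct.lid k A (φ.rTensor A x) * c) =
      φ (Algebra.trace A (A ⊗[k] A) (x * ((1 : A) ⊗ₜ[k] c))) := by
    intro x
    induction x using TensorProduct.induction_on with
    | zero => simp
    | tmul u v =>
      rw [LinearMap.rTensor_tmul, TensorProduct.lid_tmul, Algebra.TensorProduct.tmul_mul_tmul,
        mul_one, trace_tmul, map_smul, smul_mul_assoc, map_smul, smul_eq_mul, smul_eq_mul, mul_comm]
    | add x y hx hy => simp only [map_add, add_mul, hx, hy]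
  rw [key, trace_comul_mul_eq_zero k A ha, map_zero]


/-- `u ⊗ v ↦ Σ u₁ ⊗ S(u₂) v`. -/
noncomputable def tau : A ⊗[k] A →ₗ[k] A ⊗[k] A :=
  ((LinearMap.mul' k A ∘ₗ (antipode k (A := A)).rTensor A).lTensor A) ∘ₗ
    (TensorProduct.assoc k A A A).toLinearMap ∘ₗ (comul (R := k) (A := A)).rTensor A

omit [Module.Finite k A] in
theorem tau_comul (a : A) : tau k A (comul (R := k) a) = a ⊗ₜ[k] (1 : A) := by
  unfold tau
  rw [LinearMap.comp_apply, LinearMap.comp_apply, LinearEquiv.coe_coe, Coalgebra.coassoc_apply,
    ← LinearMap.comp_apply, ← LinearMap.lTensor_comp]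
  have h : (LinearMap.mul' k A ∘ₗ (antipode k (A := A)).rTensor A) ∘ₗ comul (R := k) (A := A) =
      (Algebra.linearMap k A) ∘ₗ counit (R := k) (A := A) := by
    rw [LinearMap.comp_assoc]
    exact HopfAlgebra.mul_antipode_rTensor_comul
  rw [h, LinearMap.lTensor_comp, LinearMap.comp_apply, Coalgebra.lTensor_counit_comul,
    LinearMap.lTensor_tmul, Algebra.linearMap_apply, map_one]

theorem lTensor_trace_tau_eq_zero (z : A ⊗[k] (traceRad k A)) :
    (Algebra.trace k A).lTensor A (tau k A ((traceRad k A).subtype.lTensor A z)) = 0 := by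
  induction z using TensorProduct.induction_on with
  | zero => simp
  | tmul u n =>
    rw [LinearMap.lTensor_tmul, Submodule.subtype_apply]
    unfold tau
    rw [LinearMap.comp_apply, LinearMap.comp_apply, LinearMap.rTensor_tmul, LinearEquiv.coe_coe]
    generalize comul (R := k) u = y
    induction y using TensorProduct.induction_on with
    | zero => simp
    | tmul p q =>
      rw [TensorProduct.assoc_tmul, LinearMap.lTensor_tmul, LinearMap.comp_apply,
        LinearMap.rTensor_tmul, LinearMap.mul'_apply, LinearMap.lTensor_tmul]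
      have := (mem_traceRad_iff k A _).mp (mul_mem_traceRad k A (antipode k q) n.2) 1
      rw [mul_one] at this
      rw [this, TensorProduct.tmul_zero]
    | add y w hy hw => simp only [TensorProduct.add_tmul, map_add, hy, hw, add_zero]
  | add x y hx hy => simp only [map_add, hx, hy, add_zero]

/-- **Nondegeneracy of the trace form** of a finite commutative Hopf algebra whose dimension is
invertible in the base field. -/
theorem traceRad_eq_bot (h1 : Algebra.trace k A 1 ≠ 0) : traceRad k A = ⊥ := by
  rw [eq_bot_iff]
  intro a ha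
  have hmem : comul (R := k) a ∈ LinearMap.range ((traceRad k A).subtype.lTensor A) := by
    rw [Groth.Agent.H93.Takeuchi.mem_range_lTensor_subtype_iff]
    intro φ
    exact slice_comul_mem_traceRad k A ha φ
  obtain ⟨z, hz⟩ := hmem
  have h2 := lTensor_trace_tau_eq_zero k A z
  rw [hz, tau_comul, LinearMap.lTensor_tmul] at h2
  have h3 := congrArg (TensorProduct.rid k A) h2
  rw [TensorProduct.rid_tmul, map_zero] at h3
  rw [Submodule.mem_bot]
  exact (smul_eq_zero.mp h3).resolve_left h1


/-- A finite commutative Hopf algebra with `Tr(1) ≠ 0` is reduced. -/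
theorem isReduced_of_trace_one_ne_zero (h1 : Algebra.trace k A 1 ≠ 0) : IsReduced A := by
  refine ⟨fun b hb => ?_⟩
  have hmem : b ∈ traceRad k A := by
    rw [mem_traceRad_iff]
    intro c
    have hnil : IsNilpotent (Algebra.lmul k A (b * c)) :=
      (Commute.isNilpotent_mul_right (Commute.all b c) hb).map (Algebra.lmul k A)
    rw [Algebra.trace_apply]
    exact (LinearMap.isNilpotent_trace_of_isNilpotent hnil).eq_zero
  rw [traceRad_eq_bot k A h1] at hmem
  exact hmem

omit [HopfAlgebra k A] in
lemma trace_one_eq [Algebra k A] [Module.Finite k A] :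
    Algebra.trace k A 1 = (Module.finrank k A : k) := by
  have := Algebra.trace_algebraMap (R := k) (S := A) (1 : k)
  rw [map_one] at this
  rw [this]
  simp

attribute [local instance] IsArtinianRing.fieldOfSubtypeIsMaximal in
/-- A reduced finite algebra over an algebraically closed field is étale. -/
theorem etale_of_isReduced_of_isAlgClosed (K : Type u) [Field K] [IsAlgClosed K] (B : Type u)
    [CommRing B] [Algebra K B] [Module.Finite K B] [IsReduced B] : Algebra.Etale K B := by
  haveI : IsArtinianRing B := isArtinian_of_tower K inferInstance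
  haveI : Algebra.FormallyEtale K B := by
    rw [Algebra.FormallyEtale.iff_exists_algEquiv_prod]
    refine ⟨MaximalSpectrum B, inferInstance, fun I => B ⧸ I.asIdeal, inferInstance, inferInstance,
      (IsArtinianRing.equivPi B).restrictScalars K, fun I => ?_⟩
    haveI : Algebra.IsAlgebraic K (B ⧸ I.asIdeal) := Algebra.IsAlgebraic.of_finite K _
    infer_instance
  haveI : Algebra.FinitePresentation K B :=
    Algebra.FinitePresentation.of_finiteType.mp inferInstance
  exact ⟨inferInstance, inferInstance⟩

/-- **A finite commutative Hopf algebra over a field whose dimension is invertible in the field is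
étale.** -/
theorem etale_of_finrank_ne_zero (h : (Module.finrank k A : k) ≠ 0) : Algebra.Etale k A := by
  let K := AlgebraicClosure k
  haveI : Module.Finite K (K ⊗[k] A) := inferInstance
  have h1 : Algebra.trace K (K ⊗[k] A) 1 ≠ 0 := by
    rw [trace_one_eq, Module.finrank_baseChange]
    intro h0
    apply h
    apply (algebraMap k K).injective
    rw [map_natCast, map_zero]
    exact h0
  haveI : IsReduced (K ⊗[k] A) := isReduced_of_trace_one_ne_zero K (K ⊗[k] A) h1
  haveI : Algebra.Etale K (K ⊗[k] A) := etale_of_isReduced_of_isAlgClosed K (K ⊗[k] A)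
  exact Algebra.Etale.of_etale_tensorProduct_of_faithfullyFlat K

end Groth.Agent.H82.HopfTrace
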