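import Mathlib
import Groth.Agent.H82.HopfTrace
import Groth.Agent.H93.PointScheme
import Groth.Agent.H25.FibreEtale
import Groth.Prelude.Def_Red

/-!
# Finite group schemes of invertible order are étale
-/

set_option autoImplicit false
set_option linter.style.haveILetI false
universe u
open CategoryTheory CategoryTheory.Limits MonoidalCategory CartesianMonoidalCategory MonObj GrpObj
  AlgebraicGeometry

namespace Groth.Agent.H82.FinGrpEtale

section field

variable (k : Type u) [Field k] (G : Over (Spec (CommRingCat.of k))) [GrpObj G] [IsFinite G.hom]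

theorem etale_of_field (pt : ↥(Spec (CommRingCat.of k)))
    (h : (Scheme.Hom.finrank G.hom pt : k) ≠ 0) : Etale G.hom := by
  haveI : IsAffine G.left := isAffine_of_isAffineHom G.hom
  letI hopf : HopfAlgebra k Γ(G.left, ⊤) := Groth.Agent.H93.PointScheme.hopfΓ k G
  have hG0 : Spec.map (CommRingCat.ofHom (algebraMap k Γ(G.left, ⊤))) =
      G.left.isoSpec.inv ≫ G.hom := Groth.Agent.H93.PointScheme.algebraMap_eq k G
  have hG : G.hom = G.left.isoSpec.hom ≫
      Spec.map (CommRingCat.ofHom (algebraMap k Γ(G.left, ⊤))) := by
    rw [hG0, Iso.hom_inv_id_assoc]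
  have hfin : IsFinite (Spec.map (CommRingCat.ofHom (algebraMap k Γ(G.left, ⊤)))) := by
    rw [hG0]
    infer_instance
  haveI : Module.Finite k Γ(G.left, ⊤) := by
    rw [IsFinite.SpecMap_iff] at hfin
    exact RingHom.finite_algebraMap.mp hfin
  have hrank : Scheme.Hom.finrank G.hom pt = Module.finrank k Γ(G.left, ⊤) := by
    rw [hG]
    haveI : Flat (Spec.map (CommRingCat.ofHom (algebraMap k Γ(G.left, ⊤)))) := by
      rw [Flat.SpecMap_iff]
      exact (RingHom.flat_algebraMap_iff).mpr inferInstance
    rw [Scheme.Hom.finrank_comp_left_of_isIso, Scheme.Hom.finrank_SpecMap_algebraMap]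
    rw [Module.rankAtStalk_eq_finrank_of_free]
    rfl
  rw [hrank] at h
  haveI : Algebra.Etale k Γ(G.left, ⊤) :=
    Groth.Agent.H82.HopfTrace.etale_of_finrank_ne_zero k Γ(G.left, ⊤) h
  rw [hG]
  haveI : Etale (Spec.map (CommRingCat.ofHom (algebraMap k Γ(G.left, ⊤)))) := by
    rw [HasRingHomProperty.Spec_iff (P := @Etale)]
    exact RingHom.etale_algebraMap.mpr inferInstance
  infer_instance

end field


section general

variable {S : Scheme.{u}} (G : Over S) [GrpObj G]

/-- base change of a finite group scheme to a residue field -/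
theorem etale_fibre [IsFinite G.hom] [Flat G.hom] (s : S)
    (h : (Scheme.Hom.finrank G.hom s : S.residueField s) ≠ 0) :
    Etale (pullback.snd G.hom (S.fromSpecResidueField s)) := by
  let Gs : Over (Spec (CommRingCat.of (S.residueField s))) := Red.bc (S.fromSpecResidueField s) G
  letI : GrpObj Gs := Red.grpObj_bc (S.fromSpecResidueField s) G
  haveI : IsFinite Gs.hom := by
    change IsFinite (pullback.snd G.hom (S.fromSpecResidueField s))
    infer_instance
  have key := etale_of_field (S.residueField s) Gs (IsLocalRing.closedPoint (S.residueField s)) ?_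
  · exact key
  · change ((pullback.snd G.hom (S.fromSpecResidueField s)).finrank _ : S.residueField s) ≠ 0
    rw [Scheme.Hom.finrank_pullback_snd]
    have : S.fromSpecResidueField s (IsLocalRing.closedPoint (S.residueField s)) = s :=
      Scheme.fromSpecResidueField_apply _ _
    rw [this]
    exact h

/-- étaleness can be checked on the fibres `X ×_S Spec κ(s)`, for flat finitely presented `f`. -/
theorem etale_of_fibres_residueField {X : Scheme.{u}} (f : X ⟶ S) [Flat f]
    [LocallyOfFinitePresentation f]
    (h : ∀ s : S, Etale (pullback.snd f (S.fromSpecResidueField s))) : Etale f := by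
  haveI : LocallyOfFinitePresentation (f ≫ 𝟙 S) := by rw [Category.comp_id]; infer_instance
  haveI : Flat (f ≫ 𝟙 S) := by rw [Category.comp_id]; infer_instance
  refine Groth.Agent.H25.FibreEtale.etale_of_fibres f (𝟙 S) fun s => ?_
  -- `(𝟙 S).fiberι s = snd ≫ fromSpecResidueField`
  have hι : (𝟙 S : S ⟶ S).fiberι s =
      (𝟙 S : S ⟶ S).fiberToSpecResidueField s ≫ S.fromSpecResidueField s := by
    have := (𝟙 S : S ⟶ S).fiber_fac s
    rw [Category.comp_id] at this
    exact this
  -- pasting
  let l : pullback f ((𝟙 S : S ⟶ S).fiberι s) ⟶ pullback f (S.fromSpecResidueField s) :=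
    pullback.lift (pullback.fst _ _)
      (pullback.snd _ _ ≫ (𝟙 S : S ⟶ S).fiberToSpecResidueField s)
      (by rw [pullback.condition, Category.assoc, ← hι])
  have hsq : IsPullback l (pullback.snd f ((𝟙 S : S ⟶ S).fiberι s))
      (pullback.snd f (S.fromSpecResidueField s))
      ((𝟙 S : S ⟶ S).fiberToSpecResidueField s) := by
    refine IsPullback.of_right ?_ (pullback.lift_snd _ _ _)
      (IsPullback.of_hasPullback f (S.fromSpecResidueField s))
    rw [pullback.lift_fst, ← hι]
    exact IsPullback.of_hasPullback f _
  haveI := h s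
  exact MorphismProperty.of_isPullback (P := @Etale) hsq inferInstance

theorem main [IsFinite G.hom] [Flat G.hom] [LocallyOfFinitePresentation G.hom]
    (h : ∀ s : S, (Scheme.Hom.finrank G.hom s : S.residueField s) ≠ 0) : Etale G.hom :=
  etale_of_fibres_residueField G.hom fun s => etale_fibre G s (h s)

end general

end Groth.Agent.H82.FinGrpEtale
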