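import Mathlib
import Groth.Agent.H82.FinGrpEtale

/-!
# Quasi-finite flat group schemes with fibres of invertible order are étale
-/

set_option autoImplicit false
set_option linter.style.haveILetI false
universe u
open CategoryTheory CategoryTheory.Limits MonoidalCategory CartesianMonoidalCategory MonObj GrpObj
  AlgebraicGeometry

namespace Groth.Agent.H82.FinGrpEtale2

variable {S : Scheme.{u}} (G : Over S) [GrpObj G]

theorem etale_fibre_of_quasiFinite [LocallyQuasiFinite G.hom] [QuasiCompact G.hom] (s : S)
    (h : ∀ x : ↥(Spec (S.residueField s)),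
      ((pullback.snd G.hom (S.fromSpecResidueField s)).finrank x : S.residueField s) ≠ 0) :
    Etale (pullback.snd G.hom (S.fromSpecResidueField s)) := by
  let Gs : Over (Spec (CommRingCat.of (S.residueField s))) := Red.bc (S.fromSpecResidueField s) G
  letI : GrpObj Gs := Red.grpObj_bc (S.fromSpecResidueField s) G
  haveI : IsFinite (pullback.snd G.hom (S.fromSpecResidueField s)) :=
    IsFinite.of_locallyQuasiFinite _
  haveI : IsFinite Gs.hom := by
    change IsFinite (pullback.snd G.hom (S.fromSpecResidueField s))
    infer_instance
  exact Groth.Agent.H82.FinGrpEtale.etale_of_field (S.residueField s) Gs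
    (IsLocalRing.closedPoint (S.residueField s)) (h _)

theorem main [LocallyQuasiFinite G.hom] [QuasiCompact G.hom] [Flat G.hom]
    [LocallyOfFinitePresentation G.hom]
    (h : ∀ (s : S) (x : ↥(Spec (S.residueField s))),
      ((pullback.snd G.hom (S.fromSpecResidueField s)).finrank x : S.residueField s) ≠ 0) :
    Etale G.hom :=
  Groth.Agent.H82.FinGrpEtale.etale_of_fibres_residueField G.hom fun s =>
    etale_fibre_of_quasiFinite G s (h s)

end Groth.Agent.H82.FinGrpEtale2
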