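import Mathlib
import Groth.Agent.H82.FittBlow2

set_option autoImplicit false

namespace Groth.Agent.H82.FittBlow

universe u

open TensorProduct

section cover

variable {R : Type u} [CommRing R] (M : Type u) [AddCommGroup M] [Module R M]

/-- A finite module with `f ∈ √Fit_r(M)` is a quotient of a finitely presented module with the
same property. -/
theorem exists_fp_cover [Module.Finite R M] (f : R) (r : ℕ)
    (hf : f ∈ (Fitt.ideal R M r).radical) :
    ∃ (n : ℕ) (K : Submodule R (Fin n → R)) (ρ : ((Fin n → R) ⧸ K) →ₗ[R] M),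
      K.FG ∧ Function.Surjective ρ ∧ f ∈ (Fitt.ideal R ((Fin n → R) ⧸ K) r).radical := by
  classical
  obtain ⟨n, x, hx⟩ := Module.Finite.exists_fin (R := R) (M := M)
  obtain ⟨N, hN⟩ := hf
  rw [Groth.Agent.Lead.fitt_ideal_eq_minorIdeal x hx r] at hN
  unfold Groth.Agent.Lead.minorIdeal at hN
  obtain ⟨s, c, g, hsum⟩ := Submodule.mem_span_set'.mp hN
  choose z e hz hdet using fun i => (g i).2
  let K : Submodule R (Fin n → R) :=
    Submodule.span R (Set.range fun p : Fin s × Fin (n - r) => z p.1 p.2)
  have hKfg : K.FG := Submodule.fg_span (Set.finite_range _)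
  have hzK : ∀ i b, z i b ∈ K := fun i b => Submodule.subset_span ⟨(i, b), rfl⟩
  have hKle : K ≤ LinearMap.ker (Fintype.linearCombination R x) := by
    rw [← Groth.Agent.Lead.relations_eq_ker, Submodule.span_le]
    rintro _ ⟨p, rfl⟩
    exact hz p.1 p.2
  let x₁ : Fin n → ((Fin n → R) ⧸ K) := fun i => K.mkQ (Pi.single i 1)
  have hcomb : ∀ v : Fin n → R, ∑ i, v i • x₁ i = K.mkQ v := by
    intro v
    simp only [x₁, ← map_smul, ← map_sum]
    congr 1
    funext j
    simp [Finset.sum_apply, Pi.single_apply]
  have hx₁ : Submodule.span R (Set.range x₁) = ⊤ := by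
    rw [eq_top_iff]
    rintro y -
    obtain ⟨v, rfl⟩ := Submodule.mkQ_surjective K y
    rw [← hcomb v]
    exact Submodule.sum_mem _ fun i _ => Submodule.smul_mem _ _ (Submodule.subset_span ⟨i, rfl⟩)
  have hrel : Groth.Agent.Lead.relations R x₁ = K := by
    ext v
    rw [Groth.Agent.Lead.mem_relations, hcomb v, Submodule.mkQ_apply,
      Submodule.Quotient.mk_eq_zero]
  refine ⟨n, K, K.liftQ (Fintype.linearCombination R x) hKle, hKfg, ?_, N, ?_⟩
  · rw [← LinearMap.range_eq_top, Submodule.range_liftQ, LinearMap.range_eq_top]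
    exact Groth.Agent.Lead.linearCombination_surjective x hx
  · rw [Groth.Agent.Lead.fitt_ideal_eq_minorIdeal x₁ hx₁ r, hrel, ← hsum]
    refine Submodule.sum_mem _ fun i _ => Submodule.smul_mem _ _ ?_
    rw [hdet i]
    exact Groth.Agent.Lead.minor_mem_minorIdeal K (z i) (e i) (hzK i)

/-- Consequences of local freeness of rank `r` on `D(f)`. -/
theorem radical_facts [Module.Finite R M] (f : R) (r : ℕ)
    (hf : ∀ (p : Ideal R) [p.IsPrime], f ∉ p → ∃ g : R, g ∉ p ∧ g ∈ (Ideal.span {f}).radical ∧
      Module.Free (Localization.Away g) (LocalizedModule (Submonoid.powers g) M) ∧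
        Module.finrank (Localization.Away g) (LocalizedModule (Submonoid.powers g) M) = r) :
    f ∈ (Fitt.ideal R M r).radical ∧
      ∀ j, j < r → ∀ d ∈ Fitt.ideal R M j, ∃ N : ℕ, f ^ N * d = 0 := by
  constructor
  · rw [Ideal.radical_eq_sInf, Ideal.mem_sInf]
    rintro p ⟨hJp, hp⟩
    by_contra hfp
    obtain ⟨g, hg, -, hfree, hrank⟩ := hf p hfp
    apply ((Groth.Agent.S6894.result M r p).2.2).mpr ?_ hJp
    refine ⟨g, hg, ?_⟩
    by_cases hnt : Nontrivial (Localization.Away g)
    · have : Module.Finite (Localization.Away g) (LocalizedModule (Submonoid.powers g) M) :=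
        Module.Finite.of_isLocalizedModule (Submonoid.powers g)
          (LocalizedModule.mkLinearMap (Submonoid.powers g) M)
      let b := Module.finBasisOfFinrankEq (Localization.Away g)
        (LocalizedModule (Submonoid.powers g) M) hrank
      exact ⟨fun i => b i, b.span_eq⟩
    · rw [not_nontrivial_iff_subsingleton] at hnt
      have : Subsingleton (LocalizedModule (Submonoid.powers g) M) :=
        Module.subsingleton (Localization.Away g) _
      exact ⟨fun _ => 0, Subsingleton.elim _ _⟩
  · intro j hj d hd
    let J : Ideal R := LinearMap.ker (LinearMap.toSpanSingleton R R d)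
    have hJ : ∀ t, t ∈ J ↔ t * d = 0 := fun t => by
      simp [J, LinearMap.mem_ker, LinearMap.toSpanSingleton_apply]
    have hrad : f ∈ J.radical := by
      rw [Ideal.radical_eq_sInf, Ideal.mem_sInf]
      rintro p ⟨hJp, hp⟩
      by_contra hfp
      obtain ⟨g, hg, -, hfree, hrank⟩ := hf p hfp
      have hzero : algebraMap R (Localization.Away g) d = 0 := by
        by_cases hnt : Nontrivial (Localization.Away g)
        · have : Module.Finite (Localization.Away g) (LocalizedModule (Submonoid.powers g) M) :=
            Module.Finite.of_isLocalizedModule (Submonoid.powers g)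
              (LocalizedModule.mkLinearMap (Submonoid.powers g) M)
          let b := Module.finBasisOfFinrankEq (Localization.Away g)
            (LocalizedModule (Submonoid.powers g) M) hrank
          have h1 := Groth.Agent.Lead.fitt_ideal_eq_bot_of_basis b hj
          rw [Groth.Agent.Lead.fitt_ideal_localization (Submonoid.powers g) (Localization.Away g)
            (LocalizedModule.mkLinearMap (Submonoid.powers g) M) j] at h1
          have h2 : algebraMap R (Localization.Away g) d ∈
              (Fitt.ideal R M j).map (algebraMap R (Localization.Away g)) :=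
            Ideal.mem_map_of_mem _ hd
          rw [h1] at h2
          exact (Submodule.mem_bot _).mp h2
        · rw [not_nontrivial_iff_subsingleton] at hnt
          exact Subsingleton.elim _ _
      obtain ⟨⟨_, m, rfl⟩, hm⟩ :=
        (IsLocalization.map_eq_zero_iff (Submonoid.powers g) (Localization.Away g) d).mp hzero
      exact hg (Ideal.IsPrime.mem_of_pow_mem hp m (hJp ((hJ _).mpr hm)))
    obtain ⟨N, hN⟩ := hrad
    exact ⟨N, (hJ _).mp hN⟩

end cover

section blowup

variable {R : Type u} [CommRing R] (J : Ideal R) (f b : R) (R₁ : Type u) [CommRing R₁] [Algebra R R₁]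
  (e : R₁ ≃ₐ[R] ↥(BlowUp.affineAlgebra R (Ideal.span {f} * J) (f * b)))

include e in
/-- In a chart `R[fJ/fb]` of the blow-up of `fJ`, the ideal `J` becomes principal, generated by
`b`. -/
theorem map_eq_span' (hb : b ∈ J) :
    J.map (algebraMap R R₁) = Ideal.span {algebraMap R R₁ b} := by
  apply le_antisymm
  · rw [Ideal.map_le_iff_le_comap]
    intro x hx
    rw [Ideal.mem_comap, Ideal.mem_span_singleton']
    have hfx : f * x ∈ Ideal.span {f} * J := Ideal.mem_span_singleton_mul.mpr ⟨x, hx, rfl⟩
    let q : ↥(BlowUp.affineAlgebra R (Ideal.span {f} * J) (f * b)) :=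
      ⟨IsLocalization.mk' (Localization.Away (f * b)) (f * x) ⟨f * b, Submonoid.mem_powers _⟩,
        Algebra.subset_adjoin ⟨f * x, hfx, rfl⟩⟩
    refine ⟨e.symm q, ?_⟩
    apply e.injective
    rw [map_mul, e.apply_symm_apply, e.commutes, e.commutes]
    apply Subtype.ext
    change IsLocalization.mk' (Localization.Away (f * b)) (f * x) ⟨f * b, Submonoid.mem_powers _⟩ *
      algebraMap R (Localization.Away (f * b)) b = algebraMap R (Localization.Away (f * b)) x
    have hu : IsUnit (algebraMap R (Localization.Away (f * b)) (f * b)) :=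
      IsLocalization.Away.algebraMap_isUnit (f * b)
    apply hu.mul_left_cancel
    have h1 := IsLocalization.mk'_spec' (Localization.Away (f * b)) (f * x)
      (⟨f * b, Submonoid.mem_powers _⟩ : Submonoid.powers (f * b))
    change algebraMap R (Localization.Away (f * b)) (f * b) * _ = _ at h1
    rw [← mul_assoc, h1, ← map_mul, ← map_mul]
    congr 1
    ring
  · rw [Ideal.span_le, Set.singleton_subset_iff]
    exact Ideal.mem_map_of_mem _ hb

end blowup

end Groth.Agent.H82.FittBlow
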