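import Mathlib
import Groth.Agent.H82.FittBlow3

set_option autoImplicit false

namespace Groth.Agent.H82.FittBlow

universe u

open TensorProduct

variable {R : Type u} [CommRing R] (M : Type u) [AddCommGroup M] [Module R M]

/-- Stacks 15.26.5 -/
theorem exists_ideal_strict_locallyFree [Module.Finite R M] (f : R) (r : ℕ)
    (hf : ∀ (p : Ideal R) [p.IsPrime], f ∉ p → ∃ g : R, g ∉ p ∧ g ∈ (Ideal.span {f}).radical ∧
      Module.Free (Localization.Away g) (LocalizedModule (Submonoid.powers g) M) ∧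
        Module.finrank (Localization.Away g) (LocalizedModule (Submonoid.powers g) M) = r) :
    ∃ I : Ideal R, I.FG ∧ I.radical = (Ideal.span {f}).radical ∧ ∀ a ∈ I, ∀ (R₁ : Type u)
      [CommRing R₁] [Algebra R R₁] (e : R₁ ≃ₐ[R] ↥(BlowUp.affineAlgebra R I a)),
      ∀ (p' : Ideal R₁) [p'.IsPrime], ∃ g : R₁, g ∉ p' ∧
        Module.Free (Localization.Away g) (LocalizedModule (Submonoid.powers g)
          ((R₁ ⊗[R] M) ⧸ FlatCA.powTorsion R₁ (algebraMap R R₁ a) (R₁ ⊗[R] M))) ∧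
        Module.finrank (Localization.Away g) (LocalizedModule (Submonoid.powers g)
          ((R₁ ⊗[R] M) ⧸ FlatCA.powTorsion R₁ (algebraMap R R₁ a) (R₁ ⊗[R] M))) = r := by
  obtain ⟨hrad, hkill⟩ := radical_facts M f r hf
  obtain ⟨n, K, ρ, hKfg, hρ, hrad₁⟩ := exists_fp_cover M f r hrad
  have hfp : Module.FinitePresentation R ((Fin n → R) ⧸ K) :=
    Module.finitePresentation_of_free_of_surjective K.mkQ (Submodule.mkQ_surjective K)
      (by rw [Submodule.ker_mkQ]; exact hKfg)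
  have hJfg : (Fitt.ideal R ((Fin n → R) ⧸ K) r).FG := Groth.Agent.Lead.fitt_ideal_fg r
  refine ⟨Ideal.span {f} * Fitt.ideal R ((Fin n → R) ⧸ K) r,
    Submodule.FG.mul ⟨{f}, by simp⟩ hJfg, ?_, ?_⟩
  · apply le_antisymm
    · exact Ideal.radical_mono Ideal.mul_le_left
    · rw [Ideal.radical_le_radical_iff, Ideal.span_le, Set.singleton_subset_iff]
      obtain ⟨N, hN⟩ := hrad₁
      exact ⟨N + 1, by
        rw [pow_succ']; exact Ideal.mul_mem_mul (Ideal.mem_span_singleton_self f) hN⟩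
  · intro a ha R₁ _ _ e p' _
    obtain ⟨b, hb, rfl⟩ := Ideal.mem_span_singleton_mul.mp ha
    have hnzd := nzd_a _ (f * b) R₁ e
    have hbot : ∀ j, j < r → Fitt.ideal R₁ ((R₁ ⊗[R] M) ⧸
        FlatCA.powTorsion R₁ (algebraMap R R₁ (f * b)) (R₁ ⊗[R] M)) j = ⊥ := by
      intro j hj
      apply fitt_powquot_eq_bot _ j _ hnzd
      rw [Groth.Agent.Lead.fitt_ideal_baseChange, eq_bot_iff, Ideal.map_le_iff_le_comap]
      intro d hd
      obtain ⟨N, hN⟩ := hkill j hj d hd
      rw [Ideal.mem_comap, Submodule.mem_bot]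
      have h1 : algebraMap R R₁ (f * b) ^ N * algebraMap R R₁ d = 0 := by
        rw [← map_pow, ← map_mul]
        have : (f * b) ^ N * d = b ^ N * (f ^ N * d) := by ring
        rw [this, hN, mul_zero, map_zero]
      exact (mul_right_mem_nonZeroDivisors_eq_zero_iff (pow_mem hnzd N)).mp
        ((mul_comm _ _).trans h1)
    have htop : Fitt.ideal R₁ ((R₁ ⊗[R] M) ⧸
        FlatCA.powTorsion R₁ (algebraMap R R₁ (f * b)) (R₁ ⊗[R] M)) r = ⊤ := by
      have h1 : Fitt.ideal R₁ (R₁ ⊗[R] ((Fin n → R) ⧸ K)) r =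
          Ideal.span {algebraMap R R₁ b} := by
        rw [Groth.Agent.Lead.fitt_ideal_baseChange, map_eq_span' _ f b R₁ e hb]
      have h2 := FittSplit.fitt_quot_eq_top (R₁ ⊗[R] ((Fin n → R) ⧸ K)) r (algebraMap R R₁ b) h1
      let ρ₁ : R₁ ⊗[R] ((Fin n → R) ⧸ K) →ₗ[R₁] R₁ ⊗[R] M := LinearMap.baseChange R₁ ρ
      have hρ₁ : Function.Surjective ρ₁ := LinearMap.lTensor_surjective R₁ hρ
      have hle : FittSplit.tors (R₁ ⊗[R] ((Fin n → R) ⧸ K)) (algebraMap R R₁ b) ≤
          (FlatCA.powTorsion R₁ (algebraMap R R₁ (f * b)) (R₁ ⊗[R] M)).comap ρ₁ := by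
        intro y hy
        rw [Submodule.mem_comap, mem_powTorsion]
        refine ⟨1, ?_⟩
        rw [pow_one, ← map_smul, map_mul, mul_smul, (FittSplit.mem_tors _ _ _).mp hy, smul_zero,
          map_zero]
      let ψ := Submodule.mapQ _ _ ρ₁ hle
      have hψ : Function.Surjective ψ := by
        intro y
        obtain ⟨y', rfl⟩ := Submodule.mkQ_surjective _ y
        obtain ⟨m, rfl⟩ := hρ₁ y'
        exact ⟨Submodule.Quotient.mk m, rfl⟩
      have := Groth.Agent.Lead.fitt_ideal_le_of_surjective' ψ hψ r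
      rw [h2] at this
      exact top_le_iff.mp this
    exact (Groth.Agent.S6895.result _ r).mpr
      ⟨hbot, fun j hj => top_le_iff.mp (htop ▸ Groth.Agent.Lead.fitt_ideal_antitone hj)⟩ p'

end Groth.Agent.H82.FittBlow
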