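import Groth.Agent.Lead.Fitting

set_option autoImplicit false
universe u

namespace Groth.Agent.H82.FittCI

open Groth.Agent.Lead

variable {R : Type u} [CommRing R]

/-- Fitting ideals of a quotient of a finite free module. -/
theorem fitt_ideal_quot {n : ℕ} (K : Submodule R (Fin n → R)) (k : ℕ) :
    Fitt.ideal R ((Fin n → R) ⧸ K) k = minorIdeal K (n - k) := by
  classical
  let x : Fin n → (Fin n → R) ⧸ K := fun j => Submodule.Quotient.mk (Pi.single j 1)
  have hsum : ∀ v : Fin n → R, ∑ j, v j • x j = Submodule.Quotient.mk v := by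
    intro v
    have h1 : ∑ j, v j • x j = K.mkQ (∑ j, v j • Pi.single j 1) := by
      rw [map_sum]
      exact Finset.sum_congr rfl fun j _ => by rw [map_smul]; rfl
    rw [h1, Submodule.mkQ_apply]
    congr 1
    ext i
    simp [Finset.sum_apply, Pi.single_apply]
  have hx : Submodule.span R (Set.range x) = ⊤ := by
    rw [eq_top_iff]
    rintro y -
    obtain ⟨v, rfl⟩ := Submodule.Quotient.mk_surjective _ y
    rw [← hsum]
    exact Submodule.sum_mem _ fun j _ => Submodule.smul_mem _ _ (Submodule.subset_span ⟨j, rfl⟩)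
  rw [fitt_ideal_eq_minorIdeal x hx k]
  congr 1
  ext v
  rw [mem_relations, hsum, Submodule.Quotient.mk_eq_zero]

/-- the ideal of maximal minors of a matrix, via rows or via columns -/
theorem minorIdeal_rows_eq_cols {c r : ℕ} (Jm : Fin c → Fin r → R) :
    minorIdeal (Submodule.span R (Set.range fun j : Fin c => fun i : Fin r => Jm j i)) c =
      minorIdeal (Submodule.span R (Set.range fun i : Fin r => fun j : Fin c => Jm j i)) c := by
  rw [minorIdeal_span, minorIdeal_span]
  apply le_antisymm
  · apply Ideal.span_le.mpr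
    rintro d ⟨z, e, hz, rfl⟩
    choose j hj using hz
    apply Ideal.subset_span
    refine ⟨fun b => fun j' => Jm j' (e b), j, fun b => ⟨e b, rfl⟩, ?_⟩
    rw [← Matrix.det_transpose]
    congr 1
    ext a b
    simp only [Matrix.transpose_apply, Matrix.of_apply]
    rw [← hj a]
  · apply Ideal.span_le.mpr
    rintro d ⟨z, e, hz, rfl⟩
    choose i hi using hz
    apply Ideal.subset_span
    refine ⟨fun b => fun i' => Jm (e b) i', i, fun b => ⟨e b, rfl⟩, ?_⟩
    rw [← Matrix.det_transpose]
    congr 1
    ext a b
    simp only [Matrix.transpose_apply, Matrix.of_apply]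
    rw [← hi a]

end Groth.Agent.H82.FittCI
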