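import Groth.Agent.H82.FittCI1
import Mathlib

set_option autoImplicit false
universe u

namespace Groth.Agent.H82.FittCI

open Groth.Agent.Lead MvPolynomial Algebra KaehlerDifferential

variable {k : Type u} [Field k] {r c : ℕ} {B : Type u} [CommRing B] [Algebra k B]
  (φ : MvPolynomial (Fin r) k →ₐ[k] B) (hφ : Function.Surjective φ)
  (a : Fin c → MvPolynomial (Fin r) k)
  (hker : RingHom.ker φ.toRingHom = Ideal.span (Set.range a))

/-- the generators of `B` given by the images of the variables -/
noncomputable def gens : Algebra.Generators k B (Fin r) := Algebra.Generators.ofAlgHom φ hφ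

lemma aeval_val : (aeval (gens φ hφ).val : MvPolynomial (Fin r) k →ₐ[k] B) = φ := by
  apply MvPolynomial.algHom_ext
  intro i
  simp [gens, Algebra.Generators.ofAlgHom]

lemma algebraMap_gens (p : MvPolynomial (Fin r) k) :
    algebraMap (gens φ hφ).Ring B p = φ p := by
  rw [(gens φ hφ).algebraMap_apply, aeval_val]

include hker in
lemma gens_ker : (gens φ hφ).ker = Ideal.span (Set.range a) := by
  rw [Algebra.Generators.ker_eq_ker_aeval_val, aeval_val, ← hker]
  rfl

/-- the Jacobian matrix -/
noncomputable def rho (j : Fin c) (i : Fin r) : B := φ (pderiv i (a j))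

include hker in
lemma a_mem_ker (j : Fin c) : a j ∈ (gens φ hφ).ker := by
  rw [gens_ker φ hφ a hker]; exact Ideal.subset_span ⟨j, rfl⟩

/-- the classes of the equations in the conormal module -/
noncomputable def cls (j : Fin c) : (gens φ hφ).toExtension.Cotangent :=
  Algebra.Extension.Cotangent.mk ⟨a j, a_mem_ker φ hφ a hker j⟩

lemma span_cls : Submodule.span B (Set.range (cls φ hφ a hker)) = ⊤ := by
  have := Algebra.Extension.Cotangent.span_eq_top_of_span_eq_ker
    (P := (gens φ hφ).toExtension) a (gens_ker φ hφ a hker).symm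
  exact this

/-- the Jacobian map on the conormal module, in coordinates -/
noncomputable def Jlin : (gens φ hφ).toExtension.Cotangent →ₗ[B] (Fin r → B) :=
  (gens φ hφ).cotangentSpaceBasis.equivFun.toLinearMap ∘ₗ
    (gens φ hφ).toExtension.cotangentComplex

lemma Jlin_cls (j : Fin c) : Jlin φ hφ (cls φ hφ a hker j) = rho φ a j := by
  ext i
  simp only [Jlin, cls, LinearMap.comp_apply, LinearEquiv.coe_coe, Module.Basis.equivFun_apply,
    Algebra.Extension.cotangentComplex_mk]
  rw [Algebra.Generators.cotangentSpaceBasis_repr_one_tmul, aeval_val]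
  rfl

/-- the generators `d(φ Tᵢ)` of the differentials -/
noncomputable def omega (i : Fin r) : Ω[B⁄k] := D k B (φ (X i))

lemma toKaehler_equivFun_symm (v : Fin r → B) :
    (gens φ hφ).toExtension.toKaehler ((gens φ hφ).cotangentSpaceBasis.equivFun.symm v) =
      ∑ i, v i • omega φ i := by
  rw [Module.Basis.equivFun_symm_apply, map_sum]
  refine Finset.sum_congr rfl fun i _ => ?_
  rw [map_smul, Algebra.Generators.toKaehler_cotangentSpaceBasis]
  simp [omega, gens, Algebra.Generators.ofAlgHom]

include hφ in
lemma span_omega : Submodule.span B (Set.range (omega φ)) = ⊤ := by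
  rw [_root_.eq_top_iff]
  rintro y -
  obtain ⟨z, rfl⟩ := (gens φ hφ).toExtension.toKaehler_surjective y
  obtain ⟨v, rfl⟩ := (gens φ hφ).cotangentSpaceBasis.equivFun.symm.surjective z
  rw [toKaehler_equivFun_symm]
  exact Submodule.sum_mem _ fun i _ => Submodule.smul_mem _ _ (Submodule.subset_span ⟨i, rfl⟩)

include hφ hker in
lemma relations_omega :
    relations B (omega φ) = Submodule.span B (Set.range (rho φ a)) := by
  have h1 : relations B (omega φ) = LinearMap.range (Jlin φ hφ) := by
    ext v
    rw [mem_relations, ← toKaehler_equivFun_symm φ hφ,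
      ((gens φ hφ).toExtension.exact_cotangentComplex_toKaehler _)]
    constructor
    · rintro ⟨y, hy⟩
      refine ⟨y, ?_⟩
      simp only [Jlin, LinearMap.comp_apply, LinearEquiv.coe_coe]
      rw [hy, LinearEquiv.apply_symm_apply]
    · rintro ⟨y, rfl⟩
      refine ⟨y, ?_⟩
      simp only [Jlin, LinearMap.comp_apply, LinearEquiv.coe_coe]
      rw [LinearEquiv.symm_apply_apply]
  rw [h1, LinearMap.range_eq_map, ← span_cls φ hφ a hker, Submodule.map_span, ← Set.range_comp]
  congr 2
  ext j : 1
  exact Jlin_cls φ hφ a hker j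

end Groth.Agent.H82.FittCI
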