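import Groth.Agent.H82.FittCI2
import Groth.Agent.H19.QuasiRegCot
import Groth.Agent.H83.RedSmooth

set_option autoImplicit false
universe u

namespace Groth.Agent.H82.FittCI

open Groth.Agent.Lead MvPolynomial Algebra KaehlerDifferential

variable {k : Type u} [Field k] {r c : ℕ} {B : Type u} [CommRing B] [Algebra k B]
  (φ : MvPolynomial (Fin r) k →ₐ[k] B) (hφ : Function.Surjective φ)
  (a : Fin c → MvPolynomial (Fin r) k)
  (hker : RingHom.ker φ.toRingHom = Ideal.span (Set.range a))

lemma sum_smul_cls (p : Fin c → (gens φ hφ).toExtension.Ring) :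
    ∑ j, algebraMap (gens φ hφ).toExtension.Ring B (p j) • cls φ hφ a hker j =
      Algebra.Extension.Cotangent.mk (P := (gens φ hφ).toExtension)
        (∑ j, p j • (⟨a j, a_mem_ker φ hφ a hker j⟩ : (gens φ hφ).toExtension.ker)) := by
  rw [map_sum]
  refine Finset.sum_congr rfl fun j _ => ?_
  rw [LinearMap.map_smul, algebraMap_smul]
  rfl

include hφ hker in
/-- linear independence of the classes of a regular sequence in the conormal module -/
lemma cls_indep (ha : RingTheory.Sequence.IsWeaklyRegular (MvPolynomial (Fin r) k) (List.ofFn a))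
    (b : Fin c → B) (hb : ∑ j, b j • cls φ hφ a hker j = 0) : b = 0 := by
  choose p hp using fun j => hφ (b j)
  let p' : Fin c → (gens φ hφ).toExtension.Ring := p
  have h1 : ∑ j, algebraMap (gens φ hφ).toExtension.Ring B (p j) • cls φ hφ a hker j = 0 := by
    rw [← hb]
    refine Finset.sum_congr rfl fun j _ => ?_
    have : algebraMap (gens φ hφ).toExtension.Ring B (p j) = b j :=
      (algebraMap_gens φ hφ (p j)).trans (hp j)
    rw [this]
  rw [sum_smul_cls φ hφ a hker p', Algebra.Extension.Cotangent.mk_eq_zero_iff] at h1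
  have h2 : ∑ j, p j * a j ∈ Ideal.span (Set.range a) ^ (1 + 1) := by
    have h3 : (gens φ hφ).toExtension.ker = Ideal.span (Set.range a) := gens_ker φ hφ a hker
    rw [← h3]
    have h5 : ((∑ j, p' j •
        (⟨a j, a_mem_ker φ hφ a hker j⟩ : (gens φ hφ).toExtension.ker) :
        (gens φ hφ).toExtension.ker) : (gens φ hφ).toExtension.Ring) = ∑ j, p j * a j := by
      rw [Submodule.coe_sum]
      rfl
    rw [← h5]
    exact h1
  have hqr := Groth.Agent.H19.QReg.isQuasiRegular_of_isWeaklyRegular a ha
  funext j
  have h4 := hqr 1 (Groth.Agent.H19.QRegCot.linv p) (Groth.Agent.H19.QRegCot.linv_isHomogeneous p)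
    (by rw [Groth.Agent.H19.QRegCot.eval_linv]; exact h2) (Finsupp.single j 1)
  rw [Groth.Agent.H19.QRegCot.coeff_linv, ← hker] at h4
  rw [Pi.zero_apply, ← hp j]
  exact h4

include hker in
/-- the Jacobian map on the conormal module is injective for a reduced complete intersection
over an algebraically closed field -/
lemma Jlin_injective [IsAlgClosed k] [IsReduced B]
    (ha : RingTheory.Sequence.IsWeaklyRegular (MvPolynomial (Fin r) k) (List.ofFn a)) :
    Function.Injective (Jlin φ hφ) := by
  rw [injective_iff_map_eq_zero]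
  intro h hh
  have hcc : (gens φ hφ).toExtension.cotangentComplex h = 0 := by
    have := congrArg (gens φ hφ).cotangentSpaceBasis.equivFun.symm hh
    simpa [Jlin] using this
  have hmem : h ∈ Submodule.span B (Set.range (cls φ hφ a hker)) := by
    rw [span_cls]; trivial
  obtain ⟨b, rfl⟩ := (Submodule.mem_span_range_iff_exists_fun B).mp hmem
  have hft : Algebra.FiniteType k B := Algebra.FiniteType.of_surjective φ hφ
  suffices hb : b = 0 by simp [hb]
  funext j
  have hnil : b j ∈ nilradical B := by
    rw [nilradical, ← Ideal.sInf_minimalPrimes, Ideal.mem_sInf]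
    intro p hp
    have hp' : p ∈ minimalPrimes B := hp
    haveI := hp'.1.1
    have hsm := Groth.Agent.H83.RedSmooth.minimalPrime_mem_smoothLocus (k := k) p hp'
    rw [Algebra.smoothLocus_eq_compl_support_inter] at hsm
    have hns := hsm.1
    rw [Set.mem_compl_iff, Module.notMem_support_iff'] at hns
    let h' : (gens φ hφ).toExtension.H1Cotangent := ⟨_, hcc⟩
    obtain ⟨s, hs, hsm⟩ := hns ((gens φ hφ).equivH1Cotangent h')
    rw [← map_smul, LinearEquiv.map_eq_zero_iff] at hsm
    have h5 : s • ∑ j, b j • cls φ hφ a hker j = 0 := congrArg Subtype.val hsm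
    rw [Finset.smul_sum] at h5
    simp only [smul_smul] at h5
    have h6 := cls_indep φ hφ a hker ha (fun j => s * b j) h5
    have h7 : s * b j = 0 := congrFun h6 j
    exact (hp'.1.1.mem_or_mem (h7 ▸ p.zero_mem)).resolve_left hs
  rw [nilradical_eq_zero] at hnil
  exact hnil

end Groth.Agent.H82.FittCI
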