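import Groth.Agent.H82.FittCI1
import Groth.Agent.H9.ExtBaseChange
import Groth.Agent.Lead.FittingLoc

set_option autoImplicit false
universe u

namespace Groth.Agent.H82.FittCI

open Groth.Agent.Lead CategoryTheory CategoryTheory.Abelian Groth.Agent.H9.ExtBaseChange

variable {R : Type u} [CommRing R] {M : Type u} [AddCommGroup M] [Module R M]
  {c r : ℕ} (ρ : Fin c → Fin r → R) (ω : Fin r → M)

/-- the Jacobian matrix as a linear map -/
noncomputable def Jmat : (Fin c → R) →ₗ[R] (Fin r → R) := Fintype.linearCombination R ρ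

/-- the presentation map -/
noncomputable def Gmat : (Fin r → R) →ₗ[R] M := Fintype.linearCombination R ω

lemma Jmat_apply (v : Fin c → R) : Jmat ρ v = ∑ j, v j • ρ j := rfl
lemma Gmat_apply (v : Fin r → R) : Gmat ω v = ∑ i, v i • ω i := rfl

lemma range_Jmat : LinearMap.range (Jmat ρ) = Submodule.span R (Set.range ρ) :=
  Fintype.range_linearCombination R ρ

lemma ker_Gmat : LinearMap.ker (Gmat ω) = relations R ω := by
  ext v; rfl

variable (hspan : Submodule.span R (Set.range ω) = ⊤)
  (hrel : relations R ω = Submodule.span R (Set.range ρ))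
  (hinj : Function.Injective (Jmat ρ))

/-- the short complex `0 → R^c → R^r → M → 0` -/
noncomputable abbrev presSC (hrel : relations R ω = Submodule.span R (Set.range ρ)) :
    ShortComplex (ModuleCat.{u} R) :=
  ShortComplex.mk (ModuleCat.ofHom (Jmat ρ)) (ModuleCat.ofHom (Gmat ω)) (by
    rw [← ModuleCat.ofHom_comp]
    have : Gmat ω ∘ₗ Jmat ρ = 0 := by
      apply LinearMap.ext
      intro v
      have : Jmat ρ v ∈ LinearMap.ker (Gmat ω) := by
        rw [ker_Gmat, hrel, ← range_Jmat]; exact ⟨v, rfl⟩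
      exact this
    rw [this]
    rfl)

include hspan hinj in
lemma presSC_shortExact : (presSC ρ ω hrel).ShortExact := by
  refine ModuleCat.shortComplex_shortExact _ ?_ hinj ?_
  · intro v
    show Gmat ω v = 0 ↔ v ∈ Set.range (Jmat ρ)
    rw [← LinearMap.mem_ker, ker_Gmat, hrel, ← range_Jmat]
    rfl
  · show Function.Surjective (Gmat ω)
    rw [← LinearMap.range_eq_top, Gmat, Fintype.range_linearCombination, hspan]

end Groth.Agent.H82.FittCI

namespace Groth.Agent.H82.FittCI

open Groth.Agent.Lead CategoryTheory CategoryTheory.Abelian Groth.Agent.H9.ExtBaseChange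

variable {R : Type u} [CommRing R] {M : Type u} [AddCommGroup M] [Module R M]
  {c r : ℕ} (ρ : Fin c → Fin r → R) (ω : Fin r → M)

/-- the columns of the Jacobian matrix -/
def kappa (i : Fin r) (j : Fin c) : R := ρ j i

lemma piEquiv_comp_Jmat (w : Fin r → R) :
    (Module.piEquiv (Fin r) R R w) ∘ₗ Jmat ρ =
      Module.piEquiv (Fin c) R R (∑ i, w i • kappa ρ i) := by
  apply LinearMap.ext
  intro v
  rw [LinearMap.comp_apply, Module.piEquiv_apply_apply, Module.piEquiv_apply_apply]
  simp only [Jmat_apply, Finset.sum_apply, Pi.smul_apply, smul_eq_mul, kappa]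
  simp only [Finset.sum_mul, Finset.mul_sum]
  rw [Finset.sum_comm]
  refine Finset.sum_congr rfl fun j _ => Finset.sum_congr rfl fun i _ => ?_
  ring

/-- `Ext⁰(R^c, R) ≃ R^c` -/
noncomputable def Psi : Ext.{u} (ModuleCat.of R (Fin c → R)) (ModuleCat.of R R) 0 ≃ₗ[R]
    (Fin c → R) :=
  (e₀ (ModuleCat.of R (Fin c → R)) (ModuleCat.of R R)) ≪≫ₗ (Module.piEquiv (Fin c) R R).symm

lemma Psi_pre₀ (hrel : relations R ω = Submodule.span R (Set.range ρ))
    (x : Ext.{u} (presSC ρ ω hrel).X₂ (ModuleCat.of R R) 0) :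
    Psi (c := c) (pre₀ (ModuleCat.of R R) (presSC ρ ω hrel).f x) =
      ∑ i, ((Module.piEquiv (Fin r) R R).symm (e₀ _ _ x)) i • kappa ρ i := by
  set w := (Module.piEquiv (Fin r) R R).symm (e₀ _ _ x) with hw
  have hx : e₀ _ _ x = Module.piEquiv (Fin r) R R w := by
    rw [hw, LinearEquiv.apply_symm_apply]
  rw [eq_mk₀ _ _ x, pre₀_mk₀, Psi, LinearEquiv.trans_apply, e₀_mk₀, LinearEquiv.symm_apply_eq,
    ← piEquiv_comp_Jmat, ← hx]
  rfl

lemma map_Psi_range (hrel : relations R ω = Submodule.span R (Set.range ρ)) :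
    Submodule.map (Psi (c := c) (R := R)).toLinearMap
      (LinearMap.range (pre₀ (ModuleCat.of R R) (presSC ρ ω hrel).f)) =
      Submodule.span R (Set.range (kappa ρ)) := by
  apply le_antisymm
  · rintro _ ⟨_, ⟨x, rfl⟩, rfl⟩
    rw [LinearEquiv.coe_coe, Psi_pre₀]
    exact Submodule.sum_mem _ fun i _ => Submodule.smul_mem _ _ (Submodule.subset_span ⟨i, rfl⟩)
  · rw [Submodule.span_le]
    rintro _ ⟨i, rfl⟩
    classical
    refine ⟨_, ⟨(e₀ _ _).symm (Module.piEquiv (Fin r) R R (Pi.single i 1)), rfl⟩, ?_⟩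
    rw [LinearEquiv.coe_coe, Psi_pre₀, LinearEquiv.apply_symm_apply, LinearEquiv.symm_apply_apply]
    simp [Pi.single_apply]

include ω in
theorem fitt_ext_one (hspan : Submodule.span R (Set.range ω) = ⊤)
    (hrel : relations R ω = Submodule.span R (Set.range ρ))
    (hinj : Function.Injective (Jmat ρ)) :
    Fitt.ideal R (Ext.{u} (ModuleCat.of R M) (ModuleCat.of R R) 1) 0 =
      minorIdeal (Submodule.span R (Set.range (kappa ρ))) c := by
  have hS := presSC_shortExact ρ ω hspan hrel hinj
  haveI : Projective (presSC ρ ω hrel).X₂ := by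
    show Projective (ModuleCat.of R (Fin r → R))
    exact ModuleCat.projective_of_categoryTheory_projective _
  let e1 := extOneEquiv hS (ModuleCat.of R R)
  let e2 := Submodule.Quotient.equiv _ _ (Psi (c := c) (R := R)) (map_Psi_range ρ ω hrel)
  have := fitt_ideal_congr (e1.symm ≪≫ₗ e2) 0
  rw [fitt_ideal_quot] at this
  exact this

end Groth.Agent.H82.FittCI
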