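import Groth.Agent.H82.FittCI3
import Groth.Agent.H82.FittCI4

set_option autoImplicit false
universe u

namespace Groth.Agent.H82.FittCI

open Groth.Agent.Lead MvPolynomial Algebra KaehlerDifferential CategoryTheory

variable {k : Type u} [Field k] {r c : ℕ} {B : Type u} [CommRing B] [Algebra k B]
  (φ : MvPolynomial (Fin r) k →ₐ[k] B) (hφ : Function.Surjective φ)
  (a : Fin c → MvPolynomial (Fin r) k)
  (hker : RingHom.ker φ.toRingHom = Ideal.span (Set.range a))

include hφ hker in
lemma Jmat_rho_injective [IsAlgClosed k] [IsReduced B]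
    (ha : RingTheory.Sequence.IsWeaklyRegular (MvPolynomial (Fin r) k) (List.ofFn a)) :
    Function.Injective (Jmat (rho φ a)) := by
  rw [injective_iff_map_eq_zero]
  intro v hv
  have h1 : Jmat (rho φ a) v = Jlin φ hφ (∑ j, v j • cls φ hφ a hker j) := by
    rw [Jmat_apply, map_sum]
    refine Finset.sum_congr rfl fun j _ => ?_
    rw [map_smul, Jlin_cls]
  rw [h1] at hv
  have h2 := Jlin_injective φ hφ a hker ha (hv.trans (map_zero _).symm)
  exact cls_indep φ hφ a hker ha v h2

include hφ hker in
theorem main [IsAlgClosed k] [IsReduced B]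
    (ha : RingTheory.Sequence.IsRegular (MvPolynomial (Fin r) k) (List.ofFn a)) :
    Fitt.ideal B Ω[B⁄k] (r - c) =
      Fitt.ideal B (Abelian.Ext.{u} (ModuleCat.of B Ω[B⁄k]) (ModuleCat.of B B) 1) 0 := by
  rcases subsingleton_or_nontrivial B with hB | hB
  · ext x
    have : x = 0 := Subsingleton.elim _ _
    simp [this]
  have hspan := span_omega φ hφ
  have hrel := relations_omega φ hφ a hker
  have hinj := Jmat_rho_injective φ hφ a hker ha.toIsWeaklyRegular
  have hcr : c ≤ r := le_of_fin_injective B (Jmat (rho φ a)) hinj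
  rw [fitt_ideal_eq_minorIdeal (omega φ) hspan (r - c), hrel,
    fitt_ext_one (rho φ a) (omega φ) hspan hrel hinj, Nat.sub_sub_self hcr]
  exact minorIdeal_rows_eq_cols (rho φ a)

end Groth.Agent.H82.FittCI
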