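import Groth.Agent.H82.FlagSimple
import Groth.Agent.H82.Chev
import Groth.Agent.H93.CoalgHom

/-! Applications of the flag lemma: closed subgroups of trigonalizable groups. -/

set_option autoImplicit false
universe u v w w'

open TensorProduct HopfRep

namespace Groth.Agent.H82.FlagApps

open Groth.Agent.H40 Groth.Agent.H82.FlagSimple

section LinAlg

variable {k : Type u} [Field k] {V : Type w} [AddCommGroup V] [Module k V]

lemma exists_sup_span [Module.Finite k V] (F F' : Submodule k V) (hle : F ≤ F')
    (h : Module.finrank k F' = Module.finrank k F + 1) :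
    ∃ x, F' = F ⊔ Submodule.span k {x} := by
  have hne : ¬ F' ≤ F := by
    intro h'
    have := Submodule.finrank_mono h'
    omega
  obtain ⟨x, hxF', hxF⟩ := Set.not_subset.mp hne
  refine ⟨x, ?_⟩
  symm
  have hle' : F ⊔ Submodule.span k {x} ≤ F' :=
    sup_le hle ((Submodule.span_singleton_le_iff_mem x F').mpr hxF')
  apply Submodule.eq_of_le_of_finrank_le hle'
  have hlt : F < F ⊔ Submodule.span k {x} := by
    apply lt_of_le_of_ne le_sup_left
    intro heq
    apply hxF
    rw [heq]
    exact (le_sup_right : Submodule.span k {x} ≤ _) (Submodule.mem_span_singleton_self x)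
  have := Submodule.finrank_lt_finrank_of_lt hlt
  omega

end LinAlg

section Flag

variable {k : Type u} [Field k] {A : Type v} [AddCommGroup A] [Module k A] [Coalgebra k A]

/-- a flag with one-generator steps, for trigonalizable coalgebras -/
theorem exists_flag_gen
    (hT : ∀ (W : Type v) [AddCommGroup W] [Module k W] [Comod k A W], Module.Finite k W →
      IsSimpleComod k A W → Module.finrank k W = 1)
    (V : Type v) [AddCommGroup V] [Module k V] [Comod k A V] [Module.Finite k V] :
    ∃ (n : ℕ) (F : ℕ → Submodule k V), F 0 = ⊥ ∧ F n = ⊤ ∧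
      (∀ i, IsSubcomod (k := k) (A := A) (F i)) ∧
      ∀ i, i < n → ∃ x, F (i + 1) = F i ⊔ Submodule.span k {x} := by
  obtain ⟨F, hmono, hsub, hrk⟩ := Groth.Agent.H83.exists_flag hT V
  refine ⟨Module.finrank k V, F, ?_, ?_, hsub, ?_⟩
  · exact Submodule.finrank_eq_zero.mp (hrk 0 (Nat.zero_le _))
  · exact Submodule.eq_top_of_finrank_eq (hrk _ le_rfl)
  · intro i hi
    apply exists_sup_span _ _ (hmono (Nat.le_succ i))
    rw [hrk i (le_of_lt hi), hrk (i + 1) hi]

end Flag

section ClosedSubgroup

variable {k : Type u} [Field k] {A : Type v} [CommRing A] [Bialgebra k A]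
  {B : Type v} [CommRing B] [Bialgebra k B]

open Groth.Agent.H93 in
/-- a coalgebra map is a comodule map from the pushed regular comodule to the regular comodule -/
theorem isComodHom_push_regular (π : A →ₗc[k] B) :
    @Hoch.IsComodHom k _ B _ _ _ A _ _ (pushComod (V := A) π) B _ _ (Comod.regular k B)
      (π : A →ₗ[k] B) := by
  unfold Hoch.IsComodHom
  change CoalgebraStruct.comul ∘ₗ (π : A →ₗ[k] B) =
    (π : A →ₗ[k] B).rTensor B ∘ₗ ((π : A →ₗ[k] B).lTensor A ∘ₗ CoalgebraStruct.comul)
  rw [← LinearMap.comp_assoc, LinearMap.rTensor_comp_lTensor]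
  exact (CoalgHomClass.map_comp_comul π).symm

open Groth.Agent.H93 in
/-- quotients (closed subgroups) of trigonalizable are trigonalizable -/
theorem trig_of_surjective (hT : IsTrigonalizable k A) (π : A →ₗc[k] B)
    (hπ : Function.Surjective π) : IsTrigonalizable k B := by
  intro W' _ _ cW hfin hs
  obtain ⟨j, hj, hjinj⟩ := exists_embedding_regular hs
  have hX : IsSimpleSub k B (LinearMap.range j) := isSimpleSub_range hs j hj hjinj
  -- a finite-dimensional `A`-subcomodule of `A` mapping onto the image
  have hXfin : Module.Finite k (LinearMap.range j) := inferInstance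
  let b := Module.finBasis k (LinearMap.range j)
  choose f hf using fun i => hπ (b i : B)
  obtain ⟨V₀, hV₀, hV₀fin, hfV₀⟩ := Groth.Agent.H82.Chev.exists_finite_subcomod
    (k := k) (C := A) (V := A) f
  have hXle : LinearMap.range j ≤ V₀.map (π : A →ₗ[k] B) := by
    intro x hx
    have hx' : (⟨x, hx⟩ : LinearMap.range j) ∈ Submodule.span k (Set.range b) := by
      rw [b.span_eq]; exact Submodule.mem_top
    have : x ∈ Submodule.map (LinearMap.range j).subtype (Submodule.span k (Set.range b)) :=
      ⟨⟨x, hx⟩, hx', rfl⟩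
    rw [Submodule.map_span] at this
    refine Submodule.span_le.mpr ?_ this
    rintro _ ⟨_, ⟨i, rfl⟩, rfl⟩
    exact ⟨f i, hfV₀ i, hf i⟩
  -- the flag upstairs
  letI cV₀ : Comod k A V₀ := subComod V₀ hV₀
  obtain ⟨n, F, hF0, hFn, hFsub, hFstep⟩ := exists_flag_gen hT V₀
  -- transport to `B`
  letI cA : Comod k B A := pushComod (V := A) π
  have hpush : ∀ U : Submodule k A, IsSubcomod (k := k) (A := A) U →
      IsSubcomod (k := k) (A := B) (U.map (π : A →ₗ[k] B)) := by
    intro U hU
    have h1 : IsSubcomod (k := k) (A := B) U :=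
      isSubcomod_push (π : A →ₗ[k] B) rfl U hU
    exact isSubcomod_map (isComodHom_push_regular π) h1
  let G : ℕ → Submodule k B := fun i => ((F i).map V₀.subtype).map (π : A →ₗ[k] B)
  have hG0 : G 0 = ⊥ := by
    change ((F 0).map V₀.subtype).map (π : A →ₗ[k] B) = ⊥
    rw [hF0, Submodule.map_bot, Submodule.map_bot]
  have hGsub : ∀ i, IsSubcomod (k := k) (A := B) (G i) := by
    intro i
    apply hpush
    exact isSubcomod_map (isComodHom_subtype V₀ hV₀) (hFsub i)
  have hGn : LinearMap.range j ≤ G n := by
    change _ ≤ ((F n).map V₀.subtype).map (π : A →ₗ[k] B)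
    rw [hFn, Submodule.map_subtype_top]
    exact hXle
  obtain ⟨i, hi, hle, hdisj⟩ := exists_layer G hG0 hGsub _ hX n hGn
  obtain ⟨x, hx⟩ := hFstep i hi
  have hGstep : G (i + 1) = G i ⊔ Submodule.span k {(π : A →ₗ[k] B) (x : A)} := by
    change ((F (i + 1)).map V₀.subtype).map (π : A →ₗ[k] B) = _
    rw [hx, Submodule.map_sup, Submodule.map_sup, Submodule.map_span, Submodule.map_span,
      Set.image_singleton, Set.image_singleton]
    rfl
  rw [hGstep] at hle
  have h1 : Module.finrank k (LinearMap.range j) ≤ 1 := finrank_le_one_of_layer hdisj _ hle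
  have h2 : Module.finrank k (LinearMap.range j) = Module.finrank k W' :=
    LinearMap.finrank_range_of_inj hjinj
  have h3 : 0 < Module.finrank k W' := by
    haveI := hs.1
    exact Module.finrank_pos
  omega

end ClosedSubgroup

end Groth.Agent.H82.FlagApps
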