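import Groth.Agent.H40.SubComod
import Groth.Agent.H83.Flag
import Groth.Agent.H93.TensGen

/-! A simple subcomodule of a comodule with a finite flag of subcomodules sits in a single layer. -/

set_option autoImplicit false
universe u v w w'

open TensorProduct HopfRep

namespace Groth.Agent.H82.FlagSimple

open Groth.Agent.H40

section Core

variable {k : Type u} [Field k] {C : Type v} [AddCommGroup C] [Module k C] [Coalgebra k C]
variable {V : Type w} [AddCommGroup V] [Module k V] [Comod k C V]

theorem isSubcomod_inf {U W : Submodule k V} (hU : IsSubcomod (k := k) (A := C) U)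
    (hW : IsSubcomod (k := k) (A := C) W) : IsSubcomod (k := k) (A := C) (U ⊓ W) := by
  rw [isSubcomod_iff_slice] at hU hW ⊢
  intro w hw ψ
  exact ⟨hU w hw.1 ψ, hW w hw.2 ψ⟩

theorem isSubcomod_top' : IsSubcomod (k := k) (A := C) (⊤ : Submodule k V) := by
  rw [isSubcomod_iff_slice]
  intro w _ ψ
  trivial

theorem isSubcomod_bot' : IsSubcomod (k := k) (A := C) (⊥ : Submodule k V) := by
  rw [isSubcomod_iff_slice]
  intro w hw ψ
  rw [(Submodule.mem_bot k).mp hw, map_zero, map_zero]
  exact Submodule.zero_mem _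

variable (k C) in
/-- `W` is a simple subcomodule of `V` (internal form). -/
def IsSimpleSub (W : Submodule k V) : Prop :=
  IsSubcomod (k := k) (A := C) W ∧ W ≠ ⊥ ∧
    ∀ U : Submodule k V, IsSubcomod (k := k) (A := C) U → U ≤ W → U = ⊥ ∨ U = W

/-- a simple subcomodule lies in a single layer of a flag -/
theorem exists_layer (F : ℕ → Submodule k V) (h0 : F 0 = ⊥)
    (hF : ∀ i, IsSubcomod (k := k) (A := C) (F i))
    (W : Submodule k V) (hW : IsSimpleSub k C W) (n : ℕ) (hn : W ≤ F n) :
    ∃ j, j < n ∧ W ≤ F (j + 1) ∧ W ⊓ F j = ⊥ := by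
  classical
  obtain ⟨hsub, hne, hsimple⟩ := hW
  have hex : ∃ i, W ⊓ F i ≠ ⊥ := ⟨n, by rwa [inf_eq_left.mpr hn]⟩
  have hspec := Nat.find_spec hex
  have hmin := fun m => Nat.find_min (H := hex) (m := m)
  have hle : Nat.find hex ≤ n := Nat.find_min' hex (by rwa [inf_eq_left.mpr hn])
  rcases Nat.eq_zero_or_eq_succ_pred (Nat.find hex) with h | h
  · rw [h, h0, inf_bot_eq] at hspec
    exact absurd rfl hspec
  · set j := (Nat.find hex).pred with hj
    refine ⟨j, by omega, ?_, ?_⟩
    · rw [h] at hspec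
      rcases hsimple _ (isSubcomod_inf hsub (hF (j + 1))) inf_le_left with h1 | h1
      · exact absurd h1 hspec
      · exact inf_eq_left.mp h1
    · have := hmin j (by omega)
      exact not_not.mp this

/-- in a layer with quotient acted on through `c`, a disjoint subcomodule is acted on by `c` -/
theorem coact_eq_of_layer {W G : Submodule k V} (hW : IsSubcomod (k := k) (A := C) W)
    (hdisj : W ⊓ G = ⊥) (c : C) (w : V) (hw : w ∈ W)
    (h : rho k C V w - w ⊗ₜ[k] c ∈ LinearMap.range (G.subtype.rTensor C)) :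
    rho k C V w = w ⊗ₜ[k] c := by
  rw [← sub_eq_zero]
  apply eq_zero_of_slice_eq_zero
  intro ψ
  have h1 : slice V ψ (rho k C V w - w ⊗ₜ[k] c) ∈ G :=
    (mem_range_rTensor_subtype_iff G _).1 h ψ
  have h2 : slice V ψ (rho k C V w - w ⊗ₜ[k] c) ∈ W := by
    rw [map_sub, slice_tmul]
    exact sub_mem ((isSubcomod_iff_slice W).1 hW w hw ψ) (W.smul_mem _ hw)
  have : slice V ψ (rho k C V w - w ⊗ₜ[k] c) ∈ W ⊓ G := ⟨h2, h1⟩
  rw [hdisj] at this
  exact (Submodule.mem_bot k).mp this

/-- a subspace in a layer generated by one vector has dimension at most one -/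
theorem finrank_le_one_of_layer {W G : Submodule k V} (hdisj : W ⊓ G = ⊥) (x : V)
    (hle : W ≤ G ⊔ Submodule.span k {x}) : Module.finrank k W ≤ 1 := by
  by_cases hbot : W = ⊥
  · rw [hbot, finrank_bot]; exact Nat.zero_le 1
  obtain ⟨w₀, hw₀, hne⟩ := Submodule.exists_mem_ne_zero_of_ne_bot hbot
  have hdec : ∀ w ∈ W, ∃ g ∈ G, ∃ a : k, w = g + a • x := by
    intro w hw
    obtain ⟨g, hg, y, hy, rfl⟩ := Submodule.mem_sup.mp (hle hw)
    obtain ⟨a, rfl⟩ := Submodule.mem_span_singleton.mp hy
    exact ⟨g, hg, a, rfl⟩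
  obtain ⟨g₀, hg₀, a₀, e₀⟩ := hdec w₀ hw₀
  have ha₀ : a₀ ≠ 0 := by
    rintro rfl
    rw [zero_smul, add_zero] at e₀
    have : w₀ ∈ W ⊓ G := ⟨hw₀, e₀ ▸ hg₀⟩
    rw [hdisj] at this
    exact hne ((Submodule.mem_bot k).mp this)
  apply finrank_le_one (⟨w₀, hw₀⟩ : W)
  rintro ⟨w, hw⟩
  obtain ⟨g, hg, a, e⟩ := hdec w hw
  refine ⟨a / a₀, ?_⟩
  apply Subtype.ext
  change (a / a₀) • w₀ = w
  have hmem : w - (a / a₀) • w₀ ∈ W ⊓ G := by
    refine ⟨sub_mem hw (W.smul_mem _ hw₀), ?_⟩
    have : w - (a / a₀) • w₀ = g - (a / a₀) • g₀ := by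
      rw [e, e₀, smul_add, smul_smul, div_mul_cancel₀ a ha₀]
      abel
    rw [this]
    exact sub_mem hg (G.smul_mem _ hg₀)
  rw [hdisj] at hmem
  exact (sub_eq_zero.mp ((Submodule.mem_bot k).mp hmem)).symm

end Core

section Range

variable {k : Type u} [Field k] {C : Type v} [AddCommGroup C] [Module k C] [Coalgebra k C]
variable {V : Type w} [AddCommGroup V] [Module k V] [Comod k C V]
variable {W' : Type w'} [AddCommGroup W'] [Module k W'] [Comod k C W']

/-- the image of a simple comodule under an injective comodule map is a simple subcomodule -/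
theorem isSimpleSub_range (hs : IsSimpleComod k C W') (f : W' →ₗ[k] V)
    (hf : Hoch.IsComodHom C f) (hinj : Function.Injective f) :
    IsSimpleSub k C (LinearMap.range f) := by
  obtain ⟨hnt, hs⟩ := hs
  refine ⟨?_, ?_, ?_⟩
  · rw [← Submodule.map_top]
    exact isSubcomod_map hf isSubcomod_top'
  · intro h
    rw [LinearMap.range_eq_bot] at h
    obtain ⟨x, y, hxy⟩ := hnt
    apply hxy
    apply hinj
    rw [h]; rfl
  · intro U hU hle
    rcases hs (U.comap f) (isSubcomod_comap hf hU) with h | h
    · left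
      rw [eq_bot_iff]
      intro u hu
      obtain ⟨w, rfl⟩ := hle hu
      have : w ∈ U.comap f := hu
      rw [h] at this
      rw [(Submodule.mem_bot k).mp this, map_zero]
      exact Submodule.zero_mem _
    · right
      apply le_antisymm hle
      rintro _ ⟨w, rfl⟩
      have : w ∈ U.comap f := by rw [h]; exact Submodule.mem_top
      exact this

end Range

section Regular

variable {k : Type u} [Field k] {A : Type v} [CommRing A] [Bialgebra k A]
variable {W' : Type w'} [AddCommGroup W'] [Module k W'] [c : Comod k A W']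

open Groth.Agent.H93.TensGen in
/-- a simple comodule embeds into the regular comodule -/
theorem exists_embedding_regular (hs : IsSimpleComod k A W') :
    ∃ j : W' →ₗ[k] A, @Hoch.IsComodHom k _ A _ _ _ W' _ _ c A _ _ (Comod.regular k A) j ∧
      Function.Injective j := by
  obtain ⟨hnt, hsimple⟩ := hs
  obtain ⟨w₀, hw₀⟩ := exists_ne (0 : W')
  obtain ⟨φ, hφ⟩ : ∃ φ : Module.Dual k W', φ w₀ ≠ 0 := by
    by_contra h
    push_neg at h
    exact hw₀ ((Module.forall_dual_apply_eq_zero_iff k w₀).mp h)
  have hhom : @Hoch.IsComodHom k _ A _ _ _ W' _ _ c A _ _ (Comod.regular k A) (coeffMap c φ) :=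
    isHom_coeffMap c φ
  refine ⟨coeffMap c φ, hhom, ?_⟩
  have hker : IsSubcomod (k := k) (A := A) (LinearMap.ker (coeffMap c φ)) :=
    @isSubcomod_ker k _ A _ _ _ W' _ _ c A _ _ (Comod.regular k A) _ _ hhom
  rcases hsimple _ hker with h | h
  · exact LinearMap.ker_eq_bot.mp h
  · exfalso
    have h0 : coeffMap c φ w₀ = 0 := by
      have : w₀ ∈ LinearMap.ker (coeffMap c φ) := by rw [h]; exact Submodule.mem_top
      exact this
    -- apply the counit
    have h1 : Coalgebra.counit (R := k) (A := A) (coeffMap c φ w₀) = φ w₀ := by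
      rw [coeffMap_apply]
      have hc := counit_apply (k := k) (C := A) w₀
      change Coalgebra.counit (R := k) (A := A)
        (TensorProduct.lid k A (φ.rTensor A (rho k A W' w₀))) = φ w₀
      generalize rho k A W' w₀ = y at hc ⊢
      have key : ∀ y : W' ⊗[k] A, Coalgebra.counit (R := k) (A := A)
          (TensorProduct.lid k A (φ.rTensor A y)) =
          φ (TensorProduct.rid k W' ((Coalgebra.counit (R := k) (A := A)).lTensor W' y)) := by
        intro y
        induction y using TensorProduct.induction_on with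
        | zero => simp
        | tmul w a => simp [mul_comm]
        | add x y hx hy => simp only [map_add, hx, hy]
      rw [key, hc]
      simp
    rw [h0, map_zero] at h1
    exact hφ h1.symm

end Regular

end Groth.Agent.H82.FlagSimple
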