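import Mathlib.RingTheory.Flat.Basic
import Mathlib.RingTheory.Flat.Stability
import Mathlib.RingTheory.Flat.Tensor
import Mathlib.LinearAlgebra.TensorProduct.RightExactness
import Mathlib.RingTheory.Ideal.Quotient.Operations

set_option autoImplicit false
universe u

namespace Groth.Agent.H82.FlatInf

open TensorProduct Function

section Pprime

variable {R A : Type u} [CommRing R] [CommRing A] [Algebra R A]

/-- the range of an `R`-linear map into `A` is an ideal when `R → A` is surjective. -/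
def rangeIdeal (hsurj : Function.Surjective (algebraMap R A)) {N : Type u} [AddCommGroup N]
    [Module R N] (u : N →ₗ[R] A) : Ideal A where
  carrier := Set.range u
  add_mem' := by
    rintro _ _ ⟨a, rfl⟩ ⟨b, rfl⟩
    exact ⟨a + b, map_add u a b⟩
  zero_mem' := ⟨0, map_zero u⟩
  smul_mem' := by
    rintro a _ ⟨n, rfl⟩
    obtain ⟨r, rfl⟩ := hsurj a
    exact ⟨r • n, by rw [map_smul, Algebra.smul_def, smul_eq_mul]⟩

theorem Pprime (hsurj : Function.Surjective (algebraMap R A))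
    (M : Type u) [AddCommGroup M] [Module R M] [Module.Flat A (A ⊗[R] M)]
    {N : Type u} [AddCommGroup N] [Module R N] (u : N →ₗ[R] A) (hu : Function.Injective u) :
    Function.Injective (u.rTensor M) := by
  let 𝔞 : Ideal A := rangeIdeal hsurj u
  let u' : N →ₗ[R] 𝔞 :=
    { toFun := fun n => ⟨u n, ⟨n, rfl⟩⟩
      map_add' := fun a b => Subtype.ext (map_add u a b)
      map_smul' := fun r a => Subtype.ext (map_smul u r a) }
  have hu'inj : Function.Injective u' := fun a b h => hu (congrArg Subtype.val h)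
  have hu'surj : Function.Surjective u' := by
    rintro ⟨_, ⟨n, rfl⟩⟩
    exact ⟨n, rfl⟩
  let e : N ≃ₗ[R] 𝔞 := LinearEquiv.ofBijective u' ⟨hu'inj, hu'surj⟩
  have h1 : Function.Injective ((𝔞.subtype).rTensor (A ⊗[R] M)) :=
    Module.Flat.rTensor_preserves_injective_linearMap _ (Submodule.injective_subtype _)
  have hnat : ∀ z : 𝔞 ⊗[A] (A ⊗[R] M),
      AlgebraTensorModule.cancelBaseChange R A A A M ((𝔞.subtype).rTensor (A ⊗[R] M) z) =
        ((𝔞.subtype.restrictScalars R).rTensor M)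
          (AlgebraTensorModule.cancelBaseChange R A A 𝔞 M z) := by
    intro z
    induction z using TensorProduct.induction_on with
    | zero => simp
    | add x y hx hy => simp only [map_add, hx, hy]
    | tmul a w =>
      induction w using TensorProduct.induction_on with
      | zero => simp
      | add x y hx hy => simp only [tmul_add, map_add, hx, hy]
      | tmul b m =>
        simp only [LinearMap.rTensor_tmul, AlgebraTensorModule.cancelBaseChange_tmul]
        rfl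
  have h2 : Function.Injective ((𝔞.subtype.restrictScalars R).rTensor M) := by
    intro z z' hz
    obtain ⟨w, rfl⟩ := (AlgebraTensorModule.cancelBaseChange R A A 𝔞 M).surjective z
    obtain ⟨w', rfl⟩ := (AlgebraTensorModule.cancelBaseChange R A A 𝔞 M).surjective z'
    rw [← hnat, ← hnat] at hz
    rw [h1 ((AlgebraTensorModule.cancelBaseChange R A A A M).injective hz)]
  have hu'' : u = (𝔞.subtype.restrictScalars R) ∘ₗ e.toLinearMap := by
    ext n; rfl
  rw [hu'', LinearMap.rTensor_comp]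
  exact h2.comp (LinearEquiv.rTensor M e).injective

end Pprime


section core

variable {R : Type u} [CommRing R]

theorem core' (A₁ A₂ : Type u) [CommRing A₁] [CommRing A₂] [Algebra R A₁] [Algebra R A₂]
    (h₁ : Function.Surjective (algebraMap R A₁)) (h₂ : Function.Surjective (algebraMap R A₂))
    (hK : RingHom.ker (algebraMap R A₁) ⊓ RingHom.ker (algebraMap R A₂) = ⊥)
    (M : Type u) [AddCommGroup M] [Module R M] [Module.Flat A₁ (A₁ ⊗[R] M)]
    [Module.Flat A₂ (A₂ ⊗[R] M)] : Module.Flat R M := by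
  rw [Module.Flat.iff_rTensor_injective']
  intro J
  rw [injective_iff_map_eq_zero]
  intro x hx
  let F₁ : R →ₗ[R] A₁ := Algebra.linearMap R A₁
  let F₂ : R →ₗ[R] A₂ := Algebra.linearMap R A₂
  let K₁ : Ideal R := RingHom.ker (algebraMap R A₁)
  let G : J →ₗ[R] A₁ := F₁ ∘ₗ J.subtype
  let g : J →ₗ[R] LinearMap.range G := G.rangeRestrict
  have hA : Function.Injective ((LinearMap.range G).subtype.rTensor M) :=
    Pprime h₁ M _ (Submodule.injective_subtype _)
  have hgx : g.rTensor M x = 0 := by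
    apply hA
    rw [map_zero, ← LinearMap.comp_apply, ← LinearMap.rTensor_comp]
    have : (LinearMap.range G).subtype ∘ₗ g = F₁ ∘ₗ J.subtype := rfl
    rw [this, LinearMap.rTensor_comp, LinearMap.comp_apply, hx, map_zero]
  have hex : Function.Exact (Submodule.inclusion (inf_le_left : J ⊓ K₁ ≤ J)) g := by
    intro j
    constructor
    · intro hj
      have hj' : algebraMap R A₁ (j : R) = 0 := congrArg Subtype.val hj
      exact ⟨⟨(j : R), ⟨j.2, hj'⟩⟩, rfl⟩
    · rintro ⟨k, rfl⟩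
      apply Subtype.ext
      exact k.2.2
  have hgs : Function.Surjective g := LinearMap.surjective_rangeRestrict G
  obtain ⟨y, rfl⟩ := (rTensor_exact M hex hgs x).1 hgx
  have hB : Function.Injective ((J ⊓ K₁).subtype.rTensor M) := by
    have hinj : Function.Injective (F₂ ∘ₗ (J ⊓ K₁).subtype) := by
      rw [← LinearMap.ker_eq_bot, LinearMap.ker_eq_bot']
      intro k hk
      have hk2 : (k : R) ∈ RingHom.ker (algebraMap R A₂) := hk
      have hk1 : (k : R) ∈ RingHom.ker (algebraMap R A₁) := k.2.2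
      have : (k : R) ∈ (⊥ : Ideal R) := by rw [← hK]; exact ⟨hk1, hk2⟩
      exact Subtype.ext this
    have h3 : Function.Injective ((F₂ ∘ₗ (J ⊓ K₁).subtype).rTensor M) := Pprime h₂ M _ hinj
    rw [LinearMap.rTensor_comp] at h3
    exact Function.Injective.of_comp h3
  have hy : (J ⊓ K₁).subtype.rTensor M y = 0 := by
    rw [← hx, ← LinearMap.comp_apply, ← LinearMap.rTensor_comp]
    rfl
  rw [hB (hy.trans (map_zero _).symm), map_zero]

end core

theorem main {R : Type u} [CommRing R] (M : Type u) [AddCommGroup M] [Module R M]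
    (I₁ I₂ : Ideal R) [Module.Flat (R ⧸ I₁) ((R ⧸ I₁) ⊗[R] M)]
    [Module.Flat (R ⧸ I₂) ((R ⧸ I₂) ⊗[R] M)] :
    Module.Flat (R ⧸ (I₁ ⊓ I₂)) ((R ⧸ (I₁ ⊓ I₂)) ⊗[R] M) := by
  let a1 : Algebra (R ⧸ (I₁ ⊓ I₂)) (R ⧸ I₁) :=
    (Ideal.Quotient.factor (inf_le_left : I₁ ⊓ I₂ ≤ I₁)).toAlgebra
  let a2 : Algebra (R ⧸ (I₁ ⊓ I₂)) (R ⧸ I₂) :=
    (Ideal.Quotient.factor (inf_le_right : I₁ ⊓ I₂ ≤ I₂)).toAlgebra
  have t1 : IsScalarTower R (R ⧸ (I₁ ⊓ I₂)) (R ⧸ I₁) :=
    IsScalarTower.of_algebraMap_eq (fun x => rfl)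
  have t2 : IsScalarTower R (R ⧸ (I₁ ⊓ I₂)) (R ⧸ I₂) :=
    IsScalarTower.of_algebraMap_eq (fun x => rfl)
  have f1 : Module.Flat (R ⧸ I₁) ((R ⧸ I₁) ⊗[R ⧸ (I₁ ⊓ I₂)] ((R ⧸ (I₁ ⊓ I₂)) ⊗[R] M)) :=
    Module.Flat.of_linearEquiv
      (AlgebraTensorModule.cancelBaseChange R (R ⧸ (I₁ ⊓ I₂)) (R ⧸ I₁) (R ⧸ I₁) M)
  have f2 : Module.Flat (R ⧸ I₂) ((R ⧸ I₂) ⊗[R ⧸ (I₁ ⊓ I₂)] ((R ⧸ (I₁ ⊓ I₂)) ⊗[R] M)) :=
    Module.Flat.of_linearEquiv
      (AlgebraTensorModule.cancelBaseChange R (R ⧸ (I₁ ⊓ I₂)) (R ⧸ I₂) (R ⧸ I₂) M)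
  refine core' (R ⧸ I₁) (R ⧸ I₂) ?_ ?_ ?_ _
  · exact Ideal.Quotient.factor_surjective _
  · exact Ideal.Quotient.factor_surjective _
  · rw [eq_bot_iff]
    rintro x ⟨hx1, hx2⟩
    obtain ⟨r, rfl⟩ := Ideal.Quotient.mk_surjective x
    have h1 : r ∈ I₁ := Ideal.Quotient.eq_zero_iff_mem.1 hx1
    have h2 : r ∈ I₂ := Ideal.Quotient.eq_zero_iff_mem.1 hx2
    exact Ideal.Quotient.eq_zero_iff_mem.2 ⟨h1, h2⟩

end Groth.Agent.H82.FlatInf
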