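import Mathlib

/-! Group-like elements of a monoid algebra over an arbitrary commutative ring: the coefficients
are orthogonal idempotents. -/

set_option autoImplicit false
universe u

namespace Groth.Agent.H82.KLAlg

open MonoidAlgebra

variable {R : Type u} [CommRing R] {G : Type} [CommMonoid G]

/-- the "diagonal" `R[G] → (R[G])[G]`, `g ↦ g ⊗ g` -/
noncomputable def diag : MonoidAlgebra R G →+* MonoidAlgebra (MonoidAlgebra R G) G :=
  MonoidAlgebra.liftNCRingHom
    ((singleOneRingHom : MonoidAlgebra R G →+* MonoidAlgebra (MonoidAlgebra R G) G).comp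
      (singleOneRingHom : R →+* MonoidAlgebra R G))
    { toFun := fun g => single g (single g 1)
      map_one' := rfl
      map_mul' := fun a b => by
        rw [single_mul_single, single_mul_single, _root_.mul_one] }
    (fun _ _ => Commute.all _ _)

theorem diag_single (g : G) (r : R) :
    diag (single g r) = single g (single g r) := by
  unfold diag
  rw [liftNCRingHom_single]
  change single 1 (single 1 r) * single g (single g 1) = _
  rw [single_mul_single, single_mul_single, _root_.one_mul, _root_.mul_one]

/-- `p ↦ p ⊗ 1` -/
noncomputable def inl : MonoidAlgebra R G →+* MonoidAlgebra (MonoidAlgebra R G) G :=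
  singleOneRingHom

/-- `p ↦ 1 ⊗ p` -/
noncomputable def inr : MonoidAlgebra R G →+* MonoidAlgebra (MonoidAlgebra R G) G :=
  MonoidAlgebra.mapRingHom G (singleOneRingHom : R →+* MonoidAlgebra R G)

theorem inl_single (g : G) (r : R) : (inl (single g r) : MonoidAlgebra (MonoidAlgebra R G) G) =
    single 1 (single g r) := rfl

theorem inr_single (g : G) (r : R) : (inr (single g r) : MonoidAlgebra (MonoidAlgebra R G) G) =
    single g (single 1 r) := by
  unfold inr
  rw [mapRingHom_single]
  rfl

/-- the augmentation -/
noncomputable def aug : MonoidAlgebra R G →+* R :=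
  MonoidAlgebra.liftNCRingHom (RingHom.id R) (1 : G →* R) (fun _ _ => Commute.all _ _)

theorem aug_single (g : G) (r : R) : aug (single g r) = r := by
  unfold aug
  rw [liftNCRingHom_single]
  simp

theorem coeff_diag (p : MonoidAlgebra R G) (g : G) :
    (diag p).coeff g = single g (p.coeff g) := by
  classical
  induction p using MonoidAlgebra.induction_linear with
  | zero => simp
  | add x y hx hy =>
    rw [map_add, coeff_add, Finsupp.add_apply, hx, hy, coeff_add, Finsupp.add_apply, single_add]
  | single m r =>
    rw [diag_single, coeff_single, coeff_single, Finsupp.single_apply, Finsupp.single_apply]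
    split_ifs with h
    · rw [h]
    · rw [single_zero]

/-- coefficients of a group-like element are orthogonal idempotents -/
theorem coeff_mul_coeff [DecidableEq G] (p : MonoidAlgebra R G) (hp : diag p = inl p * inr p)
    (g g' : G) : p.coeff g * p.coeff g' = if g' = g then p.coeff g' else 0 := by
  have h1 : (diag p).coeff g' = (inl p * inr p).coeff g' := by rw [hp]
  rw [coeff_diag] at h1
  have h2 : (inl p * inr p).coeff g' = p * single 1 (p.coeff g') := by
    unfold inl inr
    change ((single (1 : G) p : MonoidAlgebra (MonoidAlgebra R G) G) *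
      MonoidAlgebra.mapRingHom G (singleOneRingHom : R →+* MonoidAlgebra R G) p).coeff g' = _
    rw [coeff_single_one_mul, coeff_mapRingHom]
    rfl
  rw [h2] at h1
  have h3 : (single g' (p.coeff g')).coeff g = (p * single 1 (p.coeff g')).coeff g := by rw [h1]
  rw [coeff_mul_single_one, coeff_single, Finsupp.single_apply] at h3
  exact h3.symm

theorem aug_mapRingHom {R' : Type u} [CommRing R'] (f : R →+* R') (p : MonoidAlgebra R G) :
    aug (MonoidAlgebra.mapRingHom G f p) = f (aug p) := by
  have : (aug.comp (MonoidAlgebra.mapRingHom G f)) = f.comp (aug : MonoidAlgebra R G →+* R) := by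
    apply MonoidAlgebra.ringHom_ext
    · intro r
      rw [RingHom.comp_apply, RingHom.comp_apply, mapRingHom_single, aug_single, aug_single]
    · intro g
      rw [RingHom.comp_apply, RingHom.comp_apply, mapRingHom_single, aug_single, aug_single]
  exact congrArg (fun φ => φ p) this

/-- some coefficient of an element of augmentation one survives in any nontrivial quotient -/
theorem exists_coeff_ne_zero {R' : Type u} [CommRing R'] [Nontrivial R'] (f : R →+* R')
    (p : MonoidAlgebra R G) (hp : aug p = 1) : ∃ g, f (p.coeff g) ≠ 0 := by
  by_contra h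
  have h : ∀ g, f (p.coeff g) = 0 := fun g => by
    by_contra hg
    exact h ⟨g, hg⟩
  have h0 : MonoidAlgebra.mapRingHom G f p = 0 := by
    ext g
    rw [coeff_mapRingHom, h g]
    rfl
  have h1 := aug_mapRingHom f p
  rw [h0, map_zero, hp, map_one] at h1
  exact zero_ne_one h1

/-- after a ring map making one coefficient invertible, a group-like element becomes a monomial -/
theorem mapRingHom_eq_single {R' : Type u} [CommRing R'] (f : R →+* R')
    (p : MonoidAlgebra R G) (hp : diag p = inl p * inr p) (g₀ : G) (hu : IsUnit (f (p.coeff g₀))) :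
    MonoidAlgebra.mapRingHom G f p = single g₀ 1 := by
  classical
  have hid : f (p.coeff g₀) * f (p.coeff g₀) = f (p.coeff g₀) := by
    rw [← map_mul, coeff_mul_coeff p hp g₀ g₀, if_pos rfl]
  have h1 : f (p.coeff g₀) = 1 := by
    have := hu.mul_left_cancel (a := f (p.coeff g₀)) (b := f (p.coeff g₀)) (c := 1)
      (by rw [hid, _root_.mul_one])
    exact this
  ext g
  rw [coeff_mapRingHom, coeff_single, Finsupp.single_apply]
  split_ifs with h
  · rw [← h, h1]
  · have h2 : f (p.coeff g) = f (p.coeff g) * f (p.coeff g₀) := by rw [h1, _root_.mul_one]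
    rw [h2, ← map_mul, coeff_mul_coeff p hp g g₀, if_neg h, map_zero]

/-- `liftNC` through a coefficient map -/
theorem liftNC_eq_of_mapRingHom {R' : Type u} [CommRing R'] (f : R →+* R') (χ : G →* R')
    (p : MonoidAlgebra R G) (g₀ : G) (h : MonoidAlgebra.mapRingHom G f p = single g₀ 1) :
    MonoidAlgebra.liftNCRingHom f χ (fun _ _ => Commute.all _ _) p = χ g₀ := by
  have key : (MonoidAlgebra.liftNCRingHom f χ (fun _ _ => Commute.all _ _)) =
      (MonoidAlgebra.liftNCRingHom (RingHom.id R') χ (fun _ _ => Commute.all _ _)).comp
        (MonoidAlgebra.mapRingHom G f) := by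
    apply MonoidAlgebra.ringHom_ext
    · intro r
      rw [RingHom.comp_apply, mapRingHom_single, liftNCRingHom_single, liftNCRingHom_single]
      rfl
    · intro g
      rw [RingHom.comp_apply, mapRingHom_single, liftNCRingHom_single, liftNCRingHom_single,
        map_one]
      rfl
  rw [key, RingHom.comp_apply, h, liftNCRingHom_single]
  simp

end Groth.Agent.H82.KLAlg
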