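import Mathlib
import Groth.Agent.H82.KLAlg

/-! A free coaction `ρ : C → C[G]` of a diagonalizable group: the homogeneous elements of every
degree generate the unit ideal. -/

set_option autoImplicit false
universe u

namespace Groth.Agent.H82.FreeAlg
open MonoidAlgebra Groth.Agent.H82.KLAlg

variable {C : Type u} [CommRing C] {G : Type} [CommGroup G] (ρ : C →+* MonoidAlgebra C G)

/-- homogeneous elements of degree `g` -/
def Homog (g : G) : Set C := {b | ρ b = single g b}

theorem liftNC_eq_of {Λ : Type u} [CommRing Λ] (x : C →+* Λ) (χ : G →* Λ)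
    (p : MonoidAlgebra C G) (h : ∀ n, x (p.coeff n) * χ n = x (p.coeff n)) :
    MonoidAlgebra.liftNCRingHom x χ (fun _ _ => Commute.all _ _) p = x (aug p) := by
  conv_lhs => rw [← sum_coeff_single p]
  conv_rhs => rw [← sum_coeff_single p]
  unfold Finsupp.sum
  rw [map_sum, map_sum, map_sum]
  refine Finset.sum_congr rfl fun n _ => ?_
  rw [liftNCRingHom_single, aug_single, h]

variable (hH : ∀ b g, ρ ((ρ b).coeff g) = single g ((ρ b).coeff g))
  (haug : ∀ b, aug (ρ b) = b)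

include hH haug in
theorem span_homog_eq_top
    (hfree : ∀ (Λ : Type u) [CommRing Λ] (x : C →+* Λ) (χ : G →* Λ),
      (∀ b, MonoidAlgebra.liftNCRingHom x χ (fun _ _ => Commute.all _ _) (ρ b) = x b) →
        ∀ g, χ g = 1)
    (m : G) : Ideal.span (Homog ρ m) = ⊤ := by
  classical
  by_contra hne
  obtain ⟨𝔪, hmax, hle⟩ := Ideal.exists_le_maximal _ hne
  have hprime : 𝔪.IsPrime := hmax.isPrime
  have h1m : (1 : C) ∉ 𝔪 := (Ideal.ne_top_iff_one 𝔪).mp hprime.ne_top
  let N : Subgroup G :=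
    { carrier := {n | ∃ b b', ρ b = single n b ∧ ρ b' = single n⁻¹ b' ∧ b * b' ∉ 𝔪}
      one_mem' := ⟨1, 1, by rw [map_one, one_def], by rw [map_one, inv_one, one_def], by
        rw [_root_.mul_one]; exact h1m⟩
      mul_mem' := by
        rintro n n' ⟨b, b', hb, hb', hbb⟩ ⟨c, c', hc, hc', hcc⟩
        refine ⟨b * c, b' * c', ?_, ?_, ?_⟩
        · rw [map_mul, hb, hc, single_mul_single]
        · rw [map_mul, hb', hc', single_mul_single, mul_inv]
        · have : b * c * (b' * c') = (b * b') * (c * c') := by ring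
          rw [this]
          intro hmem
          rcases hprime.mem_or_mem hmem with h | h
          · exact hbb h
          · exact hcc h
      inv_mem' := by
        rintro n ⟨b, b', hb, hb', hbb⟩
        refine ⟨b', b, hb', by rw [inv_inv]; exact hb, ?_⟩
        rw [mul_comm]
        exact hbb }
  have hN : ∀ n, n ∉ N → ∀ b b', ρ b = single n b → ρ b' = single n⁻¹ b' → b * b' ∈ 𝔪 := by
    intro n hn b b' hb hb'
    by_contra hbb
    exact hn ⟨b, b', hb, hb', hbb⟩
  let 𝔄 : Ideal C := Ideal.span {b | ∃ n, n ∉ N ∧ ρ b = single n b}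
  have h1 : (1 : C) ∉ 𝔄 := by
    intro h
    obtain ⟨k, c, g, hsum⟩ := Submodule.mem_span_set'.mp h
    have hρ1 : ρ 1 = single 1 1 := by rw [map_one, one_def]
    have h2 : (ρ (∑ i, c i • (g i : C))).coeff 1 = 1 := by
      rw [hsum, hρ1, coeff_single, Finsupp.single_eq_same]
    rw [map_sum, coeff_sum, Finsupp.finsetSum_apply] at h2
    apply h1m
    rw [← h2]
    refine Ideal.sum_mem _ fun i _ => ?_
    obtain ⟨n, hn, hg⟩ := (g i).2
    rw [smul_eq_mul, map_mul, hg, coeff_mul_single_apply, _root_.one_mul, mul_comm]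
    exact hN n hn _ _ hg (hH _ _)
  have hnt : Nontrivial (C ⧸ 𝔄) :=
    Ideal.Quotient.nontrivial_iff.mpr (by rwa [Ne, Ideal.eq_top_iff_one])
  let x : C →+* MonoidAlgebra (C ⧸ 𝔄) (G ⧸ N) :=
    (singleOneRingHom : (C ⧸ 𝔄) →+* MonoidAlgebra (C ⧸ 𝔄) (G ⧸ N)).comp (Ideal.Quotient.mk 𝔄)
  let χ : G →* MonoidAlgebra (C ⧸ 𝔄) (G ⧸ N) :=
    (MonoidAlgebra.of (C ⧸ 𝔄) (G ⧸ N)).comp (QuotientGroup.mk' N)
  have hfix : ∀ b, MonoidAlgebra.liftNCRingHom x χ (fun _ _ => Commute.all _ _) (ρ b) = x b := by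
    intro b
    rw [liftNC_eq_of x χ (ρ b), haug]
    intro n
    by_cases hn : n ∈ N
    · have : χ n = 1 := by
        change MonoidAlgebra.of (C ⧸ 𝔄) (G ⧸ N) (n : G ⧸ N) = 1
        rw [(QuotientGroup.eq_one_iff n).mpr hn, map_one]
      rw [this, _root_.mul_one]
    · have : x ((ρ b).coeff n) = 0 := by
        change singleOneRingHom (Ideal.Quotient.mk 𝔄 ((ρ b).coeff n)) = 0
        have hmem : (ρ b).coeff n ∈ 𝔄 :=
          Ideal.subset_span (show (ρ b).coeff n ∈ {b | ∃ n, n ∉ N ∧ ρ b = single n b} from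
            ⟨n, hn, hH b n⟩)
        rw [Ideal.Quotient.eq_zero_iff_mem.mpr hmem, map_zero]
      rw [this, zero_mul]
  have hχ := hfree _ x χ hfix m
  have hmN : m ∈ N := by
    change MonoidAlgebra.of (C ⧸ 𝔄) (G ⧸ N) (m : G ⧸ N) = 1 at hχ
    rw [← map_one (MonoidAlgebra.of (C ⧸ 𝔄) (G ⧸ N))] at hχ
    exact (QuotientGroup.eq_one_iff m).mp (MonoidAlgebra.of_injective hχ)
  obtain ⟨b, b', hb, -, hbb⟩ := hmN
  exact hbb (𝔪.mul_mem_right _ (hle (Ideal.subset_span hb)))

end Groth.Agent.H82.FreeAlg
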