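import Groth.Agent.H82.NilAct
import Groth.Agent.H82.FreeAlg
import Mathlib

/-! A free action `c : X × D_S(M) → X` on an affine `X`: the graph morphism is a closed
immersion. -/

set_option autoImplicit false
set_option linter.unusedSectionVars false
universe u

open CategoryTheory MonoidalCategory CartesianMonoidalCategory MonObj AlgebraicGeometry
open CategoryTheory.Limits
open Groth.Agent.H42 Groth.Agent.H40 Magnet
open Groth.Agent.H82.AMonPts Groth.Agent.H82.GroupIso Groth.Agent.H82.KLAlg Groth.Agent.H82.KLFam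
open Groth.Agent.H82.NilAct

namespace Groth.Agent.H82.FreeAct

variable {S : Scheme.{u}} {M : Type} [AddCommGroup M]
variable (X : Over S) [IsAffine X.left] (c : X ⊗ AMonS S M ⟶ X)

section Pt

variable {Λ : Type u} [CommRing Λ] (x : Γ(X.left, ⊤) →+* Λ) (χ : Multiplicative M →* Λ)

/-- `Spec Λ` over `S` through `x` -/
noncomputable abbrev TT : Over S :=
  Over.mk (Spec.map (CommRingCat.ofHom x) ≫ X.left.isoSpec.inv ≫ X.hom)

noncomputable def xT : TT X x ⟶ X :=
  Over.homMk (Spec.map (CommRingCat.ofHom x) ≫ X.left.isoSpec.inv) (by simp)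

theorem xT_appTop :
    (xT X x).left.appTop ≫ (Scheme.ΓSpecIso (CommRingCat.of Λ)).hom = CommRingCat.ofHom x := by
  change (Spec.map (CommRingCat.ofHom x) ≫ X.left.isoSpec.inv).appTop ≫ _ = _
  rw [Scheme.Hom.comp_appTop, Category.assoc, Scheme.ΓSpecIso_naturality,
    LineIso.isoSpec_inv_appTop']
  exact Iso.inv_hom_id_assoc (Scheme.ΓSpecIso Γ(X.left, ⊤)) _

theorem xT_appTop_apply (b : Γ(X.left, ⊤)) :
    (xT X x).left.appTop b = (Scheme.ΓSpecIso (CommRingCat.of Λ)).inv (x b) := by
  have h := ConcreteCategory.congr_hom (xT_appTop X x) b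
  rw [CommRingCat.comp_apply] at h
  change _ = x b at h
  rw [← h]
  exact (Iso.hom_inv_id_apply (C := CommRingCat) _ _).symm

noncomputable def gT : TT X x ⟶ AMonS S M :=
  (amFn_surjective (S := S) (X := TT X x)
    ((Scheme.ΓSpecIso (CommRingCat.of Λ)).inv.hom.toMonoidHom.comp χ)).choose

theorem amFn_gT (m : Multiplicative M) :
    amFn (gT X x χ) m = (Scheme.ΓSpecIso (CommRingCat.of Λ)).inv (χ m) := by
  unfold gT
  rw [(amFn_surjective (S := S) (X := TT X x) _).choose_spec]
  rfl

theorem lift_xT_gT (h : ∀ b, MonoidAlgebra.liftNCRingHom x χ (fun _ _ => Commute.all _ _)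
    (rho X c b) = x b) : lift (xT X x) (gT X x χ) ≫ c = xT X x := by
  apply Over.OverMorphism.ext
  apply ext_of_isAffine
  refine CommRingCat.hom_ext (RingHom.ext fun b => ?_)
  change (lift (xT X x) (gT X x χ) ≫ c).left.appTop b = (xT X x).left.appTop b
  rw [lift_comp_appTop, xT_appTop_apply, ← h b]
  have key : (MonoidAlgebra.liftNCRingHom (xT X x).left.appTop.hom (amFn (gT X x χ))
      (fun _ _ => Commute.all _ _) :
      MonoidAlgebra Γ(X.left, ⊤) (Multiplicative M) →+* Γ((TT X x).left, ⊤)) =
      (Scheme.ΓSpecIso (CommRingCat.of Λ)).inv.hom.comp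
        (MonoidAlgebra.liftNCRingHom x χ (fun _ _ => Commute.all _ _)) := by
    apply MonoidAlgebra.ringHom_ext
    · intro b'
      rw [MonoidAlgebra.liftNCRingHom_single, RingHom.comp_apply,
        MonoidAlgebra.liftNCRingHom_single, map_one, map_one, _root_.mul_one, _root_.mul_one]
      exact xT_appTop_apply X x b'
    · intro m'
      rw [MonoidAlgebra.liftNCRingHom_single, RingHom.comp_apply,
        MonoidAlgebra.liftNCRingHom_single, map_one, map_one, _root_.one_mul, _root_.one_mul,
        amFn_gT]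
  rw [key]
  rfl

end Pt

section Main

variable (A1 : ∀ (T : Over S) (x : T ⟶ X), lift x (1 : T ⟶ AMonS S M) ≫ c = x)
  (A2 : ∀ (T : Over S) (x : T ⟶ X) (g h : T ⟶ AMonS S M),
    lift x (g * h) ≫ c = lift (lift x g ≫ c) h ≫ c)
  (hfree : ∀ (T : Over S) (x : T ⟶ X) (g : T ⟶ AMonS S M), lift x g ≫ c = x → g = 1)

include hfree in
theorem alg_free (Λ : Type u) [CommRing Λ] (x : Γ(X.left, ⊤) →+* Λ) (χ : Multiplicative M →* Λ)
    (h : ∀ b, MonoidAlgebra.liftNCRingHom x χ (fun _ _ => Commute.all _ _) (rho X c b) = x b)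
    (m : Multiplicative M) : χ m = 1 := by
  have h1 := hfree _ _ _ (lift_xT_gT X c x χ h)
  have h2 := amFn_gT X x χ m
  rw [h1, amFn_one] at h2
  have hinj : Function.Injective (Scheme.ΓSpecIso (CommRingCat.of Λ)).inv :=
    (ConcreteCategory.bijective_of_isIso _).1
  apply hinj
  rw [← h2, map_one]

/-- homogeneous functions of degree `m` -/
abbrev Hm (m : Multiplicative M) : Set Γ(X.left, ⊤) :=
  FreeAlg.Homog (C := Γ(X.left, ⊤)) (G := Multiplicative M) (rho X c) m

include A1 A2 hfree in
theorem span_eq_top (m : Multiplicative M) :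
    Ideal.span (Hm X c m) = ⊤ := by
  have k3 : ∀ (b : Γ(X.left, ⊤)) (m : Multiplicative M),
      rho X c ((rho X c b).coeff m) = MonoidAlgebra.single m ((rho X c b).coeff m) :=
    rho_coeff X c A2
  have k4 : ∀ b : Γ(X.left, ⊤), aug (rho X c b) = b := aug_rho X c A1
  have k5 : ∀ (Λ : Type u) [CommRing Λ] (x : Γ(X.left, ⊤) →+* Λ) (χ : Multiplicative M →* Λ),
      (∀ b, MonoidAlgebra.liftNCRingHom x χ (fun _ _ => Commute.all _ _) (rho X c b) = x b) →
        ∀ g, χ g = 1 := fun Λ _ x χ h g => alg_free X c hfree Λ x χ h g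
  exact FreeAlg.span_homog_eq_top (C := Γ(X.left, ⊤)) (G := Multiplicative M) (rho X c) k3 k4 k5 m

/-- the graph morphism `(x, g) ↦ (x·g, x)` -/
noncomputable def graph : X ⊗ AMonS S M ⟶ X ⊗ X := lift c (fst X (AMonS S M))

include A1 A2 hfree in
theorem surjective_graph : Function.Surjective (graph X c).left.appTop := by
  let R : Subring Γ((X ⊗ AMonS S M).left, ⊤) := (graph X c).left.appTop.hom.range
  have h_fst : ∀ b, (fst X (AMonS S M)).left.appTop b ∈ R := by
    intro b
    refine ⟨(snd X X).left.appTop b, ?_⟩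
    change (graph X c).left.appTop ((snd X X).left.appTop b) = _
    rw [← CommRingCat.comp_apply, ← Scheme.Hom.comp_appTop, ← Over.comp_left]
    unfold graph
    rw [lift_snd]
  have h_c : ∀ b, c.left.appTop b ∈ R := by
    intro b
    refine ⟨(fst X X).left.appTop b, ?_⟩
    change (graph X c).left.appTop ((fst X X).left.appTop b) = _
    rw [← CommRingCat.comp_apply, ← Scheme.Hom.comp_appTop, ← Over.comp_left]
    unfold graph
    rw [lift_fst]
  have h_hom : ∀ (m : Multiplicative M) (b : Γ(X.left, ⊤)), b ∈ Hm X c m →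
      (fst X (AMonS S M)).left.appTop b * amFn (snd X (AMonS S M)) m ∈ R := by
    intro m b hb
    have h1 := h_c b
    rw [← beta_rho, hb, beta_single] at h1
    exact h1
  have h_chi : ∀ m : Multiplicative M, amFn (snd X (AMonS S M)) m ∈ R := by
    intro m
    have h1 : (1 : Γ(X.left, ⊤)) ∈ Ideal.span (Hm X c m) := by
      rw [span_eq_top X c A1 A2 hfree m]
      trivial
    obtain ⟨k, cc, g, hsum⟩ := Submodule.mem_span_set'.mp h1
    have h2 : amFn (snd X (AMonS S M)) m =
        ∑ i, (fst X (AMonS S M)).left.appTop (cc i) *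
          ((fst X (AMonS S M)).left.appTop (g i : Γ(X.left, ⊤)) * amFn (snd X (AMonS S M)) m) := by
      have h3 : ∑ i, (fst X (AMonS S M)).left.appTop (cc i) *
          ((fst X (AMonS S M)).left.appTop (g i : Γ(X.left, ⊤)) * amFn (snd X (AMonS S M)) m) =
          (fst X (AMonS S M)).left.appTop (∑ i, cc i • (g i : Γ(X.left, ⊤))) *
            amFn (snd X (AMonS S M)) m := by
        rw [map_sum, Finset.sum_mul]
        refine Finset.sum_congr rfl fun i _ => ?_
        rw [smul_eq_mul, map_mul, _root_.mul_assoc]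
      rw [h3, hsum, map_one, _root_.one_mul]
    rw [h2]
    exact Subring.sum_mem _ fun i _ => Subring.mul_mem _ (h_fst _) (h_hom m _ (g i).2)
  intro σ
  obtain ⟨p, rfl⟩ := beta_surjective X M σ
  have h_all : beta X M p ∈ R := by
    induction p using MonoidAlgebra.induction_linear with
    | zero => rw [map_zero]; exact Subring.zero_mem _
    | add x y hx hy => rw [map_add]; exact Subring.add_mem _ hx hy
    | single n r => rw [beta_single]; exact Subring.mul_mem _ (h_fst r) (h_chi n)
  exact h_all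

include A1 A2 hfree in
theorem isClosedImmersion_graph [IsAffine (X ⊗ X).left] :
    IsClosedImmersion (graph X c).left :=
  IsClosedImmersion.of_surjective_of_isAffine _ (surjective_graph X c A1 A2 hfree)

end Main

end Groth.Agent.H82.FreeAct
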