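import Groth.Agent.H82.FreeAct
import Groth.Agent.H82.NilGlobal
import Groth.Agent.H82.PLocal
import Groth.Agent.H82.ChartComp
import Groth.Agent.H82.ChartRank
import Groth.Agent.H82.TorusHom
import Groth.Agent.H40.CD.FpqcImm
import Groth.Prelude.Def_TwC
import Mathlib

/-! A free action of a group of multiplicative type on a scheme affine over the base: the graph
morphism and the orbit maps are closed immersions. -/

set_option autoImplicit false
set_option linter.unusedSectionVars false
set_option linter.unusedVariables false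
universe u

open CategoryTheory MonoidalCategory CartesianMonoidalCategory MonObj AlgebraicGeometry
open CategoryTheory.Limits
open Groth.Agent.H42 Groth.Agent.H40 Magnet
open Groth.Agent.H82.AMonPts Groth.Agent.H82.GroupIso

namespace Groth.Agent.H82.FreeGlobal

variable {S : Scheme.{u}} {G X : Over S} [GrpObj G] (a : AlgGrp.Action G X)

theorem symm_map {B : Scheme.{u}} (w : B ⟶ S) {A Y : Over S} (f : A ⟶ Y) :
    ((Over.mapPullbackAdj w).homEquiv ((Over.pullback w).obj A) Y).symm ((Over.pullback w).map f) =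
      (Over.mapPullbackAdj w).counit.app A ≫ f := by
  rw [Adjunction.homEquiv_counit, Adjunction.counit_naturality]

section Chart

variable {B : Scheme.{u}} (w : B ⟶ S) {M : Type} [AddCommGroup M]
  (e : Red.bc w G ≅ AMonS B M) [IsMonHom e.hom]

/-- comparison of the source of the base-changed graph -/
noncomputable def th1 : (Over.pullback w).obj (G ⊗ X) ≅ Red.bc w X ⊗ AMonS B M :=
  prodComparisonIso (Over.pullback w) G X ≪≫ β_ (Red.bc w G) (Red.bc w X) ≪≫
    whiskerLeftIso (Red.bc w X) e

@[reassoc]
theorem th1_hom_fst : (th1 w e).hom ≫ fst (Red.bc w X) (AMonS B M) =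
    (Over.pullback w).map (snd G X) := by
  unfold th1
  simp [CartesianMonoidalCategory.prodComparison_snd]

@[reassoc]
theorem th1_hom_snd : (th1 w e).hom ≫ snd (Red.bc w X) (AMonS B M) =
    (Over.pullback w).map (fst G X) ≫ e.hom := by
  unfold th1
  simp

theorem graph_compat :
    (Over.pullback w).map (lift a.act (snd G X)) ≫ (prodComparisonIso (Over.pullback w) X X).hom =
      (th1 w e).hom ≫ FreeAct.graph (Red.bc w X) (NilGlobal.cB a w e) := by
  apply CartesianMonoidalCategory.hom_ext
  · rw [Category.assoc, Category.assoc]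
    unfold FreeAct.graph
    rw [lift_fst, prodComparisonIso_hom, CartesianMonoidalCategory.prodComparison_fst, ← Functor.map_comp, lift_fst,
      NilGlobal.comp_cB, th1_hom_snd_assoc, th1_hom_fst, e.hom_inv_id, Category.comp_id]
    unfold bcPtM
    rw [symm_map, symm_map, ← comp_psmul, psmul_def, lift_fst_snd]
    have h1 : (𝟙 (G ⊗ X) : G ⊗ X ⟶ G ⊗ X) ≫ a.act = a.act := Category.id_comp _
    rw [h1, ← symm_map, Equiv.apply_symm_apply]
  · rw [Category.assoc, Category.assoc]
    unfold FreeAct.graph
    rw [lift_snd, prodComparisonIso_hom, CartesianMonoidalCategory.prodComparison_snd, ← Functor.map_comp, lift_snd,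
      th1_hom_fst]

variable (hfree : ∀ (Y : Over S) (g : Y ⟶ G) (x : Y ⟶ X), lift g x ≫ a.act = x → g = 1)

include hfree in
theorem free_cB (T : Over B) (x : T ⟶ Red.bc w X) (g : T ⟶ AMonS B M)
    (h : lift x g ≫ NilGlobal.cB a w e = x) : g = 1 := by
  rw [NilGlobal.lift_cB] at h
  have h1 := congrArg ((Over.mapPullbackAdj w).homEquiv _ X).symm h
  rw [Equiv.symm_apply_apply] at h1
  have h2 := hfree _ _ _ h1
  rw [← NilGlobal.bcPtM_one w (G := G) (T := T)] at h2
  have h3 : g ≫ e.inv = 1 := bcPtM_injective w G h2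
  calc g = (g ≫ e.inv) ≫ e.hom := by rw [Category.assoc, e.inv_hom_id, Category.comp_id]
    _ = 1 := by rw [h3, MonObj.one_comp]

include hfree e in
theorem isClosedImmersion_chart [IsAffine B] (hX : IsAffineHom X.hom) :
    IsClosedImmersion ((Over.pullback w).map (lift a.act (snd G X))).left := by
  have : IsAffineHom (Red.bc w X).hom := by
    change IsAffineHom (pullback.snd X.hom w)
    infer_instance
  have : IsAffine (Red.bc w X).left := isAffine_of_isAffineHom (Red.bc w X).hom
  have : IsAffine (Red.bc w X ⊗ Red.bc w X).left := by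
    change IsAffine (pullback (Red.bc w X).hom (Red.bc w X).hom)
    infer_instance
  have h1 : IsClosedImmersion (FreeAct.graph (Red.bc w X) (NilGlobal.cB a w e)).left :=
    FreeAct.isClosedImmersion_graph (Red.bc w X) (NilGlobal.cB a w e) (NilGlobal.A1 a w e)
      (NilGlobal.A2 a w e) (free_cB a w e hfree)
  have h2 : (Over.pullback w).map (lift a.act (snd G X)) =
      (th1 w e).hom ≫ FreeAct.graph (Red.bc w X) (NilGlobal.cB a w e) ≫
        (prodComparisonIso (Over.pullback w) X X).inv := by
    rw [← Category.assoc, ← graph_compat, Category.assoc, Iso.hom_inv_id, Category.comp_id]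
  rw [h2, Over.comp_left, Over.comp_left]
  have : IsIso (th1 (X := X) w e).hom.left :=
    inferInstanceAs (IsIso ((Over.forget _).map (th1 (X := X) w e).hom))
  have : IsIso (prodComparisonIso (Over.pullback w) X X).inv.left :=
    inferInstanceAs (IsIso ((Over.forget _).map (prodComparisonIso (Over.pullback w) X X).inv))
  infer_instance

end Chart

variable (hG : TwC.Locally S TwC.Topology.fpqc (fun S' f => ∃ (M : Type) (_ : AddCommGroup M),
    Nonempty (Grp.mk (Red.bc f G) ≅ Grp.mk (Red.DS S' M))))
  (hX : IsAffineHom X.hom)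
  (hfree : ∀ (Y : Over S) (g : Y ⟶ G) (x : Y ⟶ X), lift g x ≫ a.act = x → g = 1)

include hG hX hfree in
theorem isClosedImmersion_graph : IsClosedImmersion (lift a.act (snd G X)).left := by
  obtain ⟨S₁, f₁, hflat₁, hsurj₁, hqc₁, htriv₁⟩ := hG
  have h₁ : Presieve.singleton f₁ ∈ Scheme.fpqcPrecoverage S :=
    Groth.Agent.H40.CD.singleton_mem_fpqcPrecoverage_of_image f₁ hsurj₁ hflat₁ hqc₁
  apply PLocal.P_of_locally @IsClosedImmersion Groth.Agent.H40.CD.isClosedImmersion_descendsAlong
    f₁ h₁
  intro z
  obtain ⟨U₁, hz₁, M₁, iM₁, hs₁⟩ := htriv₁ z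
  obtain ⟨e₁, he₁⟩ := TorusHom.exists_iso_of_grpIso hs₁
  obtain ⟨V, hV, hzV, -⟩ := exists_isAffineOpen_mem_and_subset (X := U₁.toScheme)
    (x := ⟨z, hz₁⟩) (U := ⊤) trivial
  obtain ⟨e', he', -⟩ := ChartComp.exists_chart_comp (U₁.ι ≫ f₁) V.ι G e₁
  obtain ⟨e'', he''⟩ := ChartRank.chart_congr (Category.assoc V.ι U₁.ι f₁).symm G e'
  refine ⟨V, V.ι ≫ U₁.ι, inferInstance, ⟨⟨⟨z, hz₁⟩, hzV⟩, rfl⟩, ?_⟩
  have : IsAffine V.toScheme := hV
  exact isClosedImmersion_chart a ((V.ι ≫ U₁.ι) ≫ f₁) e'' hfree hX

include hG hX hfree in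
theorem isClosedImmersion_orbitMap (σ : 𝟙_ (Over S) ⟶ X) :
    IsClosedImmersion (a.orbitMap σ).left := by
  have hgraph := isClosedImmersion_graph a hG hX hfree
  let s : G ⟶ G ⊗ X := lift (𝟙 G) (toUnit G ≫ σ)
  let t : X ⟶ X ⊗ X := lift (𝟙 X) (toUnit X ≫ σ)
  have hsep : IsSeparated (fst G X).left := by
    rw [Over.fst_left]
    infer_instance
  have hs : IsClosedImmersion s.left := by
    have h1 : s.left ≫ (fst G X).left = 𝟙 _ := by
      rw [← Over.comp_left, lift_fst]
      rfl
    have h2 : IsClosedImmersion (s.left ≫ (fst G X).left) := by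
      rw [h1]
      infer_instance
    exact IsClosedImmersion.of_comp s.left (fst G X).left
  have hcomm : a.orbitMap σ ≫ t = s ≫ lift a.act (snd G X) := by
    apply CartesianMonoidalCategory.hom_ext
    · rw [Category.assoc, lift_fst, Category.comp_id, Category.assoc, lift_fst]
      rfl
    · rw [Category.assoc, lift_snd, Category.assoc, lift_snd, lift_snd, ← Category.assoc]
      congr 1
      exact toUnit_unique _ _
  have hmono : Mono t.left := by
    have h1 : t.left ≫ (fst X X).left = 𝟙 _ := by
      rw [← Over.comp_left, lift_fst]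
      rfl
    exact mono_of_mono_fac h1
  have h3 : IsClosedImmersion ((a.orbitMap σ).left ≫ t.left) := by
    rw [← Over.comp_left, hcomm, Over.comp_left]
    infer_instance
  exact IsClosedImmersion.of_comp (a.orbitMap σ).left t.left

end Groth.Agent.H82.FreeGlobal
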