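import Mathlib
import Groth.Prelude.Def_W4c3convisocdirimgFrobIter

/-! Lifting morphisms along Frobenius thickenings (helper82). -/

set_option autoImplicit false
set_option linter.style.haveILetI false
universe u

open CategoryTheory CategoryTheory.Limits AlgebraicGeometry FrobSch

namespace Groth.Agent.H82.FrobLift

variable (p : ℕ) [Fact p.Prime] (T : Scheme.{u}) [FrobSch.IsCharP T p]

lemma frobIter_apply (n : ℕ) (x : T) : (frobIter T p n) x = x := by
  induction n with
  | zero => rfl
  | succ n ih =>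
    rw [frobIter_succ]
    change (frobIter T p n) ((frob T p) x) = x
    rw [frob_apply, ih]

instance quasiCompact_frobIter (n : ℕ) : QuasiCompact (frobIter T p n) := by
  constructor
  intro U _ hU
  have : (frobIter T p n) ⁻¹' U = U := by
    ext x
    rw [Set.mem_preimage, frobIter_apply]
  rw [this]
  exact hU

lemma frobIter_app_eq_zero_iff (n : ℕ) (U : T.Opens) (s : Γ(T, U)) :
    (frobIter T p n).app U s = 0 ↔ s ^ (p ^ n) = 0 := by
  induction n generalizing s with
  | zero =>
    rw [pow_zero, pow_one]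
    rfl
  | succ n ih =>
    have h1 : (frobIter T p (n + 1)).app U =
        (frobIter T p n).app U ≫ (frob T p).app ((frobIter T p n) ⁻¹ᵁ U) :=
      Scheme.Hom.comp_app _ _ _
    rw [h1]
    change ((frobIter T p n).app U s) ^ p = 0 ↔ _
    rw [← map_pow, ih, ← pow_mul, ← pow_succ']

/-- the `p`-th power of a section killed by `F^(n+1)` is killed by `F^n`: the Frobenius of `T`
maps `T^(n)` into `T^(n+1)` -/
lemma ker_le (n : ℕ) :
    (frobIter T p (n + 1)).ker ≤
      ((frobIter T p n).ker.subschemeι ≫ frob T p).ker := by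
  change _ ≤ Scheme.IdealSheafData.ofIdeals _
  rw [Scheme.IdealSheafData.le_ofIdeals_iff]
  intro U s hs
  have h1 := Scheme.Hom.ideal_ker_le _ U hs
  rw [RingHom.mem_ker] at h1
  have h1' : (frobIter T p (n + 1)).app U s = 0 := h1
  rw [frobIter_app_eq_zero_iff, pow_succ', pow_mul] at h1'
  have h2 : (frobIter T p n).app U (s ^ p) = 0 := (frobIter_app_eq_zero_iff p T n U _).mpr h1'
  have h3 : s ^ p ∈ (frobIter T p n).ker.ideal U := by
    rw [Scheme.Hom.ker_apply]
    exact h2
  have h4 : s ^ p ∈ ((frobIter T p n).ker.subschemeι).ker.ideal U := by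
    rw [Scheme.IdealSheafData.ker_subschemeι]
    exact h3
  have h5 := Scheme.Hom.ideal_ker_le _ U h4
  rw [RingHom.mem_ker]
  have h6 : ((frobIter T p n).ker.subschemeι ≫ frob T p).app U =
      (frob T p).app U ≫ ((frobIter T p n).ker.subschemeι).app ((frob T p) ⁻¹ᵁ U) :=
    Scheme.Hom.comp_app _ _ _
  rw [h6]
  exact h5

/-- the Frobenius-like morphism `T^(n) ⟶ T^(n+1)` -/
noncomputable def psi (n : ℕ) :
    (frobIter T p n).ker.subscheme ⟶ (frobIter T p (n + 1)).ker.subscheme :=
  IsClosedImmersion.lift (frobIter T p (n + 1)).ker.subschemeι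
    ((frobIter T p n).ker.subschemeι ≫ frob T p)
    (by rw [Scheme.IdealSheafData.ker_subschemeι]; exact ker_le p T n)

lemma psi_fac (n : ℕ) :
    psi p T n ≫ (frobIter T p (n + 1)).ker.subschemeι =
      (frobIter T p n).ker.subschemeι ≫ frob T p :=
  IsClosedImmersion.lift_fac _ _ _

theorem main (k : Type u) [Field k] [CharP k p] (n : ℕ)
    {X : Scheme.{u}} (t : T ⟶ Spec (CommRingCat.of k))
    (x : X ⟶ Spec (CommRingCat.of k))
    (i : T.nilradical.subscheme ⟶ (FrobSch.frobIter T p (n + 1)).ker.subscheme)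
    (hi : i ≫ (FrobSch.frobIter T p (n + 1)).ker.subschemeι = T.nilradical.subschemeι)
    (j : T.nilradical.subscheme ⟶ (FrobSch.frobIter T p n).ker.subscheme)
    (hj : j ≫ (FrobSch.frobIter T p n).ker.subschemeι = T.nilradical.subschemeι)
    (w : (FrobSch.frobIter T p (n + 1)).ker.subscheme ⟶ X)
    (hw : w ≫ x = (FrobSch.frobIter T p (n + 1)).ker.subschemeι ≫ t) :
    ∃ v : (FrobSch.frobIter T p n).ker.subscheme ⟶ FrobSch.frobTwist x p,
      v ≫ pullback.snd x (FrobSch.frob (Spec (CommRingCat.of k)) p) =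
          (FrobSch.frobIter T p n).ker.subschemeι ≫ t ∧
        j ≫ v = i ≫ w ≫ FrobSch.relFrob x p := by
  haveI hX : IsCharP X p := IsCharP.of_hom x p
  haveI hZ1 : IsCharP (frobIter T p (n + 1)).ker.subscheme p :=
    IsCharP.of_hom (frobIter T p (n + 1)).ker.subschemeι p
  haveI hZ0 : IsCharP (frobIter T p n).ker.subscheme p :=
    IsCharP.of_hom (frobIter T p n).ker.subschemeι p
  haveI hT0 : IsCharP T.nilradical.subscheme p := IsCharP.of_hom T.nilradical.subschemeι p
  have hcomm : (psi p T n ≫ w) ≫ x =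
      ((frobIter T p n).ker.subschemeι ≫ t) ≫ frob (Spec (CommRingCat.of k)) p := by
    rw [Category.assoc, hw, ← Category.assoc, psi_fac, Category.assoc, Category.assoc,
      frob_comp p t]
  refine ⟨pullback.lift (psi p T n ≫ w) ((frobIter T p n).ker.subschemeι ≫ t) hcomm,
    pullback.lift_snd _ _ _, ?_⟩
  apply pullback.hom_ext
  · rw [Category.assoc, pullback.lift_fst, Category.assoc, Category.assoc, relFrob_fst]
    -- `j ≫ ψ = F ≫ i`
    have h1 : j ≫ psi p T n = frob T.nilradical.subscheme p ≫ i := by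
      rw [← cancel_mono (frobIter T p (n + 1)).ker.subschemeι, Category.assoc, psi_fac,
        ← Category.assoc, hj, Category.assoc, hi, frob_comp p T.nilradical.subschemeι]
    rw [← Category.assoc, h1, ← frob_comp p w, ← Category.assoc, ← frob_comp p i]
  · rw [Category.assoc, pullback.lift_snd, Category.assoc, Category.assoc, relFrob_snd, hw,
      ← Category.assoc, hj, ← Category.assoc, hi]

end Groth.Agent.H82.FrobLift
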