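import Mathlib
import Groth.Agent.H47.FSArtin

/-!
# Lengths of Artinian local rings along flat formally smooth local homomorphisms
-/

set_option autoImplicit false
set_option linter.style.haveILetI false
universe u

open IsLocalRing TensorProduct

namespace Groth.Agent.H82.GenLen

section field

/-- An Artinian local ring formally smooth over a field is a field. -/
theorem isField_of_formallySmooth_field (κ : Type u) [Field κ] (T : Type u) [CommRing T]
    [IsLocalRing T] [IsArtinianRing T] [Algebra κ T] [Algebra.FormallySmooth κ T] : IsField T := by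
  obtain h0 | ⟨p, hp, hpk⟩ := CharP.exists' κ
  · letI : Algebra ℚ T := ((algebraMap κ T).comp (algebraMap ℚ κ)).toAlgebra
    haveI : IsScalarTower ℚ κ T := IsScalarTower.of_algebraMap_eq fun _ => rfl
    haveI : Algebra.FormallySmooth ℚ κ := Groth.Agent.H47.formallySmooth_of_perfectField_field
    haveI : Algebra.FormallySmooth ℚ T := Algebra.FormallySmooth.comp ℚ κ T
    exact Groth.Agent.H47.isField_of_formallySmooth_of_isArtinianRing ℚ T
  · haveI := hp
    letI := ZMod.algebra κ p
    letI : Algebra (ZMod p) T := ((algebraMap κ T).comp (algebraMap (ZMod p) κ)).toAlgebra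
    haveI : IsScalarTower (ZMod p) κ T := IsScalarTower.of_algebraMap_eq fun _ => rfl
    haveI : Algebra.FormallySmooth (ZMod p) κ := Groth.Agent.H47.formallySmooth_of_perfectField_field
    haveI : Algebra.FormallySmooth (ZMod p) T := Algebra.FormallySmooth.comp (ZMod p) κ T
    exact Groth.Agent.H47.isField_of_formallySmooth_of_isArtinianRing (ZMod p) T

end field


section core

/-- For a flat, formally smooth local homomorphism `A → A'` with `A'` Artinian, the lengths of
`A` and `A'` (as modules over themselves) agree. -/
theorem length_eq_of_flat_formallySmooth (A A' : Type u) [CommRing A] [CommRing A']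
    [IsLocalRing A] [IsLocalRing A'] [IsArtinianRing A'] [Algebra A A']
    [IsLocalHom (algebraMap A A')] [Module.Flat A A'] [Algebra.FormallySmooth A A'] :
    Module.length A' A' = Module.length A A := by
  haveI : IsLocalRing (ResidueField A ⊗[A] A') := inferInstance
  haveI : IsArtinianRing (ResidueField A ⊗[A] A') :=
    Function.Surjective.isArtinianRing
      (f := (Algebra.TensorProduct.includeRight : A' →ₐ[A] ResidueField A ⊗[A] A').toRingHom)
      (TensorProduct.mk_surjective _ _ _ residue_surjective)
  have hT : IsField (ResidueField A ⊗[A] A') :=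
    isField_of_formallySmooth_field (ResidueField A) (ResidueField A ⊗[A] A')
  let eSp : ResidueField A ⊗[A] A' ≃+* A' ⧸ (maximalIdeal A).map (algebraMap A A') :=
    (Algebra.TensorProduct.comm A (ResidueField A) A').toRingEquiv.trans
      (Algebra.TensorProduct.quotIdealMapEquivTensorQuot A' (maximalIdeal A)).symm.toRingEquiv
  have hQ : IsField (A' ⧸ (maximalIdeal A).map (algebraMap A A')) :=
    eSp.symm.toMulEquiv.isField hT
  have hmax : ((maximalIdeal A).map (algebraMap A A')).IsMaximal :=
    Ideal.Quotient.maximal_of_isField _ hQ
  have h1 : Module.length A' (A' ⧸ (maximalIdeal A).map (algebraMap A A')) = 1 := by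
    haveI : IsSimpleModule A' (A' ⧸ (maximalIdeal A).map (algebraMap A A')) :=
      isSimpleModule_iff_quot_maximal.mpr ⟨_, hmax, ⟨LinearEquiv.refl _ _⟩⟩
    exact Module.length_eq_one _ _
  have h2 := IsLocalRing.length_baseChange A A' A
  rw [h1, mul_one] at h2
  rw [← h2]
  exact (AlgebraTensorModule.rid A A' A').length_eq.symm

end core

end Groth.Agent.H82.GenLen
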