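import Mathlib
import Groth.Prelude.Def_MoreMor
import Groth.Agent.H82.GenLen
import Groth.Agent.H44.FormallySmoothOmega

/-!
# Lengths of the local rings at generic points along a flat formally smooth morphism
-/

set_option autoImplicit false
set_option linter.style.haveILetI false
universe u
open CategoryTheory CategoryTheory.Limits AlgebraicGeometry TopologicalSpace

namespace Groth.Agent.H82.GenLenSch

/-- A flat morphism of irreducible schemes maps the generic point to the generic point. -/
theorem map_genericPoint_of_flat {X' X : Scheme.{u}} (f : X' ⟶ X) [IrreducibleSpace ↥X']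
    [IrreducibleSpace ↥X] [Flat f] : f (genericPoint X') = genericPoint X := by
  have hg : GeneralizingMap f := Flat.generalizingMap f
  obtain ⟨a', ha', hfa'⟩ := hg (a := genericPoint X') (b := genericPoint X)
    (genericPoint_specializes _)
  have : a' = genericPoint X' := (ha'.antisymm (genericPoint_specializes a')).eq
  rw [← this, hfa']

/-- The local ring at the generic point of an irreducible Noetherian scheme is Artinian. -/
theorem isArtinianRing_stalk_genericPoint (X : Scheme.{u}) [IrreducibleSpace ↥X] [IsNoetherian X] :
    IsArtinianRing (X.presheaf.stalk (genericPoint X)) := by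
  haveI : IsNoetherianRing (X.presheaf.stalk (genericPoint X)) := inferInstance
  rw [isArtinianRing_iff_krullDimLE_zero]
  apply krullDimLE_of_coheight_le
  have : Order.coheight (genericPoint X) = 0 := by
    rw [Order.coheight_eq_zero]
    intro b hb
    exact le_of_eq (Specializes.antisymm hb (genericPoint_specializes b)).eq
  rw [this]
  rfl

theorem main {X' X : Scheme.{u}} (f : X' ⟶ X)
    [IrreducibleSpace ↥X'] [IrreducibleSpace ↥X] [IsNoetherian X'] [IsNoetherian X] [Flat f]
    (hf : MoreMor.IsFormallySmoothHom f) :
    Module.length (X'.presheaf.stalk (genericPoint X')) (X'.presheaf.stalk (genericPoint X'))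
      = Module.length (X.presheaf.stalk (genericPoint X)) (X.presheaf.stalk (genericPoint X)) := by
  have hη := map_genericPoint_of_flat f
  rw [← hη]
  set x := genericPoint X' with hx
  haveI := isArtinianRing_stalk_genericPoint X'
  letI alg : Algebra (X.presheaf.stalk (f x)) (X'.presheaf.stalk x) := (f.stalkMap x).hom.toAlgebra
  haveI : IsLocalHom (algebraMap (X.presheaf.stalk (f x)) (X'.presheaf.stalk x)) :=
    (inferInstance : IsLocalHom (f.stalkMap x).hom)
  haveI : Module.Flat (X.presheaf.stalk (f x)) (X'.presheaf.stalk x) := Flat.stalkMap f x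
  haveI : Algebra.FormallySmooth (X.presheaf.stalk (f x)) (X'.presheaf.stalk x) := by
    obtain ⟨_, ⟨V, hV, rfl⟩, hxV, -⟩ :=
      X.isBasis_affineOpens.exists_subset_of_mem_open (Set.mem_univ (f x)) isOpen_univ
    obtain ⟨_, ⟨U, hU, rfl⟩, hxU, hUV⟩ :=
      X'.isBasis_affineOpens.exists_subset_of_mem_open hxV (V.2.preimage f.continuous)
    have h1 := Groth.Agent.H44.formallySmooth_appLE_of_isFormallySmoothHom hf hU hV hUV
    have h2 : (f.stalkMap x).hom.FormallySmooth := by
      rw [formallySmooth_stalkMap_iff V hV U hU hUV hxU]
      letI := (f.appLE V U hUV).hom.toAlgebra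
      haveI := h1
      change Algebra.FormallySmooth Γ(X, V) (Localization.AtPrime (hU.primeIdealOf ⟨x, hxU⟩).asIdeal)
      exact Algebra.FormallySmooth.comp Γ(X, V) Γ(X', U) _
    exact h2
  exact Groth.Agent.H82.GenLen.length_eq_of_flat_formallySmooth _ _

end Groth.Agent.H82.GenLenSch
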