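import Mathlib.RingTheory.GradedAlgebra.Homogeneous.Ideal
import Mathlib.Algebra.GradedMulAction
import Mathlib.Algebra.Module.Projective
import Mathlib.RingTheory.Finiteness.Basic
import Mathlib.Algebra.Algebra.Operations
import Mathlib.LinearAlgebra.Finsupp.LinearCombination
import Mathlib.Tactic

set_option autoImplicit false
universe u

namespace Groth.Agent.H82.GrComplete

open DirectSum

section

variable {S : Type u} [CommRing S] (𝒜 : ℤ → AddSubgroup S) [GradedRing 𝒜]
  {M : Type u} [AddCommGroup M] [Module S M] (ℳ : ℤ → AddSubgroup M)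
  [DirectSum.Decomposition ℳ] [SetLike.GradedSMul 𝒜 ℳ]

/-- the degree `n` component as an additive map. -/
noncomputable def cmp (n : ℤ) : M →+ M :=
  (ℳ n).subtype.comp ((DFinsupp.evalAddMonoidHom n).comp (decomposeAddEquiv ℳ).toAddMonoidHom)

lemma cmp_apply (n : ℤ) (x : M) : cmp ℳ n x = (decompose ℳ x n : M) := rfl

lemma cmp_smul (a : S) {z : M} {d : ℤ} (hz : z ∈ ℳ d) (n : ℤ) :
    cmp ℳ n (a • z) = ((decompose 𝒜 a (n - d) : S)) • z := by
  induction a using DirectSum.Decomposition.inductionOn 𝒜 with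
  | zero => simp
  | @homogeneous i a =>
    have h1 : (a : S) • z ∈ ℳ (i + d) := by
      have := SetLike.GradedSMul.smul_mem (A := 𝒜) (B := ℳ) a.2 hz
      simpa [vadd_eq_add] using this
    rw [cmp_apply]
    by_cases h : i + d = n
    · subst h
      rw [decompose_of_mem_same ℳ h1]
      have : i + d - d = i := by ring
      rw [this, decompose_of_mem_same 𝒜 a.2]
    · rw [decompose_of_mem_ne ℳ h1 h]
      have : i ≠ n - d := fun h' => h (by rw [h']; ring)
      rw [decompose_of_mem_ne 𝒜 a.2 this, zero_smul]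
  | add a b ha hb =>
    rw [add_smul, map_add, ha, hb, decompose_add, DirectSum.add_apply, AddSubgroup.coe_add,
      add_smul]

variable {ι : Type*} [Fintype ι] (x : ι → M) (d : ι → ℤ) (hx : ∀ i, x i ∈ ℳ (d i))

include hx in
lemma eq_sum_of_mem {n : ℤ} {y : M} (hy : y ∈ ℳ n) (c : ι → S) (hc : y = ∑ i, c i • x i) :
    y = ∑ i, ((decompose 𝒜 (c i) (n - d i) : S)) • x i := by
  have h1 : cmp ℳ n y = y := by rw [cmp_apply]; exact decompose_of_mem_same ℳ hy
  rw [← h1]
  conv_lhs => rw [hc]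
  rw [map_sum]
  exact Finset.sum_congr rfl fun i _ => cmp_smul 𝒜 ℳ (c i) (hx i) n

end

section main

variable {S : Type u} [CommRing S] (𝒜 : ℤ → AddSubgroup S) [GradedRing 𝒜]
  {M : Type u} [AddCommGroup M] [Module S M] (ℳ : ℤ → AddSubgroup M)
  [DirectSum.Decomposition ℳ] [SetLike.GradedSMul 𝒜 ℳ]

omit [SetLike.GradedSMul 𝒜 ℳ] in
lemma exists_homog_gens [Module.Finite S M] :
    ∃ T : Finset M, (∀ t ∈ T, ∃ l, t ∈ ℳ l) ∧ Submodule.span S (T : Set M) = ⊤ := by
  classical
  have hspan : Submodule.span S {z : M | ∃ l, z ∈ ℳ l} = ⊤ := by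
    rw [eq_top_iff]
    rintro x -
    rw [← DirectSum.sum_support_decompose ℳ x]
    exact Submodule.sum_mem _ fun i _ => Submodule.subset_span ⟨i, (decompose ℳ x i).2⟩
  obtain ⟨T, hT, hT2⟩ := (Submodule.fg_span_iff_fg_span_finset_subset
    {z : M | ∃ l, z ∈ ℳ l}).1 (by rw [hspan]; exact Module.Finite.fg_top)
  exact ⟨T, fun t ht => hT ht, by rw [← hT2, hspan]⟩

lemma map_mem_of_mem_smul_top (I : Ideal S) (f : M →ₗ[S] S) {y : M}
    (hy : y ∈ I • (⊤ : Submodule S M)) : f y ∈ I := by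
  refine Submodule.smul_induction_on hy (fun a ha z _ => ?_) (fun x y hx hy => ?_)
  · rw [map_smul, smul_eq_mul]; exact I.mul_mem_right _ ha
  · rw [map_add]; exact I.add_mem hx hy

theorem main (V : ℕ → HomogeneousIdeal 𝒜)
    (hsep : ∀ (n : ℤ) (s : S), s ∈ 𝒜 n → (∀ m, s ∈ (V m).toIdeal) → s = 0)
    (hcpl : ∀ (n : ℤ) (f : ℕ → S), (∀ m, f m ∈ 𝒜 n) →
      (∀ m, f (m + 1) - f m ∈ (V m).toIdeal) → ∃ s ∈ 𝒜 n, ∀ m, s - f m ∈ (V m).toIdeal)
    [Module.Finite S M] [Module.Projective S M] :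
    (∀ (n : ℤ) (x : M), x ∈ ℳ n → (∀ m, x ∈ (V m).toIdeal • (⊤ : Submodule S M)) → x = 0) ∧
    (∀ (n : ℤ) (g : ℕ → M), (∀ m, g m ∈ ℳ n) →
      (∀ m, g (m + 1) - g m ∈ (V m).toIdeal • (⊤ : Submodule S M)) →
      ∃ x ∈ ℳ n, ∀ m, x - g m ∈ (V m).toIdeal • (⊤ : Submodule S M)) := by
  classical
  obtain ⟨T, hT, hTspan⟩ := exists_homog_gens (S := S) ℳ
  let ι := {t // t ∈ T}
  let x : ι → M := Subtype.val
  have hd : ∀ i : ι, ∃ l, x i ∈ ℳ l := fun i => hT i.1 i.2
  choose d hx using hd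
  have hsurj : Function.Surjective (Fintype.linearCombination S x) := by
    rw [← LinearMap.range_eq_top, Fintype.range_linearCombination]
    have : Set.range x = (T : Set M) := Subtype.range_coe
    rw [this, hTspan]
  obtain ⟨s, hs⟩ := Module.projective_lifting_property (Fintype.linearCombination S x)
    (LinearMap.id : M →ₗ[S] M) hsurj
  have hs' : ∀ y : M, y = ∑ i, s y i • x i := by
    intro y
    have := LinearMap.congr_fun hs y
    simp only [LinearMap.comp_apply, LinearMap.id_apply, Fintype.linearCombination_apply] at this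
    exact this.symm
  have hmem : ∀ (m : ℕ) (y : M), y ∈ (V m).toIdeal • (⊤ : Submodule S M) → ∀ (i : ι) (l : ℤ),
      ((decompose 𝒜 (s y i) l : S)) ∈ (V m).toIdeal := by
    intro m y hy i l
    apply (V m).isHomogeneous l
    exact map_mem_of_mem_smul_top (V m).toIdeal (LinearMap.proj i ∘ₗ s) hy
  constructor
  · intro n y hy hyV
    rw [eq_sum_of_mem 𝒜 ℳ x d hx hy (fun i => s y i) (hs' y)]
    refine Finset.sum_eq_zero fun i _ => ?_
    rw [hsep (n - d i) _ (decompose 𝒜 (s y i) (n - d i)).2 (fun m => hmem m y (hyV m) i _),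
      zero_smul]
  · intro n g hg hgV
    let a : ι → ℕ → S := fun i m => (decompose 𝒜 (s (g m) i) (n - d i) : S)
    have ha : ∀ i, ∃ b ∈ 𝒜 (n - d i), ∀ m, b - a i m ∈ (V m).toIdeal := by
      intro i
      apply hcpl (n - d i) (a i) (fun m => (decompose 𝒜 (s (g m) i) (n - d i)).2)
      intro m
      have := hmem m _ (hgV m) i (n - d i)
      rw [map_sub, Pi.sub_apply, decompose_sub, DirectSum.sub_apply, AddSubgroup.coe_sub] at this
      exact this
    choose b hb hba using ha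
    refine ⟨∑ i, b i • x i, ?_, ?_⟩
    · refine sum_mem fun i _ => ?_
      have := SetLike.GradedSMul.smul_mem (A := 𝒜) (B := ℳ) (hb i) (hx i)
      simpa [vadd_eq_add] using this
    · intro m
      rw [eq_sum_of_mem 𝒜 ℳ x d hx (hg m) (fun i => s (g m) i) (hs' (g m)),
        ← Finset.sum_sub_distrib]
      refine Submodule.sum_mem _ fun i _ => ?_
      rw [← sub_smul]
      exact Submodule.smul_mem_smul (hba i m) Submodule.mem_top

end main

end Groth.Agent.H82.GrComplete
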