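import Groth.Agent.H82.ImgTorus
import Groth.Agent.H82.CentExt

/-! Over a connected base, a group of multiplicative type has a greatest split subtorus. -/

set_option autoImplicit false
set_option linter.unusedSectionVars false
universe u

open CategoryTheory MonoidalCategory CartesianMonoidalCategory MonObj GrpObj AlgebraicGeometry
open CategoryTheory.Limits
open Groth.Agent.H42 Groth.Agent.H40 Magnet
open Groth.Agent.H82.AMonPts Groth.Agent.H82.GroupIso Groth.Agent.H82.ChartComp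

namespace Groth.Agent.H82.GreatestSplit

variable {S : Scheme.{u}}

/-- a subgroup of a free group of finite rank is free of finite rank -/
theorem exists_free_rank {N : Type} [AddCommGroup N] [Module.Free ℤ N] [Module.Finite ℤ N]
    (K : AddSubgroup N) : ∃ r : ℕ, Nonempty (K ≃+ (Fin r → ℤ)) := by
  let b := Module.Free.chooseBasis ℤ N
  obtain ⟨n, ⟨b'⟩⟩ := Submodule.nonempty_basis_of_pid b (AddSubgroup.toIntSubmodule K)
  exact ⟨n, ⟨b'.equivFun.toAddEquiv⟩⟩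

/-- the product of two homomorphisms into a commutative group is a homomorphism -/
theorem isMonHom_mul {A G : Over S} [GrpObj A] [GrpObj G]
    (hcomm : ∀ (Y : Over S) (x y : Y ⟶ G), x * y = y * x) (a b : A ⟶ G) [IsMonHom a]
    [IsMonHom b] : IsMonHom (a * b) := by
  apply isMonHom_of_points
  · rw [MonObj.comp_mul, MonObj.one_comp, MonObj.one_comp, _root_.mul_one]
  · intro Y x y
    rw [MonObj.comp_mul, MonObj.comp_mul, MonObj.comp_mul, MonObj.mul_comp, MonObj.mul_comp]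
    rw [_root_.mul_assoc, _root_.mul_assoc]
    congr 1
    rw [← _root_.mul_assoc, ← _root_.mul_assoc]
    congr 1
    exact hcomm Y _ _

theorem comp_map_zero {M N : Type} [AddCommGroup M] [AddCommGroup N] {Y : Over S}
    (x : Y ⟶ AMonS S M) : x ≫ AMonS.map S (0 : N →+ M) = 1 := by
  apply amFn_ext
  intro m
  rw [amFn_map, amFn_one]
  exact map_one _


/-- the sum of two split subtori -/
theorem exists_sum {G : Over S} [ConnectedSpace S] [GrpObj G] (hG : SGA3x.IsMultTypeFT G)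
    {N₁ N₂ : Type} [AddCommGroup N₁] [AddCommGroup N₂] [Module.Free ℤ N₁] [Module.Finite ℤ N₁]
    [Module.Free ℤ N₂] [Module.Finite ℤ N₂]
    (a : AMonS S N₁ ⟶ G) [IsMonHom a] (b : AMonS S N₂ ⟶ G) [IsMonHom b] :
    ∃ (r : ℕ) (j : AMonS S (Fin r → ℤ) ⟶ G) (g₁ : AMonS S N₁ ⟶ AMonS S (Fin r → ℤ))
      (g₂ : AMonS S N₂ ⟶ AMonS S (Fin r → ℤ)), IsMonHom j ∧ Mono j ∧ g₁ ≫ j = a ∧ g₂ ≫ j = b := by
  have hcomm : ∀ (Y : Over S) (x y : Y ⟶ G), x * y = y * x :=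
    fun Y x y => CentExt.mul_comm_of_isMultTypeFT hG x y
  let p₁ : AMonS S (N₁ × N₂) ⟶ AMonS S N₁ := AMonS.map S (AddMonoidHom.inl N₁ N₂)
  let p₂ : AMonS S (N₁ × N₂) ⟶ AMonS S N₂ := AMonS.map S (AddMonoidHom.inr N₁ N₂)
  let ι₁ : AMonS S N₁ ⟶ AMonS S (N₁ × N₂) := AMonS.map S (AddMonoidHom.fst N₁ N₂)
  let ι₂ : AMonS S N₂ ⟶ AMonS S (N₁ × N₂) := AMonS.map S (AddMonoidHom.snd N₁ N₂)
  have h11 : ι₁ ≫ p₁ = 𝟙 _ := by
    change AMonS.map S _ ≫ AMonS.map S _ = _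
    rw [← AMonS.map_comp, AddMonoidHom.fst_comp_inl, TorusQuot.map_id]
  have h22 : ι₂ ≫ p₂ = 𝟙 _ := by
    change AMonS.map S _ ≫ AMonS.map S _ = _
    rw [← AMonS.map_comp, AddMonoidHom.snd_comp_inr, TorusQuot.map_id]
  have h12 : ι₁ ≫ p₂ = 1 := by
    change AMonS.map S _ ≫ AMonS.map S _ = _
    rw [← AMonS.map_comp, AddMonoidHom.fst_comp_inr]
    have := comp_map_zero (S := S) (M := N₁) (N := N₂) (𝟙 _)
    rwa [Category.id_comp] at this
  have h21 : ι₂ ≫ p₁ = 1 := by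
    change AMonS.map S _ ≫ AMonS.map S _ = _
    rw [← AMonS.map_comp, AddMonoidHom.snd_comp_inl]
    have := comp_map_zero (S := S) (M := N₂) (N := N₁) (𝟙 _)
    rwa [Category.id_comp] at this
  let v : AMonS S (N₁ × N₂) ⟶ G := (p₁ ≫ a) * (p₂ ≫ b)
  have hv : IsMonHom v := isMonHom_mul (A := AMonS S (N₁ × N₂)) hcomm (p₁ ≫ a) (p₂ ≫ b)
  have hv1 : ι₁ ≫ v = a := by
    change ι₁ ≫ ((p₁ ≫ a) * (p₂ ≫ b)) = a
    rw [MonObj.comp_mul, ← Category.assoc, ← Category.assoc, h11, h12, Category.id_comp,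
      MonObj.one_comp, _root_.mul_one]
  have hv2 : ι₂ ≫ v = b := by
    change ι₂ ≫ ((p₁ ≫ a) * (p₂ ≫ b)) = b
    rw [MonObj.comp_mul, ← Category.assoc, ← Category.assoc, h22, h21, Category.id_comp,
      MonObj.one_comp, _root_.one_mul]
  have hfg : AddGroup.FG (N₁ × N₂) := Module.Finite.iff_addGroup_fg.mp inferInstance
  obtain ⟨L, j, hjm, hjmono, hj⟩ := ImgTorus.exists_image hG hfg v
  obtain ⟨r, ⟨eL⟩⟩ := exists_free_rank L
  let θ : AMonS S (Fin r → ℤ) ≅ AMonS S L := TorusQuot.mapIso S eL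
  refine ⟨r, θ.hom ≫ j, ι₁ ≫ AMonS.map S L.subtype ≫ θ.inv, ι₂ ≫ AMonS.map S L.subtype ≫ θ.inv,
    inferInstance, inferInstance, ?_, ?_⟩
  · simp only [Category.assoc, Iso.inv_hom_id_assoc]
    rw [hj, hv1]
  · simp only [Category.assoc, Iso.inv_hom_id_assoc]
    rw [hj, hv2]


/-- over a connected base, a group of multiplicative type has a greatest split subtorus -/
theorem exists_greatest_split [ConnectedSpace S] {G : Over S} [GrpObj G]
    (hG : SGA3x.IsMultTypeFT G) :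
    ∃ (T : Over S) (_ : GrpObj T) (j : T ⟶ G) (r : ℕ), IsMonHom j ∧ Mono j ∧
      Red.IsSplitTorusWith (Fin r → ℤ) T ∧
      ∀ (T' : Over S) [GrpObj T'] (j' : T' ⟶ G) [IsMonHom j'] [Mono j'] (r' : ℕ),
        Red.IsSplitTorusWith (Fin r' → ℤ) T' → ∃ g : T' ⟶ T, g ≫ j = j' := by
  obtain ⟨T, iT, j, r, hj1, hj2, hT, hmax⟩ := MaxSplit.exists_max_split hG
  refine ⟨T, iT, j, r, hj1, hj2, hT, fun T' _ j' _ _ r' hT' => ?_⟩
  obtain ⟨e, he⟩ := TorusHom.exists_iso_of_grpIso hT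
  obtain ⟨e', he'⟩ := TorusHom.exists_iso_of_grpIso hT'
  have : IsMonHom (e.inv ≫ j) := inferInstance
  have : IsMonHom (e'.inv ≫ j') := inferInstance
  obtain ⟨r'', j'', g₁, g₂, hj''m, hj''mono, hg₁, hg₂⟩ :=
    exists_sum hG (N₁ := Fin r → ℤ) (N₂ := Fin r' → ℤ) (e.inv ≫ j) (e'.inv ≫ j')
  have hsplit : Red.IsSplitTorusWith (Fin r'' → ℤ) (AMonS S (Fin r'' → ℤ)) := ⟨Iso.refl _⟩
  have hiso : IsIso (e.hom ≫ g₁) := hmax (AMonS S (Fin r'' → ℤ)) j'' r'' (e.hom ≫ g₁) hsplit (by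
    rw [Category.assoc, hg₁, Iso.hom_inv_id_assoc])
  refine ⟨(e'.hom ≫ g₂) ≫ inv (e.hom ≫ g₁), ?_⟩
  have h1 : j = (e.hom ≫ g₁) ≫ j'' := by
    rw [Category.assoc, hg₁, Iso.hom_inv_id_assoc]
  have h2 : j' = (e'.hom ≫ g₂) ≫ j'' := by
    rw [Category.assoc, hg₂, Iso.hom_inv_id_assoc]
  rw [h2, Category.assoc]
  congr 1
  rw [h1, IsIso.inv_hom_id_assoc]

end Groth.Agent.H82.GreatestSplit
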