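import Groth.Agent.H82.LinePts
import Mathlib

/-! Functions on `A¹ × Y'` for affine `Y'`: a polynomial ring. -/

set_option autoImplicit false
set_option linter.unusedSectionVars false
universe u

open CategoryTheory MonoidalCategory CartesianMonoidalCategory MonObj AlgebraicGeometry
open CategoryTheory.Limits
open Groth.Agent.H42 Groth.Agent.H40 Magnet
open Groth.Agent.H82.AMonPts Groth.Agent.H82.LinePts

namespace Groth.Agent.H82.LineIso

variable {S : Scheme.{u}} (Y' : Over S)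

/-- the coordinate function on `A¹ × Y'` -/
noncomputable def xx : Γ((AMonS S ↥N₁ ⊗ Y').left, ⊤) := coord (fst (AMonS S ↥N₁) Y')

/-- `B[X] → Γ(A¹ × Y')` -/
noncomputable def alpha : Polynomial Γ(Y'.left, ⊤) →+* Γ((AMonS S ↥N₁ ⊗ Y').left, ⊤) :=
  Polynomial.eval₂RingHom (snd (AMonS S ↥N₁) Y').left.appTop.hom (xx Y')

theorem alpha_X : alpha Y' Polynomial.X = xx Y' := by
  unfold alpha
  simp

theorem alpha_C (b : Γ(Y'.left, ⊤)) :
    alpha Y' (Polynomial.C b) = (snd (AMonS S ↥N₁) Y').left.appTop b := by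
  unfold alpha
  simp

/-- pulling back `alpha p` along a point `(s, t)` -/
theorem lift_alpha {T : Over S} (s : T ⟶ AMonS S ↥N₁) (t : T ⟶ Y') (p : Polynomial Γ(Y'.left, ⊤)) :
    (lift s t).left.appTop (alpha Y' p) = Polynomial.eval₂ t.left.appTop.hom (coord s) p := by
  induction p using Polynomial.induction_on' with
  | add p q hp hq => rw [map_add, map_add, hp, hq, Polynomial.eval₂_add]
  | monomial n b =>
    rw [← Polynomial.C_mul_X_pow_eq_monomial, map_mul, map_mul, map_pow, map_pow, alpha_C, alpha_X,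
      Polynomial.eval₂_mul, Polynomial.eval₂_C, Polynomial.eval₂_pow, Polynomial.eval₂_X]
    congr 1
    · rw [← CommRingCat.comp_apply, ← Scheme.Hom.comp_appTop, ← Over.comp_left, lift_snd]
    · unfold xx
      rw [← coord_comp, lift_fst]

/-- the zero section -/
noncomputable def zsec : Y' ⟶ AMonS S ↥N₁ ⊗ Y' := lift (ptOf 0) (𝟙 Y')

theorem zsec_alpha (p : Polynomial Γ(Y'.left, ⊤)) :
    (zsec Y').left.appTop (alpha Y' p) = p.coeff 0 := by
  unfold zsec
  rw [lift_alpha, coord_ptOf, Polynomial.eval₂_at_zero]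
  rfl

theorem zsec_snd : zsec Y' ≫ snd _ _ = 𝟙 Y' := lift_snd _ _

theorem zsec_fst : zsec Y' ≫ fst _ _ = ptOf 0 := lift_fst _ _

section Affine

variable [IsAffine Y'.left]

/-- `Spec B[X]` over `S` -/
noncomputable abbrev WW : Over S :=
  Over.mk (Spec.map (CommRingCat.ofHom (Polynomial.C : Γ(Y'.left, ⊤) →+* _)) ≫
    Y'.left.isoSpec.inv ≫ Y'.hom)

noncomputable def tA : WW Y' ⟶ Y' :=
  Over.homMk (Spec.map (CommRingCat.ofHom (Polynomial.C : Γ(Y'.left, ⊤) →+* _)) ≫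
    Y'.left.isoSpec.inv) (by simp)

noncomputable def sA : WW Y' ⟶ AMonS S ↥N₁ :=
  ptOf ((Scheme.ΓSpecIso (CommRingCat.of (Polynomial Γ(Y'.left, ⊤)))).inv Polynomial.X)

noncomputable def eps : WW Y' ⟶ AMonS S ↥N₁ ⊗ Y' := lift (sA Y') (tA Y')

theorem isoSpec_inv_appTop' (Z : Scheme.{u}) [IsAffine Z] :
    Z.isoSpec.inv.appTop = (Scheme.ΓSpecIso Γ(Z, ⊤)).inv := by
  have h := congrArg Scheme.Hom.appTop (Z.isoSpec_inv_toSpecΓ)
  rw [Scheme.Hom.comp_appTop, Scheme.toSpecΓ_appTop, Scheme.Hom.id_appTop] at h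
  rw [← Category.id_comp (Z.isoSpec.inv.appTop), ← Iso.inv_hom_id (Scheme.ΓSpecIso Γ(Z, ⊤)),
    Category.assoc, h, Category.comp_id]

theorem tA_appTop :
    (tA Y').left.appTop ≫ (Scheme.ΓSpecIso (CommRingCat.of (Polynomial Γ(Y'.left, ⊤)))).hom =
      CommRingCat.ofHom (Polynomial.C : Γ(Y'.left, ⊤) →+* _) := by
  change (Spec.map (CommRingCat.ofHom (Polynomial.C : Γ(Y'.left, ⊤) →+* _)) ≫
    Y'.left.isoSpec.inv).appTop ≫ _ = _
  rw [Scheme.Hom.comp_appTop, Category.assoc, Scheme.ΓSpecIso_naturality,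
    isoSpec_inv_appTop']
  exact Iso.inv_hom_id_assoc (Scheme.ΓSpecIso Γ(Y'.left, ⊤)) _

theorem eps_alpha (p : Polynomial Γ(Y'.left, ⊤)) :
    (Scheme.ΓSpecIso (CommRingCat.of (Polynomial Γ(Y'.left, ⊤)))).hom
      ((eps Y').left.appTop (alpha Y' p)) = p := by
  unfold eps
  rw [lift_alpha]
  change (Scheme.ΓSpecIso (CommRingCat.of (Polynomial Γ(Y'.left, ⊤)))).hom.hom _ = _
  rw [Polynomial.hom_eval₂]
  have h1 : (Scheme.ΓSpecIso (CommRingCat.of (Polynomial Γ(Y'.left, ⊤)))).hom.hom.comp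
      (tA Y').left.appTop.hom = Polynomial.C := by
    have := congrArg CommRingCat.Hom.hom (tA_appTop Y')
    exact this
  have h2 : (Scheme.ΓSpecIso (CommRingCat.of (Polynomial Γ(Y'.left, ⊤)))).hom.hom
      (coord (sA Y')) = Polynomial.X := by
    unfold sA
    rw [coord_ptOf]
    exact Iso.inv_hom_id_apply (C := CommRingCat) _ _
  rw [h1, h2, Polynomial.eval₂_C_X]

theorem alpha_injective : Function.Injective (alpha Y') := by
  intro p q h
  rw [← eps_alpha Y' p, ← eps_alpha Y' q, h]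

theorem toSpecΓ_SpecMap_appTop {Z : Scheme.{u}} {A : CommRingCat.{u}} (φ : A ⟶ Γ(Z, ⊤)) (q : A) :
    (Z.toSpecΓ ≫ Spec.map φ).appTop ((Scheme.ΓSpecIso A).inv q) = φ q := by
  rw [Scheme.Hom.comp_appTop, Scheme.toSpecΓ_appTop, CommRingCat.comp_apply,
    ← CommRingCat.comp_apply (Scheme.ΓSpecIso A).inv, ← Scheme.ΓSpecIso_inv_naturality,
    CommRingCat.comp_apply]
  exact Iso.inv_hom_id_apply (C := CommRingCat) _ _

/-- `A¹ × Y' → Spec B[X]` -/
noncomputable def alphaS : AMonS S ↥N₁ ⊗ Y' ⟶ WW Y' :=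
  Over.homMk ((AMonS S ↥N₁ ⊗ Y').left.toSpecΓ ≫ Spec.map (CommRingCat.ofHom (alpha Y'))) (by
    have h1 : CommRingCat.ofHom (Polynomial.C : Γ(Y'.left, ⊤) →+* _) ≫
        CommRingCat.ofHom (alpha Y') = (snd (AMonS S ↥N₁) Y').left.appTop := by
      ext b
      exact alpha_C Y' b
    change (_ ≫ _) ≫ Spec.map _ ≫ Y'.left.isoSpec.inv ≫ Y'.hom = (AMonS S ↥N₁ ⊗ Y').hom
    rw [Category.assoc, ← Spec.map_comp_assoc, h1, ← Scheme.toSpecΓ_naturality_assoc,
      Scheme.toSpecΓ_isoSpec_inv_assoc]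
    exact Over.w (snd (AMonS S ↥N₁) Y'))

theorem alphaS_left : (alphaS Y').left =
    (AMonS S ↥N₁ ⊗ Y').left.toSpecΓ ≫ Spec.map (CommRingCat.ofHom (alpha Y')) := rfl

theorem alphaS_eps : alphaS Y' ≫ eps Y' = 𝟙 _ := by
  apply CartesianMonoidalCategory.hom_ext
  · rw [Category.assoc, Category.id_comp]
    unfold eps
    rw [lift_fst]
    apply coord_ext
    rw [coord_comp]
    unfold sA
    rw [coord_ptOf, alphaS_left, toSpecΓ_SpecMap_appTop]
    exact alpha_X Y'
  · rw [Category.assoc, Category.id_comp]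
    unfold eps
    rw [lift_snd]
    ext : 1
    rw [Over.comp_left, alphaS_left]
    have h1 : CommRingCat.ofHom (Polynomial.C : Γ(Y'.left, ⊤) →+* _) ≫
        CommRingCat.ofHom (alpha Y') = (snd (AMonS S ↥N₁) Y').left.appTop := by
      ext b
      exact alpha_C Y' b
    change (_ ≫ _) ≫ Spec.map _ ≫ Y'.left.isoSpec.inv = _
    rw [Category.assoc, ← Spec.map_comp_assoc, h1, ← Scheme.toSpecΓ_naturality_assoc,
      Scheme.toSpecΓ_isoSpec_inv, Category.comp_id]

theorem alpha_surjective : Function.Surjective (alpha Y') := by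
  intro σ
  refine ⟨(Scheme.ΓSpecIso (CommRingCat.of (Polynomial Γ(Y'.left, ⊤)))).hom
    ((eps Y').left.appTop σ), ?_⟩
  have h := congrArg (fun f => f.left.appTop σ) (alphaS_eps Y')
  simp only [Over.comp_left, Scheme.Hom.comp_appTop, CommRingCat.comp_apply] at h
  have h2 : (eps Y').left.appTop σ =
      (Scheme.ΓSpecIso (CommRingCat.of (Polynomial Γ(Y'.left, ⊤)))).inv
        ((Scheme.ΓSpecIso (CommRingCat.of (Polynomial Γ(Y'.left, ⊤)))).hom
          ((eps Y').left.appTop σ)) := (Iso.hom_inv_id_apply (C := CommRingCat) _ _).symm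
  rw [h2, alphaS_left, toSpecΓ_SpecMap_appTop] at h
  exact h

theorem alpha_bijective : Function.Bijective (alpha Y') :=
  ⟨alpha_injective Y', alpha_surjective Y'⟩

theorem eps_alphaS : eps Y' ≫ alphaS Y' = 𝟙 _ := by
  ext : 1
  rw [Over.comp_left, alphaS_left, Scheme.toSpecΓ_naturality_assoc, ← Spec.map_comp]
  change (Spec (CommRingCat.of (Polynomial Γ(Y'.left, ⊤)))).toSpecΓ ≫ _ = _
  rw [← SpecMap_ΓSpecIso_hom, ← Spec.map_comp]
  have h : CommRingCat.ofHom (alpha Y') ≫ (eps Y').left.appTop ≫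
      (Scheme.ΓSpecIso (CommRingCat.of (Polynomial Γ(Y'.left, ⊤)))).hom = 𝟙 _ := by
    refine CommRingCat.hom_ext (RingHom.ext fun p => ?_)
    exact eps_alpha Y' p
  rw [Category.assoc, h, Spec.map_id]
  rfl

theorem isIso_alphaS_left : IsIso (alphaS Y').left :=
  ⟨(eps Y').left, by rw [← Over.comp_left, alphaS_eps]; rfl,
    by rw [← Over.comp_left, eps_alphaS]; rfl⟩

instance isAffine_prod : IsAffine (AMonS S ↥N₁ ⊗ Y').left :=
  haveI := isIso_alphaS_left Y'
  haveI : IsAffine (WW Y').left :=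
    inferInstanceAs (IsAffine (Spec (CommRingCat.of (Polynomial Γ(Y'.left, ⊤)))))
  IsAffine.of_isIso (alphaS Y').left

end Affine

end Groth.Agent.H82.LineIso
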