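import Groth.Agent.H82.AMonPts
import Groth.Agent.H82.LineIso
import Mathlib

/-! Functions on `X × A(N)_S` for affine `X`: the monoid algebra `Γ(X)[N]`. -/

set_option autoImplicit false
set_option linter.unusedSectionVars false
universe u

open CategoryTheory MonoidalCategory CartesianMonoidalCategory MonObj AlgebraicGeometry
open CategoryTheory.Limits
open Groth.Agent.H42 Groth.Agent.H40 Magnet
open Groth.Agent.H82.AMonPts

namespace Groth.Agent.H82.GroupIso

variable {S : Scheme.{u}} (X : Over S) (N : Type) [AddCommMonoid N]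

/-- `Γ(X)[N] → Γ(X × A(N))` -/
noncomputable def beta :
    MonoidAlgebra Γ(X.left, ⊤) (Multiplicative N) →+* Γ((X ⊗ AMonS S N).left, ⊤) :=
  MonoidAlgebra.liftNCRingHom (fst X (AMonS S N)).left.appTop.hom (amFn (snd X (AMonS S N)))
    (fun _ _ => Commute.all _ _)

theorem beta_single (n : Multiplicative N) (b : Γ(X.left, ⊤)) :
    beta X N (MonoidAlgebra.single n b) =
      (fst X (AMonS S N)).left.appTop b * amFn (snd X (AMonS S N)) n :=
  MonoidAlgebra.liftNCRingHom_single _ _ _ _ _

/-- pulling back `beta p` along a point `(x, s)` -/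
theorem lift_beta {T : Over S} (x : T ⟶ X) (s : T ⟶ AMonS S N) :
    (lift x s).left.appTop.hom.comp (beta X N) =
      MonoidAlgebra.liftNCRingHom x.left.appTop.hom (amFn s) (fun _ _ => Commute.all _ _) := by
  apply MonoidAlgebra.ringHom_ext
  · intro b
    rw [RingHom.comp_apply, beta_single, MonoidAlgebra.liftNCRingHom_single, map_one, map_one,
      _root_.mul_one, _root_.mul_one]
    change (lift x s).left.appTop ((fst X (AMonS S N)).left.appTop b) = _
    rw [← CommRingCat.comp_apply, ← Scheme.Hom.comp_appTop, ← Over.comp_left, lift_fst]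
  · intro n
    rw [RingHom.comp_apply, beta_single, MonoidAlgebra.liftNCRingHom_single, map_one, map_one,
      _root_.one_mul, _root_.one_mul]
    change (lift x s).left.appTop (amFn (snd X (AMonS S N)) n) = _
    rw [← amFn_comp, lift_snd]

theorem lift_beta_apply {T : Over S} (x : T ⟶ X) (s : T ⟶ AMonS S N)
    (p : MonoidAlgebra Γ(X.left, ⊤) (Multiplicative N)) :
    (lift x s).left.appTop (beta X N p) =
      MonoidAlgebra.liftNCRingHom x.left.appTop.hom (amFn s) (fun _ _ => Commute.all _ _) p := by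
  rw [← lift_beta]
  rfl

section Affine

variable [IsAffine X.left]

/-- `Spec Γ(X)[N]` over `S` -/
noncomputable abbrev WW : Over S :=
  Over.mk (Spec.map (CommRingCat.ofHom
    (MonoidAlgebra.singleOneRingHom : Γ(X.left, ⊤) →+* MonoidAlgebra Γ(X.left, ⊤) (Multiplicative N))) ≫
    X.left.isoSpec.inv ≫ X.hom)

noncomputable def tA : WW X N ⟶ X :=
  Over.homMk (Spec.map (CommRingCat.ofHom
    (MonoidAlgebra.singleOneRingHom : Γ(X.left, ⊤) →+* MonoidAlgebra Γ(X.left, ⊤) (Multiplicative N))) ≫
    X.left.isoSpec.inv) (by simp)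

noncomputable def sA : WW X N ⟶ AMonS S N :=
  (amFn_surjective (S := S) (X := WW X N)
    ((Scheme.ΓSpecIso (CommRingCat.of (MonoidAlgebra Γ(X.left, ⊤) (Multiplicative N)))).inv.hom.toMonoidHom.comp
      (MonoidAlgebra.of Γ(X.left, ⊤) (Multiplicative N)))).choose

theorem amFn_sA (n : Multiplicative N) :
    amFn (sA X N) n =
      (Scheme.ΓSpecIso (CommRingCat.of (MonoidAlgebra Γ(X.left, ⊤) (Multiplicative N)))).inv
        (MonoidAlgebra.single n 1) := by
  unfold sA
  rw [(amFn_surjective (S := S) (X := WW X N) _).choose_spec]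
  rfl

noncomputable def eps : WW X N ⟶ X ⊗ AMonS S N := lift (tA X N) (sA X N)

theorem tA_appTop :
    (tA X N).left.appTop ≫
      (Scheme.ΓSpecIso (CommRingCat.of (MonoidAlgebra Γ(X.left, ⊤) (Multiplicative N)))).hom =
      CommRingCat.ofHom (MonoidAlgebra.singleOneRingHom :
        Γ(X.left, ⊤) →+* MonoidAlgebra Γ(X.left, ⊤) (Multiplicative N)) := by
  change (Spec.map (CommRingCat.ofHom (MonoidAlgebra.singleOneRingHom :
    Γ(X.left, ⊤) →+* MonoidAlgebra Γ(X.left, ⊤) (Multiplicative N))) ≫
    X.left.isoSpec.inv).appTop ≫ _ = _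
  rw [Scheme.Hom.comp_appTop, Category.assoc, Scheme.ΓSpecIso_naturality,
    LineIso.isoSpec_inv_appTop']
  exact Iso.inv_hom_id_assoc (Scheme.ΓSpecIso Γ(X.left, ⊤)) _

theorem eps_beta (p : MonoidAlgebra Γ(X.left, ⊤) (Multiplicative N)) :
    (Scheme.ΓSpecIso (CommRingCat.of (MonoidAlgebra Γ(X.left, ⊤) (Multiplicative N)))).hom
      ((eps X N).left.appTop (beta X N p)) = p := by
  have h : ((Scheme.ΓSpecIso (CommRingCat.of
      (MonoidAlgebra Γ(X.left, ⊤) (Multiplicative N)))).hom.hom.comp
      ((eps X N).left.appTop.hom.comp (beta X N))) = RingHom.id _ := by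
    unfold eps
    rw [lift_beta]
    apply MonoidAlgebra.ringHom_ext
    · intro b
      rw [RingHom.comp_apply, MonoidAlgebra.liftNCRingHom_single, map_one, _root_.mul_one,
        RingHom.id_apply]
      exact ConcreteCategory.congr_hom (tA_appTop X N) b
    · intro n
      rw [RingHom.comp_apply, MonoidAlgebra.liftNCRingHom_single, map_one, _root_.one_mul,
        RingHom.id_apply, amFn_sA]
      exact Iso.inv_hom_id_apply (C := CommRingCat) _ _
  exact congrArg (fun f => f p) h

theorem beta_injective : Function.Injective (beta X N) := by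
  intro p q h
  rw [← eps_beta X N p, ← eps_beta X N q, h]

/-- `X × A(N) → Spec Γ(X)[N]` -/
noncomputable def betaS : X ⊗ AMonS S N ⟶ WW X N :=
  Over.homMk ((X ⊗ AMonS S N).left.toSpecΓ ≫ Spec.map (CommRingCat.ofHom (beta X N))) (by
    have h1 : CommRingCat.ofHom (MonoidAlgebra.singleOneRingHom :
        Γ(X.left, ⊤) →+* MonoidAlgebra Γ(X.left, ⊤) (Multiplicative N)) ≫
        CommRingCat.ofHom (beta X N) = (fst X (AMonS S N)).left.appTop := by
      refine CommRingCat.hom_ext (RingHom.ext fun b => ?_)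
      change beta X N (MonoidAlgebra.single 1 b) = _
      rw [beta_single, map_one, _root_.mul_one]
    change (_ ≫ _) ≫ Spec.map _ ≫ X.left.isoSpec.inv ≫ X.hom = (X ⊗ AMonS S N).hom
    rw [Category.assoc, ← Spec.map_comp_assoc, h1, ← Scheme.toSpecΓ_naturality_assoc,
      Scheme.toSpecΓ_isoSpec_inv_assoc]
    exact Over.w (fst X (AMonS S N)))

theorem betaS_left : (betaS X N).left =
    (X ⊗ AMonS S N).left.toSpecΓ ≫ Spec.map (CommRingCat.ofHom (beta X N)) := rfl

theorem betaS_eps : betaS X N ≫ eps X N = 𝟙 _ := by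
  apply CartesianMonoidalCategory.hom_ext
  · rw [Category.assoc, Category.id_comp]
    unfold eps
    rw [lift_fst]
    apply Over.OverMorphism.ext
    rw [Over.comp_left, betaS_left]
    have h1 : CommRingCat.ofHom (MonoidAlgebra.singleOneRingHom :
        Γ(X.left, ⊤) →+* MonoidAlgebra Γ(X.left, ⊤) (Multiplicative N)) ≫
        CommRingCat.ofHom (beta X N) = (fst X (AMonS S N)).left.appTop := by
      refine CommRingCat.hom_ext (RingHom.ext fun b => ?_)
      change beta X N (MonoidAlgebra.single 1 b) = _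
      rw [beta_single, map_one, _root_.mul_one]
    change (_ ≫ _) ≫ Spec.map _ ≫ X.left.isoSpec.inv = _
    rw [Category.assoc, ← Spec.map_comp_assoc, h1, ← Scheme.toSpecΓ_naturality_assoc,
      Scheme.toSpecΓ_isoSpec_inv, Category.comp_id]
  · rw [Category.assoc, Category.id_comp]
    unfold eps
    rw [lift_snd]
    apply amFn_ext
    intro n
    rw [amFn_comp, amFn_sA, betaS_left, LineIso.toSpecΓ_SpecMap_appTop]
    change beta X N (MonoidAlgebra.single n 1) = _
    rw [beta_single, map_one, _root_.one_mul]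

theorem beta_surjective : Function.Surjective (beta X N) := by
  intro σ
  refine ⟨(Scheme.ΓSpecIso (CommRingCat.of (MonoidAlgebra Γ(X.left, ⊤) (Multiplicative N)))).hom
    ((eps X N).left.appTop σ), ?_⟩
  have h := congrArg (fun f => f.left.appTop σ) (betaS_eps X N)
  simp only [Over.comp_left, Scheme.Hom.comp_appTop, CommRingCat.comp_apply] at h
  have h2 : (eps X N).left.appTop σ =
      (Scheme.ΓSpecIso (CommRingCat.of (MonoidAlgebra Γ(X.left, ⊤) (Multiplicative N)))).inv
        ((Scheme.ΓSpecIso (CommRingCat.of (MonoidAlgebra Γ(X.left, ⊤) (Multiplicative N)))).hom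
          ((eps X N).left.appTop σ)) := (Iso.hom_inv_id_apply (C := CommRingCat) _ _).symm
  rw [h2, betaS_left, LineIso.toSpecΓ_SpecMap_appTop] at h
  exact h

theorem beta_bijective : Function.Bijective (beta X N) :=
  ⟨beta_injective X N, beta_surjective X N⟩

theorem eps_betaS : eps X N ≫ betaS X N = 𝟙 _ := by
  apply Over.OverMorphism.ext
  rw [Over.comp_left, betaS_left, Scheme.toSpecΓ_naturality_assoc, ← Spec.map_comp]
  change (Spec (CommRingCat.of (MonoidAlgebra Γ(X.left, ⊤) (Multiplicative N)))).toSpecΓ ≫ _ = _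
  rw [← SpecMap_ΓSpecIso_hom, ← Spec.map_comp]
  have h : CommRingCat.ofHom (beta X N) ≫ (eps X N).left.appTop ≫
      (Scheme.ΓSpecIso (CommRingCat.of (MonoidAlgebra Γ(X.left, ⊤) (Multiplicative N)))).hom =
      𝟙 _ := by
    refine CommRingCat.hom_ext (RingHom.ext fun p => ?_)
    exact eps_beta X N p
  rw [Category.assoc, h, Spec.map_id]
  rfl

theorem isIso_betaS_left : IsIso (betaS X N).left :=
  ⟨(eps X N).left, by rw [← Over.comp_left, betaS_eps]; rfl,
    by rw [← Over.comp_left, eps_betaS]; rfl⟩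

instance isAffine_prod : IsAffine (X ⊗ AMonS S N).left :=
  haveI := isIso_betaS_left X N
  haveI : IsAffine (WW X N).left :=
    inferInstanceAs (IsAffine (Spec (CommRingCat.of (MonoidAlgebra Γ(X.left, ⊤) (Multiplicative N)))))
  IsAffine.of_isIso (betaS X N).left

end Affine

end Groth.Agent.H82.GroupIso
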