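import Mathlib
import Groth.Prelude.Def_Flat
import Groth.Prelude.Def_CurvBase
import Groth.Prelude.Def_Red
import Groth.Agent.H11.CurveDVR
import Groth.Agent.H7.FieldResidue
import Groth.Agent.H42.SmoothAtUnit

/-!
# A group scheme of finite type over a field with regular local ring at the unit is smooth
-/

set_option autoImplicit false
set_option linter.style.haveILetI false
universe u
open CategoryTheory CategoryTheory.Limits AlgebraicGeometry TopologicalSpace

namespace Groth.Agent.H82.GrpRegSmooth

open Groth.Agent.H11.FtChart Groth.Agent.H11.SepPointsSch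

section basechange

/-- The smooth locus pulls back into the smooth locus of the base change. -/
theorem mem_smoothLocus_pullback_snd {X S S' : Scheme.{u}} (f : X ⟶ S)
    [LocallyOfFinitePresentation f] (g : S' ⟶ S) (x' : ↥(pullback f g))
    (hx : pullback.fst f g x' ∈ f.smoothLocus) : x' ∈ (pullback.snd f g).smoothLocus := by
  set U := f.smoothLocus with hU
  have hsm : Smooth (U.ι ≫ f) := by
    rw [← Scheme.Hom.smoothLocus_eq_top_iff, ← Scheme.Hom.preimage_smoothLocus_eq]
    ext y
    simp only [Opens.coe_top, Set.mem_univ, iff_true]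
    exact y.2
  set U' := pullback.fst f g ⁻¹ᵁ U with hU'
  have sq : IsPullback (pullback.fst f g ∣_ U) (U'.ι ≫ pullback.snd f g) (U.ι ≫ f) g :=
    (isPullback_morphismRestrict (pullback.fst f g) U).paste_vert (IsPullback.of_hasPullback f g)
  have hsm' : Smooth (U'.ι ≫ pullback.snd f g) :=
    MorphismProperty.of_isPullback (P := @Smooth) sq hsm
  have h1 : U'.ι ⁻¹ᵁ (pullback.snd f g).smoothLocus = ⊤ := by
    rw [Scheme.Hom.preimage_smoothLocus_eq, Scheme.Hom.smoothLocus_eq_top_iff]
    exact hsm'
  have hx' : x' ∈ U' := hx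
  have h2 : (⟨x', hx'⟩ : U') ∈ U'.ι ⁻¹ᵁ (pullback.snd f g).smoothLocus := by
    rw [h1]; trivial
  exact h2

end basechange


section regular

variable (k : Type u) [Field k] (X : Scheme.{u}) [X.Over (Spec (CommRingCat.of k))]

/-- A point of a scheme locally of finite type over a field with regular local ring and residue
field separable over the base field is a smooth point. -/
theorem mem_smoothLocus_of_isRegularLocalRing
    [LocallyOfFinitePresentation (X ↘ Spec (CommRingCat.of k))] (x : X)
    (hsep : letI := Curv2.resAlgebra k X x; Algebra.IsSeparable k (X.residueField x))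
    (hreg : IsRegularLocalRing (X.presheaf.stalk x)) :
    x ∈ (X ↘ Spec (CommRingCat.of k)).smoothLocus := by
  letI := Curv2.resAlgebra k X x
  obtain ⟨V, hV, hxV, -⟩ := Opens.isBasis_iff_nbhd.mp X.isBasis_affineOpens
    (show x ∈ (⊤ : X.Opens) from trivial)
  have hV : IsAffineOpen V := hV
  letI := secAlgebra k X V
  haveI := finiteType_sec k X hV
  rw [Groth.Agent.H11.CurveDVR.mem_smoothLocus_iff k hV x hxV]
  letI algA := X.presheaf.algebra_section_stalk ⟨x, hxV⟩
  haveI := hV.isLocalization_stalk ⟨x, hxV⟩
  let e₁ : Localization.AtPrime (hV.primeIdealOf ⟨x, hxV⟩).asIdeal ≃ₐ[Γ(X, V)]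
      X.presheaf.stalk x :=
    IsLocalization.algEquiv (hV.primeIdealOf ⟨x, hxV⟩).asIdeal.primeCompl _ _
  obtain ⟨e⟩ := nonempty_resEquiv k hV x hxV
  haveI : Algebra.IsSeparable k (hV.primeIdealOf ⟨x, hxV⟩).asIdeal.ResidueField := by
    refine ⟨fun y => ?_⟩
    have h3 := Algebra.IsSeparable.isSeparable k (e y)
    unfold _root_.IsSeparable at h3 ⊢
    rwa [minpoly.algEquiv_eq e y] at h3
  haveI : Algebra.IsGeometricallyReduced k (hV.primeIdealOf ⟨x, hxV⟩).asIdeal.ResidueField :=
    Groth.Agent.H47.GRS.isGeometricallyReduced_of_isSeparable k _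
  rw [Groth.Agent.H47.RSF.isSmoothAt_iff_isRegularLocalRing k Γ(X, V)
    (hV.primeIdealOf ⟨x, hxV⟩).asIdeal]
  exact IsRegularLocalRing.of_ringEquiv e₁.toRingEquiv.symm


/-- The residue field at the image of a section `Spec k ⟶ X` is `k`, in particular separable. -/
theorem isSeparable_residueField_of_section (u : Spec (CommRingCat.of k) ⟶ X)
    (hu : u ≫ (X ↘ Spec (CommRingCat.of k)) = 𝟙 _) (pt : ↥(Spec (CommRingCat.of k))) :
    letI := Curv2.resAlgebra k X (u pt)
    Algebra.IsSeparable k (X.residueField (u pt)) := by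
  letI := Curv2.resAlgebra k X (u pt)
  set f := X ↘ Spec (CommRingCat.of k) with hf
  have hbij : Function.Bijective (Curv2.resMap k X (u pt)) := by
    rw [Groth.Agent.H7.resMap_eq]
    haveI : IsIso (u ≫ f) := by rw [hu]; infer_instance
    haveI : IsIso ((u ≫ f).residueFieldMap pt) := inferInstance
    have h1 : (u ≫ f).residueFieldMap pt = f.residueFieldMap (u pt) ≫ u.residueFieldMap pt :=
      Scheme.residueFieldMap_comp u f pt
    have h2 : Function.Bijective ((u.residueFieldMap pt).hom.comp (f.residueFieldMap (u pt)).hom) := by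
      have := ConcreteCategory.bijective_of_isIso ((u ≫ f).residueFieldMap pt)
      rw [h1] at this
      exact this
    have h3 : Function.Bijective (u.residueFieldMap pt).hom :=
      ⟨(u.residueFieldMap pt).hom.injective, Function.Surjective.of_comp h2.2⟩
    have h4 : Function.Bijective (f.residueFieldMap (u pt)).hom := by
      refine ⟨(f.residueFieldMap (u pt)).hom.injective, fun y => ?_⟩
      obtain ⟨z, hz⟩ := h2.2 ((u.residueFieldMap pt).hom y)
      exact ⟨z, h3.1 hz⟩
    exact h4.comp (Groth.Agent.H7.fieldToResidue_bijective k _)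
  let ε : k ≃ₐ[k] X.residueField (u pt) :=
    AlgEquiv.ofBijective (Algebra.ofId k (X.residueField (u pt))) hbij
  exact (finite_sep_of_algEquiv k ε inferInstance inferInstance).2

end regular


section main

open MonObj MonoidalCategory CartesianMonoidalCategory GrpObj

theorem main (k : Type u) [Field k]
    (G : Over (Spec (CommRingCat.of k))) [GrpObj G] [LocallyOfFiniteType G.hom]
    (e : G.left) (he : e ∈ Set.range (η[G]).left.base)
    (hreg : IsRegularLocalRing (G.left.presheaf.stalk e)) : Smooth G.hom := by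
  obtain ⟨pt, rfl⟩ := he
  letI : G.left.Over (Spec (CommRingCat.of k)) := ⟨G.hom⟩
  haveI : LocallyOfFiniteType (G.left ↘ Spec (CommRingCat.of k)) := ‹LocallyOfFiniteType G.hom›
  have hu : (η[G]).left ≫ (G.left ↘ Spec (CommRingCat.of k)) = 𝟙 _ := Over.w η[G]
  have hsep := isSeparable_residueField_of_section k G.left (η[G]).left hu pt
  have hsm : (η[G]).left pt ∈ G.hom.smoothLocus :=
    mem_smoothLocus_of_isRegularLocalRing k G.left _ hsep hreg
  let g : Spec (.of (AlgebraicClosure k)) ⟶ Spec (.of k) :=
    Spec.map (CommRingCat.ofHom <| algebraMap k (AlgebraicClosure k))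
  apply MorphismProperty.of_pullback_snd_of_descendsAlong
    (Q := @Surjective ⊓ @Flat ⊓ @QuasiCompact) (g := g)
  · exact ⟨⟨inferInstance, inferInstance⟩, inferInstance⟩
  · haveI : LocallyOfFiniteType (Red.bc g G).hom := by
      change LocallyOfFiniteType (pullback.snd G.hom g)
      infer_instance
    obtain ⟨x', hx'⟩ := (pullback.fst G.hom g).surjective ((η[G]).left pt)
    have h' : x' ∈ (pullback.snd G.hom g).smoothLocus :=
      mem_smoothLocus_pullback_snd G.hom g x' (hx' ▸ hsm)
    letI : GrpObj (Over.mk (Red.bc g G).hom) := Red.grpObj_bc g G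
    exact Groth.Agent.H42.SmoothAtUnit.smooth_of_nonempty_smoothLocus (Red.bc g G).hom ⟨x', h'⟩

end main

end Groth.Agent.H82.GrpRegSmooth
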