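import Mathlib
import Groth.Prelude.Def_Flat
import Groth.Prelude.Def_CurvBase
import Groth.Prelude.Def_Red
import Groth.Agent.H82.GrpRegSmooth
import Groth.Agent.H51.GrpFieldDim
import Groth.Agent.S1617

/-!
# Dimension of a group scheme over a field and the cotangent space at the unit
-/

set_option autoImplicit false
set_option linter.style.haveILetI false
universe u
open CategoryTheory CategoryTheory.Limits AlgebraicGeometry TopologicalSpace

namespace Groth.Agent.H82.GrpDimSmooth

open Groth.Agent.H11.FtChart Groth.Agent.H11.SepPointsSch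

section regular

variable (k : Type u) [Field k] (X : Scheme.{u}) [X.Over (Spec (CommRingCat.of k))]

/-- The local ring at a smooth point of a scheme locally of finite type over a field is regular. -/
theorem isRegularLocalRing_stalk_of_mem_smoothLocus
    [LocallyOfFinitePresentation (X ↘ Spec (CommRingCat.of k))] (x : X)
    (hx : x ∈ (X ↘ Spec (CommRingCat.of k)).smoothLocus) :
    IsRegularLocalRing (X.presheaf.stalk x) := by
  obtain ⟨V, hV, hxV, -⟩ := Opens.isBasis_iff_nbhd.mp X.isBasis_affineOpens
    (show x ∈ (⊤ : X.Opens) from trivial)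
  have hV : IsAffineOpen V := hV
  letI := secAlgebra k X V
  haveI := finiteType_sec k X hV
  rw [Groth.Agent.H11.CurveDVR.mem_smoothLocus_iff k hV x hxV] at hx
  letI algA := X.presheaf.algebra_section_stalk ⟨x, hxV⟩
  haveI := hV.isLocalization_stalk ⟨x, hxV⟩
  let e₁ : Localization.AtPrime (hV.primeIdealOf ⟨x, hxV⟩).asIdeal ≃ₐ[Γ(X, V)]
      X.presheaf.stalk x :=
    IsLocalization.algEquiv (hV.primeIdealOf ⟨x, hxV⟩).asIdeal.primeCompl _ _
  haveI := hx
  haveI := Groth.Agent.H47.RSF.isRegularLocalRing_of_isSmoothAt k Γ(X, V)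
    (hV.primeIdealOf ⟨x, hxV⟩).asIdeal
  exact IsRegularLocalRing.of_ringEquiv e₁.toRingEquiv

/-- The structure map `k → κ(u pt)` is bijective for a section `u`. -/
theorem bijective_resMap_of_section (u : Spec (CommRingCat.of k) ⟶ X)
    (hu : u ≫ (X ↘ Spec (CommRingCat.of k)) = 𝟙 _) (pt : ↥(Spec (CommRingCat.of k))) :
    Function.Bijective (Curv2.resMap k X (u pt)) := by
  set f := X ↘ Spec (CommRingCat.of k) with hf
  rw [Groth.Agent.H7.resMap_eq]
  haveI : IsIso (u ≫ f) := by rw [hu]; infer_instance
  haveI : IsIso ((u ≫ f).residueFieldMap pt) := inferInstance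
  have h1 : (u ≫ f).residueFieldMap pt = f.residueFieldMap (u pt) ≫ u.residueFieldMap pt :=
    Scheme.residueFieldMap_comp u f pt
  have h2 : Function.Bijective ((u.residueFieldMap pt).hom.comp (f.residueFieldMap (u pt)).hom) := by
    have := ConcreteCategory.bijective_of_isIso ((u ≫ f).residueFieldMap pt)
    rw [h1] at this
    exact this
  have h3 : Function.Bijective (u.residueFieldMap pt).hom :=
    ⟨(u.residueFieldMap pt).hom.injective, Function.Surjective.of_comp h2.2⟩
  have h4 : Function.Bijective (f.residueFieldMap (u pt)).hom := by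
    refine ⟨(f.residueFieldMap (u pt)).hom.injective, fun y => ?_⟩
    obtain ⟨z, hz⟩ := h2.2 ((u.residueFieldMap pt).hom y)
    exact ⟨z, h3.1 hz⟩
  exact h4.comp (Groth.Agent.H7.fieldToResidue_bijective k _)

/-- The image of a section `Spec k ⟶ X` is a closed point. -/
theorem isClosed_singleton_of_section
    (u : Spec (CommRingCat.of k) ⟶ X)
    (hu : u ≫ (X ↘ Spec (CommRingCat.of k)) = 𝟙 _) (pt : ↥(Spec (CommRingCat.of k))) :
    IsClosed ({u pt} : Set X) := by
  letI := Curv2.resAlgebra k X (u pt)
  apply isClosed_singleton_of_finite k (u pt)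
  let ε : k ≃ₐ[k] X.residueField (u pt) :=
    AlgEquiv.ofBijective (Algebra.ofId k (X.residueField (u pt)))
      (bijective_resMap_of_section k X u hu pt)
  exact (finite_sep_of_algEquiv k ε inferInstance inferInstance).1

end regular


section grp

open MonObj MonoidalCategory CartesianMonoidalCategory GrpObj IsLocalRing

variable (k : Type u) [Field k] (G : Over (Spec (CommRingCat.of k))) [GrpObj G]
  [LocallyOfFiniteType G.hom]

/-- A group scheme locally of finite type over a field which is smooth at a point of the unit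
section is smooth. -/
theorem smooth_of_unit_mem_smoothLocus (pt : ↥(𝟙_ (Over (Spec (CommRingCat.of k)))).left)
    (hsm : (η[G]).left pt ∈ G.hom.smoothLocus) : Smooth G.hom := by
  let g : Spec (.of (AlgebraicClosure k)) ⟶ Spec (.of k) :=
    Spec.map (CommRingCat.ofHom <| algebraMap k (AlgebraicClosure k))
  apply MorphismProperty.of_pullback_snd_of_descendsAlong
    (Q := @Surjective ⊓ @Flat ⊓ @QuasiCompact) (g := g)
  · exact ⟨⟨inferInstance, inferInstance⟩, inferInstance⟩
  · haveI : LocallyOfFiniteType (Red.bc g G).hom := by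
      change LocallyOfFiniteType (pullback.snd G.hom g)
      infer_instance
    obtain ⟨x', hx'⟩ := (pullback.fst G.hom g).surjective ((η[G]).left pt)
    have h' : x' ∈ (pullback.snd G.hom g).smoothLocus :=
      Groth.Agent.H82.GrpRegSmooth.mem_smoothLocus_pullback_snd G.hom g x' (hx' ▸ hsm)
    letI : GrpObj (Over.mk (Red.bc g G).hom) := Red.grpObj_bc g G
    exact Groth.Agent.H42.SmoothAtUnit.smooth_of_nonempty_smoothLocus (Red.bc g G).hom ⟨x', h'⟩

/-- The dimension of a group scheme is the dimension of its local ring at the unit. -/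
theorem topologicalKrullDim_eq_ringKrullDim_stalk_unit
    (pt : ↥(𝟙_ (Over (Spec (CommRingCat.of k)))).left) :
    topologicalKrullDim G.left = ringKrullDim (G.left.presheaf.stalk ((η[G]).left pt)) := by
  letI : G.left.Over (Spec (CommRingCat.of k)) := ⟨G.hom⟩
  haveI : LocallyOfFiniteType (G.left ↘ Spec (CommRingCat.of k)) := ‹LocallyOfFiniteType G.hom›
  have hu : (η[G]).left ≫ (G.left ↘ Spec (CommRingCat.of k)) = 𝟙 _ := Over.w η[G]
  have hcl := isClosed_singleton_of_section k G.left (η[G]).left hu pt
  rw [← Groth.Agent.S1617.result k G.left _ hcl]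
  exact ((Groth.Agent.H51.s5341 k G).2 _).symm

theorem main (pt : ↥(𝟙_ (Over (Spec (CommRingCat.of k)))).left) :
    (topologicalKrullDim G.left ≤
      ((Module.finrank (ResidueField (G.left.presheaf.stalk (η[G].left pt)))
        (CotangentSpace (G.left.presheaf.stalk (η[G].left pt))) : ℕ∞) : WithBot ℕ∞)) ∧
    (Smooth G.hom ↔ topologicalKrullDim G.left =
      ((Module.finrank (ResidueField (G.left.presheaf.stalk (η[G].left pt)))
        (CotangentSpace (G.left.presheaf.stalk (η[G].left pt))) : ℕ∞) : WithBot ℕ∞)) ∧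
    (Smooth G.hom ↔ ∃ U : G.left.Opens, η[G].left pt ∈ U ∧ Smooth (U.ι ≫ G.hom)) := by
  letI : G.left.Over (Spec (CommRingCat.of k)) := ⟨G.hom⟩
  haveI : LocallyOfFiniteType (G.left ↘ Spec (CommRingCat.of k)) := ‹LocallyOfFiniteType G.hom›
  haveI : IsLocallyNoetherian G.left := LocallyOfFiniteType.isLocallyNoetherian G.hom
  haveI : IsNoetherianRing (G.left.presheaf.stalk (η[G].left pt)) := inferInstance
  have hdim := topologicalKrullDim_eq_ringKrullDim_stalk_unit k G pt
  have hcot : (Module.finrank (ResidueField (G.left.presheaf.stalk (η[G].left pt)))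
      (CotangentSpace (G.left.presheaf.stalk (η[G].left pt)))) =
      (maximalIdeal (G.left.presheaf.stalk (η[G].left pt))).spanFinrank :=
    (spanFinrank_maximalIdeal_eq_finrank_cotangentSpace _).symm
  have hu : (η[G]).left ≫ (G.left ↘ Spec (CommRingCat.of k)) = 𝟙 _ := Over.w η[G]
  refine ⟨?_, ?_, ?_⟩
  · rw [hdim, hcot]
    exact ringKrullDim_le_spanFinrank_maximalIdeal _
  · rw [hdim]
    constructor
    · intro hsm
      have hmem : η[G].left pt ∈ (G.left ↘ Spec (CommRingCat.of k)).smoothLocus := by
        have : (G.left ↘ Spec (CommRingCat.of k)).smoothLocus = ⊤ :=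
          Scheme.Hom.smoothLocus_eq_top_iff.mpr hsm
        rw [this]; trivial
      have hreg := isRegularLocalRing_stalk_of_mem_smoothLocus k G.left _ hmem
      have := (IsRegularLocalRing.iff_finrank_cotangentSpace _).mp hreg
      rw [← this]
      rfl
    · intro heq
      have hreg : IsRegularLocalRing (G.left.presheaf.stalk (η[G].left pt)) := by
        rw [IsRegularLocalRing.iff_finrank_cotangentSpace, heq]
        rfl
      exact Groth.Agent.H82.GrpRegSmooth.main k G _ ⟨pt, rfl⟩ hreg
  · constructor
    · intro hsm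
      exact ⟨⊤, trivial, inferInstance⟩
    · rintro ⟨U, hU, hsm⟩
      refine smooth_of_unit_mem_smoothLocus k G pt ?_
      have h1 : U.ι ⁻¹ᵁ G.hom.smoothLocus = ⊤ := by
        rw [Scheme.Hom.preimage_smoothLocus_eq, Scheme.Hom.smoothLocus_eq_top_iff]
        exact hsm
      have h2 : (⟨η[G].left pt, hU⟩ : U) ∈ U.ι ⁻¹ᵁ G.hom.smoothLocus := by
        rw [h1]; trivial
      exact h2

end grp

end Groth.Agent.H82.GrpDimSmooth
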