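import Groth.Agent.H82.SplitQuot

/-! The image of a homomorphism from a split group `D_S(N)` to a group of multiplicative type, over a
connected base, is a split subgroup `D_S(L)`, `L ≤ N`. -/

set_option autoImplicit false
set_option linter.unusedSectionVars false
universe u

open CategoryTheory MonoidalCategory CartesianMonoidalCategory MonObj GrpObj AlgebraicGeometry
open CategoryTheory.Limits
open Groth.Agent.H42 Groth.Agent.H40 Magnet
open Groth.Agent.H82.AMonPts Groth.Agent.H82.GroupIso Groth.Agent.H82.ChartComp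

namespace Groth.Agent.H82.ImgTorus

variable {S : Scheme.{u}}

/-- triviality of a base change, tested on points -/
theorem QE_one_of_pts {G H : Over S} [GrpObj G] [GrpObj H] (u : G ⟶ H) {V : Scheme.{u}}
    (t : V ⟶ S) (h : ∀ (Y : Over V) (y : (Over.map t).obj Y ⟶ G), y ≫ u = 1) :
    EqLocus.QE u 1 V t := by
  unfold EqLocus.QE
  have key : ∀ (Y : Over V) (y' : Y ⟶ Red.bc t G),
      y' ≫ (Over.pullback t).map u = y' ≫ (Over.pullback t).map 1 := by
    intro Y y'
    apply bcPtM_injective t H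
    rw [bcPtM_map, bcPtM_map, MonObj.comp_one]
    exact h Y _
  have := key _ (𝟙 _)
  rwa [Category.id_comp, Category.id_comp] at this

section Local

variable {B : Scheme.{u}} (g : B ⟶ S) {G : Over S} [GrpObj G] {M N : Type} [AddCommGroup M]
  [AddCommGroup N] (v : AMonS S N ⟶ G) [IsMonHom v]
  (cN : Red.bc g (AMonS S N) ≅ AMonS B N) [IsMonHom cN.hom]
  (hcN : ∀ (Y : Over B) (h : Y ⟶ Red.bc g (AMonS S N)) (a : Multiplicative N),
    amFn (h ≫ cN.hom) a = amFn (bcPtM g (AMonS S N) h) a)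
  (eG : Red.bc g G ≅ AMonS B M) [IsMonHom eG.hom]
  (V : B.Opens) (φ : M →+ N)
  (hV : ∀ (T : Over B) (h : T ⟶ AMonS B N), (∀ z, T.hom z ∈ V) →
    h ≫ HomLoc.cH g v cN eG = h ≫ AMonS.map B φ)

include hcN hV in
/-- chart coordinates of the image of a point of `D(N)` -/
theorem pt_formula' (Y : Over B) (x : Y ⟶ Red.bc g (AMonS S N)) (hY : ∀ z, Y.hom z ∈ V)
    (m : Multiplicative M) :
    amFn ((x ≫ (Over.pullback g).map v) ≫ eG.hom) m =
      amFn (bcPtM g (AMonS S N) x) (AddMonoidHom.toMultiplicative φ m) := by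
  rw [← hcN, ← amFn_map, ← hV Y _ hY]
  unfold HomLoc.cH
  simp only [Category.assoc, Iso.hom_inv_id_assoc]

include hcN hV in
/-- a point of `D(N)` killed by the characters in the range of `φ` is killed by `v` -/
theorem comp_eq_one_of_kills (Y : Over B) (hY : ∀ z, Y.hom z ∈ V)
    (y : (Over.map g).obj Y ⟶ AMonS S N)
    (hy : ∀ m : M, amFn y (Multiplicative.ofAdd (φ m)) = 1) : y ≫ v = 1 := by
  obtain ⟨x, rfl⟩ := bcPtM_surjective g (AMonS S N) y
  rw [← bcPtM_map]
  have h1 : (x ≫ (Over.pullback g).map v) ≫ eG.hom = 1 := by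
    apply amFn_ext
    intro m
    rw [pt_formula' g v cN hcN eG V φ hV Y x hY, amFn_one]
    exact hy (Multiplicative.toAdd m)
  have h2 : x ≫ (Over.pullback g).map v = 1 := by
    rw [← cancel_mono eG.hom, h1, MonObj.one_comp]
  rw [h2, NilGlobal.bcPtM_one]

end Local


/-- over a connected base, a homomorphism of groups of multiplicative type which is a
monomorphism after some base change with non-empty source is a monomorphism -/
theorem mono_of_connected [ConnectedSpace S] {G H : Over S} [GrpObj G] [GrpObj H]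
    (hG : SGA3x.IsMultTypeFT G) (hH : SGA3x.IsMultTypeFT H) (u : G ⟶ H) [IsMonHom u]
    {V : Scheme.{u}} (t : V ⟶ S) (v₀ : V) (h : Mono ((Over.pullback t).map u)) : Mono u := by
  obtain ⟨U, hUc, hU, hUU⟩ := MonoLocus.mono_locus hG hH u
  let σ : Spec (V.residueField v₀) ⟶ S := V.fromSpecResidueField v₀ ≫ t
  have h1 : MonoLocus.QM u _ σ := MonoLocus.QM_bc u _ _ _ _ h
  let s₀ : S := σ (IsLocalRing.closedPoint (V.residueField v₀))
  have hσ := Scheme.descResidueField_stalkClosedPointTo_fromSpecResidueField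
    (V.residueField v₀) S σ
  have h2 : MonoLocus.QM u _ (S.fromSpecResidueField s₀) := by
    rw [← hσ] at h1
    exact MonoLocus.QM_field u _ _ _ _ h1
  have hs₀ : s₀ ∈ U := (hU s₀).mpr h2
  have hclopen : IsClopen (U : Set S) := ⟨hUc, U.isOpen⟩
  have huniv : (U : Set S) = Set.univ := hclopen.eq_univ ⟨s₀, hs₀⟩
  have hπ : Presieve.singleton (𝟙 S) ∈ Scheme.fpqcPrecoverage S :=
    Scheme.Hom.singleton_mem_fpqcPrecoverage (𝟙 S)
  apply LocMono.mono_of_locally_mono (𝟙 S) hπ u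
  intro z
  have hz : z ∈ U := by
    change z ∈ (U : Set S)
    rw [huniv]
    trivial
  refine ⟨U, U.ι, inferInstance, ⟨⟨z, hz⟩, rfl⟩, ?_⟩
  exact MonoLocus.Q_congr (Q := MonoLocus.QM u) (Category.comp_id _).symm hUU


/-- descent of the homomorphism property along a covering homomorphism -/
theorem isMonHom_of_cov_comp {A B G : Over S} [GrpObj A] [GrpObj B] [GrpObj G] (p : A ⟶ B)
    [IsMonHom p] (hp : AttrFix.Cov p.left) (j : B ⟶ G) (v : A ⟶ G) [IsMonHom v]
    (h : p ≫ j = v) : IsMonHom j := by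
  have hepi := AttrFix.epi_of_cov p hp
  have hepi2 : Epi (p ⊗ₘ p) := by
    rw [MonoidalCategory.tensorHom_def]
    have := AttrFix.epi_of_cov (p ▷ A) (AttrFix.cov_whiskerRight p A hp)
    have := AttrFix.epi_of_cov (B ◁ p) (AttrFix.cov_whiskerLeft p B hp)
    exact epi_comp _ _
  constructor
  · rw [← IsMonHom.one_hom (f := p), Category.assoc, h, IsMonHom.one_hom]
  · rw [← cancel_epi (p ⊗ₘ p), ← Category.assoc, ← IsMonHom.mul_hom (f := p), Category.assoc, h,
      IsMonHom.mul_hom, ← Category.assoc, MonoidalCategory.tensorHom_comp_tensorHom, h]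

section KeyLemma

variable [ConnectedSpace S] {G : Over S} [GrpObj G] {N : Type} [AddCommGroup N]

/-- the image of `D_S(N) ⟶ G` is a split subgroup `D_S(L)` -/
theorem exists_image (hG : SGA3x.IsMultTypeFT G) (hN : AddGroup.FG N) (v : AMonS S N ⟶ G)
    [IsMonHom v] :
    ∃ (L : AddSubgroup N) (j : AMonS S L ⟶ G), IsMonHom j ∧ Mono j ∧
      AMonS.map S L.subtype ≫ j = v := by
  have hG' := hG
  obtain ⟨S₁, f₁, hflat₁, hsurj₁, hqc₁, htriv₁⟩ := hG
  obtain ⟨s₀⟩ : Nonempty S := inferInstance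
  obtain ⟨z₀, hz₀⟩ := hsurj₁.surj s₀
  obtain ⟨U₁, hz₁, M, iM, hfgM, hs₁⟩ := htriv₁ z₀
  obtain ⟨eG, heG⟩ := TorusHom.exists_iso_of_grpIso hs₁
  obtain ⟨cN, hcN1, hcN⟩ := SplitQuot.exists_canon_chart (U₁.ι ≫ f₁) N
  obtain ⟨V, φ, hb, hV⟩ := HomLoc.exists_local_hom (U₁.ι ≫ f₁) v cN eG hfgM ⟨z₀, hz₁⟩
  let L : AddSubgroup N := φ.range
  have hfgQ : AddGroup.FG (N ⧸ L) := by
    have := hN
    exact AddGroup.fg_of_surjective (QuotientAddGroup.mk'_surjective L)
  have hfgL : AddGroup.FG L := QuotDS.fg_of_le hN L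
  -- the kernel `D(N/L)` is killed by `v`
  have hw : AMonS.map S (QuotientAddGroup.mk' L) ≫ v = 1 := by
    have h1 := SplitQuot.isMonHom_one (S := S) (G := AMonS S (N ⧸ L)) (H := G)
    apply EqLocus.eq_of_connected (SplitQuot.isMultTypeFT_AMonS (N ⧸ L) hfgQ) hG' _ 1
      (V.ι ≫ U₁.ι ≫ f₁) (⟨⟨z₀, hz₁⟩, hb⟩ : ↥(V : Scheme.{u}))
    apply QE_one_of_pts
    intro Y y
    have hl : ∀ z, ((Over.map V.ι).obj Y).hom z ∈ V := by
      intro z
      change (Y.hom ≫ V.ι) z ∈ V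
      rw [Scheme.Hom.comp_apply]
      exact (Y.hom z).2
    have h1 := comp_eq_one_of_kills (U₁.ι ≫ f₁) v cN hcN eG V φ hV ((Over.map V.ι).obj Y) hl
      ((assocIso (U₁.ι ≫ f₁) V.ι Y).hom ≫ y ≫ AMonS.map S (QuotientAddGroup.mk' L)) (by
        intro m
        rw [amFn_comp, amFn_map]
        have h0 : AddMonoidHom.toMultiplicative (QuotientAddGroup.mk' L)
            (Multiplicative.ofAdd (φ m)) = 1 := by
          change Multiplicative.ofAdd ((QuotientAddGroup.mk' L) (φ m)) = 1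
          have : (QuotientAddGroup.mk' L) (φ m) = 0 := by
            rw [QuotientAddGroup.mk'_apply, QuotientAddGroup.eq_zero_iff]
            exact ⟨m, rfl⟩
          rw [this]
          rfl
        rw [h0, map_one, map_one])
    rw [Category.assoc, Category.assoc] at h1
    have h2 := congrArg (fun k => (assocIso (U₁.ι ≫ f₁) V.ι Y).inv ≫ k) h1
    simpa using h2
  -- descent
  have hcov := AttrFix.cov_DSmap (S := S) L.subtype Subtype.val_injective
  obtain ⟨j, hj⟩ : ∃ j : AMonS S L ⟶ G, AMonS.map S L.subtype ≫ j = v := by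
    apply AttrFix.exists_desc_of_cov _ hcov v
    intro W g₁ g₂ h12
    obtain ⟨z, hz⟩ := AttrFix.exists_eq_mul_of_comp_eq L g₁ g₂ h12
    have hz' : g₁ = g₂ * (z ≫ AMonS.map S (QuotientAddGroup.mk' L)) := hz
    rw [hz', MonObj.mul_comp, Category.assoc, hw, MonObj.comp_one, _root_.mul_one]
  have hjm : IsMonHom j := isMonHom_of_cov_comp (AMonS.map S L.subtype) hcov j v hj
  refine ⟨L, j, hjm, ?_, hj⟩
  -- monomorphism: local computation and connectedness
  obtain ⟨cL, hcL1, hcL⟩ := SplitQuot.exists_canon_chart (U₁.ι ≫ f₁) L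
  obtain ⟨V', φ', hb', hV'⟩ := HomLoc.exists_local_hom (U₁.ι ≫ f₁) j cL eG hfgM ⟨z₀, hz₁⟩
  obtain ⟨Y₀, x₀, hland, hinj⟩ := SplitQuot.exists_univ_pt N (V ⊓ V') ⟨z₀, hz₁⟩ ⟨hb, hb'⟩
  let x : Y₀ ⟶ Red.bc (U₁.ι ≫ f₁) (AMonS S N) := x₀ ≫ cN.inv
  have hx : ∀ a, amFn (bcPtM (U₁.ι ≫ f₁) (AMonS S N) x) a = amFn x₀ a := by
    intro a
    rw [← hcN]
    change amFn ((x₀ ≫ cN.inv) ≫ cN.hom) a = _
    rw [Category.assoc, Iso.inv_hom_id, Category.comp_id]
  have hcomp : ∀ m : M, (φ' m : N) = φ m := by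
    intro m
    have h1 := pt_formula' (U₁.ι ≫ f₁) v cN hcN eG V φ hV Y₀ x (fun z => (hland z).1)
      (Multiplicative.ofAdd m)
    have h2 := pt_formula' (U₁.ι ≫ f₁) j cL hcL eG V' φ' hV' Y₀
      (x ≫ (Over.pullback (U₁.ι ≫ f₁)).map (AMonS.map S L.subtype)) (fun z => (hland z).2)
      (Multiplicative.ofAdd m)
    have e3 : (x ≫ (Over.pullback (U₁.ι ≫ f₁)).map (AMonS.map S L.subtype)) ≫
        (Over.pullback (U₁.ι ≫ f₁)).map j = x ≫ (Over.pullback (U₁.ι ≫ f₁)).map v := by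
      rw [Category.assoc, ← Functor.map_comp, hj]
    rw [e3, h1, bcPtM_map, amFn_map, hx, hx] at h2
    exact congrArg Multiplicative.toAdd (hinj h2).symm
  have hsurj : Function.Surjective φ' := by
    rintro ⟨l, m, rfl⟩
    exact ⟨m, Subtype.ext (hcomp m)⟩
  have hmono := HomLoc2.mono_of_surjective (U₁.ι ≫ f₁) j cL eG V' φ' hV' hsurj
  exact mono_of_connected (SplitQuot.isMultTypeFT_AMonS L hfgL) hG' j (V'.ι ≫ U₁.ι ≫ f₁)
    (⟨⟨z₀, hz₁⟩, hb'⟩ : ↥(V' : Scheme.{u})) hmono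

end KeyLemma

end Groth.Agent.H82.ImgTorus
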