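import Groth.Agent.H82.GroupIso
import Groth.Agent.H82.KLAlg
import Groth.Agent.H40.DiagMapPts
import Mathlib

/-! A family `c : X × D_S(M) → D_S(N)` of homomorphisms of diagonalizable groups parametrized by an
`S`-scheme `X` is, Zariski-locally on `X`, induced by a homomorphism `N → M`. -/

set_option autoImplicit false
set_option linter.unusedSectionVars false
universe u

open CategoryTheory MonoidalCategory CartesianMonoidalCategory MonObj AlgebraicGeometry
open CategoryTheory.Limits
open Groth.Agent.H42 Groth.Agent.H40 Magnet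
open Groth.Agent.H82.AMonPts Groth.Agent.H82.GroupIso Groth.Agent.H82.KLAlg

namespace Groth.Agent.H82.KLFam

variable {S : Scheme.{u}} {M N : Type} [AddCommGroup M] [AddCommGroup N]

theorem mapRingHom_injective {R R' : Type u} [CommRing R] [CommRing R'] {G : Type} [CommMonoid G]
    (f : R →+* R') (hf : Function.Injective f) :
    Function.Injective (MonoidAlgebra.mapRingHom G f) := by
  intro p q h
  ext g
  apply hf
  rw [← MonoidAlgebra.coeff_mapRingHom, ← MonoidAlgebra.coeff_mapRingHom, h]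

section Affine

variable (X : Over S) [IsAffine X.left] (c : X ⊗ AMonS S M ⟶ AMonS S N)

/-- the element of `Γ(X)[M]` giving the character `n` of the family -/
noncomputable def pn (n : Multiplicative N) : MonoidAlgebra Γ(X.left, ⊤) (Multiplicative M) :=
  (beta_surjective X M (amFn c n)).choose

theorem beta_pn (n : Multiplicative N) : beta X M (pn X c n) = amFn c n :=
  (beta_surjective X M (amFn c n)).choose_spec

theorem amFn_lift_comp {T : Over S} (x : T ⟶ X) (h : T ⟶ AMonS S M) (n : Multiplicative N) :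
    amFn (lift x h ≫ c) n =
      MonoidAlgebra.liftNCRingHom x.left.appTop.hom (amFn h) (fun _ _ => Commute.all _ _)
        (pn X c n) := by
  rw [amFn_comp, ← beta_pn, lift_beta_apply]

/-- the comparison `(Γ(X)[M])[M] → Γ((X × D) × D)` -/
noncomputable def gam2 : MonoidAlgebra (MonoidAlgebra Γ(X.left, ⊤) (Multiplicative M)) (Multiplicative M) →+*
    Γ(((X ⊗ AMonS S M) ⊗ AMonS S M).left, ⊤) :=
  (beta (X ⊗ AMonS S M) M).comp (MonoidAlgebra.mapRingHom (Multiplicative M) (beta X M))

theorem gam2_injective : Function.Injective (gam2 (M := M) X) := by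
  unfold gam2
  rw [RingHom.coe_comp]
  exact (beta_injective (X ⊗ AMonS S M) M).comp (mapRingHom_injective _ (beta_injective X M))

theorem gam2_single (m : Multiplicative M)
    (p : MonoidAlgebra Γ(X.left, ⊤) (Multiplicative M)) :
    gam2 X (MonoidAlgebra.single m p) =
      (fst (X ⊗ AMonS S M) (AMonS S M)).left.appTop (beta X M p) *
        amFn (snd (X ⊗ AMonS S M) (AMonS S M)) m := by
  unfold gam2
  rw [RingHom.comp_apply, MonoidAlgebra.mapRingHom_single, beta_single]


/-- the three ring-hom identities behind group-likeness -/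
theorem liftNC_eq_gam2_diag :
    (MonoidAlgebra.liftNCRingHom
      ((fst (X ⊗ AMonS S M) (AMonS S M) ≫ fst X (AMonS S M)).left.appTop.hom)
      (amFn ((fst (X ⊗ AMonS S M) (AMonS S M) ≫ snd X (AMonS S M)) *
        snd (X ⊗ AMonS S M) (AMonS S M)))
      (fun _ _ => Commute.all _ _) : MonoidAlgebra Γ(X.left, ⊤) (Multiplicative M) →+* Γ(((X ⊗ AMonS S M) ⊗ AMonS S M).left, ⊤)) =
      (gam2 X).comp (diag (R := Γ(X.left, ⊤)) (G := Multiplicative M)) := by
  apply MonoidAlgebra.ringHom_ext
  · intro b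
    rw [MonoidAlgebra.liftNCRingHom_single, RingHom.comp_apply, diag_single, gam2_single,
      beta_single, map_one (amFn _), map_one (amFn _), map_one (amFn _), _root_.mul_one,
      _root_.mul_one, _root_.mul_one, Over.comp_left, Scheme.Hom.comp_appTop]
    rfl
  · intro m
    rw [MonoidAlgebra.liftNCRingHom_single, RingHom.comp_apply, diag_single, gam2_single,
      beta_single, map_one, map_one, _root_.one_mul, _root_.one_mul, amFn_mul, amFn_comp]

theorem liftNC_eq_gam2_inl :
    (MonoidAlgebra.liftNCRingHom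
      ((fst (X ⊗ AMonS S M) (AMonS S M) ≫ fst X (AMonS S M)).left.appTop.hom)
      (amFn (fst (X ⊗ AMonS S M) (AMonS S M) ≫ snd X (AMonS S M)))
      (fun _ _ => Commute.all _ _) : MonoidAlgebra Γ(X.left, ⊤) (Multiplicative M) →+* Γ(((X ⊗ AMonS S M) ⊗ AMonS S M).left, ⊤)) =
      (gam2 X).comp (inl (R := Γ(X.left, ⊤)) (G := Multiplicative M)) := by
  apply MonoidAlgebra.ringHom_ext
  · intro b
    rw [MonoidAlgebra.liftNCRingHom_single, RingHom.comp_apply, inl_single, gam2_single,
      beta_single, map_one (amFn _), map_one (amFn _), map_one (amFn _), _root_.mul_one,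
      _root_.mul_one, _root_.mul_one, Over.comp_left, Scheme.Hom.comp_appTop]
    rfl
  · intro m
    rw [MonoidAlgebra.liftNCRingHom_single, RingHom.comp_apply, inl_single, gam2_single,
      beta_single, map_one, map_one, map_one, _root_.one_mul, _root_.one_mul, _root_.mul_one,
      amFn_comp]

theorem liftNC_eq_gam2_inr :
    (MonoidAlgebra.liftNCRingHom
      ((fst (X ⊗ AMonS S M) (AMonS S M) ≫ fst X (AMonS S M)).left.appTop.hom)
      (amFn (snd (X ⊗ AMonS S M) (AMonS S M)))
      (fun _ _ => Commute.all _ _) : MonoidAlgebra Γ(X.left, ⊤) (Multiplicative M) →+* Γ(((X ⊗ AMonS S M) ⊗ AMonS S M).left, ⊤)) =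
      (gam2 X).comp (inr (R := Γ(X.left, ⊤)) (G := Multiplicative M)) := by
  apply MonoidAlgebra.ringHom_ext
  · intro b
    rw [MonoidAlgebra.liftNCRingHom_single, RingHom.comp_apply, inr_single, gam2_single,
      beta_single, map_one (amFn _), map_one (amFn _), _root_.mul_one,
      _root_.mul_one, _root_.mul_one, Over.comp_left, Scheme.Hom.comp_appTop]
    rfl
  · intro m
    rw [MonoidAlgebra.liftNCRingHom_single, RingHom.comp_apply, inr_single, gam2_single,
      beta_single, map_one (amFn _), _root_.mul_one, map_one, map_one, map_one, _root_.one_mul]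

variable (hmul : ∀ (T : Over S) (x : T ⟶ X) (h h' : T ⟶ AMonS S M),
    lift x (h * h') ≫ c = (lift x h ≫ c) * (lift x h' ≫ c))

include hmul in
theorem diag_pn (n : Multiplicative N) : diag (pn X c n) = inl (pn X c n) * inr (pn X c n) := by
  apply gam2_injective X
  have h := congrArg (fun f => amFn f n)
    (hmul _ (fst (X ⊗ AMonS S M) (AMonS S M) ≫ fst X (AMonS S M))
      (fst (X ⊗ AMonS S M) (AMonS S M) ≫ snd X (AMonS S M)) (snd (X ⊗ AMonS S M) (AMonS S M)))
  beta_reduce at h
  rw [amFn_mul, amFn_lift_comp, amFn_lift_comp, amFn_lift_comp, liftNC_eq_gam2_diag,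
    liftNC_eq_gam2_inl, liftNC_eq_gam2_inr] at h
  rw [map_mul]
  exact h

theorem liftNC_id_one_eq_aug :
    (MonoidAlgebra.liftNCRingHom ((𝟙 X : X ⟶ X).left.appTop.hom) (amFn (1 : X ⟶ AMonS S M))
      (fun _ _ => Commute.all _ _) : MonoidAlgebra Γ(X.left, ⊤) (Multiplicative M) →+* Γ(X.left, ⊤)) =
      aug (R := Γ(X.left, ⊤)) (G := Multiplicative M) := by
  apply MonoidAlgebra.ringHom_ext
  · intro b
    rw [MonoidAlgebra.liftNCRingHom_single, aug_single, map_one (amFn _), _root_.mul_one,
      Over.id_left, Scheme.Hom.id_appTop]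
    rfl
  · intro m
    rw [MonoidAlgebra.liftNCRingHom_single, aug_single, map_one, _root_.one_mul, amFn_one]

include hmul in
theorem aug_pn (n : Multiplicative N) : aug (pn X c n) = 1 := by
  have h := congrArg (fun f => amFn f n) (hmul X (𝟙 X) 1 1)
  beta_reduce at h
  rw [_root_.mul_one, amFn_mul, amFn_lift_comp, liftNC_id_one_eq_aug] at h
  have hu : IsUnit (aug (pn X c n)) := by
    rw [← liftNC_id_one_eq_aug, ← amFn_lift_comp]
    exact (Group.isUnit n).map (amFn _)
  exact (hu.mul_left_cancel (by rw [← h, _root_.mul_one])).symm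

theorem isUnit_of_forall_mem_basicOpen {T : Scheme.{u}} {Y : Scheme.{u}} (f : T ⟶ Y) (r : Γ(Y, ⊤))
    (h : ∀ z, f z ∈ Y.basicOpen r) : IsUnit (f.appTop r) := by
  have h1 : T.basicOpen (f.appTop r) = ⊤ := by
    rw [← Scheme.preimage_basicOpen_top]
    ext z
    simp only [TopologicalSpace.Opens.coe_top, Set.mem_univ, iff_true]
    exact h z
  apply T.toRingedSpace.isUnit_of_isUnit_germ ⊤ (f.appTop r)
  intro z hz
  have hz' : z ∈ T.basicOpen (f.appTop r) := by rw [h1]; trivial
  exact (T.toRingedSpace.mem_basicOpen (f.appTop r) z hz).mp hz'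

include hmul in
theorem exists_basicOpen (x₀ : X.left) (n : Multiplicative N) :
    ∃ (r : Γ(X.left, ⊤)) (m₀ : Multiplicative M), x₀ ∈ X.left.basicOpen r ∧
      ∀ (T : Over S) (x : T ⟶ X) (h : T ⟶ AMonS S M), (∀ z, x.left z ∈ X.left.basicOpen r) →
        amFn (lift x h ≫ c) n = amFn h m₀ := by
  obtain ⟨m₀, hm₀⟩ := exists_coeff_ne_zero (X.left.Γevaluation x₀).hom (pn X c n)
    (aug_pn X c hmul n)
  refine ⟨(pn X c n).coeff m₀, m₀, ?_, ?_⟩
  · exact (X.left.evaluation_ne_zero_iff_mem_basicOpen (U := ⊤) x₀ trivial _).mp hm₀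
  · intro T x h hx
    have hu := isUnit_of_forall_mem_basicOpen x.left _ hx
    have h1 := mapRingHom_eq_single x.left.appTop.hom (pn X c n) (diag_pn X c hmul n) m₀ hu
    rw [amFn_lift_comp]
    exact liftNC_eq_of_mapRingHom _ _ _ _ h1

end Affine

section General

variable (X : Over S) (c : X ⊗ AMonS S M ⟶ AMonS S N)
variable (hmul : ∀ (T : Over S) (x : T ⟶ X) (h h' : T ⟶ AMonS S M),
    lift x (h * h') ≫ c = (lift x h ≫ c) * (lift x h' ≫ c))

include hmul in
theorem exists_open (x₀ : X.left) (n : Multiplicative N) :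
    ∃ (V : X.left.Opens) (m₀ : Multiplicative M), x₀ ∈ V ∧
      ∀ (T : Over S) (x : T ⟶ X) (h : T ⟶ AMonS S M), (∀ z, x.left z ∈ V) →
        amFn (lift x h ≫ c) n = amFn h m₀ := by
  obtain ⟨V₀, hV₀, hx₀, -⟩ := exists_isAffineOpen_mem_and_subset (x := x₀) (U := ⊤) trivial
  let X₀ : Over S := Over.mk (V₀.ι ≫ X.hom)
  let j : X₀ ⟶ X := Over.homMk V₀.ι rfl
  have : IsAffine X₀.left := hV₀
  have hmul₀ : ∀ (T : Over S) (x : T ⟶ X₀) (h h' : T ⟶ AMonS S M),
      lift x (h * h') ≫ (j ▷ AMonS S M) ≫ c =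
        (lift x h ≫ (j ▷ AMonS S M) ≫ c) * (lift x h' ≫ (j ▷ AMonS S M) ≫ c) := by
    intro T x h h'
    rw [lift_whiskerRight_assoc, lift_whiskerRight_assoc, lift_whiskerRight_assoc]
    exact hmul T (x ≫ j) h h'
  obtain ⟨r, m₀, hr, H⟩ := exists_basicOpen X₀ ((j ▷ AMonS S M) ≫ c) hmul₀ ⟨x₀, hx₀⟩ n
  refine ⟨V₀.ι ''ᵁ (X₀.left.basicOpen r), m₀, ⟨⟨x₀, hx₀⟩, hr, rfl⟩, ?_⟩
  intro T x h hx
  have hrange : Set.range x.left ⊆ Set.range V₀.ι := by
    rintro _ ⟨z, rfl⟩
    obtain ⟨w, -, hw⟩ := hx z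
    exact ⟨w, hw⟩
  let x' : T.left ⟶ V₀.toScheme := IsOpenImmersion.lift V₀.ι x.left hrange
  have hx' : x' ≫ V₀.ι = x.left := IsOpenImmersion.lift_fac _ _ _
  let xo : T ⟶ X₀ := Over.homMk x' (by
    change x' ≫ V₀.ι ≫ X.hom = T.hom
    rw [← Category.assoc, hx', Over.w])
  have hxo : xo ≫ j = x := by
    apply Over.OverMorphism.ext
    exact hx'
  have hz : ∀ z, xo.left z ∈ X₀.left.basicOpen r := by
    intro z
    obtain ⟨w, hw, hwz⟩ := hx z
    have hwz' : w = x' z := by
      apply V₀.ι.isOpenEmbedding.injective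
      refine Eq.trans hwz ?_
      rw [← hx']
      rfl
    change x' z ∈ _
    rw [← hwz']
    exact hw
  have h3 := H T xo h hz
  rw [← Category.assoc, lift_whiskerRight, hxo] at h3
  exact h3

/-- the residue field point, as an object over `S` -/
noncomputable abbrev Pt (x₀ : X.left) : Over S :=
  Over.mk (X.left.fromSpecResidueField x₀ ≫ X.hom)

/-- the residue field point -/
noncomputable def pt (x₀ : X.left) : Pt X x₀ ⟶ X :=
  Over.homMk (X.left.fromSpecResidueField x₀) rfl

theorem pt_left (x₀ : X.left) : (pt X x₀).left = X.left.fromSpecResidueField x₀ := rfl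

instance (x₀ : X.left) : IsAffine (Pt X x₀).left :=
  inferInstanceAs (IsAffine (Spec (X.left.residueField x₀)))

instance (x₀ : X.left) : Nontrivial Γ((Pt X x₀).left, ⊤) :=
  RingHom.domain_nontrivial (Scheme.ΓSpecIso (X.left.residueField x₀)).hom.hom

theorem amFn_snd_injective (Y : Over S) [IsAffine Y.left] [Nontrivial Γ(Y.left, ⊤)] :
    Function.Injective (fun m : Multiplicative M => amFn (snd Y (AMonS S M)) m) := by
  classical
  intro m m' h
  have h1 : beta Y M (MonoidAlgebra.single m 1) = beta Y M (MonoidAlgebra.single m' 1) := by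
    rw [beta_single, beta_single, map_one, _root_.one_mul, _root_.one_mul]
    exact h
  have h2 := beta_injective Y M h1
  by_contra hne
  have h3 := congrArg (fun p => p.coeff m) h2
  beta_reduce at h3
  rw [MonoidAlgebra.coeff_single, MonoidAlgebra.coeff_single, Finsupp.single_apply,
    Finsupp.single_apply, if_pos rfl, if_neg (fun h => hne h.symm)] at h3
  exact one_ne_zero h3

include hmul in
theorem exists_local (hN : AddGroup.FG N) (x₀ : X.left) :
    ∃ (V : X.left.Opens) (φ : N →+ M), x₀ ∈ V ∧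
      ∀ (T : Over S) (x : T ⟶ X) (h : T ⟶ AMonS S M), (∀ z, x.left z ∈ V) →
        lift x h ≫ c = h ≫ AMonS.map S φ := by
  choose V m₀ hV H using exists_open X c hmul x₀
  let T₀ : Over S := Pt X x₀ ⊗ AMonS S M
  let xT : T₀ ⟶ X := fst _ _ ≫ pt X x₀
  let hT : T₀ ⟶ AMonS S M := snd _ _
  have hland : ∀ n z, xT.left z ∈ V n := by
    intro n z
    have h1 : xT.left z = x₀ := by
      change (fst (Pt X x₀) (AMonS S M) ≫ pt X x₀).left z = x₀
      rw [Over.comp_left, pt_left, Scheme.Hom.comp_apply]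
      exact Scheme.fromSpecResidueField_apply _ _
    rw [h1]
    exact hV n
  have key : ∀ n, amFn (lift xT hT ≫ c) n = amFn hT (m₀ n) :=
    fun n => H n T₀ xT hT (hland n)
  have inj := amFn_snd_injective (M := M) (Pt X x₀)
  have hone : m₀ 1 = 1 := by
    apply inj
    change amFn hT (m₀ 1) = amFn hT 1
    rw [← key, map_one, map_one]
  have hmulm : ∀ n n', m₀ (n * n') = m₀ n * m₀ n' := by
    intro n n'
    apply inj
    change amFn hT (m₀ (n * n')) = amFn hT (m₀ n * m₀ n')
    rw [← key, map_mul, map_mul, key, key]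
  let φ' : Multiplicative N →* Multiplicative M := ⟨⟨m₀, hone⟩, hmulm⟩
  let φ : N →+ M := AddMonoidHom.toMultiplicative.symm φ'
  have hφ : ∀ n, AddMonoidHom.toMultiplicative φ n = m₀ n := by
    intro n
    change AddMonoidHom.toMultiplicative (AddMonoidHom.toMultiplicative.symm φ') n = _
    rw [Equiv.apply_symm_apply]
    rfl
  obtain ⟨s, hs, hfin⟩ := Monoid.fg_iff.mp
    (AddMonoid.fg_iff_mul_fg.mp (AddGroup.fg_iff_addMonoid_fg.mp hN))
  refine ⟨⟨⋂ n ∈ s, (V n : Set X.left), hfin.isOpen_biInter (fun n _ => (V n).2)⟩, φ, ?_, ?_⟩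
  · exact Set.mem_iInter₂.mpr (fun n _ => hV n)
  · intro T x h hx
    apply amFn_injective
    apply MonoidHom.eq_of_eqOn_denseM hs
    intro n hn
    rw [amFn_map, hφ]
    exact H n T x h (fun z => Set.mem_iInter₂.mp (hx z) n hn)

end General

end Groth.Agent.H82.KLFam
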