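import Groth.Agent.H90.GrpTrivFibre
import Mathlib.AlgebraicGeometry.Morphisms.Immersion
import Mathlib.CategoryTheory.Monoidal.Cartesian.Grp

/-! A homomorphism of group schemes `u : H ⟶ G` over `S`, with `H` locally of finite type over `S`,
all of whose fibres are monomorphisms, is a monomorphism: the kernel is locally of finite type over
`S`, has a section and trivial fibres, hence is unramified over `S` with the unit section an open
immersion, which is surjective. -/

set_option autoImplicit false
set_option linter.unusedSectionVars false
open CategoryTheory MonoidalCategory CartesianMonoidalCategory MonObj GrpObj AlgebraicGeometry Limits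
universe u

namespace Groth.Agent.H82.KerTriv

variable {S : Scheme.{u}} {H G : Over S} [GrpObj H] [GrpObj G] (u : H ⟶ G) [IsMonHom u]

/-- the kernel of `u`, as a scheme -/
noncomputable abbrev K : Scheme.{u} := pullback u.left η[G].left

/-- the structure morphism of the kernel -/
noncomputable abbrev kf : K u ⟶ S := pullback.fst u.left η[G].left ≫ H.hom

theorem eta_hom : η[G].left ≫ G.hom = 𝟙 S := Over.w η[G]

theorem snd_eq : pullback.snd u.left η[G].left = kf u := by
  have h := pullback.condition (f := u.left) (g := η[G].left)
  have h2 := congrArg (· ≫ G.hom) h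
  simp only [Category.assoc] at h2
  rw [eta_hom, Over.w u] at h2
  exact (by simpa using h2.symm)

/-- the unit section of the kernel -/
noncomputable def sec : S ⟶ K u :=
  pullback.lift η[H].left (𝟙 S) (by
    rw [← Over.comp_left, IsMonHom.one_hom]
    exact (Category.id_comp _).symm)

theorem sec_kf : sec u ≫ kf u = 𝟙 S := by
  unfold sec kf
  rw [pullback.lift_fst_assoc]
  exact Over.w η[H]

instance isImmersion_eta : IsImmersion η[G].left := by
  have : IsImmersion (η[G].left ≫ G.hom) := by
    rw [eta_hom]
    exact inferInstanceAs (IsImmersion (𝟙 S))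
  exact IsImmersion.of_comp η[G].left G.hom

theorem lft_kf [LocallyOfFiniteType H.hom] : LocallyOfFiniteType (kf u) := by
  unfold kf
  infer_instance


theorem mono_of_isIso_kf (h : IsIso (kf u)) : Mono u.left := by
  constructor
  intro T a b hab
  have hb : b ≫ H.hom = a ≫ H.hom := by
    rw [← Over.w u, ← Category.assoc, ← hab, Category.assoc]
  let T' : Over S := Over.mk (a ≫ H.hom)
  let a' : T' ⟶ H := Over.homMk a rfl
  let b' : T' ⟶ H := Over.homMk b hb
  have hab' : a' ≫ u = b' ≫ u := Over.OverMorphism.ext hab
  have hc : (a' / b') ≫ u = 1 := by rw [GrpObj.div_comp, hab', div_self']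
  set c := a' / b' with hcdef
  have hc2 : c.left ≫ u.left = T'.hom ≫ η[G].left := by
    have := congrArg Over.Hom.left hc
    rw [Over.comp_left, Hom.one_def, Over.comp_left, Over.toUnit_left] at this
    exact this
  let k : T ⟶ K u := pullback.lift c.left T'.hom hc2
  have hk : k ≫ kf u = T'.hom := by
    unfold kf
    rw [pullback.lift_fst_assoc]
    exact Over.w c
  have hk2 : k = T'.hom ≫ sec u := by
    rw [← cancel_mono (kf u), Category.assoc, sec_kf, Category.comp_id, hk]
  have hc3 : c.left = T'.hom ≫ η[H].left := by
    have h1 : c.left = k ≫ pullback.fst _ _ := (pullback.lift_fst _ _ _).symm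
    rw [h1, hk2, Category.assoc]
    unfold sec
    rw [pullback.lift_fst]
  have hc4 : c = 1 := by
    apply Over.OverMorphism.ext
    rw [hc3, Hom.one_def, Over.comp_left, Over.toUnit_left]
  have h5 : a' = b' := div_eq_one.mp hc4
  exact congrArg Over.Hom.left h5

theorem isIso_fibre (s : S)
    (h : Mono ((Over.pullback (S.fromSpecResidueField s)).map u).left) :
    IsIso ((kf u).fiberToSpecResidueField s) := by
  set σ := S.fromSpecResidueField s with hσ
  change IsIso (pullback.snd (kf u) σ)
  let e : Spec (S.residueField s) ⟶ pullback (kf u) σ :=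
    pullback.lift (σ ≫ sec u) (𝟙 _) (by rw [Category.assoc, sec_kf]; simp)
  have he : e ≫ pullback.snd (kf u) σ = 𝟙 _ := pullback.lift_snd _ _ _
  have hm : Mono (pullback.snd (kf u) σ) := by
    constructor
    intro T a b hab
    -- the two points of `H_s`
    have wa : (a ≫ pullback.fst (kf u) σ ≫ pullback.fst u.left η[G].left) ≫ H.hom
        = (a ≫ pullback.snd (kf u) σ) ≫ σ := by
      simp only [Category.assoc]
      rw [← pullback.condition]
    have wb : (b ≫ pullback.fst (kf u) σ ≫ pullback.fst u.left η[G].left) ≫ H.hom
        = (b ≫ pullback.snd (kf u) σ) ≫ σ := by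
      simp only [Category.assoc]
      rw [← pullback.condition]
    let a' : T ⟶ pullback H.hom σ := pullback.lift _ _ wa
    let b' : T ⟶ pullback H.hom σ := pullback.lift _ _ wb
    have key : ∀ (x : T ⟶ pullback (kf u) σ),
        (x ≫ pullback.fst (kf u) σ ≫ pullback.fst u.left η[G].left) ≫ u.left
          = (x ≫ pullback.snd (kf u) σ) ≫ σ ≫ η[G].left := by
      intro x
      simp only [Category.assoc]
      rw [pullback.condition (f := u.left), snd_eq, ← Category.assoc (pullback.fst (kf u) σ),
        pullback.condition (f := kf u)]
      simp only [Category.assoc]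
    have h1 : a' ≫ ((Over.pullback σ).map u).left = b' ≫ ((Over.pullback σ).map u).left := by
      apply pullback.hom_ext
      · simp only [Over.pullback_map_left, Category.assoc, pullback.lift_fst, a', b']
        rw [pullback.lift_fst_assoc, pullback.lift_fst_assoc, key a, key b, hab]
      · simp only [Over.pullback_map_left, Category.assoc, pullback.lift_snd, a', b']
        exact hab
    have h2 : a' = b' := (cancel_mono _).mp h1
    have h3 := congrArg (· ≫ pullback.fst H.hom σ) h2
    simp only [a', b', pullback.lift_fst] at h3
    have h4 : a ≫ pullback.fst (kf u) σ = b ≫ pullback.fst (kf u) σ := by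
      refine pullback.hom_ext ?_ ?_
      · simpa using h3
      · rw [snd_eq]
        unfold kf
        have h5 := congrArg (· ≫ H.hom) h3
        simpa using h5
    exact pullback.hom_ext h4 hab
  have : IsSplitEpi (pullback.snd (kf u) σ) := ⟨⟨e, he⟩⟩
  exact isIso_of_mono_of_isSplitEpi _

theorem isIso_kf [LocallyOfFiniteType H.hom]
    (hfib : ∀ s : S, Mono ((Over.pullback (S.fromSpecResidueField s)).map u).left) :
    IsIso (kf u) := by
  have := lft_kf u
  exact Groth.Agent.H90.isIso_of_section_of_fibres (kf u) (sec u) (sec_kf u)
    (fun s => isIso_fibre u s (hfib s))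

theorem mono_of_fibres [LocallyOfFiniteType H.hom]
    (hfib : ∀ s : S, Mono ((Over.pullback (S.fromSpecResidueField s)).map u).left) :
    Mono u.left :=
  mono_of_isIso_kf u (isIso_kf u hfib)

end Groth.Agent.H82.KerTriv
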