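import Groth.Prelude.Def_W4c4lgringredgrpLG
import Mathlib.AlgebraicGeometry.AffineScheme
import Mathlib.LinearAlgebra.SymmetricAlgebra.Basic
import Mathlib.RingTheory.Finiteness.Projective
import Mathlib.LinearAlgebra.Dual.Lemmas
import Mathlib.Algebra.MvPolynomial.Rename
import Mathlib.Tactic

set_option autoImplicit false
universe u

namespace Groth.Agent.H82.LG

open AlgebraicGeometry LGRing

variable {R : Type u} [CommRing R]

/-- the linear form attached to a tuple -/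
noncomputable def formOf {N : Type u} [AddCommGroup N] [Module R N] {n : ℕ}
    (σ : N →ₗ[R] (Fin n → R)) {S : Type u} [CommRing S] [Algebra R S] (x : Fin n → S) : N →ₗ[R] S :=
  (∑ i : Fin n, (LinearMap.toSpanSingleton R S (x i)).comp (LinearMap.proj i)).comp σ

theorem formOf_apply {N : Type u} [AddCommGroup N] [Module R N] {n : ℕ}
    (σ : N →ₗ[R] (Fin n → R)) {S : Type u} [CommRing S] [Algebra R S] (x : Fin n → S) (ξ : N) :
    formOf σ x ξ = ∑ i : Fin n, σ ξ i • x i := by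
  simp [formOf]

/-- the comparison map from the symmetric algebra to the polynomial ring -/
noncomputable def Psi {N : Type u} [AddCommGroup N] [Module R N] {n : ℕ}
    (σ : N →ₗ[R] (Fin n → R)) : SymmetricAlgebra R N →ₐ[R] MvPolynomial (Fin n) R :=
  SymmetricAlgebra.lift (formOf σ (fun i => (MvPolynomial.X i : MvPolynomial (Fin n) R)))

theorem aeval_Psi {N : Type u} [AddCommGroup N] [Module R N] {n : ℕ}
    (σ : N →ₗ[R] (Fin n → R)) {S : Type u} [CommRing S] [Algebra R S] (x : Fin n → S)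
    (f : SymmetricAlgebra R N) :
    MvPolynomial.aeval x (Psi σ f) = SymmetricAlgebra.lift (formOf σ x) f := by
  have : (MvPolynomial.aeval x).comp (Psi σ) = SymmetricAlgebra.lift (formOf σ x) := by
    apply SymmetricAlgebra.algHom_ext
    ext ξ
    simp [Psi, formOf_apply, SymmetricAlgebra.lift_ι_apply]
  exact DFunLike.congr_fun this f

theorem formOf_eq {N : Type u} [AddCommGroup N] [Module R N] {n : ℕ}
    (π : (Fin n → R) →ₗ[R] N) (σ : N →ₗ[R] (Fin n → R)) (hπσ : π ∘ₗ σ = LinearMap.id)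
    {S : Type u} [CommRing S] [Algebra R S] (φ : N →ₗ[R] S) :
    formOf σ (fun i => φ (π (Pi.single i 1))) = φ := by
  ext ξ
  rw [formOf_apply]
  have h1 : ξ = π (σ ξ) := by
    have := LinearMap.congr_fun hπσ ξ
    simpa using this.symm
  conv_rhs => rw [h1, ← (Pi.basisFun R (Fin n)).sum_repr (σ ξ)]
  simp only [map_sum, map_smul, Pi.basisFun_repr, Pi.basisFun_apply]

/-- the main local-global lemma for points of vector bundles -/
theorem exists_form (hR : IsLGRing R) {N : Type u} [AddCommGroup N] [Module R N] {n : ℕ}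
    (σ : N →ₗ[R] (Fin n → R)) (t : Finset (SymmetricAlgebra R N))
    (h : ∀ (m : Ideal R) [m.IsMaximal], ∃ x : Fin n → R ⧸ m, ∃ f ∈ t,
      MvPolynomial.aeval x (Psi σ f) ≠ 0) :
    ∃ φ : N →ₗ[R] R, ∀ 𝔭 : PrimeSpectrum R, ∃ f ∈ t, SymmetricAlgebra.lift φ f ∉ 𝔭.asIdeal := by
  classical
  set k := t.card with hk
  let e : Fin k ≃ t := t.equivFin.symm
  let ιX : Fin n → Fin (n + k) := fun i => Fin.castAdd k i
  let ιY : Fin k → Fin (n + k) := fun j => Fin.natAdd n j
  let F : MvPolynomial (Fin (n + k)) R :=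
    ∑ j : Fin k, MvPolynomial.rename ιX (Psi σ (e j : SymmetricAlgebra R N)) * MvPolynomial.X (ιY j)
  have hFeval : ∀ {S : Type u} [CommRing S] [Algebra R S] (s : Fin (n + k) → S),
      MvPolynomial.aeval s F =
        ∑ j : Fin k, MvPolynomial.aeval (s ∘ ιX) (Psi σ (e j : SymmetricAlgebra R N)) * s (ιY j) := by
    intro S _ _ s
    simp only [F, map_sum, map_mul, MvPolynomial.aeval_rename, MvPolynomial.aeval_X]
  have hF : ∀ (m : Ideal R) [m.IsMaximal], LGRing.RepresentsUnit F (R ⧸ m) := by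
    intro m hm
    let _ := Ideal.Quotient.field m
    obtain ⟨x, f, hf, hne⟩ := h m
    set j := e.symm ⟨f, hf⟩ with hj
    obtain ⟨sb, hsb1, hsb2⟩ : ∃ sb : Fin (n + k) → R ⧸ m, sb ∘ ιX = x ∧
        ∀ j', sb (ιY j') = if j' = j then (MvPolynomial.aeval x (Psi σ f))⁻¹ else 0 :=
      ⟨fun i => Fin.addCases x (fun j' => if j' = j then
        (MvPolynomial.aeval x (Psi σ f))⁻¹ else 0) i,
        by funext i; simp [ιX], by intro j'; simp [ιY]⟩
    refine ⟨sb, ?_⟩
    rw [hFeval, Finset.sum_eq_single j]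
    · have h3 : (e j : SymmetricAlgebra R N) = f := by
        rw [hj, Equiv.apply_symm_apply]
      rw [hsb1, hsb2, if_pos rfl, h3, mul_inv_cancel₀ hne]
      exact isUnit_one
    · intro j' _ hj'
      rw [hsb2, if_neg hj', mul_zero]
    · intro hj'; exact absurd (Finset.mem_univ j) hj'
  obtain ⟨s, hs⟩ := hR (n + k) F hF
  refine ⟨formOf σ (s ∘ ιX), fun 𝔭 => ?_⟩
  by_contra hcon
  push Not at hcon
  have hs' : MvPolynomial.aeval s F ∈ 𝔭.asIdeal := by
    rw [hFeval]
    refine Ideal.sum_mem _ (fun j _ => Ideal.mul_mem_right _ _ ?_)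
    rw [aeval_Psi]
    exact hcon (e j) (e j).2
  exact 𝔭.isPrime.ne_top (Ideal.eq_top_of_isUnit_mem _ hs' hs)

/-- membership criterion for sections of the vector bundle -/
theorem range_subset_iff {A : Type u} [CommRing A] (t : Finset A)
    (U : (Spec (CommRingCat.of A)).Opens)
    (ht : (PrimeSpectrum.zeroLocus (t : Set A))ᶜ = (U : Set ↥(Spec (CommRingCat.of A))))
    {S : Type u} [CommRing S] (φ : A →+* S) :
    Set.range (Spec.map (CommRingCat.ofHom φ)).base ⊆ (U : Set ↥(Spec (CommRingCat.of A))) ↔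
      ∀ 𝔭 : PrimeSpectrum S, ∃ f ∈ t, φ f ∉ 𝔭.asIdeal := by
  have hmem : ∀ 𝔭 : PrimeSpectrum S, (Spec.map (CommRingCat.ofHom φ)).base 𝔭 ∈
      (U : Set ↥(Spec (CommRingCat.of A))) ↔ ∃ f ∈ t, φ f ∉ 𝔭.asIdeal := by
    intro 𝔭
    rw [← ht]
    change PrimeSpectrum.comap φ 𝔭 ∈ (PrimeSpectrum.zeroLocus (t : Set A))ᶜ ↔ _
    rw [Set.mem_compl_iff, PrimeSpectrum.mem_zeroLocus, Set.not_subset]
    constructor
    · rintro ⟨f, hf, hf'⟩
      exact ⟨f, hf, hf'⟩
    · rintro ⟨f, hf, hf'⟩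
      exact ⟨f, hf, hf'⟩
  constructor
  · intro h 𝔭
    exact (hmem 𝔭).1 (h ⟨𝔭, rfl⟩)
  · rintro h _ ⟨𝔭, rfl⟩
    exact (hmem 𝔭).2 (h 𝔭)

end Groth.Agent.H82.LG
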