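import Groth.Agent.H82.LG
import Mathlib.Algebra.MvPolynomial.Funext
import Mathlib.RingTheory.Polynomial.Basic

set_option autoImplicit false
universe u

namespace Groth.Agent.H82.LG

open AlgebraicGeometry LGRing

variable {R : Type u} [CommRing R]

/-- the retraction of `Psi` -/
noncomputable def rho {N : Type u} [AddCommGroup N] [Module R N] {n : ℕ}
    (π : (Fin n → R) →ₗ[R] N) : MvPolynomial (Fin n) R →ₐ[R] SymmetricAlgebra R N :=
  MvPolynomial.aeval (fun i => SymmetricAlgebra.ι R N (π (Pi.single i 1)))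

theorem rho_Psi {N : Type u} [AddCommGroup N] [Module R N] {n : ℕ}
    (π : (Fin n → R) →ₗ[R] N) (σ : N →ₗ[R] (Fin n → R)) (hπσ : π ∘ₗ σ = LinearMap.id)
    (f : SymmetricAlgebra R N) : rho π (Psi σ f) = f := by
  have : (rho π).comp (Psi σ) = AlgHom.id R _ := by
    apply SymmetricAlgebra.algHom_ext
    apply LinearMap.ext
    intro ξ
    change rho π (Psi σ (SymmetricAlgebra.ι R N ξ)) = SymmetricAlgebra.ι R N ξ
    rw [Psi, SymmetricAlgebra.lift_ι_apply, formOf_apply, map_sum]
    simp only [map_smul, rho, MvPolynomial.aeval_X]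
    have h1 : ξ = π (σ ξ) := by
      have := LinearMap.congr_fun hπσ ξ
      simpa using this.symm
    conv_rhs => rw [h1, ← (Pi.basisFun R (Fin n)).sum_repr (σ ξ)]
    simp only [map_sum, map_smul, Pi.basisFun_repr, Pi.basisFun_apply]
  exact DFunLike.congr_fun this f

/-- over an infinite residue field, an element outside `m A` is nonzero at some point -/
theorem exists_point_of_not_mem {N : Type u} [AddCommGroup N] [Module R N] {n : ℕ}
    (π : (Fin n → R) →ₗ[R] N) (σ : N →ₗ[R] (Fin n → R)) (hπσ : π ∘ₗ σ = LinearMap.id)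
    (m : Ideal R) [m.IsMaximal] (hinf : Infinite (R ⧸ m)) (f : SymmetricAlgebra R N)
    (hf : f ∉ Ideal.map (algebraMap R (SymmetricAlgebra R N)) m) :
    ∃ x : Fin n → R ⧸ m, MvPolynomial.aeval x (Psi σ f) ≠ 0 := by
  let _ := Ideal.Quotient.field m
  have h1 : Psi σ f ∉ Ideal.map (MvPolynomial.C : R →+* MvPolynomial (Fin n) R) m := by
    intro hmem
    apply hf
    have h2 := Ideal.mem_map_of_mem (rho π : MvPolynomial (Fin n) R →+* SymmetricAlgebra R N) hmem
    rw [Ideal.map_map] at h2
    have h3 : ((rho π : MvPolynomial (Fin n) R →+* SymmetricAlgebra R N).comp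
        (MvPolynomial.C : R →+* MvPolynomial (Fin n) R)) =
        algebraMap R (SymmetricAlgebra R N) := by
      ext r
      simp [rho]
    rw [h3] at h2
    have h4 : (rho π : MvPolynomial (Fin n) R →+* SymmetricAlgebra R N) (Psi σ f) = f :=
      rho_Psi π σ hπσ f
    rw [h4] at h2
    exact h2
  have h2 : MvPolynomial.map (Ideal.Quotient.mk m) (Psi σ f) ≠ 0 := by
    intro h0
    apply h1
    have : Psi σ f ∈ RingHom.ker (MvPolynomial.map (Ideal.Quotient.mk m) :
        MvPolynomial (Fin n) R →+* MvPolynomial (Fin n) (R ⧸ m)) := h0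
    rw [MvPolynomial.ker_map, Ideal.mk_ker] at this
    exact this
  by_contra hcon
  push Not at hcon
  apply h2
  apply MvPolynomial.funext
  intro x
  rw [MvPolynomial.eval_map, map_zero]
  exact hcon x

end Groth.Agent.H82.LG
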