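import Groth.Agent.S16598
import Mathlib.RingTheory.Spectrum.Prime.FreeLocus
import Mathlib.RingTheory.LocalProperties.Basic
import Mathlib.Tactic

set_option autoImplicit false
set_option linter.style.haveILetI false
set_option linter.deprecated false
universe u v

namespace Groth.Agent.H82.LGFree

open Module

attribute [local instance] Module.free_of_flat_of_isLocalRing

section

variable {R : Type u} [CommRing R] {M : Type v} [AddCommGroup M] [Module R M]
  [Module.Finite R M] [Module.Projective R M]

theorem pos_rank_faithful (h : ∀ p : PrimeSpectrum R, 0 < Module.rankAtStalk M p) :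
    FaithfulSMul R M := by
  rw [← Module.annihilator_eq_bot, eq_bot_iff]
  intro r hr
  rw [Module.mem_annihilator] at hr
  rw [Submodule.mem_bot]
  apply eq_zero_of_localization r
  intro J hJ
  let p : PrimeSpectrum R := ⟨J, hJ.isPrime⟩
  have hp : 0 < Module.finrank (Localization.AtPrime J) (LocalizedModule J.primeCompl M) := h p
  let b := Module.Free.chooseBasis (Localization.AtPrime J) (LocalizedModule J.primeCompl M)
  have hne : Nonempty (Module.Free.ChooseBasisIndex (Localization.AtPrime J)
      (LocalizedModule J.primeCompl M)) := by
    by_contra hcon
    rw [not_nonempty_iff] at hcon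
    rw [Module.finrank_eq_card_chooseBasisIndex, Fintype.card_eq_zero] at hp
    exact lt_irrefl 0 hp
  obtain ⟨i⟩ := hne
  have h0 : ∀ y : LocalizedModule J.primeCompl M,
      (algebraMap R (Localization.AtPrime J) r) • y = 0 := by
    intro y
    induction y using LocalizedModule.induction_on with
    | h m s =>
      rw [algebraMap_smul, LocalizedModule.smul'_mk, hr m, LocalizedModule.zero_mk]
  have h1 := h0 (b i)
  have h2 := congrArg (fun z => b.repr z i) h1
  simp only [map_smul, Module.Basis.repr_self, map_zero, Finsupp.smul_apply, Finsupp.single_eq_same,
    Finsupp.zero_apply, smul_eq_mul, mul_one] at h2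
  exact h2

end

section split

variable {R : Type u} [CommRing R] {M : Type v} [AddCommGroup M] [Module R M]

/-- splitting off a unimodular element. -/
noncomputable def splitEquiv (m : M) (f : Module.Dual R M) (hfm : f m = 1) :
    M ≃ₗ[R] R × LinearMap.ker f :=
  LinearEquiv.ofLinear
    (f.prod ((LinearMap.id - (LinearMap.toSpanSingleton R M m).comp f).codRestrict (LinearMap.ker f)
      (fun x => by
        rw [LinearMap.mem_ker]
        simp [hfm])))
    ((LinearMap.toSpanSingleton R M m).coprod (LinearMap.ker f).subtype)
    (by
      apply LinearMap.ext
      rintro ⟨r, ⟨k, hk⟩⟩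
      rw [LinearMap.mem_ker] at hk
      ext
      · simp [hfm, hk]
      · simp [hfm, hk])
    (by
      apply LinearMap.ext
      intro x
      simp)

end split

theorem main {R : Type u} [CommRing R] (hR : LGRing.IsLGRing R) :
    ∀ (d : ℕ) (M : Type v) [AddCommGroup M] [Module R M] [Module.Finite R M]
      [Module.Projective R M], (∀ p : PrimeSpectrum R, Module.rankAtStalk M p = d) →
      Module.Free R M := by
  intro d
  induction d with
  | zero =>
    intro M _ _ _ _ hd
    have : Subsingleton M := by
      rw [← Module.rankAtStalk_eq_zero_iff_subsingleton (R := R)]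
      funext p
      exact hd p
    exact Module.Free.of_subsingleton R M
  | succ d ih =>
    intro M _ _ _ _ hd
    haveI : FaithfulSMul R M := pos_rank_faithful (fun p => by rw [hd p]; omega)
    obtain ⟨m, f, hfm⟩ := Groth.Agent.S16598.result hR M
    let e := splitEquiv m f hfm
    let K := LinearMap.ker f
    let q : M →ₗ[R] K := (LinearMap.snd R R K).comp e.toLinearMap
    have hq : Function.Surjective q := by
      intro k
      exact ⟨e.symm (0, k), by simp [q]⟩
    haveI : Module.Finite R K := Module.Finite.of_surjective q hq
    haveI : Module.Projective R K :=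
      Module.Projective.of_split ((e.symm : R × K →ₗ[R] M).comp (LinearMap.inr R R K)) q (by
        apply LinearMap.ext
        intro k
        simp [q])
    have hK : ∀ p : PrimeSpectrum R, Module.rankAtStalk K p = d := by
      intro p
      haveI : Nontrivial R := (PrimeSpectrum.nonempty_iff_nontrivial).1 ⟨p⟩
      have h1 : Module.rankAtStalk M p = Module.rankAtStalk (R × K) p :=
        congrFun (Module.rankAtStalk_eq_of_equiv e) p
      rw [Module.rankAtStalk_prod, Pi.add_apply, Module.rankAtStalk_self, Pi.one_apply, hd p] at h1
      omega
    haveI : Module.Free R K := ih K hK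
    exact Module.Free.of_equiv e.symm

end Groth.Agent.H82.LGFree
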