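import Groth.Agent.H82.LieUnip
import Groth.Prelude.Def_LieHopf
import Groth.Prelude.Def_GLin

set_option autoImplicit false

namespace Groth.Agent.H82.LieBridge

open TensorProduct Groth.Agent.H82.AugGr Groth.Agent.H82.LieDense Groth.Agent.H82.LieUnip
  Groth.Agent.H40 HopfRep

universe u w w'
variable {k : Type u} {A : Type u} [Field k] [CommRing A] [HopfAlgebra k A]

lemma isEpsDer_dlin (ξ : LieHopf.Lie k A) : IsEpsDer (LieHopf.dlin ξ) := by
  intro a b
  rw [LieHopf.dlin_mul]
  simp only [Bialgebra.counitAlgHom_apply]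
  ring

/-- the Lie algebra element attached to an `ε`-derivation functional -/
noncomputable def lieOf (d : A →ₗ[k] k) (hd : IsEpsDer d) : LieHopf.Lie k A :=
  Derivation.mk' (show A →ₗ[k] LieHopf.K k A from d) (by
    intro a b
    rw [LieHopf.smul_def, LieHopf.smul_def]
    change d (a * b) = Coalgebra.counit (R := k) a * d b + Coalgebra.counit (R := k) b * d a
    rw [hd]; ring)

lemma dlin_lieOf (d : A →ₗ[k] k) (hd : IsEpsDer d) : LieHopf.dlin (lieOf d hd) = d := by
  ext a
  rfl

variable {V : Type w} [AddCommGroup V] [Module k V]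

/-- `V ⊗ K ≃ V` -/
noncomputable def ridK : V ⊗[k] LieHopf.K k A ≃ₗ[k] V := TensorProduct.rid k V

lemma ridK_lTensor (ξ : LieHopf.Lie k A) (t : V ⊗[k] A) :
    ridK (A := A) (LinearMap.lTensor V (ξ.toLinearMap.restrictScalars k) t) =
      slice V (LieHopf.dlin ξ) t := by
  induction t using TensorProduct.induction_on with
  | zero => simp
  | add x y hx hy => simp only [map_add, hx, hy]
  | tmul v a =>
    rw [LinearMap.lTensor_tmul, slice_tmul]
    rfl

lemma ridK_rTensor {V' : Type w'} [AddCommGroup V'] [Module k V'] (f : V →ₗ[k] V')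
    (y : V ⊗[k] LieHopf.K k A) :
    ridK (A := A) (LinearMap.rTensor (LieHopf.K k A) f y) = f (ridK (A := A) y) := by
  induction y using TensorProduct.induction_on with
  | zero => simp
  | add x y hx hy => simp only [map_add, hx, hy]
  | tmul v c =>
    rw [LinearMap.rTensor_tmul]
    change (show k from c) • f v = f ((show k from c) • v)
    rw [map_smul]


section Main

variable [IsAlgClosed k] [CharZero k] [Algebra.FiniteType k A]

omit [AddCommGroup V] [Module k V] in
/-- unipotent groups in characteristic zero are infinitesimally dense -/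
lemma iInf_pow_eq_bot_of_isUnipotent (hU : HopfRep.IsUnipotent k A) :
    (⨅ n : ℕ, (aug k A) ^ n) = ⊥ :=
  ConnKrull.iInf_pow_aug_eq_bot (UnipConn.idempotent_trivial hU)

variable [Comod k A V]

lemma slice_eq_zero_of_lie {v : V}
    (h : ∀ ξ : LieHopf.Lie k A,
      LinearMap.lTensor V (ξ.toLinearMap.restrictScalars k) (Comod.coact (k := k) (A := A) v) = 0)
    (d : A →ₗ[k] k) (hd : IsEpsDer d) : slice V d (rho k A V v) = 0 := by
  have := h (lieOf d hd)
  have h2 := congrArg (ridK (A := A)) this
  rw [ridK_lTensor, dlin_lieOf, map_zero] at h2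
  exact h2

/-- S18987 (comodule form) -/
theorem coact_eq_iff_lie (hU : HopfRep.IsUnipotent k A) (v : V) :
    Comod.coact (k := k) (A := A) v = v ⊗ₜ[k] (1 : A) ↔
      ∀ ξ : LieHopf.Lie k A,
        LinearMap.lTensor V (ξ.toLinearMap.restrictScalars k) (Comod.coact (k := k) (A := A) v) = 0 := by
  constructor
  · intro h ξ
    rw [h, LinearMap.lTensor_tmul]
    have : (ξ.toLinearMap.restrictScalars k) (1 : A) = 0 := ξ.map_one_eq_zero
    rw [this, TensorProduct.tmul_zero]
  · intro h
    exact fixed_of_lie_killed (iInf_pow_eq_bot_of_isUnipotent hU) v (slice_eq_zero_of_lie h)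

/-- S18988 (comodule form) -/
theorem isSubcomod_iff_lie (hU : HopfRep.IsUnipotent k A) (W : Submodule k V) :
    HopfRep.IsSubcomod (k := k) (A := A) W ↔
      ∀ (ξ : LieHopf.Lie k A) (v : V), v ∈ W →
        LinearMap.lTensor V (ξ.toLinearMap.restrictScalars k) (Comod.coact (k := k) (A := A) v) ∈
          LinearMap.range (LinearMap.rTensor (LieHopf.K k A) W.subtype) := by
  constructor
  · intro hW ξ v hv
    obtain ⟨y, hy⟩ := hW v hv
    refine ⟨LinearMap.lTensor W (ξ.toLinearMap.restrictScalars k) y, ?_⟩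
    rw [← hy]
    exact (lTensor_rTensor_comm W.subtype (ξ.toLinearMap.restrictScalars k) y).symm
  · intro h
    apply isSubcomod_of_lie_stable (iInf_pow_eq_bot_of_isUnipotent hU)
    intro d hd w hw
    obtain ⟨y, hy⟩ := h (lieOf d hd) w hw
    have h2 := congrArg (ridK (A := A)) hy
    rw [ridK_lTensor, dlin_lieOf, ridK_rTensor] at h2
    change slice V d (Comod.coact (k := k) (A := A) w) ∈ W
    rw [← h2]
    exact (ridK (A := A) y).2

/-- S18989 (comodule form) -/
theorem coact_comm_of_lie {V' : Type w'} [AddCommGroup V'] [Module k V'] [Comod k A V']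
    (hU : HopfRep.IsUnipotent k A) (e : V →ₗ[k] V')
    (h : ∀ (ξ : LieHopf.Lie k A) (f : V),
      LinearMap.lTensor V' (ξ.toLinearMap.restrictScalars k) (Comod.coact (k := k) (A := A) (e f)) =
        LinearMap.rTensor (LieHopf.K k A) e
          (LinearMap.lTensor V (ξ.toLinearMap.restrictScalars k) (Comod.coact (k := k) (A := A) f)))
    (f : V) :
    Comod.coact (k := k) (A := A) (e f) = LinearMap.rTensor A e (Comod.coact (k := k) (A := A) f) := by
  apply comodHom_of_lie_equivariant (iInf_pow_eq_bot_of_isUnipotent hU) e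
  intro d hd v
  have h2 := congrArg (ridK (A := A)) (h (lieOf d hd) v)
  rw [ridK_lTensor, dlin_lieOf, ridK_rTensor, ridK_lTensor, dlin_lieOf] at h2
  exact h2

end Main

end Groth.Agent.H82.LieBridge
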