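import Groth.Agent.H82.LieDense
import Groth.Agent.H40.Comod

set_option autoImplicit false

namespace Groth.Agent.H82.LieDense

open TensorProduct Groth.Agent.H82.AugGr Groth.Agent.H40 HopfRep

universe u v w
variable {k : Type u} {A : Type v} [Field k] [CommRing A] [HopfAlgebra k A]
variable {V : Type w} [AddCommGroup V] [Module k V] [Comod k A V]

lemma slice_assoc_symm_lTensor_comul (d : A →ₗ[k] k) (y : V ⊗[k] A) :
    slice (V ⊗[k] A) d ((TensorProduct.assoc k V A A).symm
      ((Coalgebra.comul (R := k) (A := A)).lTensor V y)) = (Dop d).lTensor V y := by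
  induction y using TensorProduct.induction_on with
  | zero => simp
  | add x y hx hy => simp only [map_add, hx, hy]
  | tmul v a =>
    rw [LinearMap.lTensor_tmul, LinearMap.lTensor_tmul, Dop_eq_slice]
    generalize Coalgebra.comul (R := k) a = z
    induction z using TensorProduct.induction_on with
    | zero => simp
    | add x y hx hy => simp only [map_add, TensorProduct.tmul_add, hx, hy]
    | tmul a₁ a₂ => simp [TensorProduct.tmul_smul]

/-- The coaction intertwines the infinitesimal action `X_d = (id ⊗ d) ∘ ρ` with `id ⊗ D_d`. -/
lemma rho_slice_rho (d : A →ₗ[k] k) (v : V) :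
    rho k A V (slice V d (rho k A V v)) = (Dop d).lTensor V (rho k A V v) := by
  rw [← slice_rTensor (rho k A V) d (rho k A V v), ← slice_assoc_symm_lTensor_comul,
    ← coassoc_apply, LinearEquiv.symm_apply_apply]

end Groth.Agent.H82.LieDense
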