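import Groth.Agent.H82.AugDim
import Groth.Agent.H40.Slice

set_option autoImplicit false

namespace Groth.Agent.H82.LieDense

open TensorProduct MvPolynomial Groth.Agent.H82.AugGr Groth.Agent.H40

universe u v w
variable {k : Type u} {A : Type v} [Field k] [CommRing A] [HopfAlgebra k A]

/-- the Leibniz rule of an `ε`-derivation -/
def IsEpsDer (d : A →ₗ[k] k) : Prop :=
  ∀ a b : A, d (a * b) = Coalgebra.counit (R := k) a * d b + d a * Coalgebra.counit (R := k) b

lemma Dop_eq_slice (d : A →ₗ[k] k) (a : A) : Dop d a = slice A d (Coalgebra.comul (R := k) a) := rfl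

section Basis

variable {ι : Type*} [Fintype ι] [DecidableEq ι] {b : Module.Basis ι k (aug k A).Cotangent}

lemma mem_pow_succ_of_Dop_mem_aux [CharZero k] {x : ι → A} (hx : ∀ i, x i ∈ aug k A)
    (hxb : ∀ i, (aug k A).toCotangent ⟨x i, hx i⟩ = b i) (n : ℕ) (c : A)
    (hc : c ∈ (aug k A) ^ (n + 1)) (hD : ∀ i, Dop (dfun b i) c ∈ (aug k A) ^ (n + 1)) :
    c ∈ (aug k A) ^ (n + 2) := by
  obtain ⟨u, ⟨p, hp, rfl⟩, v, hv, hcv⟩ := Submodule.mem_sup.mp (pow_le_span hx hxb (n + 1) hc)
  change p.IsHomogeneous (n + 1) at hp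
  change aeval x p + v = c at hcv
  change v ∈ (aug k A) ^ (n + 1 + 1) at hv
  have hpd : ∀ i, pderiv i p = 0 := by
    intro i
    apply indep hx hxb n (Nat.cast_ne_zero.mpr (Nat.factorial_ne_zero _)) _
      (by simpa using hp.pderiv (i := i))
    have h1 : Dop (dfun b i) (aeval x p) ∈ (aug k A) ^ (n + 1) := by
      have : aeval x p = c - v := by rw [← hcv]; ring
      rw [this, map_sub]
      exact Ideal.sub_mem _ (hD i) (Dop_mem_pow (dfun b i) (dfun_mul b i) (n + 1) v hv)
    rw [chain _ (Dop_mul _ (dfun_mul b i))] at h1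
    have hsum : aeval x (pderiv i p) = ∑ j, aeval x (pderiv j p) * Dop (dfun b i) (x j)
        - ∑ j, aeval x (pderiv j p) * (Dop (dfun b i) (x j) - (if i = j then 1 else 0)) := by
      rw [← Finset.sum_sub_distrib]
      simp [mul_sub]
    rw [hsum]
    refine Ideal.sub_mem _ h1 (Ideal.sum_mem _ fun j _ => ?_)
    rw [pow_succ]
    exact Ideal.mul_mem_mul (aeval_mem_pow hx (by simpa using hp.pderiv (i := j)))
      (Dop_x_sub_mem hx hxb i j)
  have he := hp.sum_X_mul_pderiv
  simp only [hpd, mul_zero, Finset.sum_const_zero] at he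
  have hp0 : p = 0 := by
    have : ((n + 1 : ℕ) : k) • p = 0 := by
      rw [Nat.cast_smul_eq_nsmul]; exact he.symm
    rcases smul_eq_zero.mp this with h0 | h0
    · exact absurd h0 (Nat.cast_ne_zero.mpr (Nat.succ_ne_zero n))
    · exact h0
  rw [← hcv, hp0, map_zero, zero_add]
  exact hv

end Basis

/-- If `c ∈ m^(n+1)` and all invariant derivations map `c` into `m^(n+1)`, then `c ∈ m^(n+2)`
(characteristic zero). -/
lemma mem_pow_succ_of_Dop_mem [CharZero k] [Algebra.FiniteType k A] (n : ℕ) (c : A)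
    (hc : c ∈ (aug k A) ^ (n + 1))
    (hD : ∀ d : A →ₗ[k] k, IsEpsDer d → Dop d c ∈ (aug k A) ^ (n + 1)) :
    c ∈ (aug k A) ^ (n + 2) := by
  classical
  have := finite_cotangent (k := k) (A := A)
  let b := Module.finBasis k (aug k A).Cotangent
  choose z hz using fun i => Ideal.toCotangent_surjective (aug k A) (b i)
  exact mem_pow_succ_of_Dop_mem_aux (b := b) (x := fun i => (z i : A)) (fun i => (z i).2)
    (fun i => hz i) n c hc (fun i => hD _ (dfun_mul b i))

/-- A set of elements of counit zero, stable under all invariant derivations, lies in `⨅ m^n`. -/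
lemma subset_iInf_pow [CharZero k] [Algebra.FiniteType k A] (S : Set A)
    (h0 : ∀ c ∈ S, Coalgebra.counit (R := k) c = 0)
    (hD : ∀ d : A →ₗ[k] k, IsEpsDer d → ∀ c ∈ S, Dop d c ∈ S) :
    ∀ c ∈ S, c ∈ ⨅ n : ℕ, (aug k A) ^ n := by
  have key : ∀ n : ℕ, ∀ c ∈ S, c ∈ (aug k A) ^ n := by
    intro n
    induction n with
    | zero => intro c _; simp
    | succ n ih =>
      cases n with
      | zero => intro c hc; rw [zero_add, pow_one]; exact mem_aug.mpr (h0 c hc)
      | succ n =>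
        intro c hc
        exact mem_pow_succ_of_Dop_mem n c (ih c hc) (fun d hd => ih _ (hD d hd c hc))
  intro c hc
  rw [Submodule.mem_iInf]
  exact fun n => key n c hc

/-- Tensor version: a set of tensors in `M ⊗ A` killed by `id ⊗ ε` and stable under all `id ⊗ D`
is zero when `⨅ m^n = ⊥`. -/
theorem eq_zero_of_stable [CharZero k] [Algebra.FiniteType k A]
    (hN : (⨅ n : ℕ, (aug k A) ^ n) = ⊥)
    {M : Type w} [AddCommGroup M] [Module k M] (T : Set (M ⊗[k] A))
    (h0 : ∀ t ∈ T, slice M (Coalgebra.counit (R := k) (A := A)) t = 0)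
    (hD : ∀ d : A →ₗ[k] k, IsEpsDer d → ∀ t ∈ T, (Dop d).lTensor M t ∈ T) :
    ∀ t ∈ T, t = 0 := by
  intro t ht
  apply eq_zero_of_lslice_eq_zero
  intro φ
  have := subset_iInf_pow (k := k) {c : A | ∃ t ∈ T, ∃ φ : M →ₗ[k] k, c = lslice A φ t} ?_ ?_
    (lslice A φ t) ⟨t, ht, φ, rfl⟩
  · rw [hN] at this
    exact this
  · rintro _ ⟨t, ht, φ, rfl⟩
    rw [apply_lslice_eq_apply_slice, h0 t ht, map_zero]
  · rintro d hd _ ⟨t, ht, φ, rfl⟩
    exact ⟨_, hD d hd t ht, φ, (lslice_lTensor (Dop d) φ t).symm⟩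

end Groth.Agent.H82.LieDense
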