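import Mathlib

set_option autoImplicit false
universe u

open TensorProduct

namespace Groth.Agent.H82.LieFibre

variable {A : Type*} [CommRing A] {L : Type*} [LieRing L] [LieAlgebra A L]

/-- bracket of a submodule with everything, as a plain submodule. -/
def br (N : Submodule A L) : Submodule A L :=
  Submodule.span A {z | ∃ (x : L) (y : L), y ∈ N ∧ z = ⁅x, y⁆}

lemma br_mem {N : Submodule A L} (x : L) {y : L} (hy : y ∈ N) : ⁅x, y⁆ ∈ br N :=
  Submodule.subset_span ⟨x, y, hy, rfl⟩

lemma br_le {N T : Submodule A L} (h : ∀ x : L, ∀ y ∈ N, ⁅x, y⁆ ∈ T) : br N ≤ T := by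
  refine Submodule.span_le.mpr ?_
  rintro _ ⟨x, y, hy, rfl⟩
  exact h x y hy

variable (A L) in
/-- the lower central series as plain submodules -/
def D : ℕ → Submodule A L
  | 0 => ⊤
  | (k + 1) => br (D k)

lemma D_eq (k : ℕ) : (LieModule.lowerCentralSeries A L L k).toSubmodule = D A L k := by
  induction k with
  | zero => simp [D]
  | succ k ih =>
    rw [LieModule.lowerCentralSeries_succ, LieSubmodule.lieIdeal_oper_eq_linear_span']
    simp only [D, br]
    congr 1
    ext z
    constructor
    · rintro ⟨x, -, y, hy, rfl⟩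
      exact ⟨x, y, by rw [← ih]; exact hy, rfl⟩
    · rintro ⟨x, y, hy, rfl⟩
      exact ⟨x, LieSubmodule.mem_top x, y, by rw [← ih] at hy; exact hy, rfl⟩

lemma br_span_fg [Module.Finite A L] {N : Submodule A L} (hN : N.FG) : (br N).FG := by
  classical
  obtain ⟨s, hs⟩ := (Module.Finite.fg_top : (⊤ : Submodule A L).FG)
  obtain ⟨t, ht⟩ := hN
  refine ⟨Finset.image₂ (fun x y => ⁅x, y⁆) s t, ?_⟩
  apply le_antisymm
  · refine Submodule.span_le.mpr ?_
    intro z hz
    simp only [Finset.coe_image₂, Set.mem_image2] at hz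
    obtain ⟨x, -, y, hy, rfl⟩ := hz
    exact br_mem x (ht ▸ Submodule.subset_span hy)
  · refine br_le ?_
    intro x y hy
    have hx : x ∈ Submodule.span A (s : Set L) := by rw [hs]; trivial
    rw [← ht] at hy
    induction hx using Submodule.span_induction with
    | mem a ha =>
      induction hy using Submodule.span_induction with
      | mem b hb =>
        exact Submodule.subset_span (by
          simp only [Finset.coe_image₂, Set.mem_image2]; exact ⟨a, ha, b, hb, rfl⟩)
      | zero => simp
      | add b c _ _ hb hc => rw [lie_add]; exact add_mem hb hc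
      | smul r b _ hb => rw [lie_smul]; exact Submodule.smul_mem _ _ hb
    | zero => simp
    | add a b _ _ ha hb => rw [add_lie]; exact add_mem ha hb
    | smul r a _ ha => rw [smul_lie]; exact Submodule.smul_mem _ _ ha

lemma D_fg [Module.Finite A L] (k : ℕ) : (D A L k).FG := by
  induction k with
  | zero => exact Module.Finite.fg_top
  | succ k ih => exact br_span_fg ih

lemma lie_mem_smul_top (I : Ideal A) (x : L) {u : L} (hu : u ∈ I • (⊤ : Submodule A L)) :
    ⁅x, u⁆ ∈ I • (⊤ : Submodule A L) := by
  refine Submodule.smul_induction_on hu ?_ ?_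
  · intro r hr n _
    rw [lie_smul]
    exact Submodule.smul_mem_smul hr trivial
  · intro a b ha hb
    rw [lie_add]; exact add_mem ha hb

/-- the shift lemma -/
lemma D_add_le (I : Ideal A) (a : A) (n : ℕ)
    (h : D A L n ≤ I • (⊤ : Submodule A L) ⊔ (⊤ : Submodule A L).map (LinearMap.lsmul A L a))
    (j : ℕ) :
    D A L (n + j) ≤ I • (⊤ : Submodule A L) ⊔ (D A L j).map (LinearMap.lsmul A L a) := by
  induction j with
  | zero => simpa [D] using h
  | succ j ih =>
    rw [← add_assoc]
    show br (D A L (n + j)) ≤ _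
    refine br_le ?_
    intro x y hy
    obtain ⟨u, hu, w, hw, rfl⟩ := Submodule.mem_sup.mp (ih hy)
    obtain ⟨w', hw', rfl⟩ := Submodule.mem_map.mp hw
    rw [lie_add]
    refine Submodule.add_mem_sup (lie_mem_smul_top I x hu) ?_
    refine Submodule.mem_map.mpr ⟨⁅x, w'⁆, br_mem x hw', ?_⟩
    simp [lie_smul]

end Groth.Agent.H82.LieFibre
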