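import Groth.Agent.H82.LieComod
import Groth.Agent.H82.UnipConn

set_option autoImplicit false

namespace Groth.Agent.H82.LieUnip

open TensorProduct Groth.Agent.H82.AugGr Groth.Agent.H82.LieDense Groth.Agent.H40 HopfRep

universe u v w w'
variable {k : Type u} {A : Type v} [Field k] [CommRing A] [HopfAlgebra k A]

lemma epsDer_map_one {d : A →ₗ[k] k} (hd : IsEpsDer d) : d 1 = 0 := by
  have := hd 1 1
  simp only [mul_one, Bialgebra.counit_one, one_mul] at this
  have h2 : d 1 + d 1 - d 1 = d 1 - d 1 := by rw [← this]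
  simpa using h2

lemma Dop_one {d : A →ₗ[k] k} (hd : IsEpsDer d) : Dop d (1 : A) = 0 := by
  rw [Dop_eq_slice, Bialgebra.comul_one, Algebra.TensorProduct.one_def, slice_tmul, epsDer_map_one hd,
    zero_smul]

section General

variable [CharZero k] [Algebra.FiniteType k A] (hN : (⨅ n : ℕ, (aug k A) ^ n) = ⊥)
variable {V : Type w} [AddCommGroup V] [Module k V] [Comod k A V]

include hN

/-- A vector killed by the Lie algebra is fixed. -/
theorem fixed_of_lie_killed (v : V)
    (hv : ∀ d : A →ₗ[k] k, IsEpsDer d → slice V d (rho k A V v) = 0) :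
    rho k A V v = v ⊗ₜ[k] (1 : A) := by
  have key := eq_zero_of_stable hN
    {t : V ⊗[k] A | ∃ v : V, (∀ d : A →ₗ[k] k, IsEpsDer d → slice V d (rho k A V v) = 0) ∧
      t = rho k A V v - v ⊗ₜ[k] (1 : A)} ?_ ?_ (rho k A V v - v ⊗ₜ[k] (1 : A)) ⟨v, hv, rfl⟩
  · exact sub_eq_zero.mp key
  · rintro _ ⟨v, -, rfl⟩
    rw [map_sub, slice_counit_rho, slice_tmul, Bialgebra.counit_one, one_smul, sub_self]
  · rintro d hd _ ⟨v, hv, rfl⟩
    refine ⟨0, fun d' _ => by simp, ?_⟩
    rw [map_sub, ← rho_slice_rho, hv d hd, LinearMap.lTensor_tmul, Dop_one hd]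
    simp

/-- A Lie-stable subspace is a subcomodule. -/
theorem isSubcomod_of_lie_stable (W : Submodule k V)
    (hW : ∀ d : A →ₗ[k] k, IsEpsDer d → ∀ w ∈ W, slice V d (rho k A V w) ∈ W) :
    IsSubcomod (k := k) (A := A) W := by
  intro w hw
  have key := eq_zero_of_stable hN
    {t : (V ⧸ W) ⊗[k] A | ∃ w ∈ W, t = W.mkQ.rTensor A (rho k A V w)} ?_ ?_
    (W.mkQ.rTensor A (rho k A V w)) ⟨w, hw, rfl⟩
  · rw [← LinearMap.mem_ker, rTensor_mkQ] at key
    exact key
  · rintro _ ⟨w, hw, rfl⟩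
    rw [slice_rTensor, slice_counit_rho]
    simpa using hw
  · rintro d hd _ ⟨w, hw, rfl⟩
    refine ⟨slice V d (rho k A V w), hW d hd w hw, ?_⟩
    rw [rho_slice_rho, lTensor_rTensor_comm]

/-- A linear map intertwining the Lie algebra actions is a comodule map. -/
theorem comodHom_of_lie_equivariant {V' : Type w'} [AddCommGroup V'] [Module k V'] [Comod k A V']
    (e : V →ₗ[k] V')
    (he : ∀ d : A →ₗ[k] k, IsEpsDer d → ∀ v : V,
      slice V' d (rho k A V' (e v)) = e (slice V d (rho k A V v))) (v : V) :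
    rho k A V' (e v) = e.rTensor A (rho k A V v) := by
  have key := eq_zero_of_stable hN
    {t : V' ⊗[k] A | ∃ v : V, t = rho k A V' (e v) - e.rTensor A (rho k A V v)} ?_ ?_
    (rho k A V' (e v) - e.rTensor A (rho k A V v)) ⟨v, rfl⟩
  · exact sub_eq_zero.mp key
  · rintro _ ⟨v, rfl⟩
    rw [map_sub, slice_counit_rho, slice_rTensor, slice_counit_rho, sub_self]
  · rintro d hd _ ⟨v, rfl⟩
    refine ⟨slice V d (rho k A V v), ?_⟩
    rw [map_sub, ← rho_slice_rho, he d hd, rho_slice_rho (V := V)]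
    rw [lTensor_rTensor_comm]

end General

end Groth.Agent.H82.LieUnip
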