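import Groth.Agent.H82.AMonPts
import Mathlib

/-! Points of the affine line `A(ℕ)_S` (as `AMonS S ↥(multiples (1:ℤ))`) as functions. -/

set_option autoImplicit false
set_option linter.unusedSectionVars false
universe u

open CategoryTheory MonoidalCategory CartesianMonoidalCategory MonObj AlgebraicGeometry
open CategoryTheory.Limits
open Groth.Agent.H42 Groth.Agent.H40 Magnet
open Groth.Agent.H82.AMonPts

namespace Groth.Agent.H82.LinePts

/-- the magnet `ℕ ⊂ ℤ` -/
abbrev N₁ : AddSubmonoid ℤ := AddSubmonoid.multiples (1 : ℤ)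

/-- the generator -/
def gen : Multiplicative ↥N₁ := Multiplicative.ofAdd ⟨1, AddSubmonoid.mem_multiples 1⟩

theorem exists_pow_gen (m : Multiplicative ↥N₁) : ∃ n : ℕ, m = gen ^ n := by
  obtain ⟨n, hn⟩ := (AddSubmonoid.mem_multiples_iff _ _).mp (Multiplicative.toAdd m).2
  refine ⟨n, ?_⟩
  apply Multiplicative.toAdd.injective
  apply Subtype.ext
  rw [toAdd_pow]
  change _ = ((n • (⟨1, AddSubmonoid.mem_multiples 1⟩ : ↥N₁) : ↥N₁) : ℤ)
  rw [AddSubmonoidClass.coe_nsmul]
  exact hn.symm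

variable {S : Scheme.{u}} {T : Over S}

/-- the coordinate function of a point of the line -/
noncomputable def coord (x : T ⟶ AMonS S ↥N₁) : Γ(T.left, ⊤) := amFn x gen

theorem coord_ext {x y : T ⟶ AMonS S ↥N₁} (h : coord x = coord y) : x = y := by
  apply amFn_ext
  intro m
  obtain ⟨n, rfl⟩ := exists_pow_gen m
  rw [map_pow, map_pow]
  exact congrArg (· ^ n) h

theorem coord_mul (x y : T ⟶ AMonS S ↥N₁) : coord (x * y) = coord x * coord y :=
  amFn_mul x y gen

theorem coord_one : coord (1 : T ⟶ AMonS S ↥N₁) = 1 := amFn_one gen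

theorem coord_pow (x : T ⟶ AMonS S ↥N₁) (n : ℕ) : coord (x ^ n) = coord x ^ n := by
  induction n with
  | zero => rw [pow_zero, pow_zero, coord_one]
  | succ n ih => rw [pow_succ, pow_succ, coord_mul, ih]

theorem coord_comp {T' : Over S} (h : T' ⟶ T) (x : T ⟶ AMonS S ↥N₁) :
    coord (h ≫ x) = h.left.appTop (coord x) := amFn_comp h x gen

/-- the character of `ℕ` attached to a function -/
noncomputable def chi (r : Γ(T.left, ⊤)) : Multiplicative ↥N₁ →* Γ(T.left, ⊤) where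
  toFun m := r ^ ((Multiplicative.toAdd m : ↥N₁) : ℤ).toNat
  map_one' := by
    change r ^ ((0 : ↥N₁) : ℤ).toNat = 1
    simp
  map_mul' m m' := by
    change r ^ ((Multiplicative.toAdd m + Multiplicative.toAdd m' : ↥N₁) : ℤ).toNat = _
    rw [← pow_add]
    congr 1
    obtain ⟨n, hn⟩ := (AddSubmonoid.mem_multiples_iff _ _).mp (Multiplicative.toAdd m).2
    obtain ⟨n', hn'⟩ := (AddSubmonoid.mem_multiples_iff _ _).mp (Multiplicative.toAdd m').2
    rw [AddSubmonoid.coe_add, ← hn, ← hn']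
    simp only [nsmul_eq_mul, mul_one]
    omega

theorem chi_gen (r : Γ(T.left, ⊤)) : chi r gen = r := by
  change r ^ ((1 : ℤ)).toNat = r
  simp

/-- the point of the line with a given coordinate -/
noncomputable def ptOf (r : Γ(T.left, ⊤)) : T ⟶ AMonS S ↥N₁ :=
  (amFn_surjective (chi r)).choose

theorem coord_ptOf (r : Γ(T.left, ⊤)) : coord (ptOf (S := S) r) = r := by
  unfold coord ptOf
  rw [(amFn_surjective (chi r)).choose_spec, chi_gen]

theorem ptOf_coord (x : T ⟶ AMonS S ↥N₁) : ptOf (coord x) = x :=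
  coord_ext (coord_ptOf _)

theorem comp_ptOf {T' : Over S} (h : T' ⟶ T) (r : Γ(T.left, ⊤)) :
    h ≫ ptOf (S := S) r = ptOf (h.left.appTop r) :=
  coord_ext (by rw [coord_comp, coord_ptOf, coord_ptOf])

/-- a point whose coordinate is nilpotent is nilpotent in the monoid of points -/
theorem nilp_of_coord_pow_eq_zero (m : T ⟶ AMonS S ↥N₁) (n : ℕ) (h : coord m ^ (n + 1) = 0)
    (m' : T ⟶ AMonS S ↥N₁) : m ^ (n + 1) * m' = m ^ (n + 1) := by
  apply coord_ext
  rw [coord_mul, coord_pow, h, zero_mul]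

/-- the inclusion `G_m → A¹` -/
noncomputable abbrev iota (S : Scheme.{u}) : AMonS S ℤ ⟶ AMonS S ↥N₁ := AMonS.map S N₁.subtype

theorem coord_iota (g : T ⟶ AMonS S ℤ) :
    coord (g ≫ iota S) = amFn g (Multiplicative.ofAdd (1 : ℤ)) := by
  unfold coord
  rw [amFn_map]
  rfl

theorem isUnit_coord_iota (g : T ⟶ AMonS S ℤ) : IsUnit (coord (g ≫ iota S)) := by
  rw [coord_iota]
  have h1 : amFn g (Multiplicative.ofAdd (1 : ℤ)) * amFn g (Multiplicative.ofAdd (-1 : ℤ)) = 1 := by
    rw [← map_mul, ← ofAdd_add]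
    simp
  exact IsUnit.of_mul_eq_one _ h1

theorem exists_iota_of_isUnit (x : T ⟶ AMonS S ↥N₁) (hx : IsUnit (coord x)) :
    ∃ g : T ⟶ AMonS S ℤ, g ≫ iota S = x := by
  obtain ⟨u, hu⟩ := hx
  obtain ⟨g, hg⟩ := amFn_surjective (S := S) (X := T)
    ((Units.coeHom Γ(T.left, ⊤)).comp (zpowersHom (Γ(T.left, ⊤))ˣ u))
  refine ⟨g, coord_ext ?_⟩
  rw [coord_iota, hg, ← hu]
  simp

end Groth.Agent.H82.LinePts
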