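import Groth.Agent.H82.SplitQuot
import Groth.Agent.H82.BCMult

/-! Quotients of locally split tori by subgroups of multiplicative type. -/

set_option autoImplicit false
set_option linter.unusedSectionVars false
universe u

open CategoryTheory MonoidalCategory CartesianMonoidalCategory MonObj GrpObj AlgebraicGeometry
open CategoryTheory.Limits
open Groth.Agent.H42 Groth.Agent.H40 Magnet
open Groth.Agent.H82.AMonPts Groth.Agent.H82.GroupIso Groth.Agent.H82.ChartComp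

namespace Groth.Agent.H82.LocSplitQuot

section Setup

variable {B : Scheme.{u}} {T H : Over B} [GrpObj T] [GrpObj H] {N : Type} [AddCommGroup N]
  (eT : T ≅ AMonS B N) [IsMonHom eT.hom] (i : H ⟶ T) [IsMonHom i]

/-- the character `n` of the split torus kills all the points of `H` over `V`-schemes -/
def KlP (n : N) (V : Scheme.{u}) (t : V ⟶ B) : Prop :=
  ∀ (Y : Over V) (x : (Over.map t).obj Y ⟶ H),
    amFn (x ≫ i ≫ eT.hom) (Multiplicative.ofAdd n) = 1

/-- the subgroup of characters killing `H` over `V` -/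
def annihV (V : Scheme.{u}) (t : V ⟶ B) : AddSubgroup N where
  carrier := {n | KlP eT i n V t}
  zero_mem' := by
    intro Y x
    rw [ofAdd_zero, map_one]
  add_mem' := by
    intro a b ha hb Y x
    rw [ofAdd_add, map_mul, ha Y x, hb Y x, _root_.mul_one]
  neg_mem' := by
    intro a ha Y x
    have h1 : amFn (x ≫ i ≫ eT.hom) (Multiplicative.ofAdd (-a)) *
        amFn (x ≫ i ≫ eT.hom) (Multiplicative.ofAdd a) = 1 := by
      rw [← map_mul, ← ofAdd_add, neg_add_cancel, ofAdd_zero, map_one]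
    rwa [ha Y x, _root_.mul_one] at h1

theorem mem_annihV (n : N) (V : Scheme.{u}) (t : V ⟶ B) :
    n ∈ annihV eT i V t ↔ KlP eT i n V t := Iff.rfl

theorem amFn_assoc_hom {V V' : Scheme.{u}} (r : V' ⟶ V) (t : V ⟶ B) (Y : Over V')
    {A : Type} [AddCommGroup A]
    (x : (Over.map (r ≫ t)).obj Y ⟶ AMonS B A) (a : Multiplicative A) :
    amFn ((assocIso t r Y).hom ≫ x) a = amFn x a := by
  rw [amFn_comp, assocIso_hom_left]
  simp

theorem KlP_comp {V V' : Scheme.{u}} (r : V' ⟶ V) (t : V ⟶ B) (n : N) (h : KlP eT i n V t) :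
    KlP eT i n V' (r ≫ t) := by
  intro Y x
  have h1 := h ((Over.map r).obj Y) ((assocIso t r Y).hom ≫ x)
  rw [Category.assoc, amFn_assoc_hom] at h1
  exact h1

/-- the restriction to `H` of the characters in `K` -/
noncomputable def vK (K : AddSubgroup N) : H ⟶ AMonS B K :=
  (i ≫ eT.hom) ≫ AMonS.map B K.subtype

instance (K : AddSubgroup N) : IsMonHom (vK eT i K) := by
  unfold vK
  infer_instance

theorem amFn_vK (K : AddSubgroup N) {X : Over B} (x : X ⟶ H) (m : K) :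
    amFn (x ≫ vK eT i K) (Multiplicative.ofAdd m) =
      amFn (x ≫ i ≫ eT.hom) (Multiplicative.ofAdd (m : N)) := by
  unfold vK
  rw [← Category.assoc, amFn_map]
  rfl

theorem QE_iff (K : AddSubgroup N) (V : Scheme.{u}) (t : V ⟶ B) :
    EqLocus.QE (vK eT i K) 1 V t ↔ ∀ n ∈ K, KlP eT i n V t := by
  constructor
  · intro hQ n hn Y x
    obtain ⟨x', rfl⟩ := bcPtM_surjective t H x
    have h1 : bcPtM t H x' ≫ vK eT i K = 1 := by
      rw [← bcPtM_map, hQ, bcPtM_map, MonObj.comp_one]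
    have h2 := amFn_vK eT i K (bcPtM t H x') ⟨n, hn⟩
    rw [h1, amFn_one] at h2
    exact h2.symm
  · intro h
    unfold EqLocus.QE
    have key : ∀ (Y : Over V) (y' : Y ⟶ Red.bc t H),
        y' ≫ (Over.pullback t).map (vK eT i K) = y' ≫ (Over.pullback t).map 1 := by
      intro Y y'
      apply bcPtM_injective t (AMonS B K)
      rw [bcPtM_map, bcPtM_map, MonObj.comp_one]
      apply amFn_ext
      intro m
      rw [amFn_one]
      have h3 := amFn_vK eT i K (bcPtM t H y') (Multiplicative.toAdd m)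
      rw [ofAdd_toAdd] at h3
      rw [h3]
      exact h _ (Multiplicative.toAdd m).2 Y _
    have := key _ (𝟙 _)
    rwa [Category.id_comp, Category.id_comp] at this

/-- killing is detected on the residue field of a point in the image -/
theorem KlP_residue (n : N) {V : Scheme.{u}} (t : V ⟶ B) (v₀ : V) (h : KlP eT i n V t) (b : B)
    (hb : t v₀ = b) : KlP eT i n _ (B.fromSpecResidueField b) := by
  let K' : AddSubgroup N := AddSubgroup.zmultiples n
  have hK' : K' ≤ annihV eT i V t := by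
    rw [AddSubgroup.zmultiples_le]
    exact h
  have hQ : EqLocus.QE (vK eT i K') 1 V t := (QE_iff eT i K' V t).mpr (fun m hm => hK' hm)
  let σ : Spec (V.residueField v₀) ⟶ B := V.fromSpecResidueField v₀ ≫ t
  have h1 : EqLocus.QE (vK eT i K') 1 _ σ := EqLocus.QE_bc _ _ _ _ _ _ hQ
  let s₀ : B := σ (IsLocalRing.closedPoint (V.residueField v₀))
  have hσ := Scheme.descResidueField_stalkClosedPointTo_fromSpecResidueField
    (V.residueField v₀) B σ
  have h2 : EqLocus.QE (vK eT i K') 1 _ (B.fromSpecResidueField s₀) := by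
    rw [← hσ] at h1
    exact EqLocus.QE_field _ _ _ _ _ _ h1
  have hs₀ : s₀ = b := by
    rw [← hb]
    change (V.fromSpecResidueField v₀ ≫ t) _ = _
    rw [Scheme.Hom.comp_apply, Scheme.fromSpecResidueField_apply]
  rw [hs₀] at h2
  exact (QE_iff eT i K' _ _).mp h2 n (AddSubgroup.mem_zmultiples n)

end Setup

section BC

variable {B B' : Scheme.{u}} (g : B' ⟶ B) {T H : Over B} [GrpObj T] [GrpObj H] {N : Type}
  [AddCommGroup N] (eT : T ≅ AMonS B N) [IsMonHom eT.hom] (i : H ⟶ T) [IsMonHom i]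

/-- base change of the chart of the torus, with the formula for the characters of points -/
theorem exists_setup_bc : ∃ (eT' : Red.bc g T ≅ AMonS B' N), IsMonHom eT'.hom ∧
    ∀ (Y : Over B') (h : Y ⟶ Red.bc g H) (a : Multiplicative N),
      amFn (h ≫ (Over.pullback g).map i ≫ eT'.hom) a = amFn (bcPtM g H h ≫ i ≫ eT.hom) a := by
  obtain ⟨e', he', hc⟩ := ChartBC.exists_chart_bc g T eT
  refine ⟨e', he', fun Y h a => ?_⟩
  rw [← Category.assoc, hc]
  unfold ChartBC.chr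
  rw [bcPtM_map, Category.assoc]

variable (eT' : Red.bc g T ≅ AMonS B' N) [IsMonHom eT'.hom]
  (hf : ∀ (Y : Over B') (h : Y ⟶ Red.bc g H) (a : Multiplicative N),
    amFn (h ≫ (Over.pullback g).map i ≫ eT'.hom) a = amFn (bcPtM g H h ≫ i ≫ eT.hom) a)

include hf in
theorem A1_bc (a : Multiplicative N) (h : amFn (i ≫ eT.hom) a = 1) :
    amFn ((Over.pullback g).map i ≫ eT'.hom) a = 1 := by
  have h1 := hf _ (𝟙 _) a
  rw [Category.id_comp] at h1
  rw [h1, amFn_comp, h, map_one]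

include hf in
theorem KlP_univ (n : N) (h : KlP eT i n B' g) :
    amFn ((Over.pullback g).map i ≫ eT'.hom) (Multiplicative.ofAdd n) = 1 := by
  have h1 := hf _ (𝟙 _) (Multiplicative.ofAdd n)
  rw [Category.id_comp] at h1
  rw [h1]
  exact h _ _

include hf in
theorem KlP_of_bc (n : N) {V : Scheme.{u}} (t : V ⟶ B')
    (h : KlP eT' ((Over.pullback g).map i) n V t) : KlP eT i n V (t ≫ g) := by
  intro Y x
  obtain ⟨x', hx'⟩ := bcPtM_surjective g H ((assocIso g t Y).hom ≫ x)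
  have h1 := h Y x'
  rw [hf, hx', Category.assoc, amFn_assoc_hom] at h1
  exact h1

end BC

section Lift

variable {B : Scheme.{u}} {T H : Over B} [GrpObj T] [GrpObj H] {N : Type} [AddCommGroup N]
  (eT : T ≅ AMonS B N) [IsMonHom eT.hom] (i : H ⟶ T) [IsMonHom i] [Mono i] (K : AddSubgroup N)

theorem mono_map_mk' : Mono (AMonS.map B (QuotientAddGroup.mk' K)) :=
  ⟨fun z z' h => TorusHom.DSmap_mono_of_surjective _ (QuotientAddGroup.mk'_surjective K) z z' h⟩

/-- when `K` kills `H`, the inclusion of `H` lifts to `D(N/K)` -/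
theorem exists_lift (A1 : ∀ n ∈ K, amFn (i ≫ eT.hom) (Multiplicative.ofAdd n) = 1) :
    ∃ k : H ⟶ AMonS B (N ⧸ K), IsMonHom k ∧ Mono k ∧
      k ≫ AMonS.map B (QuotientAddGroup.mk' K) = i ≫ eT.hom := by
  obtain ⟨k, hk⟩ := AttrFix.exists_lift_subgroup K (i ≫ eT.hom)
    (SplitQuot.comp_subtype_eq_one eT i K A1)
  have hk' : k ≫ AMonS.map B (QuotientAddGroup.mk' K) = i ≫ eT.hom := hk
  have hmono : Mono (AMonS.map B (QuotientAddGroup.mk' K)) := mono_map_mk' K
  have h1 : IsMonHom k := MaxSplit.isMonHom_of_comp_mono k (AMonS.map B (QuotientAddGroup.mk' K))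
    (i ≫ eT.hom) hk'
  have h2 : Mono k := by
    have : Mono (k ≫ AMonS.map B (QuotientAddGroup.mk' K)) := by
      rw [hk']
      infer_instance
    exact mono_of_mono k (AMonS.map B (QuotientAddGroup.mk' K))
  exact ⟨k, h1, h2, hk'⟩

variable {B' : Scheme.{u}} (g : B' ⟶ B)
  (eT' : Red.bc g T ≅ AMonS B' N) [IsMonHom eT'.hom]
  (hf : ∀ (Y : Over B') (h : Y ⟶ Red.bc g H) (a : Multiplicative N),
    amFn (h ≫ (Over.pullback g).map i ≫ eT'.hom) a = amFn (bcPtM g H h ≫ i ≫ eT.hom) a)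
  (k : H ⟶ AMonS B (N ⧸ K)) (hk : k ≫ AMonS.map B (QuotientAddGroup.mk' K) = i ≫ eT.hom)
  (c : Red.bc g (AMonS B (N ⧸ K)) ≅ AMonS B' (N ⧸ K))
  (hc : ∀ (Y : Over B') (h : Y ⟶ Red.bc g (AMonS B (N ⧸ K))) (a : Multiplicative (N ⧸ K)),
    amFn (h ≫ c.hom) a = amFn (bcPtM g (AMonS B (N ⧸ K)) h) a)

include hf hk hc in
/-- the base change of the lift is the lift of the base change -/
theorem bc_lift_formula :
    ((Over.pullback g).map k ≫ c.hom) ≫ AMonS.map B' (QuotientAddGroup.mk' K) =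
      (Over.pullback g).map i ≫ eT'.hom := by
  apply amFn_ext
  intro a
  have h1 := hf _ (𝟙 _) a
  rw [Category.id_comp] at h1
  rw [h1, amFn_map, hc]
  have h2 : bcPtM g (AMonS B (N ⧸ K)) ((Over.pullback g).map k) = bcPtM g H (𝟙 _) ≫ k := by
    rw [← bcPtM_map, Category.id_comp]
  rw [h2, ← hk, ← Category.assoc, amFn_map]

end Lift

section Main

variable {B : Scheme.{u}} {T H Q : Over B} [GrpObj T] [GrpObj H] [GrpObj Q] {N : Type}
  [AddCommGroup N] (eT : T ≅ AMonS B N) [IsMonHom eT.hom] (i : H ⟶ T) [IsMonHom i] [Mono i]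

/-- the quotient is `D(K)` once the subgroup is `D(N/K)` -/
theorem exists_iso_quot_of_iso (K : AddSubgroup N) (hN : AddGroup.FG N)
    (eH : H ≅ AMonS B (N ⧸ K))
    (heH : i ≫ eT.hom = eH.hom ≫ AMonS.map B (QuotientAddGroup.mk' K))
    (q : T ⟶ Q) [IsMonHom q] (hq : RedSub.IsQuotient i q) :
    ∃ e : Q ≅ AMonS B K, IsMonHom e.hom := by
  have hQ1 : RedSub.IsQuotient (Red.DSmap B (QuotientAddGroup.mk' K)) (Red.DSmap B K.subtype) :=
    QuotDS.isQuotient_DSmap K hN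
  have hQ2 : RedSub.IsQuotient i (eT.hom ≫ AMonS.map B K.subtype) :=
    QuotUniq.isQuotient_of_iso (AMonS.map B (QuotientAddGroup.mk' K)) (AMonS.map B K.subtype)
      hQ1 eH eT i heH
  obtain ⟨e, he, -⟩ := QuotUniq.exists_iso_of_isQuotient i q hq _ hQ2
  exact ⟨e, he⟩

include eT in
/-- around every point of the base, the quotient of a split torus by a subgroup of multiplicative
type is split -/
theorem exists_local_quot_chart (hN : AddGroup.FG N) (hH : SGA3x.IsMultTypeFT H)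
    (q : T ⟶ Q) [IsMonHom q] (hq : RedSub.IsQuotient i q) (b : B) :
    ∃ (K : AddSubgroup N) (E : B.Opens) (E' : (E : Scheme.{u}).Opens),
      (∃ x : ↥(E' : Scheme.{u}), (E'.ι ≫ E.ι) x = b) ∧
      ∃ e : Red.bc E'.ι (Red.bc E.ι Q) ≅ AMonS (E' : Scheme.{u}) K, IsMonHom e.hom := by
  let σ := B.fromSpecResidueField b
  let K : AddSubgroup N := annihV eT i _ σ
  have hKfg : AddGroup.FG K := QuotDS.fg_of_le hN K
  have h1' : IsMonHom (1 : H ⟶ AMonS B K) := SplitQuot.isMonHom_one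
  obtain ⟨E, -, hE, hEE⟩ := EqLocus.eq_locus hH (SplitQuot.isMultTypeFT_AMonS K hKfg)
    (vK eT i K) 1
  have hb : b ∈ E := (hE b).mpr ((QE_iff eT i K _ _).mpr (fun n hn => hn))
  -- over `E`
  obtain ⟨eT₁, heT₁, hf₁⟩ := exists_setup_bc E.ι eT i
  have hKl : ∀ n ∈ K, KlP eT i n E E.ι := (QE_iff eT i K _ _).mp hEE
  have A1 : ∀ n ∈ K,
      amFn ((Over.pullback E.ι).map i ≫ eT₁.hom) (Multiplicative.ofAdd n) = 1 :=
    fun n hn => KlP_univ E.ι eT i eT₁ hf₁ n (hKl n hn)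
  obtain ⟨k, hk1, hk2, hk⟩ := exists_lift eT₁ ((Over.pullback E.ι).map i) K A1
  have hH₁ : SGA3x.IsMultTypeFT (Red.bc E.ι H) := BCMult.isMultTypeFT_bc E.ι hH
  have hNK : AddGroup.FG (N ⧸ K) := by
    have := hN
    exact AddGroup.fg_of_surjective (QuotientAddGroup.mk'_surjective K)
  obtain ⟨E', -, hE', hEE'⟩ := MonoLocus.iso_locus hH₁
    (SplitQuot.isMultTypeFT_AMonS (N ⧸ K) hNK) k
  obtain ⟨b', hbb'⟩ : ∃ b' : ↥(E : Scheme.{u}), E.ι b' = b := by
    have : b ∈ Set.range E.ι := by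
      rw [Scheme.Opens.range_ι]
      exact hb
    exact this
  have hb' : b' ∈ E' := by
    rw [hE']
    obtain ⟨eT₂, heT₂, hf₂⟩ := exists_setup_bc
      ((E : Scheme.{u}).fromSpecResidueField b') eT₁ ((Over.pullback E.ι).map i)
    obtain ⟨c, hc1, hc⟩ := SplitQuot.exists_canon_chart
      ((E : Scheme.{u}).fromSpecResidueField b') (N ⧸ K)
    have hH₂ := BCMult.isMultTypeFT_bc ((E : Scheme.{u}).fromSpecResidueField b') hH₁
    have A1₂ : ∀ n ∈ K, amFn ((Over.pullback ((E : Scheme.{u}).fromSpecResidueField b')).map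
        ((Over.pullback E.ι).map i) ≫ eT₂.hom) (Multiplicative.ofAdd n) = 1 :=
      fun n hn => A1_bc _ eT₁ _ eT₂ hf₂ _ (A1 n hn)
    have A2₂ : ∀ n : N, (∃ (V : Scheme.{u}) (t : V ⟶ Spec ((E : Scheme.{u}).residueField b')),
        Nonempty V ∧ ∀ (Y : Over V) (h : (Over.map t).obj Y ⟶
          Red.bc ((E : Scheme.{u}).fromSpecResidueField b') (Red.bc E.ι H)),
          amFn (h ≫ (Over.pullback ((E : Scheme.{u}).fromSpecResidueField b')).map
            ((Over.pullback E.ι).map i) ≫ eT₂.hom) (Multiplicative.ofAdd n) = 1) → n ∈ K := by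
      rintro n ⟨V, t, ⟨v₀⟩, h⟩
      have h2 := KlP_of_bc _ eT₁ ((Over.pullback E.ι).map i) eT₂ hf₂ n t h
      have h3 := KlP_of_bc E.ι eT i eT₁ hf₁ n _ h2
      refine KlP_residue eT i n _ v₀ h3 b ?_
      rw [Scheme.Hom.comp_apply, Scheme.Hom.comp_apply, Scheme.fromSpecResidueField_apply]
      exact hbb'
    obtain ⟨eH, heH⟩ := SplitQuot.exists_iso_sub eT₂ _ hN K A1₂ A2₂ hH₂
    have h5 := bc_lift_formula eT₁ ((Over.pullback E.ι).map i) K _ eT₂ hf₂ k hk c hc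
    have h6 : (Over.pullback ((E : Scheme.{u}).fromSpecResidueField b')).map k ≫ c.hom =
        eH.hom := by
      have := mono_map_mk' (B := Spec ((E : Scheme.{u}).residueField b')) K
      rw [← cancel_mono (AMonS.map _ (QuotientAddGroup.mk' K)), h5, heH]
    have h7 : (Over.pullback ((E : Scheme.{u}).fromSpecResidueField b')).map k =
        eH.hom ≫ c.inv := by
      rw [← h6, Category.assoc, Iso.hom_inv_id, Category.comp_id]
    rw [h7]
    infer_instance
  have hx : ∃ x : ↥(E' : Scheme.{u}), (E'.ι ≫ E.ι) x = b := by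
    have h8 : b' ∈ Set.range E'.ι := by
      rw [Scheme.Opens.range_ι]
      exact hb'
    obtain ⟨x, hx⟩ := h8
    exact ⟨x, by rw [Scheme.Hom.comp_apply, hx, hbb']⟩
  refine ⟨K, E, E', hx, ?_⟩
  obtain ⟨eT₃, heT₃, hf₃⟩ := exists_setup_bc E'.ι eT₁ ((Over.pullback E.ι).map i)
  obtain ⟨c₃, hc1₃, hc₃⟩ := SplitQuot.exists_canon_chart E'.ι (N ⧸ K)
  have h5 := bc_lift_formula eT₁ ((Over.pullback E.ι).map i) K E'.ι eT₃ hf₃ k hk c₃ hc₃
  let eH₃ : Red.bc E'.ι (Red.bc E.ι H) ≅ AMonS (E' : Scheme.{u}) (N ⧸ K) :=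
    asIso ((Over.pullback E'.ι).map k) ≪≫ c₃
  have hq₃ := QuotUniq.isQuotient_bc E'.ι _ _ (QuotUniq.isQuotient_bc E.ι i q hq)
  exact exists_iso_quot_of_iso eT₃ _ K hN eH₃ h5.symm _ hq₃

end Main

/-- the quotient of a locally split torus by a subgroup of multiplicative type is locally split -/
theorem locallySplit_quotient {S : Scheme.{u}} {T H Q : Over S} [GrpObj T] [GrpObj H] [GrpObj Q]
    (hT : ∀ s : ↥S, ∃ U : S.Opens, s ∈ U ∧ ∃ r : ℕ,
      Red.IsSplitTorusWith (Fin r → ℤ) (Red.bc U.ι T))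
    (i : H ⟶ T) [IsMonHom i] [Mono i] (hH : SGA3x.IsMultTypeFT H) (q : T ⟶ Q) [IsMonHom q]
    (hq : RedSub.IsQuotient i q) :
    ∀ s : ↥S, ∃ U : S.Opens, s ∈ U ∧ ∃ r : ℕ,
      Red.IsSplitTorusWith (Fin r → ℤ) (Red.bc U.ι Q) := by
  intro s
  obtain ⟨U, hs, r, hr⟩ := hT s
  obtain ⟨e, he⟩ := TorusHom.exists_iso_of_grpIso hr
  have hN : AddGroup.FG (Fin r → ℤ) := Module.Finite.iff_addGroup_fg.mp inferInstance
  obtain ⟨b, hb⟩ : ∃ b : ↥(U : Scheme.{u}), U.ι b = s := by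
    have : s ∈ Set.range U.ι := by
      rw [Scheme.Opens.range_ι]
      exact hs
    exact this
  obtain ⟨K, E, E', ⟨x, hx⟩, e', he'⟩ := exists_local_quot_chart e ((Over.pullback U.ι).map i) hN
    (BCMult.isMultTypeFT_bc U.ι hH) ((Over.pullback U.ι).map q)
    (QuotUniq.isQuotient_bc U.ι i q hq) b
  obtain ⟨r', -, ⟨eK⟩⟩ := TorusQuot.exists_rank_le (AddEquiv.refl (Fin r → ℤ)) K
  obtain ⟨φ₂, hφ₂, -⟩ := BCMult.exists_assoc_iso E.ι E'.ι (Red.bc U.ι Q)
  obtain ⟨φ₃, hφ₃, -⟩ := BCMult.exists_assoc_iso U.ι (E'.ι ≫ E.ι) Q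
  let e₄ : Red.bc ((E'.ι ≫ E.ι) ≫ U.ι) Q ≅ AMonS (E' : Scheme.{u}) (Fin r' → ℤ) :=
    φ₃ ≪≫ φ₂ ≪≫ e' ≪≫ TorusQuot.mapIso (E' : Scheme.{u}) eK.symm
  have : IsMonHom e₄.hom := by
    change IsMonHom (φ₃.hom ≫ φ₂.hom ≫ e'.hom ≫ (TorusQuot.mapIso (E' : Scheme.{u}) eK.symm).hom)
    infer_instance
  obtain ⟨e₅, he₅⟩ := TorusQuot.exists_chart_opensRange (𝟙 S) ((E'.ι ≫ E.ι) ≫ U.ι)
    ((E'.ι ≫ E.ι) ≫ U.ι) (Category.comp_id _) Q e₄
  obtain ⟨e₆, he₆⟩ := ChartRank.chart_congr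
    (Category.comp_id (Scheme.Hom.opensRange ((E'.ι ≫ E.ι) ≫ U.ι)).ι) Q e₅
  refine ⟨Scheme.Hom.opensRange ((E'.ι ≫ E.ι) ≫ U.ι), ⟨x, ?_⟩, r', ⟨Grp.mkIso' e₆⟩⟩
  rw [Scheme.Hom.comp_apply, hx, hb]

end Groth.Agent.H82.LocSplitQuot
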