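import Groth.Prelude.Def_SGA3x
import Groth.Agent.H82.PLocal
import Groth.Agent.H40.CD.FpqcImm
import Mathlib.AlgebraicGeometry.Morphisms.LocalFlatDescent

set_option autoImplicit false
open CategoryTheory MonoidalCategory CartesianMonoidalCategory MonObj GrpObj AlgebraicGeometry Limits
universe u

namespace Groth.Agent.H82.MTLft

theorem lft_diag (R : Type u) [CommRing R] (M : Type) [AddCommGroup M] (hM : AddGroup.FG M) :
    LocallyOfFiniteType (Red.diag R M).hom := by
  have h1 : AddMonoid.FG M := AddGroup.fg_iff_addMonoid_fg.mp hM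
  have h2 : Monoid.FG (Multiplicative M) := inferInstance
  have h3 : Algebra.FiniteType R (MonoidAlgebra R (Multiplicative M)) := inferInstance
  change LocallyOfFiniteType (Spec.map (CommRingCat.ofHom (algebraMap R (MonoidAlgebra R (Multiplicative M)))))
  rw [HasRingHomProperty.Spec_iff (P := @LocallyOfFiniteType)]
  exact RingHom.finiteType_algebraMap.mpr h3

theorem lft_DS (U : Scheme.{u}) (M : Type) [AddCommGroup M] (hM : AddGroup.FG M) :
    LocallyOfFiniteType (Red.DS U M).hom := by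
  have := lft_diag (ULift.{u} ℤ) M hM
  change LocallyOfFiniteType (pullback.snd _ _)
  infer_instance


/-- the structure morphism, as a morphism in `Over S` to the terminal object -/
noncomputable def toTerm {S : Scheme.{u}} (H : Over S) : H ⟶ Over.mk (𝟙 S) := Over.homMk H.hom

theorem P_bc_hom_iff (P : MorphismProperty Scheme.{u}) [P.RespectsIso] {S T : Scheme.{u}} (H : Over S)
    (r : T ⟶ S) : P ((Over.pullback r).map (toTerm H)).left ↔ P (Red.bc r H).hom := by
  have h1 : ((Over.pullback r).map (toTerm H)).left ≫ ((Over.pullback r).obj (Over.mk (𝟙 S))).hom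
      = (Red.bc r H).hom := Over.w _
  rw [← h1]
  have : IsIso ((Over.pullback r).obj (Over.mk (𝟙 S))).hom := by
    change IsIso (pullback.snd (𝟙 S) r)
    infer_instance
  rw [P.cancel_right_of_respectsIso]

theorem lft_of_isMultTypeFT {S : Scheme.{u}} (H : Over S) [GrpObj H] (hH : SGA3x.IsMultTypeFT H) :
    LocallyOfFiniteType H.hom := by
  obtain ⟨S₁, f₁, hflat₁, hsurj₁, hqc₁, htriv₁⟩ := hH
  have h₁ : Presieve.singleton f₁ ∈ Scheme.fpqcPrecoverage S :=
    Groth.Agent.H40.CD.singleton_mem_fpqcPrecoverage_of_image f₁ hsurj₁ hflat₁ hqc₁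
  change LocallyOfFiniteType (toTerm H).left
  apply PLocal.P_of_locally @LocallyOfFiniteType inferInstance f₁ h₁
  intro z
  obtain ⟨U₁, hz₁, M₁, iM₁, hfg₁, ⟨hs₁⟩⟩ := htriv₁ z
  refine ⟨U₁, U₁.ι, inferInstance, ⟨⟨z, hz₁⟩, rfl⟩, ?_⟩
  rw [P_bc_hom_iff @LocallyOfFiniteType]
  have e : Red.bc (U₁.ι ≫ f₁) H ≅ Red.DS (U₁ : Scheme.{u}) M₁ := (Grp.forget _).mapIso hs₁
  have h2 : (Red.bc (U₁.ι ≫ f₁) H).hom = e.hom.left ≫ (Red.DS (U₁ : Scheme.{u}) M₁).hom :=
    (Over.w e.hom).symm
  rw [h2]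
  have : IsIso e.hom.left := inferInstanceAs (IsIso ((Over.forget _).map e.hom))
  have := lft_DS (U₁ : Scheme.{u}) M₁ hfg₁
  infer_instance

end Groth.Agent.H82.MTLft
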