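import Groth.Agent.H82.MVSq
import Groth.Agent.H82.Compact

set_option autoImplicit false
set_option linter.unusedSectionVars false
universe v u

namespace Groth.Agent.H82.MV

open CategoryTheory CategoryTheory.Limits CategoryTheory.Pretriangulated ZeroObject
open W4c3perfectstacks

variable {S S' R R' : Type u} [Category.{v} S] [Category.{v} S'] [Category.{v} R] [Category.{v} R']
    [Preadditive S] [Preadditive S'] [Preadditive R] [Preadditive R']
    [HasZeroObject S] [HasZeroObject S'] [HasZeroObject R] [HasZeroObject R']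
    [HasShift S ℤ] [HasShift S' ℤ] [HasShift R ℤ] [HasShift R' ℤ]
    [∀ n : ℤ, (shiftFunctor S n).Additive] [∀ n : ℤ, (shiftFunctor S' n).Additive]
    [∀ n : ℤ, (shiftFunctor R n).Additive] [∀ n : ℤ, (shiftFunctor R' n).Additive]
    [Pretriangulated S] [Pretriangulated S'] [Pretriangulated R] [Pretriangulated R']
    (q : W4c3perfectstacks.MVSq S S' R R')
    [q.jst.CommShift ℤ] [q.fst.CommShift ℤ] [q.jpst.CommShift ℤ] [q.gst.CommShift ℤ]
    [q.jst.IsTriangulated] [q.fst.IsTriangulated] [q.jpst.IsTriangulated] [q.gst.IsTriangulated]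

theorem bc2App_naturality {P P' : R} (p : P ⟶ P') :
    q.fst.map (q.jls.map p) ≫ q.bc2App P' = q.bc2App P ≫ q.jpls.map (q.gst.map p) := by
  have h1 := q.adjJp.unit_naturality (q.fst.map (q.jls.map p))
  have h2 := q.e.inv.naturality (q.jls.map p)
  have h3 := q.adjJ.counit_naturality p
  simp only [Functor.comp_map] at h2
  simp only [MVSq.bc2App, Category.assoc]
  rw [← reassoc_of% h1, ← q.jpls.map_comp, ← q.jpls.map_comp, ← q.jpls.map_comp,
    ← q.jpls.map_comp]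
  congr 2
  rw [reassoc_of% h2, ← q.gst.map_comp, ← q.gst.map_comp, h3]

/-- the `FinFactor`-type property for the functor `f_* f^* j_* j^*` -/
theorem finFactor_phi3 (hq : q.IsMV) (K : S) (hK : FinFactor (q.gst.obj (q.jst.obj K)))
    {ι : Type v} (X : ι → S) (c : Cofan X) (hc : IsColimit c)
    (ψ : K ⟶ q.fls.obj (q.fst.obj (q.jls.obj (q.jst.obj c.pt)))) :
    ∃ F : Finset ι, ∀ (Y : S) (g : c.pt ⟶ Y), (∀ i ∈ F, c.inj i ≫ g = 0) →
      ψ ≫ q.fls.map (q.fst.map (q.jls.map (q.jst.map g))) = 0 := by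
  have := q.adjJ.leftAdjoint_preservesColimits
  have := q.adjG.leftAdjoint_preservesColimits
  have : ∀ ι : Type v, PreservesColimitsOfShape (Discrete ι) (q.jst ⋙ q.gst) :=
    fun ι => inferInstance
  set ψ₁ := (q.adjF.homEquiv _ _).symm ψ with hψ₁
  set ψ₂ := (q.adjJp.homEquiv _ _).symm (ψ₁ ≫ q.bc2App (q.jst.obj c.pt)) with hψ₂
  obtain ⟨F, hF⟩ := FinFactor.comp_map (q.jst ⋙ q.gst) hK X c hc (q.e.hom.app K ≫ ψ₂)
  refine ⟨F, fun Y g hg => ?_⟩
  have h0 := hF Y g hg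
  rw [Category.assoc] at h0
  have h1 : ψ₂ ≫ q.gst.map (q.jst.map g) = 0 := by
    have := congrArg (fun x => q.e.inv.app K ≫ x) h0
    simpa using this
  have h2 : (ψ₁ ≫ q.bc2App (q.jst.obj c.pt)) ≫ q.jpls.map (q.gst.map (q.jst.map g)) = 0 := by
    apply (q.adjJp.homEquiv _ _).symm.injective
    rw [Adjunction.homEquiv_naturality_right_symm, ← hψ₂, h1, Adjunction.homEquiv_counit,
      q.jpst.map_zero, zero_comp]
  have h3 : ψ₁ ≫ q.fst.map (q.jls.map (q.jst.map g)) = 0 := by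
    have := hq.isIso_bc2App (q.jst.obj Y)
    rw [← cancel_mono (q.bc2App (q.jst.obj Y)), Category.assoc, bc2App_naturality,
      ← Category.assoc, h2, zero_comp]
  apply (q.adjF.homEquiv _ _).symm.injective
  rw [Adjunction.homEquiv_naturality_right_symm, ← hψ₁, h3, Adjunction.homEquiv_counit,
    q.fst.map_zero, zero_comp]

/-- an object whose restrictions are `FinFactor` is `FinFactor` -/
theorem finFactor_of_restrictions (hq : q.IsMV) (N : S)
    (hU : FinFactor (q.jst.obj N)) (hX' : FinFactor (q.fst.obj N))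
    (hU' : FinFactor (q.gst.obj (q.jst.obj N))) : FinFactor N := by
  classical
  have : q.jls.IsRightAdjoint := q.adjJ.isRightAdjoint
  have : q.fls.IsRightAdjoint := q.adjF.isRightAdjoint
  intro ι X c hc φ
  obtain ⟨F₁, hF₁⟩ := FinFactor.adj_unit q.adjJ hU X c hc (φ ≫ q.adjJ.unit.app c.pt)
  obtain ⟨F₂, hF₂⟩ := FinFactor.adj_unit q.adjF hX' X c hc (φ ≫ q.adjF.unit.app c.pt)
  let k : c.pt ⟶ c.pt := Cofan.IsColimit.desc hc (fun i => if i ∈ F₁ ∪ F₂ then 0 else c.inj i)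
  have hk : ∀ i ∈ F₁ ∪ F₂, c.inj i ≫ k = 0 := by
    intro i hi
    change c.inj i ≫ Cofan.IsColimit.desc hc _ = 0
    rw [Cofan.IsColimit.fac, if_pos hi]
  have hk' : ∀ (Y : S) (g : c.pt ⟶ Y), (∀ i ∈ F₁ ∪ F₂, c.inj i ≫ g = 0) → k ≫ g = g := by
    intro Y g hg
    apply Cofan.IsColimit.hom_ext hc
    intro i
    by_cases hi : i ∈ F₁ ∪ F₂
    · rw [← Category.assoc, hk i hi, zero_comp, hg i hi]
    · rw [← Category.assoc]
      change (c.inj i ≫ Cofan.IsColimit.desc hc _) ≫ g = _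
      rw [Cofan.IsColimit.fac, if_neg hi]
  have h1 : (φ ≫ k) ≫ mvA q c.pt = 0 := by
    apply biprod.hom_ext
    · simp only [mvA, Category.assoc, biprod.lift_fst, zero_comp]
      rw [← q.adjJ.unit_naturality k, ← Category.assoc]
      exact hF₁ _ k (fun i hi => hk i (Finset.mem_union_left _ hi))
    · simp only [mvA, Category.assoc, biprod.lift_snd, zero_comp]
      rw [← q.adjF.unit_naturality k, ← Category.assoc]
      exact hF₂ _ k (fun i hi => hk i (Finset.mem_union_right _ hi))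
  obtain ⟨dM, hdM⟩ := exists_mv_triangle q hq c.pt
  have h1' : (shiftFunctor S (1 : ℤ)).map (φ ≫ k) ≫ (shiftFunctor S (1 : ℤ)).map (mvA q c.pt) = 0 := by
    rw [← (shiftFunctor S (1 : ℤ)).map_comp, h1, (shiftFunctor S (1 : ℤ)).map_zero]
  obtain ⟨ψ, hψ⟩ : ∃ ψ : N⟦(1 : ℤ)⟧ ⟶ q.fls.obj (q.fst.obj (q.jls.obj (q.jst.obj c.pt))),
      (shiftFunctor S (1 : ℤ)).map (φ ≫ k) = ψ ≫ dM :=
    Triangle.coyoneda_exact₁ _ hdM ((shiftFunctor S (1 : ℤ)).map (φ ≫ k)) h1'
  have hU'1 : FinFactor (q.gst.obj (q.jst.obj (N⟦(1 : ℤ)⟧))) :=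
    FinFactor.of_iso (q.gst.mapIso ((q.jst.commShiftIso (1 : ℤ)).app N) ≪≫
      (q.gst.commShiftIso (1 : ℤ)).app (q.jst.obj N)).symm (hU'.shift 1)
  obtain ⟨F₃, hF₃⟩ := finFactor_phi3 q hq (N⟦(1 : ℤ)⟧) hU'1 X c hc ψ
  refine ⟨F₁ ∪ F₂ ∪ F₃, fun Y g hg => ?_⟩
  have e1 : φ ≫ g = (φ ≫ k) ≫ g := by
    rw [Category.assoc, hk' Y g (fun i hi => hg i (Finset.mem_union_left _ hi))]
  rw [e1]
  obtain ⟨dY, hdY⟩ := exists_mv_triangle q hq Y
  have nat := mv_natural q c.pt Y g dM dY hdM hdY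
  apply (shiftFunctor S (1 : ℤ)).map_injective
  rw [(shiftFunctor S (1 : ℤ)).map_comp, (shiftFunctor S (1 : ℤ)).map_zero, hψ, Category.assoc,
    nat, ← Category.assoc,
    hF₃ Y g (fun i hi => hg i (Finset.mem_union_right _ hi)), zero_comp]

end Groth.Agent.H82.MV
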