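import Mathlib.CategoryTheory.Triangulated.Orthogonal
import Mathlib.CategoryTheory.Triangulated.Adjunction
import Mathlib.CategoryTheory.Shift.Adjunction

set_option autoImplicit false
set_option linter.unusedSectionVars false
universe v₁ v₂ u₁ u₂

namespace Groth.Agent.H82

open CategoryTheory CategoryTheory.Limits CategoryTheory.Pretriangulated ZeroObject

section

variable {C : Type u₁} {D : Type u₂} [Category.{v₁} C] [Category.{v₂} D]
  [Preadditive C] [Preadditive D] [HasZeroObject C] [HasZeroObject D]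
  [HasShift C ℤ] [HasShift D ℤ]
  [∀ n : ℤ, (shiftFunctor C n).Additive] [∀ n : ℤ, (shiftFunctor D n).Additive]
  [Pretriangulated C] [Pretriangulated D]

/-- the kernel of a functor, as a property of objects -/
def kerProp (L : C ⥤ D) : ObjectProperty C := fun A => IsZero (L.obj A)

theorem kerProp_iff (L : C ⥤ D) (A : C) : kerProp L A ↔ IsZero (L.obj A) := Iff.rfl

instance kerProp_closedUnderIso (L : C ⥤ D) : (kerProp L).IsClosedUnderIsomorphisms where
  of_iso e h := IsZero.of_iso h (L.mapIso e.symm)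

instance kerProp_stableUnderShift (L : C ⥤ D) [L.CommShift ℤ] :
    (kerProp L).IsStableUnderShift ℤ where
  isStableUnderShiftBy n := ⟨fun A hA => by
    change IsZero (L.obj (A⟦n⟧))
    have h1 : IsZero ((L.obj A)⟦n⟧) := (shiftFunctor D n).map_isZero hA
    exact IsZero.of_iso h1 ((L.commShiftIso n).app A)⟩

instance kerProp_isTriangulated (L : C ⥤ D) [L.CommShift ℤ] [L.IsTriangulated] :
    (kerProp L).IsTriangulated where
  exists_zero := ⟨(0 : C), isZero_zero C, by
    change IsZero (L.obj (0 : C))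
    exact L.map_isZero (isZero_zero C)⟩
  toIsTriangulatedClosed₂ := .mk' (fun T hT h₁ h₃ => by
    exact Triangle.isZero₂_of_isZero₁₃ _ (L.map_distinguished T hT) h₁ h₃)

variable {L : C ⥤ D} {G : D ⥤ C} (adj : L ⊣ G)

include adj in
theorem rightAdj_obj_mem_rightOrthogonal (Q : D) : (kerProp L).rightOrthogonal (G.obj Q) := by
  intro A f hA
  have h : (adj.homEquiv A Q).symm f = 0 := (hA : IsZero (L.obj A)).eq_of_src _ _
  have := congrArg (adj.homEquiv A Q) h
  rw [Equiv.apply_symm_apply] at this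
  rw [this]
  have : G.IsRightAdjoint := adj.isRightAdjoint
  simp [Adjunction.homEquiv_unit]

include adj in
/-- if the counit is an isomorphism, the unit has its fiber in the kernel -/
theorem exists_triangle_unit [L.CommShift ℤ] [L.IsTriangulated] (hc : IsIso adj.counit) (N : C) :
    ∃ (K : C) (k : K ⟶ N) (h : G.obj (L.obj N) ⟶ K⟦(1 : ℤ)⟧),
      Triangle.mk k (adj.unit.app N) h ∈ distTriang C ∧ kerProp L K := by
  obtain ⟨K, k, h, hT⟩ := distinguished_cocone_triangle₁ (adj.unit.app N)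
  refine ⟨K, k, h, hT, ?_⟩
  have hT' := L.map_distinguished _ hT
  refine Triangle.isZero₁_of_isIso₂ _ hT' ?_
  change IsIso (L.map (adj.unit.app N))
  have h1 : L.map (adj.unit.app N) ≫ adj.counit.app (L.obj N) = 𝟙 _ :=
    adj.left_triangle_components N
  have h2 : IsIso (adj.counit.app (L.obj N)) := inferInstance
  have h3 : IsIso (L.map (adj.unit.app N) ≫ adj.counit.app (L.obj N)) := by
    rw [h1]; infer_instance
  exact IsIso.of_isIso_comp_right _ (adj.counit.app (L.obj N))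

/-- objects of the kernel are left orthogonal to the right orthogonal -/
theorem kerProp_le_leftOrthogonal (L : C ⥤ D) :
    kerProp L ≤ (kerProp L).rightOrthogonal.leftOrthogonal := by
  intro A hA Y f hY
  exact hY f hA

/-- postcomposition with a map whose cone is right orthogonal to the kernel is bijective
on maps out of the kernel -/
theorem comp_bijective_of_cone_rightOrth (L : C ⥤ D) [L.CommShift ℤ] [L.IsTriangulated]
    {A : C} (hA : kerProp L A) {Y Z : C} (g : Y ⟶ Z)
    (hg : (kerProp L).rightOrthogonal.trW g) :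
    Function.Bijective (fun φ : A ⟶ Y => φ ≫ g) := by
  have h1 := kerProp_le_leftOrthogonal L A hA
  rw [← ObjectProperty.isColocal_trW] at h1
  exact h1 g hg

end

end Groth.Agent.H82

namespace Groth.Agent.H82

open CategoryTheory CategoryTheory.Limits CategoryTheory.Pretriangulated ZeroObject

section General

variable {C : Type u₁} [Category.{v₁} C] [Preadditive C] [HasZeroObject C] [HasShift C ℤ]
  [∀ n : ℤ, (shiftFunctor C n).Additive] [Pretriangulated C]

/-- if postcomposition with `ψ` is bijective on maps out of all objects of a shift-stable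
property `P`, then the cone of `ψ` is right orthogonal to `P` -/
theorem cone_mem_rightOrthogonal (P : ObjectProperty C) [P.IsStableUnderShift ℤ]
    (T : Triangle C) (hT : T ∈ distTriang C)
    (hbij : ∀ A : C, P A → Function.Bijective (fun φ : A ⟶ T.obj₁ => φ ≫ T.mor₁)) :
    P.rightOrthogonal T.obj₃ := by
  intro A g hA
  -- x := g ≫ mor₃ : A ⟶ obj₁⟦1⟧ vanishes
  have hx : g ≫ T.mor₃ = 0 := by
    obtain ⟨y, hy⟩ := ((shiftEquiv C (1 : ℤ)).symm.toAdjunction.homEquiv A T.obj₁).surjective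
      (g ≫ T.mor₃)
    have hA' : P (A⟦(-1 : ℤ)⟧) := P.le_shift (-1) _ hA
    have h1 : (g ≫ T.mor₃) ≫ T.mor₁⟦(1 : ℤ)⟧' = 0 := by
      rw [Category.assoc, comp_distTriang_mor_zero₃₁ T hT, comp_zero]
    have h2 : ((shiftEquiv C (1 : ℤ)).symm.toAdjunction.homEquiv A T.obj₂) (y ≫ T.mor₁) = 0 := by
      rw [Adjunction.homEquiv_naturality_right, hy]
      exact h1
    have h3 : y ≫ T.mor₁ = 0 := by
      have := congrArg ((shiftEquiv C (1 : ℤ)).symm.toAdjunction.homEquiv A T.obj₂).symm h2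
      rw [Equiv.symm_apply_apply] at this
      rw [this]
      simp [Adjunction.homEquiv_counit]
    have h4 : y = 0 := (hbij _ hA').1 (by
      show y ≫ T.mor₁ = 0 ≫ T.mor₁
      rw [h3, zero_comp])
    rw [h4] at hy
    have h5 : ((shiftEquiv C (1 : ℤ)).symm.toAdjunction.homEquiv A T.obj₁) 0 = 0 := by
      simp [Adjunction.homEquiv_unit]
    exact hy.symm.trans h5
  obtain ⟨g', hg'⟩ := Triangle.coyoneda_exact₃ T hT g hx
  obtain ⟨φ, hφ⟩ := (hbij A hA).2 g'
  simp only at hφ
  rw [hg', ← hφ, Category.assoc, comp_distTriang_mor_zero₁₂ T hT, comp_zero]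

/-- an object which lies in a property and in its right orthogonal is zero -/
theorem isZero_of_mem_of_mem_rightOrthogonal (P : ObjectProperty C) (E : C) (h₁ : P E)
    (h₂ : P.rightOrthogonal E) : IsZero E := by
  rw [IsZero.iff_id_eq_zero]
  exact h₂ (𝟙 E) h₁

/-- **Split lemma 1.** Let `X ⟶ Y ⟶ C'` be a distinguished triangle, `b : Y ⟶ D` a map killing
`a` with a factorisation `b = b' ≫ c`. If `(a, b)` is split exact (`r`, `s` a contracting
homotopy), then `c` is an isomorphism. -/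
theorem isIso_of_split (T : Triangle C) (hT : T ∈ distTriang C) {D : C} (b : T.obj₂ ⟶ D)
    (c : T.obj₃ ⟶ D) (hc : T.mor₂ ≫ c = b) (r : T.obj₂ ⟶ T.obj₁) (s : D ⟶ T.obj₂)
    (h₁ : T.mor₁ ≫ r = 𝟙 _) (h₂ : s ≫ b = 𝟙 _) (h₃ : r ≫ T.mor₁ + b ≫ s = 𝟙 _) : IsIso c := by
  have hmono : Mono T.mor₁ := mono_of_mono_fac h₁
  have h0 : T.mor₃ = 0 := Triangle.mor₃_eq_zero_of_mono₁ T hT hmono
  have hepi : Epi T.mor₂ := Triangle.epi₂ T hT h0
  refine ⟨s ≫ T.mor₂, ?_, ?_⟩
  · rw [← cancel_epi T.mor₂]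
    rw [← Category.assoc, ← Category.assoc, hc, Category.comp_id]
    have : b ≫ s = 𝟙 _ - r ≫ T.mor₁ := by rw [← h₃]; abel
    rw [this, Preadditive.sub_comp, Category.id_comp, Category.assoc,
      comp_distTriang_mor_zero₁₂ T hT, comp_zero, sub_zero]
  · rw [Category.assoc, hc, h₂]

/-- **Split lemma 2.** Let `X ⟶ Y ⟶ D` be a distinguished triangle with `Y` a biproduct of
`A` and `B` (structure maps `i₁ i₂ p₁ p₂`).  If the `B`-component of `Y ⟶ D` is an isomorphism,
then the `A`-component of `X ⟶ Y` is an isomorphism. -/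
theorem isIso_fst_of_isIso_snd (T : Triangle C) (hT : T ∈ distTriang C) {A B : C}
    (i₁ : A ⟶ T.obj₂) (i₂ : B ⟶ T.obj₂) (p₁ : T.obj₂ ⟶ A) (p₂ : T.obj₂ ⟶ B)
    (h11 : i₁ ≫ p₁ = 𝟙 _) (h21 : i₂ ≫ p₁ = 0)
    (hsum : p₁ ≫ i₁ + p₂ ≫ i₂ = 𝟙 _) (hiso : IsIso (i₂ ≫ T.mor₂)) : IsIso (T.mor₁ ≫ p₁) := by
  set δ := i₂ ≫ T.mor₂ with hδ
  set s : T.obj₃ ⟶ T.obj₂ := inv δ ≫ i₂ with hs
  have hsb : s ≫ T.mor₂ = 𝟙 _ := by
    rw [hs, Category.assoc, ← hδ, IsIso.inv_hom_id]
  have hepi : Epi T.mor₂ := epi_of_epi_fac hsb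
  have h0 : T.mor₃ = 0 := Triangle.mor₃_eq_zero_of_epi₂ T hT hepi
  have hmono : Mono T.mor₁ := Triangle.mono₁ T hT h0
  -- the projector π = 1 - b ≫ s factors through a
  have hπ : (𝟙 T.obj₂ - T.mor₂ ≫ s) ≫ T.mor₂ = 0 := by
    rw [Preadditive.sub_comp, Category.id_comp, Category.assoc, hsb, Category.comp_id, sub_self]
  obtain ⟨ρ, hρ⟩ := Triangle.coyoneda_exact₂ T hT _ hπ
  have h1 : T.mor₁ ≫ ρ = 𝟙 _ := by
    rw [← cancel_mono T.mor₁, Category.assoc, ← hρ, Preadditive.comp_sub, Category.comp_id,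
      ← Category.assoc, comp_distTriang_mor_zero₁₂ T hT, zero_comp, sub_zero, Category.id_comp]
  have h2 : i₂ ≫ ρ = 0 := by
    rw [← cancel_mono T.mor₁, Category.assoc, ← hρ, Preadditive.comp_sub, Category.comp_id,
      zero_comp, ← Category.assoc, ← hδ, hs, ← Category.assoc, IsIso.hom_inv_id,
      Category.id_comp, sub_self]
  refine ⟨i₁ ≫ ρ, ?_, ?_⟩
  · -- (a ≫ p₁) ≫ i₁ ≫ ρ = 1
    have : p₁ ≫ i₁ = 𝟙 _ - p₂ ≫ i₂ := by rw [← hsum]; abel
    rw [Category.assoc, ← Category.assoc p₁, this, Preadditive.sub_comp, Category.id_comp,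
      Category.assoc, h2, comp_zero, sub_zero, h1]
  · -- i₁ ≫ ρ ≫ a ≫ p₁ = 1
    rw [Category.assoc, ← Category.assoc ρ, ← hρ, Preadditive.sub_comp, Category.id_comp,
      Preadditive.comp_sub, h11, hs]
    simp only [Category.assoc]
    rw [h21, comp_zero, comp_zero, comp_zero, sub_zero]

end General

end Groth.Agent.H82
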