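import Groth.Prelude.Def_W4c3perfectstacksMV
import Groth.Agent.H82.TriAdj

set_option autoImplicit false
set_option linter.unusedSectionVars false
universe v u

namespace Groth.Agent.H82.MV

open CategoryTheory CategoryTheory.Limits CategoryTheory.Pretriangulated ZeroObject
open W4c3perfectstacks

variable {S S' R R' : Type u} [Category.{v} S] [Category.{v} S'] [Category.{v} R] [Category.{v} R']
    [Preadditive S] [Preadditive S'] [Preadditive R] [Preadditive R']
    [HasZeroObject S] [HasZeroObject S'] [HasZeroObject R] [HasZeroObject R']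
    [HasShift S ℤ] [HasShift S' ℤ] [HasShift R ℤ] [HasShift R' ℤ]
    [∀ n : ℤ, (shiftFunctor S n).Additive] [∀ n : ℤ, (shiftFunctor S' n).Additive]
    [∀ n : ℤ, (shiftFunctor R n).Additive] [∀ n : ℤ, (shiftFunctor R' n).Additive]
    [Pretriangulated S] [Pretriangulated S'] [Pretriangulated R] [Pretriangulated R']
    (q : W4c3perfectstacks.MVSq S S' R R')
    [q.jst.CommShift ℤ] [q.fst.CommShift ℤ] [q.jpst.CommShift ℤ] [q.gst.CommShift ℤ]
    [q.jst.IsTriangulated] [q.fst.IsTriangulated] [q.jpst.IsTriangulated] [q.gst.IsTriangulated]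

theorem isZero_gls (X : R') (hX : IsZero X) : IsZero (q.gls.obj X) := by
  have : q.gls.IsRightAdjoint := q.adjG.isRightAdjoint
  exact q.gls.map_isZero hX

theorem isZero_fls (X : S') (hX : IsZero X) : IsZero (q.fls.obj X) := by
  have : q.fls.IsRightAdjoint := q.adjF.isRightAdjoint
  exact q.fls.map_isZero hX

theorem isZero_jst_fls (hq : q.IsMV) (M : S') (hM : IsZero (q.jpst.obj M)) :
    IsZero (q.jst.obj (q.fls.obj M)) := by
  have := hq.isIso_bcApp M
  exact (isZero_gls q _ hM).of_iso (asIso (q.bcApp M))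

theorem isZero_jpst_fst (A : S) (hA : IsZero (q.jst.obj A)) :
    IsZero (q.jpst.obj (q.fst.obj A)) := by
  have h1 : IsZero (q.gst.obj (q.jst.obj A)) := q.gst.map_isZero hA
  exact h1.of_iso (q.e.app A).symm

/-- `f^*` is bijective on maps out of an object killed by `j^*`, towards an object killed by `j^*` -/
theorem fst_map_bijective_of_ker (hq : q.IsMV) (A K : S) (hK : IsZero (q.jst.obj K)) :
    Function.Bijective (fun φ : A ⟶ K => q.fst.map φ) := by
  have hiso := hq.isIso_unitF K hK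
  have h1 : Function.Bijective (fun φ : A ⟶ K => φ ≫ q.adjF.unit.app K) :=
    ⟨fun φ₁ φ₂ h => (cancel_mono (q.adjF.unit.app K)).mp h, fun ψ => ⟨ψ ≫ inv (q.adjF.unit.app K), by simp⟩⟩
  have h2 : (fun φ : A ⟶ K => q.fst.map φ) =
      (q.adjF.homEquiv A (q.fst.obj K)).symm ∘ (fun φ : A ⟶ K => φ ≫ q.adjF.unit.app K) := by
    funext φ
    simp only [Function.comp_apply]
    rw [Equiv.eq_symm_apply, Adjunction.homEquiv_unit]
    exact (q.adjF.unit.naturality φ).symm
  rw [h2]
  exact (Equiv.bijective _).comp h1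

/-- `f^*` is bijective on maps out of an object killed by `j^*` -/
theorem fst_map_bijective (hq : q.IsMV) (A N : S) (hA : IsZero (q.jst.obj A)) :
    Function.Bijective (fun φ : A ⟶ N => q.fst.map φ) := by
  obtain ⟨K, k, h, hT, hK⟩ := exists_triangle_unit q.adjJ hq.isIso_counitJ N
  have hk : (kerProp q.jst).rightOrthogonal.trW k :=
    ⟨_, _, _, hT, rightAdj_obj_mem_rightOrthogonal q.adjJ _⟩
  have b1 := comp_bijective_of_cone_rightOrth q.jst hA k hk
  have hA' : kerProp q.jpst (q.fst.obj A) := isZero_jpst_fst q A hA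
  have hbc := hq.isIso_bc2App (q.jst.obj N)
  have hk' : (kerProp q.jpst).rightOrthogonal.trW (q.fst.map k) :=
    ⟨_, _, _, q.fst.map_distinguished _ hT,
      ObjectProperty.prop_of_iso _ (asIso (q.bc2App (q.jst.obj N))).symm
        (rightAdj_obj_mem_rightOrthogonal q.adjJp _)⟩
  have b2 := comp_bijective_of_cone_rightOrth q.jpst hA' (q.fst.map k) hk'
  have b3 := fst_map_bijective_of_ker q hq A K hK
  have hcomp : (fun φ : A ⟶ N => q.fst.map φ) ∘ (fun φ : A ⟶ K => φ ≫ k) =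
      (fun ψ : q.fst.obj A ⟶ q.fst.obj K => ψ ≫ q.fst.map k) ∘ (fun φ : A ⟶ K => q.fst.map φ) := by
    funext φ
    simp
  have b4 : Function.Bijective ((fun φ : A ⟶ N => q.fst.map φ) ∘ (fun φ : A ⟶ K => φ ≫ k)) := by
    rw [hcomp]; exact b2.comp b3
  exact (Function.Bijective.of_comp_iff _ b1).mp b4


/-- the first Mayer-Vietoris map -/
noncomputable abbrev mvA (N : S) : N ⟶ q.jls.obj (q.jst.obj N) ⊞ q.fls.obj (q.fst.obj N) :=
  biprod.lift (q.adjJ.unit.app N) (q.adjF.unit.app N)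

/-- the second Mayer-Vietoris map -/
noncomputable abbrev mvB (N : S) : q.jls.obj (q.jst.obj N) ⊞ q.fls.obj (q.fst.obj N) ⟶
    q.fls.obj (q.fst.obj (q.jls.obj (q.jst.obj N))) :=
  biprod.desc (q.adjF.unit.app (q.jls.obj (q.jst.obj N)))
    (-(q.fls.map (q.fst.map (q.adjJ.unit.app N))))

theorem mvA_comp_mvB (N : S) : mvA q N ≫ mvB q N = 0 := by
  simp only [mvA, mvB, biprod.lift_desc, Preadditive.comp_neg]
  rw [← sub_eq_add_neg, sub_eq_zero]
  exact (q.adjF.unit_naturality (q.adjJ.unit.app N)).symm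

/-- `f^*` kills the connecting map of any distinguished triangle on `(mvA, mvB)` -/
theorem fst_map_eq_zero_of_dist (N : S)
    (d : q.fls.obj (q.fst.obj (q.jls.obj (q.jst.obj N))) ⟶ N⟦(1 : ℤ)⟧)
    (h : Triangle.mk (mvA q N) (mvB q N) d ∈ distTriang S) : q.fst.map d = 0 := by
  have hT := q.fst.map_distinguished _ h
  have hretr : q.fst.map (mvA q N) ≫ (q.fst.map biprod.snd ≫ q.adjF.counit.app (q.fst.obj N)) =
      𝟙 _ := by
    rw [← Category.assoc, ← q.fst.map_comp]
    simp only [mvA, biprod.lift_snd]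
    exact q.adjF.left_triangle_components N
  have hmono : Mono (q.fst.map (mvA q N)) := mono_of_mono_fac hretr
  have h0 := Triangle.mor₃_eq_zero_of_mono₁ _ hT hmono
  have h1 : q.fst.map d ≫ (q.fst.commShiftIso (1 : ℤ)).hom.app N = 0 := h0
  have h2 := congrArg (fun x => x ≫ (q.fst.commShiftIso (1 : ℤ)).inv.app N) h1
  simpa using h2

/-- any distinguished connecting map is killed by the unit of `f` at `N⟦1⟧` -/
theorem d_comp_unit_eq_zero (N : S)
    (d : q.fls.obj (q.fst.obj (q.jls.obj (q.jst.obj N))) ⟶ N⟦(1 : ℤ)⟧)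
    (h : Triangle.mk (mvA q N) (mvB q N) d ∈ distTriang S) :
    d ≫ q.adjF.unit.app (N⟦(1 : ℤ)⟧) = 0 := by
  have h1 := q.adjF.unit_naturality d
  rw [← h1, fst_map_eq_zero_of_dist q N d h]
  have : q.fls.IsRightAdjoint := q.adjF.isRightAdjoint
  simp

/-- naturality of the connecting maps of Mayer-Vietoris triangles -/
theorem mv_natural (N₁ N₂ : S) (φ : N₁ ⟶ N₂)
    (d₁ : q.fls.obj (q.fst.obj (q.jls.obj (q.jst.obj N₁))) ⟶ N₁⟦(1 : ℤ)⟧)
    (d₂ : q.fls.obj (q.fst.obj (q.jls.obj (q.jst.obj N₂))) ⟶ N₂⟦(1 : ℤ)⟧)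
    (h₁ : Triangle.mk (mvA q N₁) (mvB q N₁) d₁ ∈ distTriang S)
    (h₂ : Triangle.mk (mvA q N₂) (mvB q N₂) d₂ ∈ distTriang S) :
    d₁ ≫ (shiftFunctor S (1 : ℤ)).map φ = q.fls.map (q.fst.map (q.jls.map (q.jst.map φ))) ≫ d₂ := by
  have comm : mvA q N₁ ≫
      biprod.map (q.jls.map (q.jst.map φ)) (q.fls.map (q.fst.map φ)) =
      φ ≫ mvA q N₂ := by
    apply biprod.hom_ext
    · simp only [mvA, Category.assoc, biprod.map_fst, biprod.lift_fst, biprod.lift_fst_assoc]
      exact q.adjJ.unit_naturality φ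
    · simp only [mvA, Category.assoc, biprod.map_snd, biprod.lift_snd, biprod.lift_snd_assoc]
      exact q.adjF.unit_naturality φ
  obtain ⟨θ, hθ₁, hθ₂⟩ : ∃ θ : q.fls.obj (q.fst.obj (q.jls.obj (q.jst.obj N₁))) ⟶
      q.fls.obj (q.fst.obj (q.jls.obj (q.jst.obj N₂))),
      mvB q N₁ ≫ θ = biprod.map (q.jls.map (q.jst.map φ)) (q.fls.map (q.fst.map φ)) ≫ mvB q N₂ ∧
      d₁ ≫ (shiftFunctor S (1 : ℤ)).map φ = θ ≫ d₂ :=
    complete_distinguished_triangle_morphism _ _ h₁ h₂ φ
      (biprod.map (q.jls.map (q.jst.map φ)) (q.fls.map (q.fst.map φ))) comm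
  have hθ₀ : mvB q N₁ ≫ q.fls.map (q.fst.map (q.jls.map (q.jst.map φ))) =
      biprod.map (q.jls.map (q.jst.map φ)) (q.fls.map (q.fst.map φ)) ≫ mvB q N₂ := by
    apply biprod.hom_ext'
    · simp only [mvB, biprod.inl_desc_assoc, biprod.inl_map_assoc, biprod.inl_desc]
      exact q.adjF.unit_naturality (q.jls.map (q.jst.map φ))
    · simp only [mvB, biprod.inr_desc_assoc, biprod.inr_map_assoc, biprod.inr_desc,
        Preadditive.neg_comp, Preadditive.comp_neg, neg_inj]
      rw [← q.fls.map_comp, ← q.fst.map_comp, ← q.fls.map_comp, ← q.fst.map_comp]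
      congr 2
      exact q.adjJ.unit_naturality φ
  have hdiff : mvB q N₁ ≫ (θ - q.fls.map (q.fst.map (q.jls.map (q.jst.map φ)))) = 0 := by
    rw [Preadditive.comp_sub, hθ₁, hθ₀, sub_self]
  obtain ⟨t, ht⟩ : ∃ t : N₁⟦(1 : ℤ)⟧ ⟶ q.fls.obj (q.fst.obj (q.jls.obj (q.jst.obj N₂))),
      θ - q.fls.map (q.fst.map (q.jls.map (q.jst.map φ))) = d₁ ≫ t :=
    Triangle.yoneda_exact₃ _ h₁ _ hdiff
  have ht2 : d₁ ≫ t = 0 := by
    have e : t = q.adjF.unit.app _ ≫ q.fls.map ((q.adjF.homEquiv _ _).symm t) := by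
      have h3 := (q.adjF.homEquiv _ _).apply_symm_apply t
      rw [Adjunction.homEquiv_unit] at h3
      exact h3.symm
    rw [e, ← Category.assoc, d_comp_unit_eq_zero q N₁ d₁ h₁, zero_comp]
  have hθeq : θ = q.fls.map (q.fst.map (q.jls.map (q.jst.map φ))) := by
    rw [← sub_eq_zero, ht, ht2]
  rw [hθ₂, hθeq]

theorem isIso_map_unit {C D : Type*} [Category C] [Category D] {L : C ⥤ D} {G : D ⥤ C}
    (adj : L ⊣ G) (hc : IsIso adj.counit) (N : C) : IsIso (L.map (adj.unit.app N)) := by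
  have h1 : L.map (adj.unit.app N) ≫ adj.counit.app (L.obj N) = 𝟙 _ :=
    adj.left_triangle_components N
  have h2 : IsIso (adj.counit.app (L.obj N)) := inferInstance
  have h3 : IsIso (L.map (adj.unit.app N) ≫ adj.counit.app (L.obj N)) := by
    rw [h1]; infer_instance
  exact IsIso.of_isIso_comp_right _ (adj.counit.app (L.obj N))

theorem bcApp_naturality {M M' : S'} (m : M ⟶ M') :
    q.jst.map (q.fls.map m) ≫ q.bcApp M' = q.bcApp M ≫ q.gls.map (q.jpst.map m) := by
  have h1 := q.adjG.unit_naturality (q.jst.map (q.fls.map m))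
  have h2 := q.e.hom.naturality (q.fls.map m)
  have h3 := q.adjF.counit_naturality m
  simp only [Functor.comp_map] at h2
  simp only [MVSq.bcApp, Category.assoc]
  rw [← reassoc_of% h1, ← q.gls.map_comp, ← q.gls.map_comp, ← q.gls.map_comp, ← q.gls.map_comp]
  congr 2
  rw [reassoc_of% h2, ← q.jpst.map_comp, ← q.jpst.map_comp, h3]

theorem isIso_jst_fls_map (hq : q.IsMV) {M M' : S'} (m : M ⟶ M') (hm : IsIso (q.jpst.map m)) :
    IsIso (q.jst.map (q.fls.map m)) := by
  have := hq.isIso_bcApp M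
  have := hq.isIso_bcApp M'
  have h : q.jst.map (q.fls.map m) =
      q.bcApp M ≫ q.gls.map (q.jpst.map m) ≫ inv (q.bcApp M') := by
    rw [← Category.assoc, ← bcApp_naturality, Category.assoc, IsIso.hom_inv_id, Category.comp_id]
  rw [h]; infer_instance

theorem isIso_jpst_fst_map {A B : S} (φ : A ⟶ B) (h : IsIso (q.jst.map φ)) :
    IsIso (q.jpst.map (q.fst.map φ)) := by
  have h1 : IsIso ((q.jst ⋙ q.gst).map φ) := by dsimp; infer_instance
  rw [NatIso.isIso_map_iff q.e] at h1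
  exact h1

theorem fls_fst_jls_mem (hq : q.IsMV) (P : R) :
    (kerProp q.jst).rightOrthogonal (q.fls.obj (q.fst.obj (q.jls.obj P))) := by
  intro A g hA
  have hA' : kerProp q.jpst (q.fst.obj A) := isZero_jpst_fst q A hA
  have := hq.isIso_bc2App P
  have h0 : (q.adjF.homEquiv _ _).symm g = 0 := by
    rw [← cancel_mono (q.bc2App P), zero_comp]
    exact rightAdj_obj_mem_rightOrthogonal q.adjJp _ _ hA'
  have h1 := congrArg (q.adjF.homEquiv _ _) h0
  rw [Equiv.apply_symm_apply] at h1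
  rw [h1, Adjunction.homEquiv_unit]
  have : q.fls.IsRightAdjoint := q.adjF.isRightAdjoint
  simp

theorem comp_mvA_bijective (hq : q.IsMV) (N A : S) (hA : IsZero (q.jst.obj A)) :
    Function.Bijective (fun φ : A ⟶ N => φ ≫ mvA q N) := by
  have hb := fst_map_bijective q hq A N hA
  have key : ∀ φ : A ⟶ N, φ ≫ q.adjF.unit.app N = q.adjF.homEquiv _ _ (q.fst.map φ) := by
    intro φ
    rw [Adjunction.homEquiv_unit]
    exact (q.adjF.unit_naturality φ).symm
  constructor
  · intro φ₁ φ₂ h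
    simp only at h
    have h2 := congrArg (fun x => x ≫ biprod.snd) h
    simp only [mvA, Category.assoc, biprod.lift_snd] at h2
    rw [key, key] at h2
    exact hb.1 ((q.adjF.homEquiv _ _).injective h2)
  · intro g
    obtain ⟨φ, hφ⟩ := hb.2 ((q.adjF.homEquiv _ _).symm (g ≫ biprod.snd))
    simp only at hφ
    refine ⟨φ, ?_⟩
    apply biprod.hom_ext
    · simp only [mvA, Category.assoc, biprod.lift_fst]
      rw [rightAdj_obj_mem_rightOrthogonal q.adjJ _ (φ ≫ q.adjJ.unit.app N) hA,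
        rightAdj_obj_mem_rightOrthogonal q.adjJ _ (g ≫ biprod.fst) hA]
    · simp only [mvA, Category.assoc, biprod.lift_snd]
      rw [key, hφ, Equiv.apply_symm_apply]


/-- `j^*` of the comparison map from the cone is an isomorphism -/
theorem isIso_jst_map_cone (hq : q.IsMV) (N : S) {C : S}
    (b' : q.jls.obj (q.jst.obj N) ⊞ q.fls.obj (q.fst.obj N) ⟶ C) (d' : C ⟶ N⟦(1 : ℤ)⟧)
    (hT : Triangle.mk (mvA q N) b' d' ∈ distTriang S)
    (c : C ⟶ q.fls.obj (q.fst.obj (q.jls.obj (q.jst.obj N)))) (hc : b' ≫ c = mvB q N) :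
    IsIso (q.jst.map c) := by
  have hU : IsIso (q.jst.map (q.adjJ.unit.app N)) := isIso_map_unit q.adjJ hq.isIso_counitJ N
  have hZ : IsIso (q.jst.map (q.fls.map (q.fst.map (q.adjJ.unit.app N)))) :=
    isIso_jst_fls_map q hq _ (isIso_jpst_fst_map q _ hU)
  have hnat : q.jst.map (q.adjJ.unit.app N) ≫ q.jst.map (q.adjF.unit.app (q.jls.obj (q.jst.obj N))) =
      q.jst.map (q.adjF.unit.app N) ≫ q.jst.map (q.fls.map (q.fst.map (q.adjJ.unit.app N))) := by
    rw [← q.jst.map_comp, ← q.jst.map_comp]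
    congr 1
    exact (q.adjF.unit_naturality (q.adjJ.unit.app N)).symm
  have hid : q.jst.map (biprod.fst : q.jls.obj (q.jst.obj N) ⊞ q.fls.obj (q.fst.obj N) ⟶ _) ≫
        q.jst.map biprod.inl + q.jst.map biprod.snd ≫ q.jst.map biprod.inr = 𝟙 _ := by
    rw [← q.jst.map_comp, ← q.jst.map_comp, ← q.jst.map_add, biprod.total, q.jst.map_id]
  let r : q.jst.obj (q.jls.obj (q.jst.obj N) ⊞ q.fls.obj (q.fst.obj N)) ⟶ q.jst.obj N :=
    q.jst.map biprod.fst ≫ inv (q.jst.map (q.adjJ.unit.app N))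
  let s : q.jst.obj (q.fls.obj (q.fst.obj (q.jls.obj (q.jst.obj N)))) ⟶
      q.jst.obj (q.jls.obj (q.jst.obj N) ⊞ q.fls.obj (q.fst.obj N)) :=
    -(inv (q.jst.map (q.fls.map (q.fst.map (q.adjJ.unit.app N)))) ≫ q.jst.map biprod.inr)
  have h0 : q.jst.map b' ≫ q.jst.map c = q.jst.map (mvB q N) := by
    rw [← q.jst.map_comp, hc]
  have h1 : q.jst.map (mvA q N) ≫ r = 𝟙 _ := by
    simp only [r]
    rw [← Category.assoc, ← q.jst.map_comp]
    simp only [mvA, biprod.lift_fst, IsIso.hom_inv_id]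
  have h2 : s ≫ q.jst.map (mvB q N) = 𝟙 _ := by
    simp only [s]
    rw [Preadditive.neg_comp, Category.assoc, ← q.jst.map_comp]
    simp only [mvB, biprod.inr_desc, Functor.map_neg, Preadditive.comp_neg, neg_neg,
      IsIso.inv_hom_id]
  have ha : q.jst.map (mvA q N) = q.jst.map (q.adjJ.unit.app N) ≫ q.jst.map biprod.inl +
      q.jst.map (q.adjF.unit.app N) ≫ q.jst.map biprod.inr := by
    rw [← q.jst.map_comp, ← q.jst.map_comp, ← q.jst.map_add, ← biprod.lift_eq]
    rfl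
  have hb : q.jst.map (mvB q N) =
      q.jst.map biprod.fst ≫ q.jst.map (q.adjF.unit.app (q.jls.obj (q.jst.obj N))) -
      q.jst.map biprod.snd ≫ q.jst.map (q.fls.map (q.fst.map (q.adjJ.unit.app N))) := by
    rw [← q.jst.map_comp, ← q.jst.map_comp, ← q.jst.map_sub, sub_eq_add_neg,
      ← Preadditive.comp_neg, ← biprod.desc_eq]
    rfl
  have hUV : inv (q.jst.map (q.adjJ.unit.app N)) ≫ q.jst.map (q.adjF.unit.app N) =
      q.jst.map (q.adjF.unit.app (q.jls.obj (q.jst.obj N))) ≫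
        inv (q.jst.map (q.fls.map (q.fst.map (q.adjJ.unit.app N)))) := by
    rw [IsIso.inv_comp_eq, ← Category.assoc, IsIso.eq_comp_inv]
    exact hnat.symm
  have h3 : r ≫ q.jst.map (mvA q N) + q.jst.map (mvB q N) ≫ s = 𝟙 _ := by
    simp only [r, s, ha, hb, Preadditive.comp_add, Preadditive.comp_neg,
      Preadditive.sub_comp, Category.assoc,
      IsIso.inv_hom_id_assoc, IsIso.hom_inv_id_assoc]
    rw [reassoc_of% hUV, ← hid]
    have gen : ∀ {G : Type v} [AddCommGroup G] (A X B : G), A + X + -(X - B) = A + B := by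
      intros; abel
    exact gen _ _ _
  exact isIso_of_split (q.jst.mapTriangle.obj (Triangle.mk (mvA q N) b' d'))
    (q.jst.map_distinguished _ hT) (q.jst.map (mvB q N)) (q.jst.map c) h0 r s h1 h2 h3


/-- existence of the Mayer-Vietoris triangle -/
theorem exists_mv_triangle (hq : q.IsMV) (N : S) :
    ∃ d : q.fls.obj (q.fst.obj (q.jls.obj (q.jst.obj N))) ⟶ N⟦(1 : ℤ)⟧,
      Triangle.mk (mvA q N) (mvB q N) d ∈ distTriang S := by
  obtain ⟨C, b', d', hT⟩ := distinguished_cocone_triangle (mvA q N)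
  obtain ⟨c, hc⟩ : ∃ c : C ⟶ q.fls.obj (q.fst.obj (q.jls.obj (q.jst.obj N))),
      mvB q N = b' ≫ c := Triangle.yoneda_exact₂ _ hT (mvB q N) (mvA_comp_mvB q N)
  suffices hiso : IsIso c by
    refine ⟨inv c ≫ d', isomorphic_distinguished _ hT _
      (Triangle.isoMk _ _ (Iso.refl N)
        (Iso.refl (q.jls.obj (q.jst.obj N) ⊞ q.fls.obj (q.fst.obj N))) (asIso c).symm ?_ ?_ ?_)⟩
    · change mvA q N ≫ 𝟙 _ = 𝟙 _ ≫ mvA q N
      rw [Category.comp_id, Category.id_comp]
    · change mvB q N ≫ inv c = 𝟙 _ ≫ b'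
      rw [hc, Category.assoc, IsIso.hom_inv_id, Category.comp_id, Category.id_comp]
    · change (inv c ≫ d') ≫ (shiftFunctor S (1 : ℤ)).map (𝟙 N) = inv c ≫ d'
      rw [CategoryTheory.Functor.map_id, Category.comp_id]
  obtain ⟨E, e1, e2, hE⟩ := distinguished_cocone_triangle c
  have hC : (kerProp q.jst).rightOrthogonal C :=
    cone_mem_rightOrthogonal (kerProp q.jst) _ hT (fun A hA => comp_mvA_bijective q hq N A hA)
  have hD : (kerProp q.jst).rightOrthogonal (q.fls.obj (q.fst.obj (q.jls.obj (q.jst.obj N)))) :=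
    fls_fst_jls_mem q hq _
  have hEzero : IsZero E := by
    apply isZero_of_mem_of_mem_rightOrthogonal (kerProp q.jst)
    · change IsZero (q.jst.obj E)
      have hjc : IsIso (q.jst.map c) := isIso_jst_map_cone q hq N b' d' hT c hc.symm
      exact Triangle.isZero₃_of_isIso₁ _ (q.jst.map_distinguished _ hE) hjc
    · exact ObjectProperty.ext_of_isTriangulatedClosed₃ _ _ hE hC hD
  exact (Triangle.isZero₃_iff_isIso₁ _ hE).1 hEzero

/-- `f_*` maps the right orthogonal of `ker j'^*` into the right orthogonal of `ker j^*` -/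
theorem fls_mem_rightOrthogonal (X : S') (hX : (kerProp q.jpst).rightOrthogonal X) :
    (kerProp q.jst).rightOrthogonal (q.fls.obj X) := by
  intro A g hA
  have hA' : kerProp q.jpst (q.fst.obj A) := isZero_jpst_fst q A hA
  have h0 : (q.adjF.homEquiv _ _).symm g = 0 := hX _ hA'
  have h1 := congrArg (q.adjF.homEquiv _ _) h0
  rw [Equiv.apply_symm_apply] at h1
  rw [h1, Adjunction.homEquiv_unit]
  have : q.fls.IsRightAdjoint := q.adjF.isRightAdjoint
  simp

theorem isIso_neg' {C : Type*} [Category C] [Preadditive C] {X Y : C} (f : X ⟶ Y) (h : IsIso f) :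
    IsIso (-f) := ⟨-(inv f), by simp, by simp⟩

section Glue

variable (hq : q.IsMV) (NU : R) (N' : S') (δ : q.jpst.obj N' ≅ q.gst.obj NU) (N : S)
    (a : N ⟶ q.jls.obj NU ⊞ q.fls.obj N')
    (d : q.fls.obj (q.jpls.obj (q.gst.obj NU)) ⟶ N⟦(1 : ℤ)⟧)

/-- the second map of the glueing triangle -/
noncomputable abbrev glueB : q.jls.obj NU ⊞ q.fls.obj N' ⟶ q.fls.obj (q.jpls.obj (q.gst.obj NU)) :=
  biprod.desc (q.adjF.unit.app (q.jls.obj NU) ≫ q.fls.map (q.bc2App NU))
        (-(q.fls.map (q.adjJp.unit.app N' ≫ q.jpls.map δ.hom)))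

include hq in
theorem glue_isIso_jst (hT : Triangle.mk a (glueB q NU N' δ) d ∈ distTriang S) :
    IsIso ((q.adjJ.homEquiv N NU).symm (a ≫ biprod.fst)) := by
  have hcJ := hq.isIso_counitJ
  have hcJp := hq.isIso_counitJp
  have h1 : IsIso (q.jpst.map (q.adjJp.unit.app N' ≫ q.jpls.map δ.hom)) := by
    have := isIso_map_unit q.adjJp hq.isIso_counitJp N'
    rw [q.jpst.map_comp]
    infer_instance
  have h2 : IsIso (q.jst.map (q.fls.map (q.adjJp.unit.app N' ≫ q.jpls.map δ.hom))) :=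
    isIso_jst_fls_map q hq _ h1
  have h3 : IsIso (q.jst.map (biprod.inr : q.fls.obj N' ⟶ q.jls.obj NU ⊞ q.fls.obj N') ≫
      q.jst.map (glueB q NU N' δ)) := by
    rw [← q.jst.map_comp]
    simp only [glueB, biprod.inr_desc, Functor.map_neg]
    exact isIso_neg' _ h2
  have hid : q.jst.map (biprod.fst : q.jls.obj NU ⊞ q.fls.obj N' ⟶ _) ≫
        q.jst.map biprod.inl + q.jst.map biprod.snd ≫ q.jst.map biprod.inr = 𝟙 _ := by
    rw [← q.jst.map_comp, ← q.jst.map_comp, ← q.jst.map_add, biprod.total, q.jst.map_id]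
  have h11 : q.jst.map (biprod.inl : q.jls.obj NU ⟶ q.jls.obj NU ⊞ q.fls.obj N') ≫
      q.jst.map biprod.fst = 𝟙 _ := by
    rw [← q.jst.map_comp, biprod.inl_fst, q.jst.map_id]
  have h21 : q.jst.map (biprod.inr : q.fls.obj N' ⟶ q.jls.obj NU ⊞ q.fls.obj N') ≫
      q.jst.map biprod.fst = 0 := by
    rw [← q.jst.map_comp, biprod.inr_fst, q.jst.map_zero]
  have h4 : IsIso (q.jst.map a ≫ q.jst.map biprod.fst) :=
    isIso_fst_of_isIso_snd (q.jst.mapTriangle.obj (Triangle.mk a (glueB q NU N' δ) d))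
      (q.jst.map_distinguished _ hT) (q.jst.map biprod.inl) (q.jst.map biprod.inr)
      (q.jst.map biprod.fst) (q.jst.map biprod.snd) h11 h21 hid h3
  rw [Adjunction.homEquiv_counit, q.jst.map_comp]
  infer_instance

theorem transpose_bc2 (P : R) : q.jpst.map (q.bc2App P) ≫ q.adjJp.counit.app _ =
    q.e.inv.app _ ≫ q.gst.map (q.adjJ.counit.app P) := by
  have h := (q.adjJp.homEquiv _ _).symm_apply_apply
    (q.e.inv.app (q.jls.obj P) ≫ q.gst.map (q.adjJ.counit.app P))
  rw [Adjunction.homEquiv_unit, Adjunction.homEquiv_counit] at h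
  rw [← h]
  simp only [MVSq.bc2App, Functor.map_comp, Category.assoc]
  rfl

theorem glue_key' (a₁ : N ⟶ q.jls.obj NU) (a₂ : N ⟶ q.fls.obj N')
    (hz' : a₁ ≫ q.adjF.unit.app (q.jls.obj NU) ≫ q.fls.map (q.bc2App NU) =
      a₂ ≫ q.fls.map (q.adjJp.unit.app N' ≫ q.jpls.map δ.hom)) :
    q.jpst.map ((q.adjF.homEquiv N N').symm a₂) ≫ δ.hom =
      q.e.inv.app N ≫ q.gst.map ((q.adjJ.homEquiv N NU).symm a₁) := by
  set ψ := (q.adjF.homEquiv N N').symm a₂ with hψ
  have ha2 : a₂ = q.adjF.homEquiv N N' ψ := by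
    rw [hψ, Equiv.apply_symm_apply]
  have E1 : q.fst.map a₁ ≫ q.bc2App NU =
      ψ ≫ q.adjJp.unit.app N' ≫ q.jpls.map δ.hom := by
    apply (q.adjF.homEquiv _ _).injective
    have l : q.adjF.homEquiv _ _ (q.fst.map a₁ ≫ q.bc2App NU) =
        a₁ ≫ q.adjF.unit.app (q.jls.obj NU) ≫ q.fls.map (q.bc2App NU) := by
      rw [Adjunction.homEquiv_naturality_left, Adjunction.homEquiv_unit]
    have r : q.adjF.homEquiv _ _ (ψ ≫ q.adjJp.unit.app N' ≫ q.jpls.map δ.hom) =
        a₂ ≫ q.fls.map (q.adjJp.unit.app N' ≫ q.jpls.map δ.hom) := by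
      rw [Adjunction.homEquiv_naturality_right, ← ha2]
    rw [l, r, hz']
  have E2 := congrArg (fun y => q.jpst.map y ≫ q.adjJp.counit.app _) E1
  simp only [Functor.map_comp, Category.assoc] at E2
  rw [transpose_bc2] at E2
  have hc := q.adjJp.counit_naturality δ.hom
  rw [hc, q.adjJp.left_triangle_components_assoc] at E2
  rw [← E2, Adjunction.homEquiv_counit, q.gst.map_comp]
  have hn := q.e.inv.naturality a₁
  simp only [Functor.comp_map] at hn
  rw [reassoc_of% hn]

theorem glue_key (hT : Triangle.mk a (glueB q NU N' δ) d ∈ distTriang S) :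
    q.jpst.map ((q.adjF.homEquiv N N').symm (a ≫ biprod.snd)) ≫ δ.hom =
      q.e.inv.app N ≫ q.gst.map ((q.adjJ.homEquiv N NU).symm (a ≫ biprod.fst)) := by
  have hz : a ≫ glueB q NU N' δ = 0 := comp_distTriang_mor_zero₁₂ _ hT
  apply glue_key'
  rw [← sub_eq_zero, ← hz, glueB, biprod.desc_eq]
  simp only [Preadditive.comp_add, Preadditive.comp_neg, Category.assoc, sub_eq_add_neg]

include hq in
theorem glue_comp_snd_bijective (hT : Triangle.mk a (glueB q NU N' δ) d ∈ distTriang S)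
    (A : S) (hA : IsZero (q.jst.obj A)) :
    Function.Bijective (fun φ : A ⟶ N => φ ≫ a ≫ biprod.snd) := by
  have hmem : (kerProp q.jst).rightOrthogonal (q.fls.obj (q.jpls.obj (q.gst.obj NU))) :=
    fls_mem_rightOrthogonal q _ (rightAdj_obj_mem_rightOrthogonal q.adjJp _)
  have b1 : Function.Bijective (fun φ : A ⟶ N => φ ≫ a) :=
    comp_bijective_of_cone_rightOrth q.jst hA a ⟨_, _, _, hT, hmem⟩
  have b2 : Function.Bijective
      (fun g : A ⟶ q.jls.obj NU ⊞ q.fls.obj N' => g ≫ biprod.snd) := by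
    constructor
    · intro g₁ g₂ h
      simp only at h
      apply biprod.hom_ext
      · rw [rightAdj_obj_mem_rightOrthogonal q.adjJ _ (g₁ ≫ biprod.fst) hA,
          rightAdj_obj_mem_rightOrthogonal q.adjJ _ (g₂ ≫ biprod.fst) hA]
      · exact h
    · intro h
      exact ⟨h ≫ biprod.inr, by simp⟩
  have h : (fun φ : A ⟶ N => φ ≫ a ≫ biprod.snd) =
      (fun g : A ⟶ q.jls.obj NU ⊞ q.fls.obj N' => g ≫ biprod.snd) ∘ (fun φ : A ⟶ N => φ ≫ a) := by
    funext φ
    simp
  rw [h]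
  exact b2.comp b1

include hq in
theorem glue_psi_comp_bijective_fst (hT : Triangle.mk a (glueB q NU N' δ) d ∈ distTriang S)
    (A : S) (hA : IsZero (q.jst.obj A)) :
    Function.Bijective (fun x : q.fst.obj A ⟶ q.fst.obj N =>
      x ≫ (q.adjF.homEquiv N N').symm (a ≫ biprod.snd)) := by
  have b0 := glue_comp_snd_bijective q hq NU N' δ N a d hT A hA
  have b1 := fst_map_bijective q hq A N hA
  have h : (fun φ : A ⟶ N => φ ≫ a ≫ biprod.snd) =
      (q.adjF.homEquiv A N') ∘ (fun x : q.fst.obj A ⟶ q.fst.obj N =>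
      x ≫ (q.adjF.homEquiv N N').symm (a ≫ biprod.snd)) ∘ (fun φ : A ⟶ N => q.fst.map φ) := by
    funext φ
    simp only [Function.comp_apply]
    rw [Adjunction.homEquiv_naturality_left, Equiv.apply_symm_apply]
  rw [h] at b0
  have b2 := (Function.Bijective.of_comp_iff' (q.adjF.homEquiv A N').bijective _).mp b0
  exact (Function.Bijective.of_comp_iff _ b1).mp b2

include hq in
theorem glue_psi_comp_bijective (hT : Triangle.mk a (glueB q NU N' δ) d ∈ distTriang S)
    (M : S') (hM : IsZero (q.jpst.obj M)) :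
    Function.Bijective (fun x : M ⟶ q.fst.obj N =>
      x ≫ (q.adjF.homEquiv N N').symm (a ≫ biprod.snd)) := by
  have hε := hq.isIso_counitF M hM
  have b0 := glue_psi_comp_bijective_fst q hq NU N' δ N a d hT (q.fls.obj M)
    (isZero_jst_fls q hq M hM)
  have pre : ∀ Y : S', Function.Bijective (fun x : M ⟶ Y => q.adjF.counit.app M ≫ x) := by
    intro Y
    exact ⟨fun x₁ x₂ h => (cancel_epi (q.adjF.counit.app M)).mp h,
      fun y => ⟨inv (q.adjF.counit.app M) ≫ y, by simp⟩⟩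
  have h : (fun x : q.fst.obj (q.fls.obj M) ⟶ q.fst.obj N =>
      x ≫ (q.adjF.homEquiv N N').symm (a ≫ biprod.snd)) ∘
        (fun x : M ⟶ q.fst.obj N => q.adjF.counit.app M ≫ x) =
      (fun x : M ⟶ N' => q.adjF.counit.app M ≫ x) ∘ (fun x : M ⟶ q.fst.obj N =>
      x ≫ (q.adjF.homEquiv N N').symm (a ≫ biprod.snd)) := by
    funext x
    simp
  have b1 : Function.Bijective ((fun x : M ⟶ N' => q.adjF.counit.app M ≫ x) ∘
      (fun x : M ⟶ q.fst.obj N => x ≫ (q.adjF.homEquiv N N').symm (a ≫ biprod.snd))) := by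
    rw [← h]
    exact b0.comp (pre _)
  exact (Function.Bijective.of_comp_iff' (pre _) _).mp b1

include hq in
theorem glue_isIso_fst (hT : Triangle.mk a (glueB q NU N' δ) d ∈ distTriang S) :
    IsIso ((q.adjF.homEquiv N N').symm (a ≫ biprod.snd)) := by
  have h1 := glue_isIso_jst q hq NU N' δ N a d hT
  have hkey := glue_key q NU N' δ N a d hT
  have hj : IsIso (q.jpst.map ((q.adjF.homEquiv N N').symm (a ≫ biprod.snd))) := by
    have h2 : q.jpst.map ((q.adjF.homEquiv N N').symm (a ≫ biprod.snd)) =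
        (q.e.inv.app N ≫ q.gst.map ((q.adjJ.homEquiv N NU).symm (a ≫ biprod.fst))) ≫ δ.inv := by
      rw [← hkey, Category.assoc, Iso.hom_inv_id, Category.comp_id]
    rw [h2]
    infer_instance
  obtain ⟨E, e1, e2, hE⟩ := distinguished_cocone_triangle
    ((q.adjF.homEquiv N N').symm (a ≫ biprod.snd))
  have hEmem : (kerProp q.jpst).rightOrthogonal E :=
    cone_mem_rightOrthogonal (kerProp q.jpst) _ hE
      (fun M hM => glue_psi_comp_bijective q hq NU N' δ N a d hT M hM)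
  have hEzero : IsZero E := by
    apply isZero_of_mem_of_mem_rightOrthogonal (kerProp q.jpst) E _ hEmem
    change IsZero (q.jpst.obj E)
    exact Triangle.isZero₃_of_isIso₁ _ (q.jpst.map_distinguished _ hE) hj
  exact (Triangle.isZero₃_iff_isIso₁ _ hE).1 hEzero

end Glue

end Groth.Agent.H82.MV
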