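import Mathlib.LinearAlgebra.Matrix.Rank
import Mathlib.LinearAlgebra.Matrix.ToLin
import Mathlib.LinearAlgebra.LinearIndependent.Lemmas
import Mathlib.LinearAlgebra.FiniteDimensional.Lemmas
import Mathlib.Tactic

set_option autoImplicit false
set_option linter.unusedSectionVars false
universe u v

namespace Groth.Agent.H82.MatBlocks

open Matrix

variable {K : Type u} [Field K]

lemma exists_finset_basis {ι : Type*} [Fintype ι] {V : Type*} [AddCommGroup V] [Module K V]
    (v : ι → V) :
    ∃ T : Finset ι, LinearIndependent K (fun i : T => v i) ∧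
      Submodule.span K (Set.range v) ≤ Submodule.span K (Set.range (fun i : T => v i)) := by
  classical
  obtain ⟨b, -, -, hsp, hli⟩ := exists_linearIndepOn_extension (K := K) (v := v)
    (s := ∅) (t := Set.univ) (linearIndepOn_empty K v) (Set.empty_subset _)
  refine ⟨b.toFinset, ?_, ?_⟩
  · have : (fun i : b.toFinset => v i) =
        (fun x : b => v x) ∘ (fun i : b.toFinset => (⟨i.1, Set.mem_toFinset.1 i.2⟩ : b)) := rfl
    rw [this]
    apply LinearIndependent.comp hli
    intro i j hij
    have h := congrArg (fun x : b => (x : ι)) hij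
    exact Subtype.ext h
  · rw [Submodule.span_le]
    rintro _ ⟨i, rfl⟩
    have h1 := hsp ⟨i, Set.mem_univ i, rfl⟩
    refine Submodule.span_mono ?_ h1
    rintro _ ⟨j, hj, rfl⟩
    exact ⟨⟨j, Set.mem_toFinset.2 hj⟩, rfl⟩

section lc

variable {m t : Type*} [Fintype m] [Fintype t]

lemma mulVecLin_eq_lc (N : Matrix m t K) :
    N.mulVecLin = Fintype.linearCombination K (fun j : t => (fun i => N i j)) := by
  apply LinearMap.ext
  intro x
  ext i
  simp [Fintype.linearCombination_apply, Matrix.mulVec, dotProduct, mul_comm]

end lc

section L2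

variable {m n : Type*} [Fintype m] [Fintype n]

lemma exists_cols_bijective (M : Matrix m n K) (h : Function.Surjective M.mulVecLin) :
    ∃ T : Finset n, Function.Bijective (M.submatrix id (Subtype.val : T → n)).mulVecLin := by
  classical
  obtain ⟨T, hli, hsp⟩ := exists_finset_basis (K := K) (fun j : n => (fun i => M i j))
  refine ⟨T, ?_, ?_⟩
  · rw [mulVecLin_eq_lc, ← LinearMap.ker_eq_bot, LinearMap.ker_eq_bot']
    intro x hx
    rw [Fintype.linearCombination_apply] at hx
    exact funext (Fintype.linearIndependent_iff.1 hli x hx)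
  · rw [← LinearMap.range_eq_top, mulVecLin_eq_lc, Fintype.range_linearCombination, eq_top_iff]
    refine le_trans ?_ hsp
    rw [← Fintype.range_linearCombination, ← mulVecLin_eq_lc, LinearMap.range_eq_top.2 h]

lemma exists_rows_bijective (M : Matrix m n K) (h : Function.Injective M.mulVecLin) :
    ∃ S : Finset m, Function.Bijective (M.submatrix (Subtype.val : S → m) id).mulVecLin := by
  classical
  have hr : M.rank = Fintype.card n := by
    rw [Matrix.rank, LinearMap.finrank_range_of_inj h, Module.finrank_fintype_fun_eq_card]
  have hsT : Function.Surjective Mᵀ.mulVecLin := by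
    rw [← LinearMap.range_eq_top]
    apply Submodule.eq_top_of_finrank_eq
    have := Matrix.rank_transpose M
    rw [Matrix.rank] at this
    rw [this, hr, Module.finrank_fintype_fun_eq_card]
  obtain ⟨S, hS⟩ := exists_cols_bijective Mᵀ hsT
  refine ⟨S, ?_⟩
  set N' := Mᵀ.submatrix id (Subtype.val : S → m) with hN'
  have hN : M.submatrix (Subtype.val : S → m) id = N'ᵀ := by
    ext i j; rfl
  have hcard : Fintype.card S = Fintype.card n := by
    have e := LinearEquiv.ofBijective N'.mulVecLin hS
    have := e.finrank_eq
    rwa [Module.finrank_fintype_fun_eq_card, Module.finrank_fintype_fun_eq_card] at this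
  have hrN' : N'.rank = Fintype.card n := by
    rw [Matrix.rank, LinearMap.range_eq_top.2 hS.2, finrank_top, Module.finrank_fintype_fun_eq_card]
  have hsurj : Function.Surjective (N'ᵀ).mulVecLin := by
    rw [← LinearMap.range_eq_top]
    apply Submodule.eq_top_of_finrank_eq
    have := Matrix.rank_transpose N'
    rw [Matrix.rank] at this
    rw [this, hrN', Module.finrank_fintype_fun_eq_card, hcard]
  rw [hN]
  refine ⟨?_, hsurj⟩
  rw [LinearMap.injective_iff_surjective_of_finrank_eq_finrank]
  · exact hsurj
  · rw [Module.finrank_fintype_fun_eq_card, Module.finrank_fintype_fun_eq_card, hcard]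

end L2

section main

variable {N : Type v} [Fintype N] [DecidableEq N]

theorem main (A : Matrix N N K)
    (hA : LinearMap.ker A.mulVecLin = LinearMap.range A.mulVecLin) :
    ∃ N₁₂ N₂₁ N₃₁ : Finset N,
      Function.Bijective (A.submatrix (Subtype.val : ↥N₃₁ → N) (Subtype.val : ↥N₂₁ → N)).mulVecLin ∧
      Function.Bijective
        (A.submatrix (Subtype.val : {x : N // x ∉ N₂₁} → N) (Subtype.val : ↥N₁₂ → N)).mulVecLin := by
  classical
  set v : N → (N → K) := fun j => (fun i => A i j) with hv
  obtain ⟨C, hli, hsp⟩ := exists_finset_basis (K := K) v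
  -- the range of A is the span of its columns
  have hU : LinearMap.range A.mulVecLin = Submodule.span K (Set.range v) := by
    rw [mulVecLin_eq_lc, Fintype.range_linearCombination]
  have hUC : LinearMap.range A.mulVecLin = Submodule.span K (Set.range (fun i : C => v i)) := by
    apply le_antisymm
    · rw [hU]; exact hsp
    · rw [hU]
      apply Submodule.span_mono
      rintro _ ⟨i, rfl⟩
      exact ⟨i, rfl⟩
  have hrC : Module.finrank K (LinearMap.range A.mulVecLin) = C.card := by
    rw [hUC, finrank_span_eq_card hli, Fintype.card_coe]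
  have hN : Fintype.card N = 2 * C.card := by
    have := LinearMap.finrank_range_add_finrank_ker A.mulVecLin
    rw [hA, hrC, Module.finrank_fintype_fun_eq_card] at this
    omega
  have hD : Fintype.card {x : N // x ∉ C} = C.card := by
    rw [Fintype.card_subtype_compl, Fintype.card_coe, hN]
    omega
  -- injectivity of the columns in C
  have hM₁ : Function.Injective (A.submatrix id (Subtype.val : C → N)).mulVecLin := by
    rw [mulVecLin_eq_lc, ← LinearMap.ker_eq_bot, LinearMap.ker_eq_bot']
    intro x hx
    rw [Fintype.linearCombination_apply] at hx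
    exact funext (Fintype.linearIndependent_iff.1 hli x hx)
  obtain ⟨S, hS⟩ := exists_rows_bijective _ hM₁
  -- surjectivity of the rows outside C
  let pD : (N → K) →ₗ[K] ({x : N // x ∉ C} → K) := LinearMap.funLeft K K Subtype.val
  have hM₂eq : (A.submatrix (Subtype.val : {x : N // x ∉ C} → N) id).mulVecLin =
      pD ∘ₗ A.mulVecLin := by
    apply LinearMap.ext
    intro x
    ext d
    simp [pD, Matrix.mulVec, dotProduct, LinearMap.funLeft_apply]
  have hinj : Function.Injective (pD.domRestrict (LinearMap.range A.mulVecLin)) := by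
    rw [← LinearMap.ker_eq_bot, LinearMap.ker_eq_bot']
    rintro ⟨u, hu⟩ h0
    have hu0 : ∀ d : N, d ∉ C → u d = 0 := by
      intro d hd
      have := congrFun h0 ⟨d, hd⟩
      simpa [pD, LinearMap.funLeft_apply] using this
    have hker : A.mulVecLin u = 0 := by
      have : u ∈ LinearMap.ker A.mulVecLin := by rw [hA]; exact hu
      exact this
    rw [mulVecLin_eq_lc, Fintype.linearCombination_apply] at hker
    have hsum : ∑ i : C, u i • v i = 0 := by
      have hker' : ∑ i : N, u i • v i = 0 := hker
      rw [← hker', Finset.sum_coe_sort C (fun i => u i • v i)]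
      apply Finset.sum_subset (Finset.subset_univ C)
      intro j _ hj
      rw [hu0 j hj, zero_smul]
    have hC0 := Fintype.linearIndependent_iff.1 hli (fun i : C => u i) hsum
    apply Subtype.ext
    funext d
    by_cases hd : d ∈ C
    · exact hC0 ⟨d, hd⟩
    · exact hu0 d hd
  have hM₂ : Function.Surjective
      (A.submatrix (Subtype.val : {x : N // x ∉ C} → N) id).mulVecLin := by
    rw [← LinearMap.range_eq_top, hM₂eq, LinearMap.range_comp, ← LinearMap.range_domRestrict]
    apply Submodule.eq_top_of_finrank_eq
    rw [LinearMap.finrank_range_of_inj hinj, hrC, Module.finrank_fintype_fun_eq_card, hD]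
  obtain ⟨T, hT⟩ := exists_cols_bijective _ hM₂
  exact ⟨T, C, S, hS, hT⟩

end main

end Groth.Agent.H82.MatBlocks
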