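import Groth.Agent.H40.DiagMapPts
import Groth.Agent.H26.UEE2
import Mathlib

/-! A nontrivial diagonalizable group of finite type contains some `μ_r`. -/

set_option autoImplicit false
universe u

open CategoryTheory MonoidalCategory CartesianMonoidalCategory MonObj GrpObj AlgebraicGeometry
open CategoryTheory.Limits
open Groth.Agent.H42 Groth.Agent.H40

namespace Groth.Agent.H82.MuSub

/-- a nontrivial finitely generated abelian group maps onto some `ℤ/r`, `r` prime -/
theorem exists_surjective_zmod (M : Type) [AddCommGroup M] [AddGroup.FG M] [Nontrivial M] :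
    ∃ (r : ℕ) (_ : r.Prime) (φ : M →+ ZMod r), Function.Surjective φ := by
  have : Module.Finite ℤ M := Module.Finite.iff_addGroup_fg.mpr inferInstance
  obtain ⟨N, hN⟩ : ∃ N : Submodule ℤ M, IsCoatom N := by
    obtain h | ⟨N, hN, -⟩ := eq_top_or_exists_le_coatom (⊥ : Submodule ℤ M)
    · exact absurd h bot_ne_top
    · exact ⟨N, hN⟩
  have : IsSimpleModule ℤ (M ⧸ N) := isSimpleModule_iff_isCoatom.mpr hN
  obtain ⟨I, hI, ⟨e⟩⟩ := isSimpleModule_iff_quot_maximal.mp (inferInstance : IsSimpleModule ℤ (M ⧸ N))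
  -- `I = (r)` with `r` prime
  obtain ⟨r, hr⟩ : ∃ r : ℕ, I = Ideal.span {(r : ℤ)} := by
    obtain ⟨g, hg⟩ := (IsPrincipalIdealRing.principal I).principal
    refine ⟨g.natAbs, ?_⟩
    rw [hg]
    exact (Int.span_natAbs g).symm
  have hrprime : r.Prime := by
    have h1 : (Ideal.span {(r : ℤ)}).IsPrime := hr ▸ hI.isPrime
    have h0 : (r : ℤ) ≠ 0 := by
      intro h
      rw [h, Ideal.span_singleton_zero] at hr
      have hfield : IsField ℤ := Ring.isField_iff_maximal_bot.mpr (hr ▸ hI)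
      exact Int.not_isField hfield
    have := (Ideal.span_singleton_prime h0).mp h1
    exact Nat.prime_iff_prime_int.mpr this
  subst hr
  let ψ : (ℤ ⧸ Ideal.span {(r : ℤ)}) ≃+* ZMod r := Int.quotientSpanNatEquivZMod r
  refine ⟨r, hrprime, (ψ : _ →+ ZMod r).comp
    ((e : (M ⧸ N) →+ ℤ ⧸ Ideal.span {(r : ℤ)}).comp (N.mkQ : M →+ M ⧸ N)), ?_⟩
  intro z
  obtain ⟨y, rfl⟩ := ψ.surjective z
  obtain ⟨x, rfl⟩ := e.surjective y
  obtain ⟨m, rfl⟩ := N.mkQ_surjective x
  exact ⟨m, rfl⟩

section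

variable {M N : Type} [AddCommGroup M] [AddCommGroup N]

theorem isClosedImmersion_DSmap (S : Scheme.{u}) (φ : M →+ N) (hφ : Function.Surjective φ) :
    IsClosedImmersion (Red.DSmap S φ).left := by
  have h1 : IsClosedImmersion (Red.diagMap (ULift.{u} ℤ) φ).left := by
    change IsClosedImmersion (Spec.map _)
    apply IsClosedImmersion.spec_of_surjective
    intro x
    change ∃ a, (MonoidAlgebra.mapDomainAlgHom (ULift.{u} ℤ) (ULift.{u} ℤ)
      (AddMonoidHom.toMultiplicative φ)) a = x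
    have hs : Function.Surjective (AddMonoidHom.toMultiplicative φ) := hφ
    obtain ⟨y, hy⟩ := Finsupp.mapDomain_surjective hs (MonoidAlgebra.coeff x)
    refine ⟨MonoidAlgebra.ofCoeff y, ?_⟩
    apply MonoidAlgebra.coeff_injective
    simpa [MonoidAlgebra.mapDomain] using hy
  have sq := Groth.Agent.H26.isPullback_overPullback_map
    (Limits.IsTerminal.from specULiftZIsTerminal S) (Red.diagMap (ULift.{u} ℤ) φ)
  exact MorphismProperty.of_isPullback (P := @IsClosedImmersion) sq.flip h1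

end

theorem main (S : Scheme.{u}) (M : Type) [AddCommGroup M] [AddGroup.FG M] [Nontrivial M] :
    ∃ (r : ℕ) (_ : r.Prime) (j : Red.DS S (ZMod r) ⟶ Red.DS S M), IsMonHom j ∧ IsClosedImmersion j.left := by
  obtain ⟨r, hr, φ, hφ⟩ := exists_surjective_zmod M
  exact ⟨r, hr, Red.DSmap S φ, inferInstance, isClosedImmersion_DSmap S φ hφ⟩

end Groth.Agent.H82.MuSub
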