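import Mathlib
import Groth.Agent.H82.KLAlg

/-! A coaction `ρ : B → B[G]` of a diagonalizable group that is trivial modulo a nilpotent ideal
coming from the (invariant) base ring is trivial. -/

set_option autoImplicit false
universe u

namespace Groth.Agent.H82.NilAlg
open MonoidAlgebra Groth.Agent.H82.KLAlg

variable {A B : Type u} [CommRing A] [CommRing B] {G : Type} [CommMonoid G]
  (φ : A →+* B) (J : Ideal A) (ρ : B →+* MonoidAlgebra B G)

theorem coeff_mem (hinv : ∀ a, ρ (φ a) = single 1 (φ a))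
    (htriv : ∀ b g, g ≠ 1 → (ρ b).coeff g ∈ J.map φ)
    (hH : ∀ b g, ρ ((ρ b).coeff g) = single g ((ρ b).coeff g)) (n : ℕ) :
    ∀ b g, g ≠ 1 → (ρ b).coeff g ∈ (J ^ (n + 1)).map φ := by
  classical
  induction n with
  | zero =>
    intro b g hg
    simpa using htriv b g hg
  | succ n ih =>
    intro b g hg
    have h1 := ih b g hg
    obtain ⟨k, f, s, hs⟩ := Submodule.mem_span_set'.mp h1
    have h2 : (ρ ((ρ b).coeff g)).coeff g = (ρ b).coeff g := by
      rw [hH b g, coeff_single, Finsupp.single_eq_same]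
    have h3 : ρ ((ρ b).coeff g) = ∑ i, ρ (f i) * single 1 (s i : B) := by
      rw [← hs, map_sum]
      refine Finset.sum_congr rfl fun i _ => ?_
      obtain ⟨a, ha, hsa⟩ := (s i).2
      rw [smul_eq_mul, map_mul, ← hsa, hinv]
    rw [← h2, h3, coeff_sum, Finsupp.finsetSum_apply]
    refine Ideal.sum_mem _ fun i _ => ?_
    rw [coeff_mul_single_one, pow_succ', Ideal.map_mul]
    refine Ideal.mul_mem_mul (htriv _ g hg) ?_
    exact Ideal.subset_span (s i).2

theorem main (hJ : IsNilpotent J) (hinv : ∀ a, ρ (φ a) = single 1 (φ a))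
    (htriv : ∀ b g, g ≠ 1 → (ρ b).coeff g ∈ J.map φ)
    (hH : ∀ b g, ρ ((ρ b).coeff g) = single g ((ρ b).coeff g))
    (haug : ∀ b, aug (ρ b) = b) (b : B) : ρ b = single 1 b := by
  classical
  obtain ⟨N, hN⟩ := hJ
  have h0 : ∀ b g, g ≠ 1 → (ρ b).coeff g = 0 := by
    intro b g hg
    have h := coeff_mem φ J ρ hinv htriv hH N b g hg
    rw [pow_succ, hN] at h
    simpa using h
  have h1 : ρ b = single 1 ((ρ b).coeff 1) := by
    apply coeff_injective
    ext g
    rw [coeff_single, Finsupp.single_apply]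
    split_ifs with h
    · rw [h]
    · exact h0 b g (fun h' => h h'.symm)
  have h2 := haug b
  rw [h1, aug_single] at h2
  rw [h1, h2]

end Groth.Agent.H82.NilAlg
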