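import Groth.Agent.H82.KLFam
import Groth.Agent.H82.NilAlg
import Mathlib

/-! An action `c : X × D_S(M) → X` on an affine `X` which is trivial modulo a nilpotent ideal
coming from an invariant subring is trivial. -/

set_option autoImplicit false
set_option linter.unusedSectionVars false
universe u

open CategoryTheory MonoidalCategory CartesianMonoidalCategory MonObj AlgebraicGeometry
open CategoryTheory.Limits
open Groth.Agent.H42 Groth.Agent.H40 Magnet
open Groth.Agent.H82.AMonPts Groth.Agent.H82.GroupIso Groth.Agent.H82.KLAlg Groth.Agent.H82.KLFam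

namespace Groth.Agent.H82.NilAct

variable {S : Scheme.{u}} {M : Type} [AddCommGroup M]
variable (X : Over S) [IsAffine X.left] (c : X ⊗ AMonS S M ⟶ X)

/-- the coaction -/
noncomputable def rho : Γ(X.left, ⊤) →+* MonoidAlgebra Γ(X.left, ⊤) (Multiplicative M) :=
  ((RingEquiv.ofBijective (beta X M) (beta_bijective X M)).symm :
    Γ((X ⊗ AMonS S M).left, ⊤) →+* MonoidAlgebra Γ(X.left, ⊤) (Multiplicative M)).comp
    c.left.appTop.hom

theorem beta_rho (b : Γ(X.left, ⊤)) : beta X M (rho X c b) = c.left.appTop b :=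
  (RingEquiv.ofBijective (beta X M) (beta_bijective X M)).apply_symm_apply _

theorem lift_comp_appTop {T : Over S} (x : T ⟶ X) (g : T ⟶ AMonS S M) (b : Γ(X.left, ⊤)) :
    (lift x g ≫ c).left.appTop b =
      MonoidAlgebra.liftNCRingHom x.left.appTop.hom (amFn g) (fun _ _ => Commute.all _ _)
        (rho X c b) := by
  rw [Over.comp_left, Scheme.Hom.comp_appTop, CommRingCat.comp_apply, ← beta_rho, lift_beta_apply]

theorem rho_of_inv (b : Γ(X.left, ⊤))
    (hb : c.left.appTop b = (fst X (AMonS S M)).left.appTop b) :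
    rho X c b = MonoidAlgebra.single 1 b := by
  apply beta_injective X M
  rw [beta_rho, beta_single, map_one, _root_.mul_one, hb]

section A1
variable (A1 : ∀ (T : Over S) (x : T ⟶ X), lift x (1 : T ⟶ AMonS S M) ≫ c = x)
include A1

theorem aug_rho (b : Γ(X.left, ⊤)) : aug (rho X c b) = b := by
  have h := congrArg (fun f => f.left.appTop b) (A1 X (𝟙 X))
  beta_reduce at h
  rw [lift_comp_appTop, liftNC_id_one_eq_aug, Over.id_left, Scheme.Hom.id_appTop] at h
  exact h

end A1

section A2
variable (A2 : ∀ (T : Over S) (x : T ⟶ X) (g h : T ⟶ AMonS S M),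
    lift x (g * h) ≫ c = lift (lift x g ≫ c) h ≫ c)
include A2

theorem rho_coeff (b : Γ(X.left, ⊤)) (m : Multiplicative M) :
    rho X c ((rho X c b).coeff m) = MonoidAlgebra.single m ((rho X c b).coeff m) := by
  have h := congrArg (fun f => f.left.appTop b)
    (A2 _ (fst (X ⊗ AMonS S M) (AMonS S M) ≫ fst X (AMonS S M))
      (fst (X ⊗ AMonS S M) (AMonS S M) ≫ snd X (AMonS S M)) (snd (X ⊗ AMonS S M) (AMonS S M)))
  beta_reduce at h
  have h1 : lift (fst (X ⊗ AMonS S M) (AMonS S M) ≫ fst X (AMonS S M))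
      (fst (X ⊗ AMonS S M) (AMonS S M) ≫ snd X (AMonS S M)) = fst (X ⊗ AMonS S M) (AMonS S M) := by
    apply CartesianMonoidalCategory.hom_ext <;> simp
  rw [h1, lift_comp_appTop, lift_comp_appTop, liftNC_eq_gam2_diag] at h
  have h2 : (MonoidAlgebra.liftNCRingHom
      (fst (X ⊗ AMonS S M) (AMonS S M) ≫ c).left.appTop.hom
      (amFn (snd (X ⊗ AMonS S M) (AMonS S M))) (fun _ _ => Commute.all _ _) :
      MonoidAlgebra Γ(X.left, ⊤) (Multiplicative M) →+* Γ(((X ⊗ AMonS S M) ⊗ AMonS S M).left, ⊤)) =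
      (gam2 X).comp (MonoidAlgebra.mapRingHom (Multiplicative M) (rho X c)) := by
    apply MonoidAlgebra.ringHom_ext
    · intro b'
      rw [MonoidAlgebra.liftNCRingHom_single, RingHom.comp_apply, MonoidAlgebra.mapRingHom_single,
        gam2_single, map_one (amFn _), _root_.mul_one, _root_.mul_one, beta_rho, Over.comp_left,
        Scheme.Hom.comp_appTop]
      rfl
    · intro m'
      rw [MonoidAlgebra.liftNCRingHom_single, RingHom.comp_apply, MonoidAlgebra.mapRingHom_single,
        gam2_single, map_one, map_one, map_one, map_one, _root_.one_mul]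
  rw [h2] at h
  have h3 := gam2_injective X h
  have h4 := congrArg (fun p => p.coeff m) h3
  beta_reduce at h4
  rw [coeff_diag, MonoidAlgebra.coeff_mapRingHom] at h4
  exact h4.symm

end A2

section Quot

variable (I : Ideal Γ(X.left, ⊤))

/-- the closed subscheme of `X` cut out by `I` -/
noncomputable abbrev ZZ : Over S :=
  Over.mk (Spec.map (CommRingCat.ofHom (Ideal.Quotient.mk I)) ≫ X.left.isoSpec.inv ≫ X.hom)

noncomputable def zz : ZZ X I ⟶ X :=
  Over.homMk (Spec.map (CommRingCat.ofHom (Ideal.Quotient.mk I)) ≫ X.left.isoSpec.inv) (by simp)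

instance : IsAffine (ZZ X I).left :=
  inferInstanceAs (IsAffine (Spec (CommRingCat.of (Γ(X.left, ⊤) ⧸ I))))

theorem zz_appTop :
    (zz X I).left.appTop ≫ (Scheme.ΓSpecIso (CommRingCat.of (Γ(X.left, ⊤) ⧸ I))).hom =
      CommRingCat.ofHom (Ideal.Quotient.mk I) := by
  change (Spec.map (CommRingCat.ofHom (Ideal.Quotient.mk I)) ≫ X.left.isoSpec.inv).appTop ≫ _ = _
  rw [Scheme.Hom.comp_appTop, Category.assoc, Scheme.ΓSpecIso_naturality,
    LineIso.isoSpec_inv_appTop']
  exact Iso.inv_hom_id_assoc (Scheme.ΓSpecIso Γ(X.left, ⊤)) _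

theorem zz_appTop_eq_zero_iff (b : Γ(X.left, ⊤)) : (zz X I).left.appTop b = 0 ↔ b ∈ I := by
  have h := ConcreteCategory.congr_hom (zz_appTop X I) b
  rw [CommRingCat.comp_apply] at h
  change _ = Ideal.Quotient.mk I b at h
  rw [← Ideal.Quotient.eq_zero_iff_mem, ← h]
  constructor
  · intro h0
    rw [h0, map_zero]
  · intro h0
    have hinj : Function.Injective
        (Scheme.ΓSpecIso (CommRingCat.of (Γ(X.left, ⊤) ⧸ I))).hom :=
      (ConcreteCategory.bijective_of_isIso _).1
    apply hinj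
    rw [h0, map_zero]

theorem coeff_mem_of_triv
    (htriv : lift (fst (ZZ X I) (AMonS S M) ≫ zz X I) (snd (ZZ X I) (AMonS S M)) ≫ c =
      fst (ZZ X I) (AMonS S M) ≫ zz X I)
    (b : Γ(X.left, ⊤)) (m : Multiplicative M) (hm : m ≠ 1) : (rho X c b).coeff m ∈ I := by
  classical
  have h := congrArg (fun f => f.left.appTop b) htriv
  beta_reduce at h
  rw [lift_comp_appTop] at h
  have h2 : (MonoidAlgebra.liftNCRingHom
      (fst (ZZ X I) (AMonS S M) ≫ zz X I).left.appTop.hom
      (amFn (snd (ZZ X I) (AMonS S M))) (fun _ _ => Commute.all _ _) :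
      MonoidAlgebra Γ(X.left, ⊤) (Multiplicative M) →+* Γ((ZZ X I ⊗ AMonS S M).left, ⊤)) =
      (beta (ZZ X I) M).comp
        (MonoidAlgebra.mapRingHom (Multiplicative M) (zz X I).left.appTop.hom) := by
    apply MonoidAlgebra.ringHom_ext
    · intro b'
      rw [MonoidAlgebra.liftNCRingHom_single, RingHom.comp_apply, MonoidAlgebra.mapRingHom_single,
        beta_single, map_one (amFn _), _root_.mul_one, _root_.mul_one, Over.comp_left,
        Scheme.Hom.comp_appTop]
      rfl
    · intro m'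
      rw [MonoidAlgebra.liftNCRingHom_single, RingHom.comp_apply, MonoidAlgebra.mapRingHom_single,
        beta_single, map_one, map_one, map_one, _root_.one_mul]
  rw [h2, RingHom.comp_apply] at h
  have h3 : (fst (ZZ X I) (AMonS S M) ≫ zz X I).left.appTop b =
      beta (ZZ X I) M (MonoidAlgebra.single 1 ((zz X I).left.appTop b)) := by
    rw [beta_single, map_one, _root_.mul_one, Over.comp_left, Scheme.Hom.comp_appTop]
    rfl
  rw [h3] at h
  have h4 := beta_injective (ZZ X I) M h
  have h5 := congrArg (fun p => p.coeff m) h4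
  beta_reduce at h5
  rw [MonoidAlgebra.coeff_mapRingHom, MonoidAlgebra.coeff_single, Finsupp.single_apply,
    if_neg (fun h => hm h.symm)] at h5
  exact (zz_appTop_eq_zero_iff X I _).mp h5

end Quot

theorem main {A : Type u} [CommRing A] (φ : A →+* Γ(X.left, ⊤)) (J : Ideal A)
    (hJ : IsNilpotent J)
    (A1 : ∀ (T : Over S) (x : T ⟶ X), lift x (1 : T ⟶ AMonS S M) ≫ c = x)
    (A2 : ∀ (T : Over S) (x : T ⟶ X) (g h : T ⟶ AMonS S M),
      lift x (g * h) ≫ c = lift (lift x g ≫ c) h ≫ c)
    (hinv : ∀ a, c.left.appTop (φ a) = (fst X (AMonS S M)).left.appTop (φ a))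
    (htriv : ∀ (T : Over S) (x : T ⟶ X) (g : T ⟶ AMonS S M),
      (∀ a ∈ J, x.left.appTop (φ a) = 0) → lift x g ≫ c = x) :
    c = fst X (AMonS S M) := by
  have k1 : ∀ a, rho X c (φ a) = MonoidAlgebra.single 1 (φ a) :=
    fun a => rho_of_inv X c _ (hinv a)
  have k2 : ∀ (b : Γ(X.left, ⊤)) (m : Multiplicative M), m ≠ 1 →
      (rho X c b).coeff m ∈ J.map φ := by
    intro b m hm
    refine coeff_mem_of_triv X c (J.map φ) (htriv _ _ _ ?_) b m hm
    intro a ha
    rw [Over.comp_left, Scheme.Hom.comp_appTop, CommRingCat.comp_apply,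
      (zz_appTop_eq_zero_iff X (J.map φ) (φ a)).mpr (Ideal.mem_map_of_mem φ ha), map_zero]
  have k3 : ∀ (b : Γ(X.left, ⊤)) (m : Multiplicative M),
      rho X c ((rho X c b).coeff m) = MonoidAlgebra.single m ((rho X c b).coeff m) :=
    rho_coeff X c A2
  have k4 : ∀ b : Γ(X.left, ⊤), aug (rho X c b) = b := aug_rho X c A1
  have key : ∀ b, rho X c b = MonoidAlgebra.single 1 b :=
    NilAlg.main (A := A) (B := Γ(X.left, ⊤)) (G := Multiplicative M) φ J (rho X c) hJ k1 k2 k3 k4
  apply Over.OverMorphism.ext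
  apply ext_of_isAffine
  refine CommRingCat.hom_ext (RingHom.ext fun b => ?_)
  change c.left.appTop b = (fst X (AMonS S M)).left.appTop b
  rw [← beta_rho, key, beta_single, map_one, _root_.mul_one]

end Groth.Agent.H82.NilAct
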