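import Mathlib

/-! Lifting through a closed immersion: a morphism landing in an affine open and killing the ideal
there factors through the closed subscheme. -/

set_option autoImplicit false
universe u

open CategoryTheory AlgebraicGeometry

namespace Groth.Agent.H82.NilLift

theorem aux {S T : Scheme.{u}} (U : S.Opens) (t' : T ⟶ U.toScheme) (a : Γ(U.toScheme, ⊤))
    (e : ⊤ ≤ (t' ≫ U.ι) ⁻¹ᵁ (U.ι ''ᵁ ⊤)) :
    (t' ≫ U.ι).appLE (U.ι ''ᵁ ⊤) ⊤ e a = t'.appTop a := by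
  rw [Scheme.Hom.comp_appLE]
  simp only [Scheme.Hom.appLE, Scheme.Opens.ι_app, CommRingCat.comp_apply]
  have h1 := t'.naturality (homOfLE (le_top : U.ι ⁻¹ᵁ U.ι ''ᵁ ⊤ ≤ ⊤)).op
  have h2 := ConcreteCategory.congr_hom h1 a
  simp only [CommRingCat.comp_apply] at h2
  change (T.presheaf.map _) ((t'.app _) ((U.toScheme.presheaf.map (homOfLE le_top).op) a)) = _
  rw [h2, ← CommRingCat.comp_apply, ← CategoryTheory.Functor.map_comp]
  have h3 : ∀ (f : (Opposite.op (⊤ : T.Opens)) ⟶ Opposite.op ⊤) (x : Γ(T, ⊤)),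
      T.presheaf.map f x = x := by
    intro f x
    rw [show f = 𝟙 _ from Subsingleton.elim _ _, CategoryTheory.Functor.map_id]
    rfl
  exact h3 _ _

theorem exists_lift' {S S₀ T : Scheme.{u}} (i₀ : S₀ ⟶ S) [IsClosedImmersion i₀]
    (U : S.affineOpens) (t' : T ⟶ U.1.toScheme)
    (h : ∀ (hU : ⊤ ≤ (t' ≫ U.1.ι) ⁻¹ᵁ U.1), ∀ a ∈ i₀.ker.ideal U,
      (t' ≫ U.1.ι).appLE U.1 ⊤ hU a = 0) : ∃ p : T ⟶ S₀, p ≫ i₀ = t' ≫ U.1.ι := by
  have : IsAffine U.1.toScheme := U.2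
  have key : ∀ (U'' : S.affineOpens) (_ : U'' = U) (hU : ⊤ ≤ (t' ≫ U.1.ι) ⁻¹ᵁ U''.1),
      ∀ a ∈ i₀.ker.ideal U'', (t' ≫ U.1.ι).appLE U''.1 ⊤ hU a = 0 := by
    rintro _ rfl
    exact h
  have H : (i₀ ∣_ U.1).ker ≤ t'.ker := by
    apply Scheme.IdealSheafData.le_of_isAffine
    rw [Scheme.ker_morphismRestrict_ideal, Scheme.ker_of_isAffine t']
    intro a ha
    simp only [Scheme.IdealSheafData.ofIdealTop_ideal]
    have h4 : (U.1.toScheme.presheaf.map (homOfLE (le_top : (⊤ : U.1.toScheme.Opens) ≤ ⊤)).op) = 𝟙 _ := by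
      rw [show (homOfLE (le_top : (⊤ : U.1.toScheme.Opens) ≤ ⊤)) = 𝟙 _ from Subsingleton.elim _ _]
      exact CategoryTheory.Functor.map_id _ _
    rw [h4, CommRingCat.hom_id, Ideal.map_id, RingHom.mem_ker]
    have h5 := key ⟨U.1.ι ''ᵁ ⊤, _⟩ (Subtype.ext (by simp)) (by simp) a ha
    rw [aux] at h5
    exact h5
  refine ⟨IsClosedImmersion.lift (i₀ ∣_ U.1) t' H ≫ (i₀ ⁻¹ᵁ U.1).ι, ?_⟩
  rw [Category.assoc, ← morphismRestrict_ι, IsClosedImmersion.lift_fac_assoc]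

theorem exists_lift {S S₀ T : Scheme.{u}} (i₀ : S₀ ⟶ S) [IsClosedImmersion i₀] (t : T ⟶ S)
    (U : S.affineOpens) (hU : ⊤ ≤ t ⁻¹ᵁ U.1)
    (h : ∀ a ∈ i₀.ker.ideal U, t.appLE U.1 ⊤ hU a = 0) : ∃ p : T ⟶ S₀, p ≫ i₀ = t := by
  have hr : Set.range t ⊆ Set.range U.1.ι := by
    rintro _ ⟨z, rfl⟩
    rw [Scheme.Opens.range_ι]
    exact hU (show z ∈ (⊤ : T.Opens) from trivial)
  obtain ⟨t', rfl⟩ : ∃ t' : T ⟶ U.1.toScheme, t' ≫ U.1.ι = t :=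
    ⟨IsOpenImmersion.lift U.1.ι t hr, IsOpenImmersion.lift_fac _ _ _⟩
  exact exists_lift' i₀ U t' (fun _ => h)

end Groth.Agent.H82.NilLift
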