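import Groth.Agent.H82.NilAct
import Groth.Agent.H82.NilLift
import Groth.Agent.H82.CentMT
import Mathlib

/-! An action `cB : Xb × D_B(M) → Xb` over a base `B → S` which is trivial on points lying over a
closed subscheme `S₀ ⊆ S` with locally nilpotent ideal is trivial. -/

set_option autoImplicit false
set_option linter.unusedSectionVars false
universe u

open CategoryTheory MonoidalCategory CartesianMonoidalCategory MonObj AlgebraicGeometry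
open CategoryTheory.Limits
open Groth.Agent.H42 Groth.Agent.H40 Magnet
open Groth.Agent.H82.AMonPts Groth.Agent.H82.GroupIso Groth.Agent.H82.KLAlg Groth.Agent.H82.KLFam

namespace Groth.Agent.H82.NilAct2

theorem appLE_eq_zero_of_isReduced {S T : Scheme.{u}} [IsReduced T] (t : T ⟶ S) (U : S.Opens)
    (hU : ⊤ ≤ t ⁻¹ᵁ U) (J : Ideal Γ(S, U)) (hJ : IsNilpotent J) (a : Γ(S, U)) (ha : a ∈ J) :
    t.appLE U ⊤ hU a = 0 := by
  obtain ⟨N, hN⟩ := hJ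
  have h1 : a ^ N = 0 := by
    have := Ideal.pow_mem_pow ha N
    rw [hN] at this
    exact this
  have h2 : (t.appLE U ⊤ hU a) ^ N = 0 := by rw [← map_pow, h1, map_zero]
  exact IsNilpotent.eq_zero ⟨N, h2⟩

theorem appTop_appLE {S T T' : Scheme.{u}} (f : T' ⟶ T) (ψ : T ⟶ S) (U : S.Opens)
    (e : ⊤ ≤ ψ ⁻¹ᵁ U) (e' : ⊤ ≤ (f ≫ ψ) ⁻¹ᵁ U) (a : Γ(S, U)) :
    f.appTop (ψ.appLE U ⊤ e a) = (f ≫ ψ).appLE U ⊤ e' a := by
  have h := Scheme.Hom.appLE_comp_appLE f ψ U ⊤ ⊤ e le_top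
  have h' : f.appLE ⊤ ⊤ le_top = f.appTop := by
    simp [Scheme.Hom.appLE, Scheme.Hom.appTop]
  rw [h'] at h
  exact ConcreteCategory.congr_hom h a

theorem appLE_congr {S T : Scheme.{u}} {ψ ψ' : T ⟶ S} (h : ψ = ψ') (U : S.Opens)
    (e : ⊤ ≤ ψ ⁻¹ᵁ U) (e' : ⊤ ≤ ψ' ⁻¹ᵁ U) (a : Γ(S, U)) :
    ψ.appLE U ⊤ e a = ψ'.appLE U ⊤ e' a := by
  subst h
  rfl

section Main

variable {S S₀ B : Scheme.{u}} (i₀ : S₀ ⟶ S) [IsClosedImmersion i₀]
  (hnil : ∀ x : S, ∃ U : S.affineOpens, x ∈ (U : S.Opens) ∧ IsNilpotent (i₀.ker.ideal U))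
  (w : B ⟶ S) (Xb : Over B) {M : Type} [AddCommGroup M] (cB : Xb ⊗ AMonS B M ⟶ Xb)
  (A1 : ∀ (T : Over B) (x : T ⟶ Xb), lift x (1 : T ⟶ AMonS B M) ≫ cB = x)
  (A2 : ∀ (T : Over B) (x : T ⟶ Xb) (g h : T ⟶ AMonS B M),
    lift x (g * h) ≫ cB = lift (lift x g ≫ cB) h ≫ cB)
  (H0 : ∀ (T : Over B) (p : T.left ⟶ S₀), p ≫ i₀ = T.hom ≫ w →
    ∀ τ : T ⟶ Xb ⊗ AMonS B M, τ ≫ cB = τ ≫ fst Xb (AMonS B M))

theorem exists_lift_of_isReduced (T : Scheme.{u}) [IsReduced T] (t : T ⟶ S) (U : S.affineOpens)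
    (hU : ⊤ ≤ t ⁻¹ᵁ U.1) (hJ : IsNilpotent (i₀.ker.ideal U)) : ∃ p : T ⟶ S₀, p ≫ i₀ = t :=
  NilLift.exists_lift i₀ t U hU (fun a ha => appLE_eq_zero_of_isReduced t U.1 hU _ hJ a ha)

include hnil H0 in
theorem cB_apply (y : (Xb ⊗ AMonS B M).left) :
    cB.left y = (fst Xb (AMonS B M)).left y := by
  let P := Xb ⊗ AMonS B M
  let σ := P.left.fromSpecResidueField y
  let T : Over B := Over.mk (σ ≫ P.hom)
  let τ : T ⟶ P := Over.homMk σ rfl
  obtain ⟨U, hyU, hJ⟩ := hnil ((P.hom ≫ w) y)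
  have hU : ⊤ ≤ (T.hom ≫ w) ⁻¹ᵁ U.1 := by
    intro z _
    change (σ ≫ P.hom ≫ w) z ∈ U.1
    rw [Scheme.Hom.comp_apply, Scheme.fromSpecResidueField_apply]
    exact hyU
  have : IsReduced T.left := inferInstanceAs (IsReduced (Spec (P.left.residueField y)))
  obtain ⟨p, hp⟩ := exists_lift_of_isReduced i₀ T.left (T.hom ≫ w) U hU hJ
  have h1 := H0 T p hp τ
  obtain ⟨z⟩ : Nonempty (Spec (P.left.residueField y)) := inferInstance
  have h2 := congrArg (fun m => m.left z) h1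
  simp only [Over.comp_left, Scheme.Hom.comp_apply] at h2
  have hz : τ.left z = y := Scheme.fromSpecResidueField_apply _ _
  rw [hz] at h2
  exact h2

include hnil A1 A2 H0 in
theorem whisker_eq (W : Xb.left.Opens) (hW : IsAffineOpen W) (U : S.affineOpens)
    (hWU : ∀ z : W.toScheme, (W.ι ≫ Xb.hom ≫ w) z ∈ U.1) (hJ : IsNilpotent (i₀.ker.ideal U)) :
    ((Over.homMk W.ι rfl : Over.mk (W.ι ≫ Xb.hom) ⟶ Xb) ▷ AMonS B M) ≫ cB =
      ((Over.homMk W.ι rfl : Over.mk (W.ι ≫ Xb.hom) ⟶ Xb) ▷ AMonS B M) ≫ fst Xb (AMonS B M) := by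
  let X' : Over B := Over.mk (W.ι ≫ Xb.hom)
  let jW : X' ⟶ Xb := Over.homMk W.ι rfl
  have : IsAffine X'.left := hW
  have hmono : Mono jW := Over.mono_of_mono_left jW
  have hr : Set.range ((jW ▷ AMonS B M) ≫ cB).left ⊆ Set.range W.ι := by
    rintro _ ⟨y, rfl⟩
    rw [Over.comp_left, Scheme.Hom.comp_apply, cB_apply i₀ hnil w Xb cB H0,
      ← Scheme.Hom.comp_apply, ← Over.comp_left, whiskerRight_fst, Over.comp_left,
      Scheme.Hom.comp_apply]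
    exact ⟨_, rfl⟩
  let cW0 : (X' ⊗ AMonS B M).left ⟶ W.toScheme :=
    IsOpenImmersion.lift W.ι ((jW ▷ AMonS B M) ≫ cB).left hr
  have hcW0 : cW0 ≫ W.ι = ((jW ▷ AMonS B M) ≫ cB).left := IsOpenImmersion.lift_fac _ _ _
  let cW : X' ⊗ AMonS B M ⟶ X' := Over.homMk cW0 (by
    change cW0 ≫ W.ι ≫ Xb.hom = _
    rw [← Category.assoc, hcW0]
    exact Over.w _)
  have hcW : cW ≫ jW = (jW ▷ AMonS B M) ≫ cB := Over.OverMorphism.ext hcW0
  have hU' : ⊤ ≤ (X'.hom ≫ w) ⁻¹ᵁ U.1 := fun z _ => hWU z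
  let φ : Γ(S, U.1) →+* Γ(X'.left, ⊤) := ((X'.hom ≫ w).appLE U.1 ⊤ hU').hom
  have A1' : ∀ (T : Over B) (x : T ⟶ X'), lift x (1 : T ⟶ AMonS B M) ≫ cW = x := by
    intro T x
    rw [← cancel_mono jW, Category.assoc, hcW, lift_whiskerRight_assoc, A1]
  have A2' : ∀ (T : Over B) (x : T ⟶ X') (g h : T ⟶ AMonS B M),
      lift x (g * h) ≫ cW = lift (lift x g ≫ cW) h ≫ cW := by
    intro T x g h
    rw [← cancel_mono jW, Category.assoc, hcW, lift_whiskerRight_assoc, A2, Category.assoc, hcW,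
      lift_whiskerRight_assoc, Category.assoc, hcW, lift_whiskerRight_assoc]
  have hinv : ∀ a, cW.left.appTop (φ a) = (fst X' (AMonS B M)).left.appTop (φ a) := by
    intro a
    have e1 : ⊤ ≤ (cW.left ≫ X'.hom ≫ w) ⁻¹ᵁ U.1 := fun z _ => hWU _
    have e2 : ⊤ ≤ ((fst X' (AMonS B M)).left ≫ X'.hom ≫ w) ⁻¹ᵁ U.1 := fun z _ => hWU _
    change cW.left.appTop ((X'.hom ≫ w).appLE U.1 ⊤ hU' a) =
      (fst X' (AMonS B M)).left.appTop ((X'.hom ≫ w).appLE U.1 ⊤ hU' a)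
    rw [appTop_appLE _ _ _ hU' e1, appTop_appLE _ _ _ hU' e2]
    refine appLE_congr ?_ _ _ _ _
    rw [← Category.assoc, ← Category.assoc, Over.w, Over.w]
  have htriv : ∀ (T : Over B) (x : T ⟶ X') (g : T ⟶ AMonS B M),
      (∀ a ∈ i₀.ker.ideal U, x.left.appTop (φ a) = 0) → lift x g ≫ cW = x := by
    intro T x g hx
    have hUT : ⊤ ≤ (T.hom ≫ w) ⁻¹ᵁ U.1 := by
      intro z _
      have h1 : T.hom ≫ w = x.left ≫ X'.hom ≫ w := by rw [← Category.assoc, Over.w]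
      change (T.hom ≫ w) z ∈ U.1
      rw [h1, Scheme.Hom.comp_apply]
      exact hWU _
    have hkill : ∀ a ∈ i₀.ker.ideal U, (T.hom ≫ w).appLE U.1 ⊤ hUT a = 0 := by
      intro a ha
      have e1 : ⊤ ≤ (x.left ≫ X'.hom ≫ w) ⁻¹ᵁ U.1 := fun z _ => hWU _
      have h2 := hx a ha
      change x.left.appTop ((X'.hom ≫ w).appLE U.1 ⊤ hU' a) = 0 at h2
      rw [appTop_appLE _ _ _ hU' e1] at h2
      rw [← h2]
      refine appLE_congr ?_ _ _ _ _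
      rw [← Category.assoc, Over.w]
    obtain ⟨p, hp⟩ := NilLift.exists_lift i₀ (T.hom ≫ w) U hUT hkill
    have h3 := H0 T p hp (lift x g ≫ (jW ▷ AMonS B M))
    rw [← cancel_mono jW, Category.assoc, hcW, ← Category.assoc, h3, Category.assoc,
      whiskerRight_fst, ← Category.assoc, lift_fst]
  have key := NilAct.main X' cW φ (i₀.ker.ideal U) hJ A1' A2' hinv htriv
  rw [← hcW, key, whiskerRight_fst]

include hnil A1 A2 H0 in
theorem main : cB = fst Xb (AMonS B M) := by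
  apply Over.OverMorphism.ext
  apply CentMT.hom_ext_of_forall_open
  intro z
  obtain ⟨U, hsU, hJ⟩ := hnil ((Xb.hom ≫ w) ((fst Xb (AMonS B M)).left z))
  obtain ⟨W, hW, hx₀, hWN⟩ := exists_isAffineOpen_mem_and_subset
    (x := (fst Xb (AMonS B M)).left z) (U := (Xb.hom ≫ w) ⁻¹ᵁ U.1) hsU
  have hWU : ∀ y : W.toScheme, (W.ι ≫ Xb.hom ≫ w) y ∈ U.1 := by
    intro y
    rw [Scheme.Hom.comp_apply]
    exact hWN y.2
  let O : (Xb ⊗ AMonS B M).left.Opens := (fst Xb (AMonS B M)).left ⁻¹ᵁ W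
  refine ⟨O.toScheme, O.ι, inferInstance, ?_, ?_⟩
  · rw [Scheme.Opens.range_ι]
    exact hx₀
  · let X' : Over B := Over.mk (W.ι ≫ Xb.hom)
    let jW : X' ⟶ Xb := Over.homMk W.ι rfl
    let T : Over B := Over.mk (O.ι ≫ (Xb ⊗ AMonS B M).hom)
    let τ : T ⟶ Xb ⊗ AMonS B M := Over.homMk O.ι rfl
    have hr : Set.range (O.ι ≫ (fst Xb (AMonS B M)).left) ⊆ Set.range W.ι := by
      rintro _ ⟨y, rfl⟩
      rw [Scheme.Opens.range_ι, Scheme.Hom.comp_apply]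
      exact y.2
    let x0 : T.left ⟶ W.toScheme := IsOpenImmersion.lift W.ι (O.ι ≫ (fst Xb (AMonS B M)).left) hr
    have hx0 : x0 ≫ W.ι = O.ι ≫ (fst Xb (AMonS B M)).left := IsOpenImmersion.lift_fac _ _ _
    let x' : T ⟶ X' := Over.homMk x0 (by
      change x0 ≫ W.ι ≫ Xb.hom = O.ι ≫ (Xb ⊗ AMonS B M).hom
      rw [← Category.assoc, hx0, Category.assoc, Over.w])
    have hx' : x' ≫ jW = τ ≫ fst Xb (AMonS B M) := Over.OverMorphism.ext hx0
    have hτ : τ = lift x' (τ ≫ snd Xb (AMonS B M)) ≫ (jW ▷ AMonS B M) := by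
      rw [lift_whiskerRight, hx']
      apply CartesianMonoidalCategory.hom_ext <;> simp
    have h1 := whisker_eq i₀ hnil w Xb cB A1 A2 H0 W hW U hWU hJ
    have h2 : τ ≫ cB = τ ≫ fst Xb (AMonS B M) := by
      rw [hτ, Category.assoc, h1, Category.assoc]
    exact congrArg (fun m => m.left) h2

end Main

end Groth.Agent.H82.NilAct2
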