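import Groth.Prelude.Def_EGA4b
import Groth.Prelude.Def_AssocGrMod
import Mathlib.RingTheory.Flat.Basic
import Mathlib.Tactic

set_option autoImplicit false
set_option linter.style.haveILetI false
universe u

namespace Groth.Agent.H82.NormFlat

open AssocGr DirectSum

variable {A : Type u} [CommRing A] (I : Ideal A) (M : Type u) [AddCommGroup M] [Module A M]

/-- the `n`-th piece `IⁿM / I·IⁿM`. -/
abbrev Pc (n : ℕ) : Type u :=
  ↥(I ^ n • (⊤ : Submodule A M)) ⧸ (I • (⊤ : Submodule A ↥(I ^ n • (⊤ : Submodule A M))))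

/-- `x ↦ class of x·Xⁿ`, as an `A`-linear map. -/
noncomputable def ell (n : ℕ) :
    ↥(I ^ n • (⊤ : Submodule A M)) →ₗ[A] GrMod (Rees.powFilt I M) where
  toFun x := mkGM (Rees.powFilt I M) (monomM (Rees.powFilt I M) n x)
  map_add' x y := congrArg Subtype.val (map_add (inDegM (Rees.powFilt I M) n) x y)
  map_smul' a x := coe_inDegM_smul (Rees.powFilt I M) n a x

lemma ell_apply (n : ℕ) (x : ↥(I ^ n • (⊤ : Submodule A M))) :
    ell I M n x = mkGM (Rees.powFilt I M) (monomM (Rees.powFilt I M) n x) := rfl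

lemma ell_eq_zero_iff (n : ℕ) (x : ↥(I ^ n • (⊤ : Submodule A M))) :
    ell I M n x = 0 ↔ x ∈ (I • (⊤ : Submodule A ↥(I ^ n • (⊤ : Submodule A M)))) := by
  have h1 := inDegM_eq_zero_iff (Rees.powFilt I M) n x
  rw [← ZeroMemClass.coe_eq_zero, coe_inDegM] at h1
  rw [ell_apply, h1, Submodule.mem_smul_top_iff]
  change (x : M) ∈ I ^ (n + 1) • (⊤ : Submodule A M) ↔ _
  rw [pow_succ', Submodule.mul_smul]


/-- the induced map on the quotient piece, `A`-linear. -/
noncomputable def psiA (n : ℕ) : Pc I M n →ₗ[A] GrMod (Rees.powFilt I M) :=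
  Submodule.liftQ _ (ell I M n) (fun x hx => (ell_eq_zero_iff I M n x).2 hx)

lemma psiA_mk (n : ℕ) (x : ↥(I ^ n • (⊤ : Submodule A M))) :
    psiA I M n (Submodule.Quotient.mk x) = ell I M n x := rfl

lemma psiA_injective (n : ℕ) : Function.Injective (psiA I M n) := by
  rw [← LinearMap.ker_eq_bot]
  exact Submodule.ker_liftQ_eq_bot _ _ _ (fun x hx => (ell_eq_zero_iff I M n x).1 hx)

/-- the same map, `A ⧸ I`-linear. -/
noncomputable def psi (n : ℕ) : Pc I M n →ₗ[A ⧸ I] GrMod (Rees.powFilt I M) :=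
  (psiA I M n).extendScalarsOfSurjective Ideal.Quotient.mk_surjective

lemma psi_apply (n : ℕ) (z : Pc I M n) : psi I M n z = psiA I M n z := rfl

lemma psi_mem (n : ℕ) (z : Pc I M n) : psi I M n z ∈ grM (Rees.powFilt I M) n := by
  obtain ⟨x, rfl⟩ := Submodule.Quotient.mk_surjective _ z
  exact (inDegM (Rees.powFilt I M) n x).2

lemma exists_psi_eq (n : ℕ) (g : GrMod (Rees.powFilt I M)) (hg : g ∈ grM (Rees.powFilt I M) n) :
    ∃ z : Pc I M n, psi I M n z = g := by
  obtain ⟨x, hx⟩ := inDegM_surjective (Rees.powFilt I M) n ⟨g, hg⟩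
  exact ⟨Submodule.Quotient.mk x, congrArg Subtype.val hx⟩

/-- the total map. -/
noncomputable def Psi : (⨁ n, Pc I M n) →ₗ[A ⧸ I] GrMod (Rees.powFilt I M) :=
  DirectSum.toModule (A ⧸ I) ℕ _ (fun n => psi I M n)

lemma Psi_of (n : ℕ) (z : Pc I M n) : Psi I M (DirectSum.of _ n z) = psi I M n z := by
  rw [Psi]
  exact DirectSum.toModule_lof (A ⧸ I) n z

lemma decompose_Psi (z : ⨁ n, Pc I M n) (n : ℕ) :
    (decompose (grM (Rees.powFilt I M)) (Psi I M z) n : GrMod (Rees.powFilt I M)) =
      psi I M n (z n) := by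
  classical
  induction z using DirectSum.induction_on with
  | zero => simp
  | of m w =>
    rw [Psi_of]
    by_cases h : m = n
    · subst h
      rw [DirectSum.decompose_of_mem_same _ (psi_mem I M m w), DirectSum.of_eq_same]
    · rw [DirectSum.decompose_of_mem_ne _ (psi_mem I M m w) h, DirectSum.of_eq_of_ne _ _ _ (Ne.symm h),
        map_zero]
  | add x y hx hy =>
    rw [map_add, DirectSum.decompose_add, DirectSum.add_apply, AddSubgroup.coe_add, hx, hy,
      DirectSum.add_apply, map_add]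

lemma Psi_injective : Function.Injective (Psi I M) := by
  rw [injective_iff_map_eq_zero]
  intro z hz
  ext n
  have h := decompose_Psi I M z n
  rw [hz, DirectSum.decompose_zero, DirectSum.zero_apply, ZeroMemClass.coe_zero] at h
  have := psiA_injective I M n (a₁ := z n) (a₂ := 0) (by rw [map_zero]; exact h.symm)
  rw [this]; rfl

lemma Psi_surjective : Function.Surjective (Psi I M) := by
  classical
  intro g
  rw [← DirectSum.sum_support_decompose (grM (Rees.powFilt I M)) g]
  have : ∀ n, ∃ z : ⨁ n, Pc I M n, Psi I M z =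
      (decompose (grM (Rees.powFilt I M)) g n : GrMod (Rees.powFilt I M)) := by
    intro n
    obtain ⟨z, hz⟩ := exists_psi_eq I M n _ (decompose (grM (Rees.powFilt I M)) g n).2
    exact ⟨DirectSum.of _ n z, by rw [Psi_of, hz]⟩
  choose z hz using this
  refine ⟨∑ n ∈ (decompose (grM (Rees.powFilt I M)) g).support, z n, ?_⟩
  rw [map_sum]
  exact Finset.sum_congr rfl (fun n _ => hz n)

theorem main : EGA4.IsNormallyFlat I M ↔ Module.Flat (A ⧸ I) (GrMod (Rees.powFilt I M)) := by
  rw [← Module.Flat.equiv_iff (LinearEquiv.ofBijective (Psi I M)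
    ⟨Psi_injective I M, Psi_surjective I M⟩), Module.Flat.directSum_iff]
  rfl

end Groth.Agent.H82.NormFlat
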