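import Groth.Agent.H82.ValExt

/-! Valuative criterion for points in the closure of the image of a morphism of affine schemes
over an algebraically closed field (helper82). -/

set_option autoImplicit false
set_option linter.style.haveILetI false
universe u

namespace Groth.Agent.H82.OrbitVal

open IsLocalRing

variable {k : Type u} [Field k] [IsAlgClosed k]

/-- If the kernel of `φ : P → A` is contained in the kernel of the `k`-point `y` of `P` (so `y`
lies in the closure of the image of `Spec A → Spec P`), there are a valuation ring `R` over `k`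
with residue field `k`, a point of `A` with values in the fraction field of `R` whose image
in `Spec P` extends to an `R`-point specializing to `y`. -/
theorem main {A P : Type u} [CommRing A] [Algebra k A] [CommRing P] [Algebra k P]
    (φ : P →ₐ[k] A) (y : P →ₐ[k] k) (hy : RingHom.ker φ ≤ RingHom.ker y) :
    ∃ (R : Type u) (_ : CommRing R) (_ : IsDomain R) (_ : ValuationRing R) (_ : Algebra k R)
      (res : R →ₐ[k] k) (Ξ : A →ₐ[k] FractionRing R) (h : P →ₐ[k] R),
      RingHom.ker res = IsLocalRing.maximalIdeal R ∧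
        (IsScalarTower.toAlgHom k R (FractionRing R)).comp h = Ξ.comp φ ∧ res.comp h = y := by
  classical
  haveI hyp : (RingHom.ker y).IsPrime := RingHom.ker_isPrime y
  -- a prime of `A` whose contraction lies in the kernel of `y`
  have hdisj : Disjoint ((⊥ : Ideal A) : Set A)
      ((RingHom.ker y).primeCompl.map (φ : P →* A) : Submonoid A) := by
    rw [Set.disjoint_left]
    rintro a ha ⟨f, hf, rfl⟩
    have ha0 : φ f = 0 := ha
    exact hf (hy ha0)
  obtain ⟨𝔭, h𝔭, -, h𝔭T⟩ := Ideal.exists_le_prime_disjoint ⊥ _ hdisj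
  haveI := h𝔭
  let φ' : P →ₐ[k] FractionRing (A ⧸ 𝔭) :=
    (IsScalarTower.toAlgHom k (A ⧸ 𝔭) (FractionRing (A ⧸ 𝔭))).comp
      ((Ideal.Quotient.mkₐ k 𝔭).comp φ)
  have hφ'ker : RingHom.ker φ' ≤ RingHom.ker y := by
    intro f hf
    by_contra hyf
    have h1 : algebraMap (A ⧸ 𝔭) (FractionRing (A ⧸ 𝔭)) (Ideal.Quotient.mk 𝔭 (φ f)) = 0 := hf
    have h2 : Ideal.Quotient.mk 𝔭 (φ f) = 0 :=
      (IsFractionRing.injective (A ⧸ 𝔭) (FractionRing (A ⧸ 𝔭))) (by rw [h1, map_zero])
    rw [Ideal.Quotient.eq_zero_iff_mem] at h2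
    exact (Set.disjoint_left.mp h𝔭T) h2 ⟨f, hyf, rfl⟩
  -- the induced point of the image
  have hker' : ∀ a : P, a ∈ RingHom.ker φ'.rangeRestrict → y a = 0 := by
    intro a ha
    rw [AlgHom.ker_rangeRestrict] at ha
    exact hφ'ker ha
  let ybar : φ'.range →ₐ[k] k :=
    (Ideal.Quotient.liftₐ (RingHom.ker φ'.rangeRestrict) y hker').comp
      ((Ideal.quotientKerAlgEquivOfSurjective
        (f := φ'.rangeRestrict) φ'.rangeRestrict_surjective).symm : φ'.range →ₐ[k] _)
  have hybar : ∀ f : P, ybar ⟨φ' f, ⟨f, rfl⟩⟩ = y f := by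
    intro f
    have h1 : (Ideal.quotientKerAlgEquivOfSurjective
        (f := φ'.rangeRestrict) φ'.rangeRestrict_surjective).symm ⟨φ' f, ⟨f, rfl⟩⟩ =
        Ideal.Quotient.mk _ f := by
      rw [AlgEquiv.symm_apply_eq]
      rfl
    simp only [ybar, AlgHom.comp_apply, AlgEquiv.coe_toAlgHom]
    rw [h1]
    rfl
  obtain ⟨V, hk, hB, res, hres1, hres2, hres3⟩ :=
    Groth.Agent.H82.ValExt.exists_valuationSubring φ'.range ybar
  letI algV : Algebra k V :=
    ((algebraMap k (FractionRing (A ⧸ 𝔭))).codRestrict V.toSubring hk).toAlgebra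
  have halgV : ∀ c : k, ((algebraMap k V c : V) : FractionRing (A ⧸ 𝔭)) =
      algebraMap k (FractionRing (A ⧸ 𝔭)) c := fun c => rfl
  let resA : V →ₐ[k] k := { res with commutes' := fun c => hres1 c }
  let hA : P →ₐ[k] V :=
    { toFun := fun f => ⟨φ' f, hB _ ⟨f, rfl⟩⟩
      map_one' := Subtype.ext (map_one φ')
      map_mul' := fun a b => Subtype.ext (map_mul φ' a b)
      map_zero' := Subtype.ext (map_zero φ')
      map_add' := fun a b => Subtype.ext (map_add φ' a b)
      commutes' := fun c => Subtype.ext (AlgHom.commutes φ' c) }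
  let E : FractionRing V ≃ₐ[V] FractionRing (A ⧸ 𝔭) :=
    FractionRing.algEquiv V (FractionRing (A ⧸ 𝔭))
  let Ξr : A →+* FractionRing V :=
    ((E.symm : FractionRing (A ⧸ 𝔭) ≃+* FractionRing V) : _ →+* _).comp
      ((algebraMap (A ⧸ 𝔭) (FractionRing (A ⧸ 𝔭))).comp (Ideal.Quotient.mk 𝔭))
  have hE : ∀ v : V, E.symm (v : FractionRing (A ⧸ 𝔭)) = algebraMap V (FractionRing V) v := by
    intro v
    rw [AlgEquiv.symm_apply_eq, AlgEquiv.commutes]
    rfl
  let Ξ : A →ₐ[k] FractionRing V :=
    { Ξr with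
      commutes' := fun c => by
        change E.symm (algebraMap (A ⧸ 𝔭) (FractionRing (A ⧸ 𝔭))
          (Ideal.Quotient.mk 𝔭 (algebraMap k A c))) = _
        have h1 : algebraMap (A ⧸ 𝔭) (FractionRing (A ⧸ 𝔭))
            (Ideal.Quotient.mk 𝔭 (algebraMap k A c)) =
            ((algebraMap k V c : V) : FractionRing (A ⧸ 𝔭)) := by
          rw [halgV]
          rw [IsScalarTower.algebraMap_apply k (A ⧸ 𝔭) (FractionRing (A ⧸ 𝔭))]
          rfl
        rw [h1, hE]
        exact (IsScalarTower.algebraMap_apply k V (FractionRing V) c).symm }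
  refine ⟨V, inferInstance, inferInstance, inferInstance, algV, resA, Ξ, hA, hres3, ?_, ?_⟩
  · ext f
    change algebraMap V (FractionRing V) (hA f) = E.symm (φ' f)
    rw [← hE]
    rfl
  · ext f
    change res ⟨φ' f, _⟩ = y f
    rw [hres2 ⟨φ' f, ⟨f, rfl⟩⟩, hybar]

end Groth.Agent.H82.OrbitVal
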