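import Mathlib.FieldTheory.PerfectClosure
import Mathlib.FieldTheory.IsPerfectClosure
import Mathlib.RingTheory.RingHom.FaithfullyFlat
import Mathlib.RingTheory.RingHom.Flat
import Mathlib.RingTheory.Flat.EquationalCriterion
import Mathlib.RingTheory.Ideal.GoingUp
import Mathlib.Algebra.BigOperators.Finsupp.Basic
import Mathlib.Data.Set.Finite.Lattice
import Mathlib.Tactic

/-!
# A ring with a `p`-basis has a faithfully flat perfect closure

The "directed cover" flatness lemma below is adapted from helper4's `Groth.Agent.H4.DirFlat`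
and the `p`-radical spectrum lemmas from helper71's `Groth.Agent.H71.PerfClosure` (copied so
that this file is self-contained).
-/

set_option autoImplicit false
set_option linter.style.haveILetI false
universe u v w

namespace Groth.Agent.H82.PBasis

section cover

variable {A : Type u} {B : Type v} [CommRing A] [CommRing B] [Algebra A B]
variable {J : Type w} {C : J → Type v} [∀ j, CommRing (C j)] [∀ j, Algebra A (C j)]
variable (ι : ∀ j, C j →ₐ[A] B)

/-- directedness of the family. -/
def Dir : Prop := ∀ j1 j2, ∃ (j3 : J) (u1 : C j1 →ₐ[A] C j3) (u2 : C j2 →ₐ[A] C j3),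
  (ι j3).comp u1 = ι j1 ∧ (ι j3).comp u2 = ι j2

/-- joint surjectivity. -/
def Surj : Prop := ∀ b : B, ∃ (j : J) (c : C j), ι j c = b

/-- vanishing is detected at a later stage. -/
def Inj : Prop := ∀ (j : J) (c : C j), ι j c = 0 →
  ∃ (j' : J) (u : C j →ₐ[A] C j'), (ι j').comp u = ι j ∧ u c = 0

variable {ι}

theorem directed_range (hd : Dir ι) : Directed (· ⊆ ·) (fun j => Set.range (ι j)) := by
  intro j1 j2
  obtain ⟨j3, u1, u2, h1, h2⟩ := hd j1 j2
  refine ⟨j3, ?_, ?_⟩
  · rintro _ ⟨c, rfl⟩
    exact ⟨u1 c, by rw [← h1]; rfl⟩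
  · rintro _ ⟨c, rfl⟩
    exact ⟨u2 c, by rw [← h2]; rfl⟩

theorem nonempty_of_surj (hs : Surj ι) : Nonempty J := by
  obtain ⟨j, -, -⟩ := hs 0
  exact ⟨j⟩

theorem exists_lift_fin (hd : Dir ι) (hs : Surj ι) {l : ℕ} (x : Fin l → B) :
    ∃ (j : J) (x' : Fin l → C j), ∀ i, ι j (x' i) = x i := by
  classical
  haveI := nonempty_of_surj hs
  have hcov : ((Finset.univ.image x : Finset B) : Set B) ⊆ ⋃ j, Set.range (ι j) := by
    intro b _
    obtain ⟨j, c, rfl⟩ := hs b
    exact Set.mem_iUnion.2 ⟨j, c, rfl⟩
  obtain ⟨j, hj⟩ := (directed_range hd).exists_mem_subset_of_finset_subset_biUnion hcov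
  have : ∀ i, ∃ c : C j, ι j c = x i := fun i => hj (by simp)
  choose x' hx' using this
  exact ⟨j, x', hx'⟩

/-- Flatness passes to a directed cover limit. -/
theorem flat_of_cover (hd : Dir ι) (hs : Surj ι) (hi : Inj ι)
    (hflat : ∀ j, Module.Flat A (C j)) : Module.Flat A B := by
  refine Module.Flat.of_forall_isTrivialRelation ?_
  intro l f x hfx
  obtain ⟨j, x', hx'⟩ := exists_lift_fin hd hs x
  have h0 : ι j (∑ i, f i • x' i) = 0 := by
    rw [map_sum, ← hfx]
    refine Finset.sum_congr rfl fun i _ => ?_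
    rw [map_smul, hx']
  obtain ⟨j', u, hu, hu0⟩ := hi j _ h0
  have hrel : ∑ i, f i • u (x' i) = 0 := by
    rw [← hu0, map_sum]
    refine Finset.sum_congr rfl fun i _ => ?_
    rw [map_smul]
  obtain ⟨k, a, y, hxy, hfa⟩ := (hflat j').isTrivialRelation_of_sum_smul_eq_zero hrel
  refine ⟨k, a, fun m => ι j' (y m), fun i => ?_, hfa⟩
  have : x i = ι j' (u (x' i)) := by
    rw [← hx' i, ← hu]; rfl
  rw [this, show u (x' i) = _ from hxy i, map_sum]
  refine Finset.sum_congr rfl fun m _ => ?_
  rw [map_smul]

end cover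

section pradical

open Polynomial

theorem isPRadical_isIntegral (p : ℕ) [Fact p.Prime] {A A' : Type*} [CommRing A] [CommRing A']
    (i : A →+* A') [IsPRadical i p] : i.IsIntegral := by
  intro a'
  obtain ⟨n, a, ha⟩ := IsPRadical.pow_mem i p a'
  have hp : p ^ n ≠ 0 := pow_ne_zero _ (Fact.out : p.Prime).ne_zero
  refine ⟨X ^ (p ^ n) - C a, monic_X_pow_sub_C a hp, ?_⟩
  simp [ha]

theorem comap_surjective_of_isPRadical (p : ℕ) [Fact p.Prime] {B B' : Type*} [CommRing B]
    [CommRing B'] (j : B →+* B') [IsPRadical j p] : Function.Surjective (PrimeSpectrum.comap j) := by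
  intro Q
  let _ : Algebra B B' := j.toAlgebra
  have hint : Algebra.IsIntegral B B' := ⟨isPRadical_isIntegral p j⟩
  have hker : (⊥ : Ideal B').comap (algebraMap B B') ≤ Q.asIdeal := by
    intro b hb
    have hb' : b ∈ RingHom.ker j := by
      rw [RingHom.mem_ker]
      have : algebraMap B B' b = 0 := by simpa using hb
      exact this
    have h1 := pNilradical_le_nilradical (IsPRadical.ker_le j p hb')
    exact (nilradical_le_prime Q.asIdeal) h1
  obtain ⟨Q', -, hQ'prime, hQ'⟩ := Ideal.exists_ideal_over_prime_of_isIntegral Q.asIdeal ⊥ hker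
  exact ⟨⟨Q', hQ'prime⟩, PrimeSpectrum.ext hQ'⟩

end pradical


section frob

variable (p : ℕ) [Fact p.Prime] (R : Type u) [CommRing R] [CharP R p]

/-- A copy of `R`, seen as an `R`-algebra through the `n`-th iterate of Frobenius. -/
@[nolint unusedArguments]
def FC (_p : ℕ) (R : Type u) (_n : ℕ) : Type u := R

instance (n : ℕ) : CommRing (FC p R n) := inferInstanceAs (CommRing R)

/-- the identity ring isomorphism. -/
def FC.e (n : ℕ) : FC p R n ≃+* R := RingEquiv.refl R

instance instAlgFC (n : ℕ) : Algebra R (FC p R n) :=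
  (((FC.e p R n).symm : R →+* FC p R n).comp (iterateFrobenius R p n)).toAlgebra

lemma algebraMap_FC (n : ℕ) (r : R) :
    algebraMap R (FC p R n) r = (FC.e p R n).symm (r ^ p ^ n) := rfl

instance : Algebra R (PerfectClosure R p) := (PerfectClosure.of R p).toAlgebra

lemma algebraMap_PC (r : R) : algebraMap R (PerfectClosure R p) r = PerfectClosure.of R p r := rfl

/-- the transition maps `c ↦ c ^ p ^ (m - n)`. -/
noncomputable def T (n m : ℕ) (h : n ≤ m) : FC p R n →ₐ[R] FC p R m where
  toRingHom := ((FC.e p R m).symm : R →+* FC p R m).comp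
    ((iterateFrobenius R p (m - n) : R →+* R).comp (FC.e p R n : FC p R n →+* R))
  commutes' r := by
    change (FC.e p R m).symm ((iterateFrobenius R p (m - n)) (r ^ p ^ n)) =
      (FC.e p R m).symm (r ^ p ^ m)
    rw [iterateFrobenius_def, ← pow_mul, ← pow_add, Nat.add_sub_cancel' h]

lemma T_apply (n m : ℕ) (h : n ≤ m) (c : FC p R n) :
    T p R n m h c = (FC.e p R m).symm ((FC.e p R n c) ^ p ^ (m - n)) := rfl

/-- `c ↦ mk (n, c)`. -/
noncomputable def iota (n : ℕ) : FC p R n →ₐ[R] PerfectClosure R p where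
  toRingHom := ((iterateFrobeniusEquiv (PerfectClosure R p) p n).symm :
      PerfectClosure R p →+* PerfectClosure R p).comp
        ((PerfectClosure.of R p).comp (FC.e p R n : FC p R n →+* R))
  commutes' r := by
    change (iterateFrobeniusEquiv (PerfectClosure R p) p n).symm
      (PerfectClosure.of R p (r ^ p ^ n : R)) = PerfectClosure.of R p r
    rw [RingEquiv.symm_apply_eq, map_pow, iterateFrobeniusEquiv_def]

lemma iota_apply (n : ℕ) (c : FC p R n) :
    iota p R n c = PerfectClosure.mk R p (n, FC.e p R n c) := by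
  change (iterateFrobeniusEquiv (PerfectClosure R p) p n).symm
    (PerfectClosure.of R p (FC.e p R n c)) = _
  rw [RingEquiv.symm_apply_eq, coe_iterateFrobeniusEquiv, coe_iterateFrobenius,
    PerfectClosure.iterate_frobenius_mk]

lemma iota_T (n m : ℕ) (h : n ≤ m) : (iota p R m).comp (T p R n m h) = iota p R n := by
  ext c
  rw [AlgHom.comp_apply, iota_apply, iota_apply, T_apply, RingEquiv.apply_symm_apply,
    PerfectClosure.mk_eq_iff]
  refine ⟨0, ?_⟩
  simp only [add_zero]
  rw [← coe_iterateFrobenius, ← coe_iterateFrobenius, iterateFrobenius_def, iterateFrobenius_def,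
    ← pow_mul, ← pow_add, Nat.sub_add_cancel h]

lemma dir_iota : Dir (iota p R) := by
  intro j1 j2
  exact ⟨j1 + j2, T p R j1 _ (Nat.le_add_right _ _), T p R j2 _ (Nat.le_add_left _ _),
    iota_T p R _ _ _, iota_T p R _ _ _⟩

lemma surj_iota : Surj (iota p R) := by
  intro b
  induction b using PerfectClosure.induction_on with
  | _ x =>
    obtain ⟨n, c⟩ := x
    exact ⟨n, (FC.e p R n).symm c, by rw [iota_apply, RingEquiv.apply_symm_apply]⟩

lemma inj_iota : Inj (iota p R) := by
  intro n c hc
  rw [iota_apply, PerfectClosure.zero_def, PerfectClosure.mk_eq_iff] at hc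
  obtain ⟨z, hz⟩ := hc
  simp only [zero_add] at hz
  rw [← coe_iterateFrobenius, ← coe_iterateFrobenius, map_zero, iterateFrobenius_def] at hz
  refine ⟨n + z, T p R n _ (Nat.le_add_right _ _), iota_T p R _ _ _, ?_⟩
  rw [T_apply, Nat.add_sub_cancel_left, hz, map_zero]

lemma flat_FC (n : ℕ) (h : (iterateFrobenius R p n).Flat) : Module.Flat R (FC p R n) := h

lemma iterateFrobenius_flat (h : (frobenius R p).Flat) (n : ℕ) : (iterateFrobenius R p n).Flat := by
  induction n with
  | zero =>
    rw [iterateFrobenius_zero]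
    exact RingHom.Flat.id R
  | succ n ih =>
    have : iterateFrobenius R p (n + 1) = (frobenius R p).comp (iterateFrobenius R p n) := by
      rw [add_comm, iterateFrobenius_add, iterateFrobenius_one]
    rw [this]
    exact RingHom.Flat.comp ih h

/-- A copy of `R`, seen as an `R`-algebra through Frobenius. -/
@[nolint unusedArguments]
def FT (_p : ℕ) (R : Type u) : Type u := R

instance : CommRing (FT p R) := inferInstanceAs (CommRing R)

/-- the identity ring isomorphism. -/
def FT.e : FT p R ≃+* R := RingEquiv.refl R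

instance instAlgFT : Algebra R (FT p R) :=
  (((FT.e p R).symm : R →+* FT p R).comp (frobenius R p)).toAlgebra

lemma smul_FT (r : R) (y : FT p R) : r • y = (FT.e p R).symm (r ^ p * FT.e p R y) := rfl

lemma frobenius_flat_of_flat_FT (h : Module.Flat R (FT p R)) : (frobenius R p).Flat := h

variable {R} in
/-- the `p`-basis expansion map as a linear map. -/
noncomputable def expand {ι : Type u} (x : ι → R) :
    ({e : ι →₀ ℕ // ∀ i, e i < p} →₀ R) →ₗ[R] FT p R where
  toFun c := (FT.e p R).symm (c.sum (fun e r => r ^ p * e.1.prod (fun i n => x i ^ n)))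
  map_add' c d := by
    rw [← map_add]
    congr 1
    refine Finsupp.sum_add_index' (fun e => ?_) (fun e a b => ?_)
    · rw [zero_pow (Fact.out : p.Prime).ne_zero, zero_mul]
    · rw [add_pow_char, add_mul]
  map_smul' a c := by
    rw [RingHom.id_apply, smul_FT, RingEquiv.apply_symm_apply]
    congr 1
    rw [Finsupp.sum_smul_index' (fun e => by rw [zero_pow (Fact.out : p.Prime).ne_zero, zero_mul]),
      Finsupp.mul_sum]
    refine Finsupp.sum_congr (fun e _ => ?_)
    rw [smul_eq_mul, mul_pow, mul_assoc]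

theorem frobenius_flat {ι : Type u} (x : ι → R)
    (hx : Function.Bijective
      (fun c : {e : ι →₀ ℕ // ∀ i, e i < p} →₀ R =>
        c.sum (fun e r => r ^ p * e.1.prod (fun i n => x i ^ n)))) :
    (frobenius R p).Flat := by
  apply frobenius_flat_of_flat_FT
  have hb : Function.Bijective (expand p x) := hx
  exact Module.Flat.of_linearEquiv (LinearEquiv.ofBijective (expand p x) hb).symm

theorem main {ι : Type u} (x : ι → R)
    (hx : Function.Bijective
      (fun c : {e : ι →₀ ℕ // ∀ i, e i < p} →₀ R =>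
        c.sum (fun e r => r ^ p * e.1.prod (fun i n => x i ^ n)))) :
    (PerfectClosure.of R p).FaithfullyFlat := by
  rw [RingHom.FaithfullyFlat.iff_flat_and_comap_surjective]
  refine ⟨?_, comap_surjective_of_isPRadical p (PerfectClosure.of R p)⟩
  have hF := frobenius_flat p R x hx
  have : Module.Flat R (PerfectClosure R p) :=
    flat_of_cover (dir_iota p R) (surj_iota p R) (inj_iota p R)
      (fun n => flat_FC p R n (iterateFrobenius_flat p R hF n))
  exact this

end frob

end Groth.Agent.H82.PBasis
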