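import Groth.Agent.H82.AttrFix
import Groth.Prelude.Def_RedSub

/-! The quotient of `D(N)` by `D(N/K)` is `D(K)`. -/

set_option autoImplicit false
universe u

open CategoryTheory MonoidalCategory CartesianMonoidalCategory MonObj GrpObj AlgebraicGeometry
open CategoryTheory.Limits Opposite
open Groth.Agent.H42 Groth.Agent.H40

namespace Groth.Agent.H82.QuotDS

variable {S : Scheme.{u}} {M N : Type} [AddCommGroup M] [AddCommGroup N]

theorem fg_of_le (hN : AddGroup.FG N) (K : AddSubgroup N) : AddGroup.FG K := by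
  have : Module.Finite ℤ N := Module.Finite.iff_addGroup_fg.mpr hN
  have : IsNoetherian ℤ N := inferInstance
  have h1 : (AddSubgroup.toIntSubmodule K).FG := IsNoetherian.noetherian _
  have h2 : Module.Finite ℤ (AddSubgroup.toIntSubmodule K) := Module.Finite.iff_fg.mpr h1
  exact Module.Finite.iff_addGroup_fg.mp h2

theorem fp_diagMap (φ : M →+ N) (hM : AddGroup.FG M) (hN : AddGroup.FG N) :
    LocallyOfFinitePresentation (Red.diagMap (ULift.{u} ℤ) φ).left := by
  change LocallyOfFinitePresentation (Spec.map _)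
  rw [HasRingHomProperty.Spec_iff (P := @LocallyOfFinitePresentation)]
  have h1 : AddMonoid.FG M := AddGroup.fg_iff_addMonoid_fg.mp hM
  have h2 : AddMonoid.FG N := AddGroup.fg_iff_addMonoid_fg.mp hN
  have h1' : Monoid.FG (Multiplicative M) := inferInstance
  have h2' : Monoid.FG (Multiplicative N) := inferInstance
  have hnoeth : IsNoetherianRing (ULift.{u} ℤ) := isNoetherianRing_of_ringEquiv ℤ ULift.ringEquiv.symm
  have hft : (algebraMap (ULift.{u} ℤ) (MonoidAlgebra (ULift.{u} ℤ) (Multiplicative M))).FiniteType :=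
    RingHom.finiteType_algebraMap.mpr inferInstance
  have hfp : (algebraMap (ULift.{u} ℤ) (MonoidAlgebra (ULift.{u} ℤ) (Multiplicative N))).FinitePresentation := by
    have h3 : Algebra.FiniteType (ULift.{u} ℤ) (MonoidAlgebra (ULift.{u} ℤ) (Multiplicative N)) := inferInstance
    have h4 : Algebra.FinitePresentation (ULift.{u} ℤ) (MonoidAlgebra (ULift.{u} ℤ) (Multiplicative N)) :=
      Algebra.FinitePresentation.of_finiteType.mp h3
    exact RingHom.finitePresentation_algebraMap.mpr h4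
  let g : MonoidAlgebra (ULift.{u} ℤ) (Multiplicative M) →+* MonoidAlgebra (ULift.{u} ℤ) (Multiplicative N) :=
    (MonoidAlgebra.mapDomainAlgHom (ULift.{u} ℤ) (ULift.{u} ℤ) (AddMonoidHom.toMultiplicative φ)).toRingHom
  change g.FinitePresentation
  have hcomp : g.comp (algebraMap (ULift.{u} ℤ) (MonoidAlgebra (ULift.{u} ℤ) (Multiplicative M))) =
      algebraMap (ULift.{u} ℤ) (MonoidAlgebra (ULift.{u} ℤ) (Multiplicative N)) :=
    (MonoidAlgebra.mapDomainAlgHom (ULift.{u} ℤ) (ULift.{u} ℤ)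
      (AddMonoidHom.toMultiplicative φ)).comp_algebraMap
  refine RingHom.FinitePresentation.of_comp_finiteType
    (algebraMap (ULift.{u} ℤ) (MonoidAlgebra (ULift.{u} ℤ) (Multiplicative M))) ?_ hft
  rw [hcomp]
  exact hfp

theorem lfp_DSmap (φ : M →+ N) (hM : AddGroup.FG M) (hN : AddGroup.FG N) :
    LocallyOfFinitePresentation (Red.DSmap S φ).left := by
  have sq := Groth.Agent.H26.isPullback_overPullback_map
    (Limits.IsTerminal.from specULiftZIsTerminal S) (Red.diagMap (ULift.{u} ℤ) φ)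
  exact MorphismProperty.of_isPullback (P := @LocallyOfFinitePresentation) sq.flip
    (fp_diagMap.{u} φ hM hN)


theorem isPullback_of_points {C : Type*} [Category C] {P X Y Z : C} (f : P ⟶ X) (g : P ⟶ Y)
    (h : X ⟶ Z) (k : Y ⟶ Z) (w : f ≫ h = g ≫ k)
    (hex : ∀ (W : C) (a : W ⟶ X) (b : W ⟶ Y), a ≫ h = b ≫ k → ∃ c : W ⟶ P, c ≫ f = a ∧ c ≫ g = b)
    (huniq : ∀ (W : C) (c c' : W ⟶ P), c ≫ f = c' ≫ f → c ≫ g = c' ≫ g → c = c') :
    IsPullback f g h k := by
  refine ⟨⟨w⟩, ⟨PullbackCone.IsLimit.mk w (fun s => (hex _ s.fst s.snd s.condition).choose)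
    (fun s => (hex _ s.fst s.snd s.condition).choose_spec.1)
    (fun s => (hex _ s.fst s.snd s.condition).choose_spec.2) ?_⟩⟩
  intro s m h1 h2
  apply huniq
  · rw [h1, (hex _ s.fst s.snd s.condition).choose_spec.1]
  · rw [h2, (hex _ s.fst s.snd s.condition).choose_spec.2]

section Act

variable {G H : Over S} [GrpObj G] (i : H ⟶ G)

theorem act_eq : (G ◁ i) ≫ μ[G] = fst G H * (snd G H ≫ i) := by
  rw [Hom.mul_def]
  congr 1

theorem comp_act {W : Over S} (c : W ⟶ G ⊗ H) :
    c ≫ (G ◁ i) ≫ μ[G] = (c ≫ fst G H) * ((c ≫ snd G H) ≫ i) := by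
  rw [act_eq, MonObj.comp_mul, Category.assoc]

end Act

theorem isQuotient_DSmap (K : AddSubgroup N) (hN : AddGroup.FG N) :
    RedSub.IsQuotient (Red.DSmap S (QuotientAddGroup.mk' K)) (Red.DSmap S K.subtype) := by
  obtain ⟨h1, h2, -⟩ := AttrFix.cov_DSmap (S := S) K.subtype Subtype.val_injective
  refine ⟨h2, h1, lfp_DSmap K.subtype (fg_of_le hN K) hN, ?_⟩
  have hmono : Mono (Red.DSmap S (QuotientAddGroup.mk' K)) :=
    ⟨fun z z' h => TorusHom.DSmap_mono_of_surjective _ (QuotientAddGroup.mk'_surjective K) z z' h⟩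
  apply isPullback_of_points
  · rw [act_eq, MonObj.mul_comp, Category.assoc]
    have := AttrFix.comp_DSmap_mk_subtype (S := S) K (snd (Red.DS S N) (Red.DS S (N ⧸ K)))
    rw [Category.assoc] at this
    rw [this, _root_.mul_one]
  · intro W a b hab
    obtain ⟨z, hz⟩ := AttrFix.exists_eq_mul_of_comp_eq K b a hab.symm
    refine ⟨lift a z, lift_fst _ _, ?_⟩
    rw [comp_act, lift_fst, lift_snd, hz]
  · intro W c c' hf hg
    rw [comp_act, comp_act, hf] at hg
    have h3 : (c ≫ snd _ _) ≫ Red.DSmap S (QuotientAddGroup.mk' K) =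
        (c' ≫ snd _ _) ≫ Red.DSmap S (QuotientAddGroup.mk' K) := by
      have h5 := congrArg (fun t => (c' ≫ fst (Red.DS S N) (Red.DS S (N ⧸ K)))⁻¹ * t) hg
      simpa using h5
    have h4 := (cancel_mono _).mp h3
    apply CartesianMonoidalCategory.hom_ext _ _ hf h4

end Groth.Agent.H82.QuotDS
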