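import Mathlib
import Groth.Prelude.Def_HopfRep
import Groth.Agent.H82.LieKolchin
import Groth.Agent.H82.FlagGroup
import Groth.Agent.H83.Flag

/-! The derived group of a trigonalizable group acts unipotently (helper82). -/

set_option autoImplicit false

open TensorProduct WithConv HopfRep Groth.Agent.H40 Groth.Agent.H75 Groth.Agent.H82.LieKolchin
  Groth.Agent.H82.FlagGroup
open scoped commutatorElement

namespace Groth.Agent.H82.SolvUnip

universe u v

variable {k : Type u} [Field k] {A : Type v} [CommRing A] [HopfAlgebra k A]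

/-- commutators of points of a trigonalizable group act unipotently on every finite-dimensional
comodule -/
theorem isNilpotent_rep_sub_one (hT : IsTrigonalizable k A)
    (V : Type v) [AddCommGroup V] [Module k V] [Comod k A V] [Module.Finite k V]
    (g : WithConv (A →ₐ[k] k)) (hg : g ∈ commutator (WithConv (A →ₐ[k] k))) :
    IsNilpotent (rep V g - 1) := by
  classical
  obtain ⟨F, hmono, hsub, hrk⟩ := Groth.Agent.H83.exists_flag (k := k) (A := A) hT V
  set n := Module.finrank k V with hn
  have h0 : F 0 = ⊥ := by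
    have := hrk 0 (Nat.zero_le _)
    exact Submodule.finrank_eq_zero.mp this
  have hm : F n = ⊤ := by
    apply Submodule.eq_top_of_finrank_eq
    exact hrk n le_rfl
  let ρ : WithConv (A →ₐ[k] k) →* Module.End k V := rep V
  have ρ_mul : ∀ g h, ρ (g * h) = ρ g * ρ h := fun g h => map_mul ρ g h
  have ρ_one : ρ 1 = 1 := map_one ρ
  have ρ_inv : ∀ g, ρ g * ρ g⁻¹ = 1 := fun g => by rw [← ρ_mul, mul_inv_cancel, ρ_one]
  have hpres : ∀ (g : WithConv (A →ₐ[k] k)) i, ∀ v ∈ F i, ρ g v ∈ F i := by
    intro g i v hv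
    have h1 := hsub i v hv
    rw [mem_range_rTensor_subtype_iff] at h1
    exact h1 (lin g)
  -- the unitriangular subgroup
  let U : Subgroup (WithConv (A →ₐ[k] k)) :=
    { carrier := {g | ∀ i, ∀ v ∈ F (i + 1), (ρ g - 1) v ∈ F i}
      mul_mem' := by
        intro g h hg hh i v hv
        have e : (ρ (g * h) - 1) v = (ρ g - 1) (ρ h v) + (ρ h - 1) v := by
          rw [ρ_mul]
          simp only [LinearMap.sub_apply, Module.End.mul_apply, Module.End.one_apply]
          abel
        rw [e]
        exact Submodule.add_mem _ (hg i _ (hpres h _ v hv)) (hh i v hv)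
      one_mem' := by
        intro i v _
        rw [ρ_one]
        simp
      inv_mem' := by
        intro g hg i v hv
        have e : (ρ g⁻¹ - 1) v = -((ρ g - 1) (ρ g⁻¹ v)) := by
          have h1 : ρ g (ρ g⁻¹ v) = v := by
            rw [← Module.End.mul_apply, ρ_inv, Module.End.one_apply]
          simp only [LinearMap.sub_apply, Module.End.one_apply, h1]
          abel
        rw [e]
        exact Submodule.neg_mem _ (hg i _ (hpres g⁻¹ _ v hv)) }
  -- scalars on the graded pieces
  have hscal : ∀ (g : WithConv (A →ₐ[k] k)) i, ∃ χ : k, ∀ w ∈ F (i + 1), ρ g w - χ • w ∈ F i := by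
    intro g i
    by_cases hi : i + 1 ≤ n
    · refine exists_scalar_mod (ρ g) (F i) (F (i + 1)) (hmono (Nat.le_succ i)) ?_
        (hpres g _) (hpres g _)
      rw [hrk (i + 1) hi, hrk i (by omega)]
    · have : F i = ⊤ := by
        rw [eq_top_iff, ← hm]
        exact hmono (by omega)
      exact ⟨0, fun w _ => by rw [this]; trivial⟩
  have hcomm : ∀ g h : WithConv (A →ₐ[k] k), g * h * g⁻¹ * h⁻¹ ∈ U := by
    intro g h i v hv
    set w : V := ρ g⁻¹ (ρ h⁻¹ v) with hw
    have hwF : w ∈ F (i + 1) := hpres _ _ _ (hpres _ _ _ hv)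
    obtain ⟨χ, hχ⟩ := hscal g i
    obtain ⟨χ', hχ'⟩ := hscal h i
    have e : (ρ (g * h * g⁻¹ * h⁻¹) - 1) v = ρ g (ρ h w) - ρ h (ρ g w) := by
      have h1 : ρ h (ρ g w) = v := by
        rw [hw, ← Module.End.mul_apply (ρ g), ρ_inv, Module.End.one_apply,
          ← Module.End.mul_apply (ρ h), ρ_inv, Module.End.one_apply]
      have h2 : ρ (g * h * g⁻¹ * h⁻¹) v = ρ g (ρ h w) := by
        rw [ρ_mul, ρ_mul, ρ_mul]
        rfl
      simp only [LinearMap.sub_apply, Module.End.one_apply, h2, h1]
    rw [e]
    have e2 : ρ g (ρ h w) - ρ h (ρ g w) =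
        ρ g (ρ h w - χ' • w) - ρ h (ρ g w - χ • w) + (χ' • (ρ g w - χ • w) - χ • (ρ h w - χ' • w)) := by
      simp only [map_sub, map_smul, smul_sub, smul_smul]
      rw [mul_comm χ χ']
      abel
    rw [e2]
    refine Submodule.add_mem _ (Submodule.sub_mem _ (hpres g _ _ (hχ' w hwF)) (hpres h _ _ (hχ w hwF)))
      (Submodule.sub_mem _ (Submodule.smul_mem _ _ (hχ w hwF)) (Submodule.smul_mem _ _ (hχ' w hwF)))
  have hle : commutator (WithConv (A →ₐ[k] k)) ≤ U := by
    rw [commutator_def, Subgroup.commutator_le]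
    intro g _ h _
    rw [commutatorElement_def]
    exact hcomm g h
  have hgU : g ∈ U := hle hg
  -- nilpotency
  have key : ∀ j i, ∀ v ∈ F (i + j), ((ρ g - 1) ^ j) v ∈ F i := by
    intro j
    induction j with
    | zero =>
      intro i v hv
      simpa using hv
    | succ j ih =>
      intro i v hv
      rw [pow_succ, Module.End.mul_apply]
      apply ih
      have : i + (j + 1) = (i + j) + 1 := by ring
      rw [this] at hv
      exact hgU (i + j) v hv
  refine ⟨n, ?_⟩
  ext v
  have := key n 0 v (by rw [zero_add, hm]; trivial)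
  rw [h0, Submodule.mem_bot] at this
  rw [this]
  rfl

end Groth.Agent.H82.SolvUnip
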