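import Mathlib.RingTheory.Smooth.StandardSmooth
import Mathlib.RingTheory.Extension.Presentation.Submersive

set_option autoImplicit false
universe u

namespace Groth.Agent.H82.SubmE

open MvPolynomial

section

variable {A : Type u} [CommRing A] {m : ℕ} (e : Fin m → A)

lemma ker_aeval_eq : RingHom.ker (aeval (R := A) e) =
    Ideal.span (Set.range fun j : Fin m => (X j - C (e j) : MvPolynomial (Fin m) A)) := by
  apply le_antisymm
  · intro p hp
    have h : (Ideal.Quotient.mk (Ideal.span (Set.range fun j : Fin m =>
        (X j - C (e j) : MvPolynomial (Fin m) A)))) =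
        ((Ideal.Quotient.mk (Ideal.span (Set.range fun j : Fin m =>
        (X j - C (e j) : MvPolynomial (Fin m) A)))).comp C).comp
          (aeval (R := A) e : MvPolynomial (Fin m) A →+* A) := by
      apply MvPolynomial.ringHom_ext
      · intro a
        simp
      · intro j
        simp only [RingHom.comp_apply, RingHom.coe_coe, aeval_X]
        rw [Ideal.Quotient.eq]
        exact Ideal.subset_span ⟨j, rfl⟩
    have h2 := congrArg (fun f => f p) h
    simp only [RingHom.comp_apply, RingHom.coe_coe] at h2
    rw [RingHom.mem_ker.1 hp, map_zero, map_zero] at h2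
    exact Ideal.Quotient.eq_zero_iff_mem.1 h2
  · rw [Ideal.span_le]
    rintro _ ⟨j, rfl⟩
    simp [RingHom.mem_ker]

/-- generators of `A` over `A` with values `e`. -/
noncomputable def gens : Algebra.Generators A A (Fin m) where
  val := e
  σ' := C
  aeval_val_σ' a := by simp

/-- presentation `A[x]/(x_j - e_j) = A`. -/
noncomputable def pres : Algebra.Presentation A A (Fin m) (Fin m) where
  toGenerators := gens e
  relation j := X j - C (e j)
  span_range_relation_eq_ker := by
    rw [Algebra.Generators.ker_eq_ker_aeval_val]
    exact (ker_aeval_eq e).symm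

/-- presubmersive version. -/
noncomputable def preSubm : Algebra.PreSubmersivePresentation A A (Fin m) (Fin m) where
  toPresentation := pres e
  map := id
  map_inj := Function.injective_id

lemma jacobiMatrix_preSubm : (preSubm e).jacobiMatrix = 1 := by
  refine Matrix.ext fun i j => ?_
  rw [Algebra.PreSubmersivePresentation.jacobiMatrix_apply]
  change pderiv i (X j - C (e j)) = _
  rw [map_sub, pderiv_C, sub_zero, pderiv_X, Matrix.one_apply]
  by_cases h : i = j
  · subst h; simp
  · rw [if_neg h, Pi.single_eq_of_ne (Ne.symm h)]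

/-- the submersive presentation. -/
noncomputable def subm : Algebra.SubmersivePresentation A A (Fin m) (Fin m) where
  toPreSubmersivePresentation := preSubm e
  jacobian_isUnit := by
    rw [Algebra.PreSubmersivePresentation.jacobian_eq_jacobiMatrix_det, jacobiMatrix_preSubm]
    simp

end

theorem main {R A : Type u} [CommRing R] [CommRing A] [Algebra R A]
    [Algebra.IsStandardSmooth R A] (E : Finset A) :
    ∃ (ι σ : Type) (_ : Finite ι) (_ : Finite σ) (P : Algebra.SubmersivePresentation R A ι σ),
      (↑E : Set A) ⊆ Set.range (P.val ∘ P.map) := by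
  obtain ⟨ι, σ, hσ, hι, ⟨P⟩⟩ := Algebra.IsStandardSmooth.out (R := R) (S := A)
  let e : Fin E.card → A := fun j => ((E.equivFin.symm j : E) : A)
  refine ⟨Fin E.card ⊕ ι, Fin E.card ⊕ σ, inferInstance, inferInstance, (subm e).comp P, ?_⟩
  intro x hx
  refine ⟨Sum.inl (E.equivFin ⟨x, hx⟩), ?_⟩
  change ((subm e).toGenerators.comp P.toGenerators).val (Sum.inl (E.equivFin ⟨x, hx⟩)) = x
  rw [Algebra.Generators.comp_val, Sum.elim_inl]
  change e (E.equivFin ⟨x, hx⟩) = x
  simp [e]

end Groth.Agent.H82.SubmE
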