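import Mathlib
import Groth.Agent.H47.FSSep
import Groth.Agent.H11.FinSepField

/-!
# Tame (or any non-trivial) ramification with separable residue extension forces separability

`A` a Noetherian local `k`-algebra, formally smooth and essentially of finite type over the field
`k`, with one-dimensional cotangent fibre `κ_A ⊗ Ω[A/k]` and residue field finite over `k`.
If `B → A` is a local homomorphism of local `k`-algebras with `𝔪_B A = 𝔪_A ^ e`, `e ≥ 2`, and
`κ_A / κ_B` separable, then `κ_A / k` is separable.
-/

set_option autoImplicit false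
set_option linter.style.haveILetI false
universe u

open IsLocalRing KaehlerDifferential TensorProduct

namespace Groth.Agent.H82.TameSep

section ker

variable (k A : Type u) [Field k] [CommRing A] [Algebra k A] [IsLocalRing A]

/-- If the cotangent fibre is one-dimensional and `Ω[κ/k] ≠ 0`, the kernel of `Ω[A/k] → Ω[κ/k]`
is contained in `𝔪 Ω[A/k]`. -/
theorem ker_map_le [Nontrivial Ω[ResidueField A⁄k]]
    (hrk : Module.finrank (ResidueField A) (ResidueField A ⊗[A] Ω[A⁄k]) = 1) :
    LinearMap.ker (KaehlerDifferential.map k k A (ResidueField A)) ≤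
      maximalIdeal A • (⊤ : Submodule A Ω[A⁄k]) := by
  have hsurj : Function.Surjective (algebraMap A (ResidueField A)) := residue_surjective
  have hs := KaehlerDifferential.mapBaseChange_surjective k A (ResidueField A) hsurj
  haveI : Module.Finite (ResidueField A) (ResidueField A ⊗[A] Ω[A⁄k]) :=
    Module.finite_of_finrank_pos (by omega)
  -- the base change map is injective
  have hinj : Function.Injective (KaehlerDifferential.mapBaseChange k A (ResidueField A)) := by
    rw [← LinearMap.ker_eq_bot]
    have h1 := LinearMap.finrank_range_add_finrank_ker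
      (KaehlerDifferential.mapBaseChange k A (ResidueField A))
    rw [LinearMap.range_eq_top.mpr hs, finrank_top, hrk] at h1
    haveI : Module.Finite (ResidueField A) Ω[ResidueField A⁄k] := Module.Finite.of_surjective _ hs
    have h2 : 0 < Module.finrank (ResidueField A) Ω[ResidueField A⁄k] := Module.finrank_pos
    have h3 : Module.finrank (ResidueField A)
        (LinearMap.ker (KaehlerDifferential.mapBaseChange k A (ResidueField A))) = 0 := by omega
    exact Submodule.finrank_eq_zero.mp h3
  intro ω hω
  rw [LinearMap.mem_ker] at hω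
  have h1 : (1 : ResidueField A) ⊗ₜ[A] ω = 0 := by
    apply hinj
    rw [KaehlerDifferential.mapBaseChange_tmul, one_smul, hω, map_zero]
  have h2 : ω ∈ LinearMap.ker (TensorProduct.mk A (A ⧸ maximalIdeal A) Ω[A⁄k] 1) := by
    rw [LinearMap.mem_ker]
    exact h1
  rwa [LinearMap.ker_tensorProductMk] at h2

end ker


section main

variable (k A B : Type u) [Field k] [CommRing A] [CommRing B] [Algebra k A] [Algebra k B]
  [Algebra B A] [IsScalarTower k B A] [IsLocalRing A] [IsLocalRing B]
  [IsLocalHom (algebraMap B A)]

/-- If `κ_A/κ_B` is formally unramified, every element of `Ω[κ_A/k]` is the image of an element of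
the range of `A ⊗[B] Ω[B/k] → Ω[A/k]`. -/
theorem exists_mem_range_map_eq
    [Algebra.FormallyUnramified (ResidueField B) (ResidueField A)]
    (η : Ω[ResidueField A⁄k]) :
    ∃ ω ∈ LinearMap.range (KaehlerDifferential.mapBaseChange k B A),
      KaehlerDifferential.map k k A (ResidueField A) ω = η := by
  have hex := KaehlerDifferential.exact_mapBaseChange_map k (ResidueField B) (ResidueField A)
  obtain ⟨z, rfl⟩ := (hex η).1 (Subsingleton.elim _ _)
  induction z with
  | zero => exact ⟨0, zero_mem _, by simp⟩
  | add x y hx hy =>
    obtain ⟨ω₁, h₁, e₁⟩ := hx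
    obtain ⟨ω₂, h₂, e₂⟩ := hy
    exact ⟨ω₁ + ω₂, add_mem h₁ h₂, by rw [map_add, map_add, e₁, e₂]⟩
  | tmul c y =>
    obtain ⟨a, rfl⟩ := residue_surjective c
    have hy : y ∈ (⊤ : Submodule (ResidueField B) Ω[ResidueField B⁄k]) := trivial
    rw [← KaehlerDifferential.span_range_derivation] at hy
    induction hy using Submodule.span_induction with
    | zero => exact ⟨0, zero_mem _, by simp⟩
    | add x y _ _ hx hy =>
      obtain ⟨ω₁, h₁, e₁⟩ := hx
      obtain ⟨ω₂, h₂, e₂⟩ := hy
      exact ⟨ω₁ + ω₂, add_mem h₁ h₂, by rw [map_add, e₁, e₂, TensorProduct.tmul_add, map_add]⟩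
    | mem x hx =>
      obtain ⟨b, rfl⟩ := hx
      obtain ⟨b, rfl⟩ := residue_surjective b
      refine ⟨a • KaehlerDifferential.mapBaseChange k B A (1 ⊗ₜ D k B b),
        Submodule.smul_mem _ _ ⟨_, rfl⟩, ?_⟩
      rw [KaehlerDifferential.mapBaseChange_tmul, KaehlerDifferential.mapBaseChange_tmul,
        one_smul, KaehlerDifferential.map_D, map_smul, KaehlerDifferential.map_D,
        KaehlerDifferential.map_D]
      rfl
    | smul c' x _ hx =>
      obtain ⟨b, rfl⟩ := residue_surjective c'
      obtain ⟨ω, hω, e⟩ := hx
      refine ⟨algebraMap B A b • ω, Submodule.smul_mem _ _ hω, ?_⟩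
      rw [map_smul, e, TensorProduct.tmul_smul,
        ← algebraMap_smul (ResidueField A) (residue B b), map_smul, IsLocalRing.ResidueField.algebraMap_residue,
        ← algebraMap_smul (ResidueField A) (algebraMap B A b)]
      rfl


/-- Core algebraic statement. -/
theorem isSeparable_residueField
    [IsNoetherianRing A] [Algebra.FormallySmooth k A] [Algebra.EssFiniteType k A]
    [Module.Finite k (ResidueField A)]
    (hrk : Module.finrank (ResidueField A) (ResidueField A ⊗[A] Ω[A⁄k]) = 1)
    (e : ℕ) (he : (maximalIdeal B).map (algebraMap B A) = maximalIdeal A ^ e) (h2 : 2 ≤ e)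
    [Algebra.IsSeparable (ResidueField B) (ResidueField A)] :
    Algebra.IsSeparable k (ResidueField A) := by
  by_contra hns
  haveI : Algebra.EssFiniteType k (ResidueField A) := Algebra.EssFiniteType.comp k A _
  haveI : Nontrivial Ω[ResidueField A⁄k] := by
    by_contra hnt
    rw [not_nontrivial_iff_subsingleton] at hnt
    haveI : Algebra.FormallyUnramified k (ResidueField A) := ⟨hnt⟩
    exact hns (Algebra.FormallyUnramified.isSeparable k _)
  haveI : Algebra.FormallyUnramified (ResidueField B) (ResidueField A) :=
    Algebra.FormallyUnramified.of_isSeparable _ _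
  have hker := ker_map_le k A hrk
  -- the range of `A ⊗[B] Ω[B/k] → Ω[A/k]` is everything, by Nakayama
  have htop : LinearMap.range (KaehlerDifferential.mapBaseChange k B A) = ⊤ := by
    rw [eq_top_iff]
    refine Submodule.le_of_le_smul_of_le_jacobson_bot (I := maximalIdeal A) Module.Finite.fg_top
      (le_of_eq (jacobson_eq_maximalIdeal ⊥ bot_ne_top).symm) ?_
    intro ω _
    obtain ⟨ω', hω', e'⟩ :=
      exists_mem_range_map_eq k A B (KaehlerDifferential.map k k A (ResidueField A) ω)
    have h1 : ω - ω' ∈ maximalIdeal A • (⊤ : Submodule A Ω[A⁄k]) :=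
      hker (by rw [LinearMap.mem_ker, map_sub, e', sub_self])
    have h3 : ω = ω' + (ω - ω') := by abel
    rw [h3]
    exact Submodule.add_mem_sup hω' h1
  -- hence `A/B` is formally unramified
  haveI : Algebra.FormallyUnramified B A := by
    constructor
    refine subsingleton_of_forall_eq 0 fun x => ?_
    obtain ⟨y, rfl⟩ := KaehlerDifferential.map_surjective k B A x
    have hy : y ∈ LinearMap.range (KaehlerDifferential.mapBaseChange k B A) := by
      rw [htop]; trivial
    exact (KaehlerDifferential.exact_mapBaseChange_map k B A y).2 hy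
  haveI : Algebra.EssFiniteType B A := Algebra.EssFiniteType.of_comp k B A
  have hm : (maximalIdeal B).map (algebraMap B A) = maximalIdeal A :=
    Algebra.FormallyUnramified.map_maximalIdeal
  -- so `𝔪_A = 𝔪_A ^ e ≤ 𝔪_A ^ 2`, whence `𝔪_A = 0`
  have hle : maximalIdeal A ≤ maximalIdeal A • maximalIdeal A := by
    rw [smul_eq_mul, ← pow_two]
    calc maximalIdeal A = maximalIdeal A ^ e := by rw [← he, hm]
      _ ≤ maximalIdeal A ^ 2 := Ideal.pow_le_pow_right h2
  have hbot : maximalIdeal A = ⊥ :=
    Submodule.eq_bot_of_le_smul_of_le_jacobson_bot (maximalIdeal A) (maximalIdeal A)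
      (IsNoetherian.noetherian _) hle
      (le_of_eq (jacobson_eq_maximalIdeal ⊥ bot_ne_top).symm)
  have hfield : IsField A := isField_iff_maximalIdeal_eq.mpr hbot
  -- `A` is a field, formally smooth and finite over `k`: it is separable
  have hbij : Function.Bijective (algebraMap A (ResidueField A)) := by
    refine ⟨?_, residue_surjective⟩
    rw [injective_iff_map_eq_zero]
    intro a ha
    have : a ∈ maximalIdeal A := (residue_eq_zero_iff a).1 ha
    rw [hbot] at this
    exact this
  let ε : A ≃ₐ[k] ResidueField A :=
    AlgEquiv.ofBijective (IsScalarTower.toAlgHom k A (ResidueField A)) hbij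
  haveI : Algebra.FormallySmooth k (ResidueField A) := Algebra.FormallySmooth.of_equiv ε
  haveI : Algebra.IsGeometricallyReduced k (ResidueField A) :=
    Groth.Agent.H47.isGeometricallyReduced_of_formallySmooth_field
  exact hns (Groth.Agent.H11.FinSepField.isSeparable_of_isGeometricallyReduced_field k _)

end main


section loc

/-- The cotangent fibre of a localization of a standard smooth algebra of relative dimension one
is one-dimensional. -/
theorem finrank_fibre_of_localization (k R A : Type u) [Field k] [CommRing R] [CommRing A]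
    [Algebra k R] [Algebra R A] [Algebra k A] [IsScalarTower k R A]
    [Algebra.IsStandardSmoothOfRelativeDimension 1 k R] (p : Ideal R) [p.IsPrime]
    [IsLocalization.AtPrime A p] [IsLocalRing A] :
    Module.finrank (ResidueField A) (ResidueField A ⊗[A] Ω[A⁄k]) = 1 := by
  haveI : Algebra.IsStandardSmooth k R :=
    Algebra.IsStandardSmoothOfRelativeDimension.isStandardSmooth 1
  haveI : Algebra.FormallyEtale R A := Algebra.FormallyEtale.of_isLocalization p.primeCompl
  haveI : Nontrivial R := ⟨⟨0, 1, fun h => ‹p.IsPrime›.ne_top (p.eq_top_of_isUnit_mem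
    (h ▸ p.zero_mem) isUnit_one)⟩⟩
  let e := tensorKaehlerEquivOfFormallyEtale k R A
  haveI : Module.Free A Ω[A⁄k] := Module.Free.of_equiv e
  have hrk : Module.finrank A Ω[A⁄k] = 1 := by
    rw [← e.finrank_eq, Module.finrank_baseChange]
    have h1 := Algebra.IsStandardSmoothOfRelativeDimension.rank_kaehlerDifferential (R := k)
      (S := R) 1
    exact Module.finrank_eq_of_rank_eq (by exact_mod_cast h1)
  rw [Module.finrank_baseChange]
  exact hrk

end loc

end Groth.Agent.H82.TameSep
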