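import Mathlib
import Groth.Prelude.Def_Flat
import Groth.Prelude.Def_CurvBase
import Groth.Agent.H82.TameSep
import Groth.Agent.H11.CotSmoothSch
import Groth.Agent.H11.SepPointsSch
import Groth.Agent.H11.FtChart

/-!
# Scheme-level glue for `TameSep`
-/

set_option autoImplicit false
set_option linter.style.haveILetI false
universe u
open CategoryTheory CategoryTheory.Limits AlgebraicGeometry IsLocalRing TensorProduct

namespace Groth.Agent.H82.TameSepSch

open Groth.Agent.H11.FtChart

variable (k : Type u) [Field k]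

/-- closed points of a scheme locally of finite type over `k` have finite residue fields -/
theorem finite_residueField (X : Scheme.{u}) [X.Over (Spec (CommRingCat.of k))]
    [LocallyOfFiniteType (X ↘ Spec (CommRingCat.of k))] (x : X) (hx : IsClosed ({x} : Set X)) :
    letI := Curv2.resAlgebra k X x
    Module.Finite k (X.residueField x) := by
  letI := Curv2.resAlgebra k X x
  obtain ⟨V, hV, hxV, -⟩ := TopologicalSpace.Opens.isBasis_iff_nbhd.mp X.isBasis_affineOpens
    (show x ∈ (⊤ : X.Opens) from trivial)
  have hV : IsAffineOpen V := hV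
  letI := secAlgebra k X V
  haveI := finiteType_sec k X hV
  obtain ⟨e⟩ := Groth.Agent.H11.SepPointsSch.nonempty_resEquiv k hV x hxV
  haveI hmax : (hV.primeIdealOf ⟨x, hxV⟩).asIdeal.IsMaximal := isMaximal_of_isClosed hV x hxV hx
  set M := (hV.primeIdealOf ⟨x, hxV⟩).asIdeal with hM
  letI : Field (Γ(X, V) ⧸ M) := Ideal.Quotient.field M
  have hfin : Module.Finite k (Γ(X, V) ⧸ M) := finite_of_finite_type_of_isJacobsonRing k _
  let e0 : (Γ(X, V) ⧸ M) ≃ₐ[k] M.ResidueField :=
    AlgEquiv.ofBijective (IsScalarTower.toAlgHom k (Γ(X, V) ⧸ M) M.ResidueField)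
      (Ideal.bijective_algebraMap_quotient_residueField M)
  exact Module.Finite.equiv (e0.trans e).toLinearEquiv

/-- the cotangent fibre at a point of a smooth curve is one-dimensional -/
theorem finrank_fibre (X : Scheme.{u}) [X.Over (Spec (CommRingCat.of k))]
    [SmoothOfRelativeDimension 1 (X ↘ Spec (CommRingCat.of k))] (x : X) :
    letI := Curv2.stalkAlgebra k X x
    Module.finrank (ResidueField (X.presheaf.stalk x))
      (ResidueField (X.presheaf.stalk x) ⊗[X.presheaf.stalk x] Ω[X.presheaf.stalk x⁄k]) = 1 := by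
  letI := Curv2.stalkAlgebra k X x
  obtain ⟨U0, hU0, V', hV', hxV', e, hstd⟩ :=
    SmoothOfRelativeDimension.exists_isStandardSmoothOfRelativeDimension
      (n := 1) (f := X ↘ Spec (CommRingCat.of k)) x
  have hU0top : U0 = ⊤ := by
    ext z
    simp only [TopologicalSpace.Opens.coe_top, Set.mem_univ, iff_true]
    have hz : z = (X ↘ Spec (CommRingCat.of k)) x := Subsingleton.elim _ _
    rw [hz]
    exact e hxV'
  subst hU0top
  letI := secAlgebra k X V'
  haveI : Algebra.IsStandardSmoothOfRelativeDimension 1 k Γ(X, V') := by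
    have h2 : (secMap k X V').IsStandardSmoothOfRelativeDimension 1 := by
      rw [secMap_eq]
      exact (RingHom.isStandardSmoothOfRelativeDimension_respectsIso (n := 1)).2 _
        (Scheme.ΓSpecIso (CommRingCat.of k)).symm.commRingCatIsoToRingEquiv hstd
    exact h2
  letI algA := X.presheaf.algebra_section_stalk ⟨x, hxV'⟩
  haveI := hV'.isLocalization_stalk ⟨x, hxV'⟩
  haveI := Groth.Agent.H11.CotSmoothSch.isScalarTower_sec_stalk k X x hxV'
  exact Groth.Agent.H82.TameSep.finrank_fibre_of_localization k Γ(X, V') (X.presheaf.stalk x)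
    (hV'.primeIdealOf ⟨x, hxV'⟩).asIdeal


open Groth.Agent.H11.CotSmoothSch in
theorem main (X Y : Scheme.{u}) [X.Over (Spec (CommRingCat.of k))]
    [Y.Over (Spec (CommRingCat.of k))]
    [SmoothOfRelativeDimension 1 (X ↘ Spec (CommRingCat.of k))]
    (f : X ⟶ Y) (hf : f ≫ (Y ↘ Spec (CommRingCat.of k)) = X ↘ Spec (CommRingCat.of k))
    (x : X) (hx : IsClosed ({x} : Set X)) (e : ℕ)
    (he : (IsLocalRing.maximalIdeal (Y.presheaf.stalk (f.base x))).map (f.stalkMap x).hom =
      IsLocalRing.maximalIdeal (X.presheaf.stalk x) ^ e)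
    (h2 : 2 ≤ e)
    (hsep : @Algebra.IsSeparable (Y.residueField (f.base x)) (X.residueField x) _ _
      (f.residueFieldMap x).hom.toAlgebra) :
    letI := Curv2.resAlgebra k X x
    Algebra.IsSeparable k (X.residueField x) := by
  letI algB := Curv2.stalkAlgebra k Y (f x)
  letI algA := Curv2.stalkAlgebra k X x
  letI algBA : Algebra (Y.presheaf.stalk (f x)) (X.presheaf.stalk x) :=
    (f.stalkMap x).hom.toAlgebra
  haveI : IsScalarTower k (Y.presheaf.stalk (f x)) (X.presheaf.stalk x) :=
    IsScalarTower.of_algebraMap_eq' (stalkMap_comp k X f hf x)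
  haveI : IsLocalHom (algebraMap (Y.presheaf.stalk (f x)) (X.presheaf.stalk x)) :=
    (inferInstance : IsLocalHom (f.stalkMap x).hom)
  haveI : Smooth (X ↘ Spec (CommRingCat.of k)) := SmoothOfRelativeDimension.smooth 1 _
  haveI : LocallyOfFiniteType (X ↘ Spec (CommRingCat.of k)) := inferInstance
  haveI := formallySmooth_stalk k X x
  haveI := essFiniteType_stalk k X x
  haveI : IsLocallyNoetherian X :=
    LocallyOfFiniteType.isLocallyNoetherian (X ↘ Spec (CommRingCat.of k))
  haveI : IsNoetherianRing (X.presheaf.stalk x) := inferInstance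
  have hfin := finite_residueField k X x hx
  have hrk := finrank_fibre k X x
  have halg1 : Curv2.resAlgebra k X x =
      (ResidueField.algebra (X.presheaf.stalk x) :
        Algebra k (ResidueField (X.presheaf.stalk x))) :=
    Algebra.algebra_ext _ _ (fun r => rfl)
  have halg2 : (f.residueFieldMap x).hom.toAlgebra =
      (inferInstance : Algebra (ResidueField (Y.presheaf.stalk (f x)))
        (ResidueField (X.presheaf.stalk x))) :=
    Algebra.algebra_ext _ _ (fun r => by obtain ⟨r, rfl⟩ := residue_surjective r; rfl)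
  rw [halg1] at hfin ⊢
  rw [halg2] at hsep
  haveI hfin' : Module.Finite k (ResidueField (X.presheaf.stalk x)) := hfin
  haveI hsep' : Algebra.IsSeparable (ResidueField (Y.presheaf.stalk (f x)))
    (ResidueField (X.presheaf.stalk x)) := hsep
  have key : Algebra.IsSeparable k (ResidueField (X.presheaf.stalk x)) :=
    Groth.Agent.H82.TameSep.isSeparable_residueField k (X.presheaf.stalk x)
      (Y.presheaf.stalk (f x)) hrk e he h2
  exact key

end Groth.Agent.H82.TameSepSch
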