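import Mathlib

/-!
# Length of the localization of `A ⊗[K] L` at a minimal prime, for `L/K` separable
-/

set_option autoImplicit false
set_option linter.style.haveILetI false
universe u
open IsLocalRing TensorProduct

namespace Groth.Agent.H82.TensLen

/-- If `A → B` is a flat local homomorphism of local rings with `m_A B = m_B`, then the lengths of
`A` and `B` (as modules over themselves) agree. -/
theorem length_eq_of_flat_of_map_maximalIdeal (A B : Type u) [CommRing A] [CommRing B]
    [IsLocalRing A] [IsLocalRing B] [Algebra A B] [IsLocalHom (algebraMap A B)] [Module.Flat A B]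
    (h : (maximalIdeal A).map (algebraMap A B) = maximalIdeal B) :
    Module.length B B = Module.length A A := by
  have hmax : ((maximalIdeal A).map (algebraMap A B)).IsMaximal := by
    rw [h]; infer_instance
  have h1 : Module.length B (B ⧸ (maximalIdeal A).map (algebraMap A B)) = 1 := by
    haveI : IsSimpleModule B (B ⧸ (maximalIdeal A).map (algebraMap A B)) :=
      isSimpleModule_iff_quot_maximal.mpr ⟨_, hmax, ⟨LinearEquiv.refl _ _⟩⟩
    exact Module.length_eq_one _ _
  have h2 := IsLocalRing.length_baseChange A B A
  rw [h1, mul_one] at h2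
  rw [← h2]
  exact (AlgebraTensorModule.rid A B B).length_eq.symm

variable (K L A : Type u) [Field K] [Field L] [Algebra K L] [CommRing A] [IsLocalRing A]
  [Algebra K A]

/-- The map `A ⊗[K] L → κ(A) ⊗[K] L`. -/
noncomputable def resTensor : A ⊗[K] L →ₐ[K] ResidueField A ⊗[K] L :=
  Algebra.TensorProduct.map (IsScalarTower.toAlgHom K A (ResidueField A)) (AlgHom.id K L)

theorem ker_resTensor : RingHom.ker (resTensor K L A) =
    (maximalIdeal A).map (Algebra.TensorProduct.includeLeft : A →ₐ[K] A ⊗[K] L) := by
  unfold resTensor
  rw [Algebra.TensorProduct.rTensor_ker _ (by exact residue_surjective)]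
  congr 1
  exact IsLocalRing.ker_residue

/-- Main algebraic statement: if `κ(A) ⊗[K] L` is reduced and `Q` is a prime of `A ⊗[K] L` over
the maximal ideal of `A` such that `(A ⊗[K] L)_Q` has a unique prime ideal, then this localization
has the same length as `A`. -/
theorem length_atPrime_tensor_eq [IsReduced (ResidueField A ⊗[K] L)]
    (Q : Ideal (A ⊗[K] L)) [Q.IsPrime]
    (hQ : Q.comap (Algebra.TensorProduct.includeLeftRingHom : A →+* A ⊗[K] L) = maximalIdeal A)
    (hmin : ∀ P : Ideal (Localization.AtPrime Q), P.IsPrime →
      P = maximalIdeal (Localization.AtPrime Q)) :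
    Module.length (Localization.AtPrime Q) (Localization.AtPrime Q) = Module.length A A := by
  let T := A ⊗[K] L
  let B := Localization.AtPrime Q
  haveI : IsScalarTower A T B := inferInstance
  have halg : ∀ a : A, algebraMap A B a =
      algebraMap T B ((Algebra.TensorProduct.includeLeftRingHom : A →+* T) a) := fun a =>
    IsScalarTower.algebraMap_apply A T B a
  haveI : Module.Flat A T := inferInstance
  haveI : Module.Flat T B := IsLocalization.flat B Q.primeCompl
  haveI : Module.Flat A B := Module.Flat.trans A T B
  have hloc : ∀ a : A, a ∈ maximalIdeal A → algebraMap A B a ∈ maximalIdeal B := by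
    intro a ha
    rw [halg]
    rw [IsLocalization.AtPrime.to_map_mem_maximal_iff B Q]
    rw [← hQ] at ha
    exact ha
  haveI : IsLocalHom (algebraMap A B) := by
    refine ⟨fun a ha => ?_⟩
    by_contra hna
    have : a ∈ maximalIdeal A := (IsLocalRing.mem_maximalIdeal a).mpr hna
    exact (IsLocalRing.mem_maximalIdeal _).mp (hloc a this) ha
  apply length_eq_of_flat_of_map_maximalIdeal A B
  apply le_antisymm
  · rw [Ideal.map_le_iff_le_comap]
    intro a ha
    exact hloc a ha
  · intro b hb
    -- `b` is nilpotent
    have hnil : IsNilpotent b := by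
      rw [← mem_nilradical, nilradical_eq_sInf, Ideal.mem_sInf]
      intro P hP
      rw [hmin P hP]
      exact hb
    obtain ⟨t, s, rfl⟩ := IsLocalization.exists_mk'_eq Q.primeCompl b
    have hnil' : IsNilpotent (algebraMap T B t) := by
      rw [← IsLocalization.mk'_spec B t s]
      exact Commute.isNilpotent_mul_right (Commute.all _ _) hnil
    obtain ⟨n, hn⟩ := hnil'
    rw [← map_pow, IsLocalization.map_eq_zero_iff Q.primeCompl] at hn
    obtain ⟨c, hc⟩ := hn
    have hct : (c.1 * t) ^ (n + 1) = 0 := by
      rw [mul_pow, pow_succ, pow_succ]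
      calc c.1 ^ n * c.1 * (t ^ n * t) = c.1 ^ n * t * (c.1 * t ^ n) := by ring
        _ = 0 := by rw [hc, mul_zero]
    have hmem : c.1 * t ∈ RingHom.ker (resTensor K L A) := by
      rw [RingHom.mem_ker]
      have : IsNilpotent (resTensor K L A (c.1 * t)) := ⟨n + 1, by rw [← map_pow, hct, map_zero]⟩
      exact this.eq_zero
    rw [ker_resTensor] at hmem
    have hmem' : algebraMap T B (c.1 * t) ∈ (maximalIdeal A).map (algebraMap A B) := by
      have h1 : (maximalIdeal A).map (algebraMap A B) =
          ((maximalIdeal A).map (Algebra.TensorProduct.includeLeft : A →ₐ[K] T)).map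
            (algebraMap T B) := by
        change _ = ((maximalIdeal A).map
          (Algebra.TensorProduct.includeLeftRingHom : A →+* T)).map (algebraMap T B)
        rw [Ideal.map_map]
        congr 1
      rw [h1]
      exact Ideal.mem_map_of_mem _ hmem
    have hunit : IsUnit (algebraMap T B (c.1 * s.1)) := by
      rw [map_mul]
      exact (IsLocalization.map_units B c).mul (IsLocalization.map_units B s)
    have heq : IsLocalization.mk' B t s * algebraMap T B (c.1 * s.1) = algebraMap T B (c.1 * t) := by
      rw [map_mul, map_mul, mul_comm (algebraMap T B c.1), ← mul_assoc, IsLocalization.mk'_spec]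
      ring
    rw [← heq] at hmem'
    exact (Ideal.mul_unit_mem_iff_mem _ hunit).mp hmem'

end Groth.Agent.H82.TensLen
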