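import Mathlib
import Groth.Prelude.Def_FDesc
import Groth.Agent.H82.TensLen
import Groth.Agent.H25.StalkBC
import Groth.Agent.H21.GeomRed
import Groth.Agent.H36.PPowLoc

/-!
# Lengths of local rings at maximal points under a separable base field extension
-/

set_option autoImplicit false
set_option linter.style.haveILetI false
universe u
open CategoryTheory CategoryTheory.Limits AlgebraicGeometry TopologicalSpace IsLocalRing
  TensorProduct

namespace Groth.Agent.H82.TensLenSch

/-- The local ring at a maximal point has Krull dimension `≤ 0`. -/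
theorem krullDimLE_zero_stalk_of_maximal {X : Scheme.{u}} (x : X)
    (hx : ∀ z : X, z ⤳ x → z = x) : Ring.KrullDimLE 0 (X.presheaf.stalk x) := by
  apply krullDimLE_of_coheight_le
  have : Order.coheight x = 0 := by
    rw [Order.coheight_eq_zero]
    intro b hb
    exact le_of_eq (hx b hb)
  rw [this]
  rfl

theorem main {K L : Type u} [Field K] [Field L] [Algebra K L] {Y : Scheme.{u}}
    (p : Y ⟶ Spec (CommRingCat.of K))
    [GeometricallyReduced (Spec.map (CommRingCat.ofHom (algebraMap K L)))]
    (y : ↥(pullback p (Spec.map (CommRingCat.ofHom (algebraMap K L)))))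
    (hy : ∀ z : ↥(pullback p (Spec.map (CommRingCat.ofHom (algebraMap K L)))), z ⤳ y → z = y) :
    Module.length ((pullback p (Spec.map (CommRingCat.ofHom (algebraMap K L)))).presheaf.stalk y)
        ((pullback p (Spec.map (CommRingCat.ofHom (algebraMap K L)))).presheaf.stalk y) =
      Module.length
        (Y.presheaf.stalk (pullback.fst p (Spec.map (CommRingCat.ofHom (algebraMap K L))) y))
        (Y.presheaf.stalk (pullback.fst p (Spec.map (CommRingCat.ofHom (algebraMap K L))) y)) := by
  set x := pullback.fst p (Spec.map (CommRingCat.ofHom (algebraMap K L))) y with hx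
  letI : Algebra K (Y.presheaf.stalk x) := (Groth.Agent.H25.StalkBC.stalkHom p x).toAlgebra
  obtain ⟨Q, hQp, hQ, ⟨e⟩⟩ :=
    Groth.Agent.H25.StalkBC.exists_prime_of_point_stalk p x rfl L y rfl
  haveI := hQp
  haveI : IsReduced (ResidueField (Y.presheaf.stalk x) ⊗[K] L) := by
    haveI : IsReduced (L ⊗[K] ResidueField (Y.presheaf.stalk x)) :=
      Groth.Agent.H21.GeomRed.isReduced_tensorProduct_of_geometricallyReduced
    exact isReduced_of_injective
      (Algebra.TensorProduct.comm K (ResidueField (Y.presheaf.stalk x)) L).toRingHom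
      (Algebra.TensorProduct.comm K (ResidueField (Y.presheaf.stalk x)) L).injective
  haveI h0 := krullDimLE_zero_stalk_of_maximal y hy
  haveI h0' : Ring.KrullDimLE 0 (Localization.AtPrime Q) := by
    rw [Ring.krullDimLE_iff, ← ringKrullDim_eq_of_ringEquiv e]
    exact Ring.krullDimLE_iff.mp h0
  rw [Groth.Agent.H36.PPL.length_self_of_ringEquiv e]
  refine Groth.Agent.H82.TensLen.length_atPrime_tensor_eq K L (Y.presheaf.stalk x) Q hQ ?_
  intro P hP
  haveI := hP
  exact IsLocalRing.eq_maximalIdeal (Ideal.isMaximal_of_isPrime P)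

end Groth.Agent.H82.TensLenSch
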