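import Mathlib
import Groth.Prelude.Def_FDesc
import Groth.Agent.H82.TensLenSch
import Groth.Agent.H22.RedSub

/-!
# Lengths of local rings at maximal points under base field extension: the general formula
-/

set_option autoImplicit false
set_option linter.style.haveILetI false
universe u
open CategoryTheory CategoryTheory.Limits AlgebraicGeometry TopologicalSpace IsLocalRing
  TensorProduct

namespace Groth.Agent.H82.TensLenRed

/-- A morphism from a reduced scheme kills the nilradical. -/
theorem nilradical_le_ker {T Y : Scheme.{u}} [IsReduced T] (g : T ⟶ Y) :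
    Y.nilradical ≤ g.ker := by
  rw [Scheme.Hom.ker, Scheme.IdealSheafData.le_ofIdeals_iff]
  intro U a ha
  rw [Scheme.nilradical, Scheme.IdealSheafData.radical_ideal] at ha
  obtain ⟨n, hn⟩ := ha
  have hn' : a ^ n = 0 := by simpa using hn
  rw [RingHom.mem_ker]
  have : IsNilpotent ((g.app U).hom a) := ⟨n, by rw [← map_pow, hn', map_zero]⟩
  exact this.eq_zero

theorem stalkMap_eq_zero_of_eq {X Y : Scheme.{u}} {f g : X ⟶ Y} (e : f = g) (x : X)
    (a : Y.presheaf.stalk (f x)) (ha : IsNilpotent a)
    (h : ∀ a' : Y.presheaf.stalk (g x), IsNilpotent a' → (g.stalkMap x).hom a' = 0) :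
    (f.stalkMap x).hom a = 0 := by
  subst e
  exact h a ha

theorem exists_factor_fromSpecStalk {Z : Scheme.{u}} {R : CommRingCat.{u}} [IsLocalRing R]
    (t : Spec R ⟶ Z) (z : Z) (hz : t (closedPoint R) = z) :
    ∃ ψ : Z.presheaf.stalk z ⟶ R, t = Spec.map ψ ≫ Z.fromSpecStalk z := by
  subst hz
  exact ⟨Scheme.stalkClosedPointTo t, (Scheme.Spec_stalkClosedPointTo_fromSpecStalk t).symm⟩

/-- The image of a maximal point under a flat morphism is a maximal point. -/
theorem maximal_of_flat {X Y : Scheme.{u}} (f : X ⟶ Y) [Flat f] (x : X)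
    (hx : ∀ z : X, z ⤳ x → z = x) : ∀ y : Y, y ⤳ f x → y = f x := by
  intro y hy
  obtain ⟨a, ha, hfa⟩ := Flat.generalizingMap f (a := x) (b := y) hy
  rw [← hfa, hx a ha]


theorem length_quot_eq_of_ker {B C : Type u} [CommRing B] [CommRing C] (φ : B →+* C)
    (hφ : Function.Surjective φ) (I : Ideal B) (hI : RingHom.ker φ = I) :
    Module.length B (B ⧸ I) = Module.length C C := by
  subst hI
  rw [Module.length_eq_of_surjective (R := B ⧸ RingHom.ker φ) Ideal.Quotient.mk_surjective]
  exact Groth.Agent.H36.PPL.length_self_of_ringEquiv (RingHom.quotientKerEquivOfSurjective hφ)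

section main

variable {K L : Type u} [Field K] [Field L] [Algebra K L] {Y : Scheme.{u}}
  (p : Y ⟶ Spec (CommRingCat.of K))

/-- The closed immersion `(Y_red) ⊗ L ⟶ Y ⊗ L`. -/
noncomputable abbrev jmap :
    pullback (Y.nilradical.subschemeι ≫ p) (Spec.map (CommRingCat.ofHom (algebraMap K L))) ⟶
      pullback p (Spec.map (CommRingCat.ofHom (algebraMap K L))) :=
  pullback.map (Y.nilradical.subschemeι ≫ p) (Spec.map (CommRingCat.ofHom (algebraMap K L))) p
    (Spec.map (CommRingCat.ofHom (algebraMap K L))) Y.nilradical.subschemeι (𝟙 _) (𝟙 _)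
    (Category.comp_id _) ((Category.comp_id _).trans (Category.id_comp _).symm)

theorem jmap_fst : jmap (L := L) p ≫ pullback.fst p _ =
    pullback.fst (Y.nilradical.subschemeι ≫ p) _ ≫ Y.nilradical.subschemeι :=
  pullback.lift_fst _ _ _

theorem jmap_snd : jmap (L := L) p ≫ pullback.snd p _ =
    pullback.snd (Y.nilradical.subschemeι ≫ p) _ := by
  unfold jmap
  rw [pullback.lift_snd, Category.comp_id]

theorem isPullback_jmap :
    IsPullback (jmap (L := L) p) (pullback.fst (Y.nilradical.subschemeι ≫ p) _)
      (pullback.fst p (Spec.map (CommRingCat.ofHom (algebraMap K L)))) Y.nilradical.subschemeι := by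
  refine IsPullback.of_right ?_ (jmap_fst p) (IsPullback.of_hasPullback p _).flip
  rw [jmap_snd]
  exact (IsPullback.of_hasPullback _ _).flip

instance isClosedImmersion_jmap : IsClosedImmersion (jmap (L := L) p) :=
  MorphismProperty.of_isPullback (P := @IsClosedImmersion) (isPullback_jmap p).flip inferInstance

instance flat_fst : Flat (pullback.fst p (Spec.map (CommRingCat.ofHom (algebraMap K L)))) := by
  have hfl : Flat (Spec.map (CommRingCat.ofHom (algebraMap K L))) := by
    rw [HasRingHomProperty.Spec_iff (P := @Flat)]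
    simp only [CommRingCat.hom_ofHom]
    rw [RingHom.flat_algebraMap_iff]
    infer_instance
  infer_instance


local notation "gKL" => (Spec.map (CommRingCat.ofHom (algebraMap K L)))
local notation "ιY" => (Scheme.IdealSheafData.subschemeι (Scheme.nilradical Y))

set_option maxHeartbeats 800000 in
/-- The kernel of the stalk map of `(Y_red) ⊗ L ⟶ Y ⊗ L` at a point above a maximal point is
generated by the maximal ideal of the local ring of `Y`. -/
theorem ker_stalkMap_jmap
    (z'' : ↥(pullback (ιY ≫ p) gKL))
    (hmax : ∀ z : ↥(pullback p gKL), z ⤳ jmap p z'' → z = jmap p z'') :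
    RingHom.ker ((jmap (L := L) p).stalkMap z'').hom =
      (maximalIdeal (Y.presheaf.stalk (pullback.fst p gKL (jmap p z'')))).map
        ((pullback.fst p gKL).stalkMap (jmap p z'')).hom := by
  haveI h0 : Ring.KrullDimLE 0 (Y.presheaf.stalk (pullback.fst p gKL (jmap p z''))) :=
    Groth.Agent.H82.TensLenSch.krullDimLE_zero_stalk_of_maximal _
      (maximal_of_flat (pullback.fst p gKL) _ hmax)
  apply le_antisymm
  · -- `ker ≤ m_A B`
    set I := (maximalIdeal (Y.presheaf.stalk (pullback.fst p gKL (jmap p z'')))).map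
      ((pullback.fst p gKL).stalkMap (jmap p z'')).hom with hI
    have hIle : I ≤ maximalIdeal _ :=
      ((IsLocalRing.local_hom_TFAE ((pullback.fst p gKL).stalkMap (jmap p z'')).hom).out 0 2).mp
        (inferInstance : IsLocalHom ((pullback.fst p gKL).stalkMap (jmap p z'')).hom)
    have hIne : I ≠ ⊤ := fun h =>
      (Ideal.IsPrime.ne_top (inferInstance : (maximalIdeal
        ((pullback p gKL).presheaf.stalk (jmap p z''))).IsPrime)) (top_le_iff.mp (h ▸ hIle))
    haveI : Nontrivial ((pullback p gKL).presheaf.stalk (jmap p z'') ⧸ I) :=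
      Ideal.Quotient.nontrivial_iff.mpr hIne
    haveI : IsLocalRing ((pullback p gKL).presheaf.stalk (jmap p z'') ⧸ I) :=
      IsLocalRing.of_surjective' (Ideal.Quotient.mk I) Ideal.Quotient.mk_surjective
    let R : CommRingCat.{u} := CommRingCat.of ((pullback p gKL).presheaf.stalk (jmap p z'') ⧸ I)
    haveI : IsLocalRing R := ‹_›
    let q : (pullback p gKL).presheaf.stalk (jmap p z'') ⟶ R :=
      CommRingCat.ofHom (Ideal.Quotient.mk I)
    let s : Spec R ⟶ pullback p gKL := Spec.map q ≫ (pullback p gKL).fromSpecStalk (jmap p z'')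
    haveI hqloc : IsLocalHom q.hom :=
      IsLocalHom.of_surjective (Ideal.Quotient.mk I) Ideal.Quotient.mk_surjective
    -- the residue field map `κ(A) → R`
    let lift : ResidueField (Y.presheaf.stalk (pullback.fst p gKL (jmap p z''))) →+*
        ((pullback p gKL).presheaf.stalk (jmap p z'') ⧸ I) :=
      Ideal.Quotient.lift (maximalIdeal (Y.presheaf.stalk (pullback.fst p gKL (jmap p z''))))
        ((Ideal.Quotient.mk I).comp ((pullback.fst p gKL).stalkMap (jmap p z'')).hom)
        (fun a ha => by
          rw [RingHom.comp_apply, Ideal.Quotient.eq_zero_iff_mem]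
          exact Ideal.mem_map_of_mem _ ha)
    let liftC : Y.residueField (pullback.fst p gKL (jmap p z'')) ⟶ R := CommRingCat.ofHom lift
    have hlift : Y.residue (pullback.fst p gKL (jmap p z'')) ≫ liftC =
        (pullback.fst p gKL).stalkMap (jmap p z'') ≫ q := by
      ext a
      rfl
    have hsπ : s ≫ pullback.fst p gKL =
        Spec.map liftC ≫ Y.fromSpecResidueField (pullback.fst p gKL (jmap p z'')) := by
      unfold Scheme.fromSpecResidueField
      rw [← Spec.map_comp_assoc, hlift, Spec.map_comp_assoc,
        Scheme.SpecMap_stalkMap_fromSpecStalk, Category.assoc]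
    -- lift `Spec κ → Y` through `Y_red`
    let l₀ : Spec (Y.residueField (pullback.fst p gKL (jmap p z''))) ⟶ Y.nilradical.subscheme :=
      IsClosedImmersion.lift ιY (Y.fromSpecResidueField (pullback.fst p gKL (jmap p z''))) (by
        rw [Scheme.IdealSheafData.ker_subschemeι]
        exact nilradical_le_ker _)
    have hl₀ : l₀ ≫ ιY = Y.fromSpecResidueField (pullback.fst p gKL (jmap p z'')) :=
      IsClosedImmersion.lift_fac _ _ _
    let t : Spec R ⟶ pullback (ιY ≫ p) gKL :=
      pullback.lift (Spec.map liftC ≫ l₀) (s ≫ pullback.snd p gKL) (by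
        rw [Category.assoc, ← Category.assoc l₀, hl₀, ← Category.assoc, ← hsπ]
        simp only [s, Category.assoc, pullback.condition])
    have ht : t ≫ jmap p = s := by
      apply pullback.hom_ext
      · rw [Category.assoc, jmap_fst, ← Category.assoc, pullback.lift_fst, Category.assoc, hl₀, hsπ]
      · rw [Category.assoc, jmap_snd, pullback.lift_snd]
    have htpt : t (closedPoint R) = z'' := by
      apply (jmap p).isEmbedding.injective
      rw [← Scheme.Hom.comp_apply, ht, Scheme.Hom.comp_apply, Spec_closedPoint,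
        Scheme.fromSpecStalk_closedPoint]
    obtain ⟨ψ, hψ⟩ := exists_factor_fromSpecStalk t z'' htpt
    have hq : q = (jmap p).stalkMap z'' ≫ ψ := by
      apply Spec.map_injective
      rw [← cancel_mono ((pullback p gKL).fromSpecStalk (jmap p z'')), Spec.map_comp,
        Category.assoc, Scheme.SpecMap_stalkMap_fromSpecStalk, ← Category.assoc, ← hψ, ht]
    intro b hb
    rw [RingHom.mem_ker] at hb
    have hqb : q.hom b = 0 := by
      rw [hq, CommRingCat.hom_comp, RingHom.comp_apply, hb, map_zero]
    exact Ideal.Quotient.eq_zero_iff_mem.mp hqb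
  · -- `m_A B ≤ ker`
    rw [Ideal.map_le_iff_le_comap]
    intro a ha
    rw [Ideal.mem_comap, RingHom.mem_ker]
    have hnil : IsNilpotent a := by
      rw [← mem_nilradical, Ring.KrullDimLE.nilradical_eq_maximalIdeal]
      exact ha
    have hcomp : ((jmap p).stalkMap z'').hom (((pullback.fst p gKL).stalkMap (jmap p z'')).hom a) =
        ((jmap p ≫ pullback.fst p gKL).stalkMap z'').hom a := by
      rw [Scheme.Hom.stalkMap_comp]
      rfl
    rw [hcomp]
    refine stalkMap_eq_zero_of_eq (jmap_fst p) z'' a hnil ?_
    intro a' ha'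
    rw [Scheme.Hom.stalkMap_comp]
    change ((pullback.fst (ιY ≫ p) gKL).stalkMap z'').hom
      ((Scheme.Hom.stalkMap ιY (pullback.fst (ιY ≫ p) gKL z'')).hom a') = 0
    have : (Scheme.Hom.stalkMap ιY (pullback.fst (ιY ≫ p) gKL z'')).hom a' = 0 := (ha'.map _).eq_zero
    rw [this, map_zero]

/-- The general length formula: `length O_{Y'',x''} = length O_{Y,x} * length O_{Z'',z''}`. -/
theorem main
    (z'' : ↥(pullback (ιY ≫ p) gKL))
    (hmax : ∀ z : ↥(pullback p gKL), z ⤳ jmap p z'' → z = jmap p z'') :
    Module.length ((pullback p gKL).presheaf.stalk (jmap p z''))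
        ((pullback p gKL).presheaf.stalk (jmap p z'')) =
      Module.length (Y.presheaf.stalk (pullback.fst p gKL (jmap p z'')))
          (Y.presheaf.stalk (pullback.fst p gKL (jmap p z''))) *
        Module.length ((pullback (ιY ≫ p) gKL).presheaf.stalk z'')
          ((pullback (ιY ≫ p) gKL).presheaf.stalk z'') := by
  letI alg : Algebra (Y.presheaf.stalk (pullback.fst p gKL (jmap p z'')))
      ((pullback p gKL).presheaf.stalk (jmap p z'')) :=
    ((pullback.fst p gKL).stalkMap (jmap p z'')).hom.toAlgebra
  haveI : IsLocalHom (algebraMap (Y.presheaf.stalk (pullback.fst p gKL (jmap p z'')))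
      ((pullback p gKL).presheaf.stalk (jmap p z''))) :=
    (inferInstance : IsLocalHom ((pullback.fst p gKL).stalkMap (jmap p z'')).hom)
  haveI : Module.Flat (Y.presheaf.stalk (pullback.fst p gKL (jmap p z'')))
      ((pullback p gKL).presheaf.stalk (jmap p z'')) := Flat.stalkMap (pullback.fst p gKL) _
  have h2 := IsLocalRing.length_baseChange (Y.presheaf.stalk (pullback.fst p gKL (jmap p z'')))
    ((pullback p gKL).presheaf.stalk (jmap p z''))
    (Y.presheaf.stalk (pullback.fst p gKL (jmap p z'')))
  have h3 := (AlgebraTensorModule.rid (Y.presheaf.stalk (pullback.fst p gKL (jmap p z'')))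
    ((pullback p gKL).presheaf.stalk (jmap p z''))
    ((pullback p gKL).presheaf.stalk (jmap p z''))).length_eq
  have hker := ker_stalkMap_jmap p z'' hmax
  have hsurj : Function.Surjective ((jmap (L := L) p).stalkMap z'').hom :=
    (jmap p).stalkMap_surjective z''
  have h4 : Module.length ((pullback p gKL).presheaf.stalk (jmap p z''))
      ((pullback p gKL).presheaf.stalk (jmap p z'') ⧸
        (maximalIdeal (Y.presheaf.stalk (pullback.fst p gKL (jmap p z'')))).map
          (algebraMap (Y.presheaf.stalk (pullback.fst p gKL (jmap p z'')))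
            ((pullback p gKL).presheaf.stalk (jmap p z'')))) =
      Module.length ((pullback (ιY ≫ p) gKL).presheaf.stalk z'')
          ((pullback (ιY ≫ p) gKL).presheaf.stalk z'') := by
    exact length_quot_eq_of_ker _ hsurj _ hker
  rw [← h3, h2, h4]

end main

end Groth.Agent.H82.TensLenRed
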