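import Groth.Prelude.Def_ActBC
import Mathlib

set_option autoImplicit false
universe u
open CategoryTheory CategoryTheory.Limits MonoidalCategory CartesianMonoidalCategory MonObj GrpObj AlgebraicGeometry

namespace Groth.Agent.H82.TorsDesc

/-- `Over.pullback f` reflects isomorphisms for `f` faithfully flat quasi-compact. -/
theorem isIso_of_isIso_pullback_map {X X' : Scheme.{u}} (f : X' ⟶ X)
    [Flat f] [Surjective f] [QuasiCompact f] {A B : Over X} (φ : A ⟶ B)
    (h : IsIso ((Over.pullback f).map φ)) : IsIso φ := by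
  have hl : IsIso ((Over.pullback f).map φ).left :=
    inferInstanceAs (IsIso ((Over.forget _).map ((Over.pullback f).map φ)))
  -- the square
  have sq : IsPullback ((Over.pullback f).map φ).left (pullback.fst A.hom f)
      (pullback.fst B.hom f) φ.left := by
    have h1 : IsPullback (pullback.fst B.hom f) (pullback.snd B.hom f) B.hom f :=
      IsPullback.of_hasPullback _ _
    have h2 : IsPullback (pullback.fst A.hom f) (pullback.snd A.hom f) (φ.left ≫ B.hom) f := by
      rw [Over.w φ]; exact IsPullback.of_hasPullback _ _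
    have h3 : ((Over.pullback f).map φ).left ≫ pullback.snd B.hom f = pullback.snd A.hom f := by
      dsimp only [Over.pullback]; exact pullback.lift_snd _ _ _
    have h4 : ((Over.pullback f).map φ).left ≫ pullback.fst B.hom f =
        pullback.fst A.hom f ≫ φ.left := by
      dsimp only [Over.pullback]; exact pullback.lift_fst _ _ _
    exact (IsPullback.of_right (h3 ▸ h2.flip) h4 h1.flip)
  have hQ : (@Surjective ⊓ @Flat ⊓ @QuasiCompact : MorphismProperty Scheme.{u})
      (pullback.fst B.hom f) :=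
    ⟨⟨inferInstance, inferInstance⟩, inferInstance⟩
  have : IsIso φ.left :=
    MorphismProperty.of_isPullback_of_descendsAlong
      (P := MorphismProperty.isomorphisms Scheme.{u})
      (Q := (@Surjective ⊓ @Flat ⊓ @QuasiCompact : MorphismProperty Scheme.{u})) sq hQ hl
  have : IsIso ((Over.forget X).map φ) := this
  exact isIso_of_reflects_iso φ (Over.forget X)

/-- Descent of pseudo-torsors along a faithfully flat quasi-compact base change. -/
theorem isPseudoTorsorSch_of_bc {X X' : Scheme.{u}} (f : X' ⟶ X)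
    [Flat f] [Surjective f] [QuasiCompact f] {G P : Over X} [GrpObj G] (a : AlgGrp.Action G P)
    (h : NonAbH1.IsPseudoTorsorSch (a.bc f)) : NonAbH1.IsPseudoTorsorSch a := by
  have key : lift (a.bc f).act (snd _ _) ≫ Functor.LaxMonoidal.μ (Over.pullback f) P P =
      Functor.LaxMonoidal.μ (Over.pullback f) G P ≫ (Over.pullback f).map (lift a.act (snd G P)) := by
    rw [← Functor.Monoidal.lift_μ, comp_lift_assoc, Functor.Monoidal.μ_snd, AlgGrp.Action.bc_act]
  have h1 : IsIso (lift (a.bc f).act (snd _ _)) := h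
  have h2 : IsIso (Functor.LaxMonoidal.μ (Over.pullback f) G P ≫
      (Over.pullback f).map (lift a.act (snd G P))) := by
    rw [← key]; infer_instance
  have h3 : IsIso ((Over.pullback f).map (lift a.act (snd G P))) :=
    IsIso.of_isIso_comp_left (Functor.LaxMonoidal.μ (Over.pullback f) G P) _
  exact isIso_of_isIso_pullback_map f _ h3

/-- Descent of local triviality for the fpqc topology. -/
theorem isLocallyTrivialFor_of_bc {X X' : Scheme.{u}} (f : X' ⟶ X)
    [Flat f] [Surjective f] [QuasiCompact f] (P : Over X)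
    (h : NonAbH1.IsLocallyTrivialFor Scheme.fpqcPrecoverage (Red.bc f P)) :
    NonAbH1.IsLocallyTrivialFor Scheme.fpqcPrecoverage P := by
  obtain ⟨R, hR, hsec⟩ := h
  obtain ⟨I, Y, g, rfl⟩ := Presieve.exists_eq_ofArrows R
  refine ⟨Presieve.ofArrows (fun p : Σ _ : PUnit.{1}, I ↦ Y p.2) (fun p ↦ g p.2 ≫ f), ?_, ?_⟩
  · refine Precoverage.comp_mem_coverings (J := Scheme.fpqcPrecoverage)
      (X := fun _ : PUnit.{1} ↦ X') (fun _ ↦ f) ?_ (σ := fun _ ↦ I) (Y := fun _ i ↦ Y i) (fun _ i ↦ g i)
      (fun _ ↦ hR)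
    rw [Presieve.ofArrows_pUnit]
    exact Scheme.Hom.singleton_mem_fpqcPrecoverage f
  · rintro T _ ⟨p⟩
    obtain ⟨s, hs⟩ := hsec (g p.2) (Presieve.ofArrows.mk p.2)
    refine ⟨s ≫ pullback.fst P.hom f, ?_⟩
    rw [Category.assoc, pullback.condition, ← Category.assoc]
    congr 1

theorem main {X X' : Scheme.{u}} (f : X' ⟶ X)
    [Flat f] [Surjective f] [QuasiCompact f]
    {J P : Over X} [GrpObj J] (a : AlgGrp.Action J P)
    (a' : AlgGrp.Action (Red.bc f J) (Red.bc f P))
    (ha' : Functor.LaxMonoidal.μ (Over.pullback f) J P ≫ (Over.pullback f).map a.act = a'.act) :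
    NonAbH1.IsTorsorFor Scheme.fpqcPrecoverage a ↔ NonAbH1.IsTorsorFor Scheme.fpqcPrecoverage a' := by
  have e : a' = a.bc f := AlgGrp.Action.ext' ha'.symm
  subst e
  refine ⟨fun h ↦ NonAbH1.isTorsorFor_bc f _ h, fun h ↦ ?_⟩
  exact ⟨isPseudoTorsorSch_of_bc f a h.1, isLocallyTrivialFor_of_bc f P h.2⟩

end Groth.Agent.H82.TorsDesc
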