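import Mathlib

set_option autoImplicit false
universe u
open CategoryTheory CategoryTheory.Limits MonoidalCategory CartesianMonoidalCategory MonObj AlgebraicGeometry

namespace Groth.Agent.H82.UnitGrpFT

section Cat

variable {C : Type*} [Category C] [CartesianMonoidalCategory C] [BraidedCategory C]
  [HasPullbacks C] {M G : C} [MonObj M]

/-- the morphism `(x, y) ↦ (xy, yx)` -/
noncomputable def mm (M : C) [MonObj M] : M ⊗ M ⟶ M ⊗ M :=
  lift μ[M] ((β_ M M).hom ≫ μ[M])

/-- the object of pairs of mutually inverse points -/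
noncomputable abbrev unitPairs (M : C) [MonObj M] : C :=
  pullback (mm M) (lift η[M] η[M])

theorem lift_mm {T : C} (x y : T ⟶ M) : lift x y ≫ mm M = lift (x * y) (y * x) := by
  unfold mm
  apply CartesianMonoidalCategory.hom_ext
  · simp [Hom.mul_def]
  · simp [Hom.mul_def]

theorem exists_iso_unitPairs (i : G ⟶ M) [Mono i]
    (hi : ∀ (T : C) (m : T ⟶ M), (∃ g : T ⟶ G, g ≫ i = m) ↔ IsUnit m) :
    Nonempty (G ≅ unitPairs M) := by
  obtain ⟨u, hu⟩ := (hi G i).1 ⟨𝟙 G, Category.id_comp _⟩
  set j : G ⟶ M := ↑u⁻¹ with hj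
  have hij : i * j = 1 := by rw [← hu, hj]; exact u.mul_inv
  have hji : j * i = 1 := by rw [← hu, hj]; exact u.inv_mul
  -- G → P
  let φ : G ⟶ unitPairs M := pullback.lift (lift i j) (toUnit G) (by
    rw [lift_mm, hij, hji]
    apply CartesianMonoidalCategory.hom_ext <;> simp [Hom.one_def])
  -- P → G
  let x : unitPairs M ⟶ M := pullback.fst (mm M) (lift η[M] η[M]) ≫ fst M M
  let y : unitPairs M ⟶ M := pullback.fst (mm M) (lift η[M] η[M]) ≫ snd M M
  have hfst : pullback.fst (mm M) (lift η[M] η[M]) = lift x y := by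
    apply CartesianMonoidalCategory.hom_ext <;> simp [x, y]
  have hcond : lift (x * y) (y * x) = lift 1 1 := by
    rw [← lift_mm, ← hfst, pullback.condition]
    apply CartesianMonoidalCategory.hom_ext <;>
      simp [Hom.one_def, toUnit_unique (pullback.snd (mm M) (lift η[M] η[M])) (toUnit _)]
  have hxy : x * y = 1 := by
    have := congrArg (· ≫ fst M M) hcond
    simpa using this
  have hyx : y * x = 1 := by
    have := congrArg (· ≫ snd M M) hcond
    simpa using this
  have hux : IsUnit x := ⟨⟨x, y, hxy, hyx⟩, rfl⟩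
  obtain ⟨g, hg⟩ := (hi _ x).2 hux
  refine ⟨⟨φ, g, ?_, ?_⟩⟩
  · rw [← cancel_mono i, Category.assoc, hg, Category.id_comp]
    change pullback.lift (lift i j) (toUnit G) _ ≫ pullback.fst (mm M) (lift η[M] η[M]) ≫ fst M M = i
    rw [pullback.lift_fst_assoc, lift_fst]
  · apply pullback.hom_ext
    · rw [Category.assoc, Category.id_comp]
      simp only [φ, pullback.lift_fst]
      rw [hfst]
      have h1 : g ≫ j = y := by
        have e1 : (g ≫ i) * (g ≫ j) = 1 := by
          rw [← MonObj.comp_mul, hij, MonObj.comp_one]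
        rw [hg] at e1
        calc g ≫ j = (y * x) * (g ≫ j) := by rw [hyx, _root_.one_mul]
          _ = y * (x * (g ≫ j)) := _root_.mul_assoc _ _ _
          _ = y := by rw [e1, _root_.mul_one]
      apply CartesianMonoidalCategory.hom_ext
      · simp [hg]
      · simp [h1]
    · exact toUnit_unique _ _

end Cat

section Sch

theorem main (k : Type u) [Field k]
    (M G : Over (Spec (CommRingCat.of k))) [MonObj M] [LocallyOfFiniteType M.hom] [QuasiCompact M.hom]
    (i : G ⟶ M) [Mono i]
    (hi : ∀ (T : Over (Spec (CommRingCat.of k))) (m : T ⟶ M), (∃ g : T ⟶ G, g ≫ i = m) ↔ IsUnit m) :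
    LocallyOfFiniteType G.hom ∧ QuasiCompact G.hom := by
  obtain ⟨e⟩ := exists_iso_unitPairs i hi
  -- M ⊗ M is of finite type
  have h1 : LocallyOfFiniteType (M ⊗ M).hom := by
    rw [Over.tensorObj_hom]; infer_instance
  have h2 : QuasiCompact (M ⊗ M).hom := by
    rw [Over.tensorObj_hom]; infer_instance
  -- the unit section of M ⊗ M
  have hw : (lift η[M] η[M]).left ≫ (M ⊗ M).hom = 𝟙 _ := Over.w (lift η[M] η[M])
  have h3 : LocallyOfFiniteType (lift η[M] η[M]).left := by
    have : LocallyOfFiniteType ((lift η[M] η[M]).left ≫ (M ⊗ M).hom) := by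
      rw [hw]; infer_instance
    exact locallyOfFiniteType_of_comp _ (M ⊗ M).hom
  have hN : IsLocallyNoetherian (M ⊗ M).left := LocallyOfFiniteType.isLocallyNoetherian (M ⊗ M).hom
  have hQS : QuasiSeparatedSpace (M ⊗ M).left := inferInstance
  have hCS : CompactSpace (𝟙_ (Over (Spec (CommRingCat.of k)))).left :=
    inferInstanceAs (CompactSpace (Spec (CommRingCat.of k)))
  have h4 : QuasiCompact (lift η[M] η[M]).left := inferInstance
  have sq := (IsPullback.of_hasPullback (mm M) (lift η[M] η[M])).map (Over.forget _)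
  have h5 : LocallyOfFiniteType (pullback.fst (mm M) (lift η[M] η[M])).left :=
    MorphismProperty.of_isPullback (P := @LocallyOfFiniteType) sq.flip h3
  have h6 : QuasiCompact (pullback.fst (mm M) (lift η[M] η[M])).left :=
    MorphismProperty.of_isPullback (P := @QuasiCompact) sq.flip h4
  have hP : (unitPairs M).hom = (pullback.fst (mm M) (lift η[M] η[M])).left ≫ (M ⊗ M).hom :=
    (Over.w _).symm
  have hG : G.hom = e.hom.left ≫ (unitPairs M).hom := (Over.w e.hom).symm
  have : IsIso e.hom.left := inferInstanceAs (IsIso ((Over.forget _).map e.hom))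
  rw [hG, hP]
  exact ⟨inferInstance, inferInstance⟩

end Sch

end Groth.Agent.H82.UnitGrpFT
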