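import Mathlib

/-! Extension of places (Atiyah–Macdonald 5.21 for a `k`-point with `k` algebraically closed):
a `k`-point of a subalgebra of a field extends to a valuation ring with residue field `k`
(helper82). -/

set_option autoImplicit false
set_option linter.style.haveILetI false
universe u

namespace Groth.Agent.H82.ValExt

open IsLocalRing

/-- partial `k`-points of `K` -/
structure Pair (k K : Type u) [Field k] [Field K] [Algebra k K] where
  C : Subalgebra k K
  f : C →ₐ[k] k

variable {k K : Type u} [Field k] [Field K] [Algebra k K]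

instance : Preorder (Pair k K) where
  le a b := ∃ h : a.C ≤ b.C, ∀ z : a.C, b.f (Subalgebra.inclusion h z) = a.f z
  le_refl a := ⟨le_rfl, fun z => rfl⟩
  le_trans a b c hab hbc := ⟨hab.1.trans hbc.1, fun z => by rw [← hab.2 z, ← hbc.2]; rfl⟩

theorem Pair.le_def (a b : Pair k K) :
    a ≤ b ↔ ∃ h : a.C ≤ b.C, ∀ z : a.C, b.f (Subalgebra.inclusion h z) = a.f z := Iff.rfl

theorem exists_isMax_ge (a : Pair k K) : ∃ m, a ≤ m ∧ IsMax m := by
  refine zorn_le_nonempty_Ici₀ a ?_ a le_rfl
  intro c hc hchain y hy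
  haveI : Nonempty c := ⟨⟨y, hy⟩⟩
  have dir : Directed (· ≤ ·) (fun i : c => i.1.C) := by
    intro i j
    rcases hchain.total i.2 j.2 with h | h
    · exact ⟨j, h.1, le_rfl⟩
    · exact ⟨i, le_rfl, h.1⟩
  have hf : ∀ (i j : c) (h : i.1.C ≤ j.1.C),
      i.1.f = (j.1.f).comp (Subalgebra.inclusion h) := by
    intro i j h
    rcases hchain.total i.2 j.2 with h' | h'
    · ext z; exact (h'.2 z).symm
    · ext z
      have := h'.2 (Subalgebra.inclusion h z)
      rw [AlgHom.comp_apply, ← this]
      rfl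
  refine ⟨⟨⨆ i : c, i.1.C, Subalgebra.iSupLift _ dir (fun i => i.1.f) hf _ le_rfl⟩, ?_⟩
  intro z hz
  exact ⟨le_iSup (fun i : c => i.1.C) ⟨z, hz⟩, fun w =>
    Subalgebra.iSupLift_inclusion (fun i : c => i.1.C) (dir := dir) (hf := hf)
      (i := (⟨z, hz⟩ : c)) w _⟩

/-- extension of a `k`-point to a simple extension of the subalgebra, along a maximal ideal -/
theorem exists_extension [IsAlgClosed k] (R : Subalgebra k K) (g : R →ₐ[k] k) (x : K)
    (M' : Ideal (Algebra.adjoin k ((R : Set K) ∪ {x}))) [M'.IsMaximal]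
    (hM : ∀ r : R, g r = 0 →
      (⟨r.1, Algebra.subset_adjoin (Or.inl r.2)⟩ : Algebra.adjoin k ((R : Set K) ∪ {x})) ∈ M') :
    ∃ g' : Algebra.adjoin k ((R : Set K) ∪ {x}) →ₐ[k] k,
      ∀ r : R, g' ⟨r.1, Algebra.subset_adjoin (Or.inl r.2)⟩ = g r := by
  letI : Field (Algebra.adjoin k ((R : Set K) ∪ {x}) ⧸ M') := Ideal.Quotient.field M'
  have hxm : x ∈ Algebra.adjoin k ((R : Set K) ∪ {x}) := Algebra.subset_adjoin (Or.inr rfl)
  -- elements of `R` are congruent to constants
  have hconst : ∀ r : R, Ideal.Quotient.mk M'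
      (⟨r.1, Algebra.subset_adjoin (Or.inl r.2)⟩ : Algebra.adjoin k ((R : Set K) ∪ {x})) =
      algebraMap k (Algebra.adjoin k ((R : Set K) ∪ {x}) ⧸ M') (g r) := by
    intro r
    have h1 : g (r - algebraMap k R (g r)) = 0 := by
      rw [map_sub, AlgHom.commutes]; simp
    have h2 := hM _ h1
    rw [← Ideal.Quotient.eq_zero_iff_mem] at h2
    rw [← sub_eq_zero, ← h2]
    rfl
  let π : Polynomial k →ₐ[k] (Algebra.adjoin k ((R : Set K) ∪ {x}) ⧸ M') :=
    Polynomial.aeval (Ideal.Quotient.mk M' ⟨x, hxm⟩)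
  have hsurj : Function.Surjective π := by
    intro z
    obtain ⟨⟨w, hw⟩, rfl⟩ := Ideal.Quotient.mk_surjective z
    change Ideal.Quotient.mk M' ⟨w, hw⟩ ∈ π.range
    induction hw using Algebra.adjoin_induction with
    | mem w hw =>
      rcases hw with hw | hw
      · rw [hconst ⟨w, hw⟩]
        exact Subalgebra.algebraMap_mem _ _
      · obtain rfl : w = x := hw
        exact ⟨Polynomial.X, by simp [π]⟩
    | algebraMap c => exact Subalgebra.algebraMap_mem _ c
    | add a b ha hb iha ihb => exact Subalgebra.add_mem _ iha ihb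
    | mul a b ha hb iha ihb => exact Subalgebra.mul_mem _ iha ihb
  haveI : Algebra.FiniteType k (Algebra.adjoin k ((R : Set K) ∪ {x}) ⧸ M') :=
    Algebra.FiniteType.of_surjective π hsurj
  haveI : Module.Finite k (Algebra.adjoin k ((R : Set K) ∪ {x}) ⧸ M') :=
    finite_of_finite_type_of_isJacobsonRing k _
  haveI : Algebra.IsIntegral k (Algebra.adjoin k ((R : Set K) ∪ {x}) ⧸ M') :=
    Algebra.IsIntegral.of_finite k _
  have hbij : Function.Bijective
      (algebraMap k (Algebra.adjoin k ((R : Set K) ∪ {x}) ⧸ M')) :=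
    IsAlgClosed.algebraMap_bijective_of_isIntegral
  let e : k ≃ₐ[k] (Algebra.adjoin k ((R : Set K) ∪ {x}) ⧸ M') :=
    AlgEquiv.ofBijective (Algebra.ofId k _) hbij
  refine ⟨(e.symm : _ →ₐ[k] k).comp (Ideal.Quotient.mkₐ k M'), fun r => ?_⟩
  change e.symm (Ideal.Quotient.mk M' _) = g r
  rw [hconst r, AlgEquiv.symm_apply_eq]
  rfl

/-- a maximal pair contains the inverses of the elements at which its point does not vanish -/
theorem inv_mem_of_isMax (m : Pair k K) (hm : IsMax m) (s : m.C) (hs : m.f s ≠ 0) :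
    (s : K)⁻¹ ∈ m.C := by
  haveI hMp : (RingHom.ker m.f).IsPrime := RingHom.ker_isPrime m.f
  have hψu : ∀ y : (RingHom.ker m.f).primeCompl, IsUnit (m.C.val y) := fun y => by
    have h0 : (y : m.C) ≠ 0 := fun h => y.2 (by rw [h]; exact (RingHom.ker m.f).zero_mem)
    refine IsUnit.mk0 _ ?_
    intro h
    exact h0 (Subtype.ext h)
  have hgu : ∀ y : (RingHom.ker m.f).primeCompl, IsUnit (m.f y) := fun y =>
    IsUnit.mk0 _ (fun h => y.2 h)
  let ψ : Localization.AtPrime (RingHom.ker m.f) →ₐ[k] K :=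
    IsLocalization.liftAlgHom (M := (RingHom.ker m.f).primeCompl) (f := m.C.val) hψu
  let gM : Localization.AtPrime (RingHom.ker m.f) →ₐ[k] k :=
    IsLocalization.liftAlgHom (M := (RingHom.ker m.f).primeCompl) (f := m.f) hgu
  have hψinj : Function.Injective ψ := by
    change Function.Injective (IsLocalization.lift hψu)
    rw [IsLocalization.lift_injective_iff]
    intro a b
    constructor
    · intro h
      obtain ⟨c, hc⟩ := (IsLocalization.eq_iff_exists (RingHom.ker m.f).primeCompl _).mp h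
      have hc0 : ((c : m.C) : K) ≠ 0 := (hψu c).ne_zero
      have := congrArg (m.C.val) hc
      simp only [map_mul] at this
      exact mul_left_cancel₀ hc0 this
    · intro h
      have : a = b := Subtype.ext h
      rw [this]
  let e : Localization.AtPrime (RingHom.ker m.f) ≃ₐ[k] ψ.range := AlgEquiv.ofInjective ψ hψinj
  have hψalg : ∀ z : m.C, ψ (algebraMap m.C (Localization.AtPrime (RingHom.ker m.f)) z) = z :=
    fun z => IsLocalization.lift_eq hψu z
  have hgalg : ∀ z : m.C, gM (algebraMap m.C (Localization.AtPrime (RingHom.ker m.f)) z) = m.f z :=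
    fun z => IsLocalization.lift_eq hgu z
  have hle : m ≤ ⟨ψ.range, gM.comp (e.symm : ψ.range →ₐ[k] _)⟩ := by
    refine ⟨fun z hz => ⟨algebraMap m.C _ ⟨z, hz⟩, hψalg ⟨z, hz⟩⟩, fun z => ?_⟩
    change gM (e.symm _) = m.f z
    have : e.symm (Subalgebra.inclusion (fun z hz => ⟨algebraMap m.C _ ⟨z, hz⟩, hψalg ⟨z, hz⟩⟩ :
        m.C ≤ ψ.range) z) = algebraMap m.C (Localization.AtPrime (RingHom.ker m.f)) z := by
      rw [AlgEquiv.symm_apply_eq]
      apply Subtype.ext
      change (z : K) = ψ _
      rw [hψalg]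
    rw [this, hgalg]
  have hge := hm hle
  apply hge.1
  refine ⟨IsLocalization.mk' _ (1 : m.C) (⟨s, hs⟩ : (RingHom.ker m.f).primeCompl), ?_⟩
  change IsLocalization.lift hψu _ = _
  rw [IsLocalization.lift_mk'_spec]
  simp only [map_one]
  change (1 : K) = (s : K) * (s : K)⁻¹
  rw [mul_inv_cancel₀]
  intro h
  apply hs
  have : s = 0 := Subtype.ext h
  rw [this, map_zero]

theorem isUnit_iff_of_isMax (m : Pair k K) (hm : IsMax m) (s : m.C) : IsUnit s ↔ m.f s ≠ 0 := by
  constructor
  · intro h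
    exact (h.map m.f).ne_zero
  · intro hs
    have hinv := inv_mem_of_isMax m hm s hs
    have hs0 : (s : K) ≠ 0 := by
      intro h
      apply hs
      have : s = 0 := Subtype.ext h
      rw [this, map_zero]
    refine isUnit_iff_exists_inv.mpr ⟨⟨(s : K)⁻¹, hinv⟩, ?_⟩
    apply Subtype.ext
    change (s : K) * (s : K)⁻¹ = 1
    exact mul_inv_cancel₀ hs0

theorem isLocalRing_of_isMax (m : Pair k K) (hm : IsMax m) : IsLocalRing m.C := by
  haveI : Nontrivial m.C := inferInstance
  refine IsLocalRing.of_isUnit_or_isUnit_one_sub_self ?_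
  intro a
  by_cases ha : m.f a = 0
  · right
    rw [isUnit_iff_of_isMax m hm, map_sub, map_one, ha, sub_zero]
    exact one_ne_zero
  · left
    exact (isUnit_iff_of_isMax m hm a).mpr ha

theorem ker_eq_maximalIdeal_of_isMax (m : Pair k K) (hm : IsMax m) :
    haveI := isLocalRing_of_isMax m hm
    RingHom.ker m.f = IsLocalRing.maximalIdeal m.C := by
  haveI := isLocalRing_of_isMax m hm
  ext s
  rw [RingHom.mem_ker, IsLocalRing.mem_maximalIdeal, mem_nonunits_iff, isUnit_iff_of_isMax m hm,
    not_not]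

/-- a maximal pair is a valuation ring -/
theorem mem_or_inv_mem_of_isMax [IsAlgClosed k] (m : Pair k K) (hm : IsMax m) (x : K) :
    x ∈ m.C ∨ x⁻¹ ∈ m.C := by
  haveI hloc : IsLocalRing m.C.toSubring := isLocalRing_of_isMax m hm
  have hmax : IsMax (@LocalSubring.mk _ _ m.C.toSubring hloc) := by
    intro S hS
    have hS1 : m.C.toSubring ≤ S.toSubring := hS.1
    have hS2 : IsLocalHom (Subring.inclusion hS1) := hS.2
    have hsub : S.toSubring ≤ m.C.toSubring := by
      intro x hx
      have hk : ∀ c : k, algebraMap k K c ∈ S.toSubring := fun c => hS1 (m.C.algebraMap_mem c)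
      let S' : Subalgebra k K := { S.toSubring.toSubsemiring with algebraMap_mem' := hk }
      have hR'S : Algebra.adjoin k ((m.C : Set K) ∪ {x}) ≤ S' :=
        Algebra.adjoin_le (Set.union_subset (fun z hz => hS1 hz)
          (Set.singleton_subset_iff.mpr (show x ∈ S' from hx)))
      let ρ : Algebra.adjoin k ((m.C : Set K) ∪ {x}) →+* S.toSubring :=
        { toFun := fun z => ⟨z.1, hR'S z.2⟩
          map_one' := rfl
          map_mul' := fun _ _ => rfl
          map_zero' := rfl
          map_add' := fun _ _ => rfl }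
      have hne : (IsLocalRing.maximalIdeal S.toSubring).comap ρ ≠ ⊤ :=
        (Ideal.comap_isPrime ρ _).ne_top
      obtain ⟨M', hM'max, hle⟩ := Ideal.exists_le_maximal _ hne
      have hM : ∀ r : m.C, m.f r = 0 →
          (⟨r.1, Algebra.subset_adjoin (Or.inl r.2)⟩ :
            Algebra.adjoin k ((m.C : Set K) ∪ {x})) ∈ M' := by
        intro r hr
        apply hle
        rw [Ideal.mem_comap, IsLocalRing.mem_maximalIdeal, mem_nonunits_iff]
        intro hu
        have hu' : IsUnit (Subring.inclusion hS1 ⟨r.1, r.2⟩) := hu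
        have hu'' := hS2.map_nonunit _ hu'
        obtain ⟨b, hb⟩ := isUnit_iff_exists_inv.mp hu''
        have hb' : r * (⟨b.1, b.2⟩ : m.C) = 1 := Subtype.ext (congrArg Subtype.val hb)
        have := congrArg m.f hb'
        rw [map_mul, hr, zero_mul, map_one] at this
        exact zero_ne_one this
      obtain ⟨g', hg'⟩ := exists_extension m.C m.f x M' hM
      have hle' : m ≤ ⟨Algebra.adjoin k ((m.C : Set K) ∪ {x}), g'⟩ :=
        ⟨fun z hz => Algebra.subset_adjoin (Or.inl hz), fun z => hg' z⟩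
      exact (hm hle').1 (Algebra.subset_adjoin (Or.inr rfl))
    exact (LocalSubring.toSubring_injective (le_antisymm hS1 hsub)).ge
  obtain ⟨V, hV⟩ := LocalSubring.exists_valuationRing_of_isMax hmax
  have hVR : V.toSubring = m.C.toSubring := congrArg LocalSubring.toSubring hV
  have hmem : ∀ z : K, z ∈ V ↔ z ∈ m.C := fun z => by
    change z ∈ V.toSubring ↔ z ∈ m.C.toSubring
    rw [hVR]
  rcases V.mem_or_inv_mem x with h | h
  · exact Or.inl ((hmem x).mp h)
  · exact Or.inr ((hmem _).mp h)

/-- Atiyah–Macdonald 5.21 for `k`-points (`k` algebraically closed): a `k`-point of a subalgebra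
`B` of a field `K` extends to a `k`-point of a valuation ring of `K` containing `B`, whose kernel
is the maximal ideal. -/
theorem exists_valuationSubring [IsAlgClosed k] (B : Subalgebra k K) (y : B →ₐ[k] k) :
    ∃ (V : ValuationSubring K) (hk : ∀ c : k, algebraMap k K c ∈ V) (hB : ∀ b ∈ B, b ∈ V)
      (res : V →+* k),
      (∀ c : k, res ⟨algebraMap k K c, hk c⟩ = c) ∧ (∀ b : B, res ⟨b.1, hB b.1 b.2⟩ = y b) ∧
      RingHom.ker res = IsLocalRing.maximalIdeal V := by
  obtain ⟨m, hle, hm⟩ := exists_isMax_ge (⟨B, y⟩ : Pair k K)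
  let V : ValuationSubring K :=
    { m.C.toSubring with mem_or_inv_mem' := mem_or_inv_mem_of_isMax m hm }
  let e : V ≃+* m.C :=
    { toFun := fun v => ⟨v.1, v.2⟩
      invFun := fun v => ⟨v.1, v.2⟩
      left_inv := fun _ => rfl
      right_inv := fun _ => rfl
      map_mul' := fun _ _ => rfl
      map_add' := fun _ _ => rfl }
  refine ⟨V, fun c => m.C.algebraMap_mem c, fun b hb => hle.1 hb,
    (m.f : m.C →+* k).comp (e : V →+* m.C), ?_, ?_, ?_⟩
  · intro c
    change m.f (algebraMap k m.C c) = c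
    rw [AlgHom.commutes]; rfl
  · intro b
    exact hle.2 b
  · ext v
    rw [RingHom.mem_ker, IsLocalRing.mem_maximalIdeal, mem_nonunits_iff]
    change m.f (e v) = 0 ↔ _
    rw [← not_iff_not, not_not]
    exact ((isUnit_iff_of_isMax m hm (e v)).symm).trans (MulEquiv.isUnit_map (e : V ≃* m.C))

end Groth.Agent.H82.ValExt
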